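import Cfsg.Agent.ClassificationK.GTwoModel

/-!
Universal property of the model group `T (2 l)` and embeddings of it.
-/

set_option autoImplicit false

namespace Cfsg.Agent.ClassificationK.GTwoEmbed

open Cfsg.Agent.ClassificationK.GTwoModel Cfsg.Agent.ClassificationK.GTwoModel.T

section lift

variable {Γ : Type*} [Group Γ] {m : ℕ} [NeZero m]

/-- the power of an element with exponent in `ZMod m` -/
def zp (a : Γ) (i : ZMod m) : Γ := a ^ i.val

omit [NeZero m] in
theorem zp_zero (a : Γ) : zp a (0 : ZMod m) = 1 := by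
  rw [zp, ZMod.val_zero, pow_zero]

theorem zp_add {a : Γ} (ha : a ^ m = 1) (i j : ZMod m) : zp a (i + j) = zp a i * zp a j := by
  rw [zp, zp, zp, ZMod.val_add, ← pow_add, ← pow_eq_pow_mod _ ha]

theorem zp_neg {a : Γ} (ha : a ^ m = 1) (i : ZMod m) : zp a (-i) = (zp a i)⁻¹ := by
  rw [eq_inv_iff_mul_eq_one, ← zp_add ha, neg_add_cancel, zp_zero]

omit [NeZero m] in
theorem zp_natCast {a : Γ} (ha : a ^ m = 1) (k : ℕ) : zp a (k : ZMod m) = a ^ k := by
  rw [zp, ZMod.val_natCast, ← pow_eq_pow_mod _ ha]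

omit [NeZero m] in
theorem conj_zp (g a b : Γ) (h : g * a = b * g) (i : ZMod m) : g * zp a i = zp b i * g := by
  rw [zp, zp]
  exact (show SemiconjBy g a b from h).pow_right _

/-- relations for the universal property -/
structure Rel (m : ℕ) (a b t u : Γ) : Prop where
  a_pow : a ^ m = 1
  b_pow : b ^ m = 1
  ab : a * b = b * a
  t_sq : t * t = 1
  u_sq : u * u = 1
  tu : t * u = u * t
  ta : t * a = a⁻¹ * t
  tb : t * b = b⁻¹ * t
  ua : u * a = b * u
  ub : u * b = a * u

variable {a b t u : Γ}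

/-- the homomorphism from the model -/
def lift (h : Rel m a b t u) : T m →* Γ where
  toFun x := zp a x.i * zp b x.j * (cond x.e t 1 * cond x.d u 1)
  map_one' := by
    rw [one_def]
    simp only [zp_zero, cond_false, mul_one]
  map_mul' := by
    have hab : ∀ i j : ZMod m, zp a i * zp b j = zp b j * zp a i := by
      intro i j
      have h1 : Commute a b := h.ab
      exact (h1.pow_pow _ _).eq
    have hA : ∀ i j i' j' : ZMod m, zp a i * zp b j * (zp a i' * zp b j') =
        zp a (i + i') * zp b (j + j') := by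
      intro i j i' j'
      rw [zp_add h.a_pow, zp_add h.b_pow]
      calc zp a i * zp b j * (zp a i' * zp b j') = zp a i * (zp b j * zp a i') * zp b j' := by group
        _ = zp a i * (zp a i' * zp b j) * zp b j' := by rw [hab]
        _ = _ := by group
    have hinv : ∀ (c : Γ), c ^ m = 1 → t * c = c⁻¹ * t → ∀ i : ZMod m, t * zp c i = zp c (-i) * t := by
      intro c hc htc i
      rw [conj_zp t c c⁻¹ htc, zp_neg hc]
      congr 1
      rw [zp, zp, inv_pow]
    have hT : ∀ i j : ZMod m, t * (zp a i * zp b j) = zp a (-i) * zp b (-j) * t := by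
      intro i j
      rw [← mul_assoc, hinv a h.a_pow h.ta, mul_assoc, hinv b h.b_pow h.tb, mul_assoc]
    have hU : ∀ i j : ZMod m, u * (zp a i * zp b j) = zp a j * zp b i * u := by
      intro i j
      rw [← mul_assoc, conj_zp u a b h.ua, mul_assoc, conj_zp u b a h.ub, ← mul_assoc, ← hab, mul_assoc]
    rintro ⟨i, j, e, d⟩ ⟨i', j', e', d'⟩
    rw [mul_mk]
    -- move the second abelian part to the left
    have key : ∀ (e d : Bool) (i' j' : ZMod m), (cond e t 1 * cond d u 1) * (zp a i' * zp b j') =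
        zp a (sg m e * cond d j' i') * zp b (sg m e * cond d i' j') * (cond e t 1 * cond d u 1) := by
      intro e d i' j'
      cases e <;> cases d <;>
        simp only [sg_true, sg_false, cond_true, cond_false, one_mul, mul_one, neg_mul]
      · exact hU _ _
      · exact hT _ _
      · rw [mul_assoc, hU, ← mul_assoc, hT, mul_assoc]
    have ht2 : ∀ e e' : Bool, (cond e t 1 : Γ) * cond e' t 1 = cond (xor e e') t 1 := by
      intro e e'
      cases e <;> cases e' <;>
        simp only [cond_true, cond_false, one_mul, mul_one, Bool.xor_false, Bool.xor_true, Bool.not_true,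
          Bool.not_false, h.t_sq]
    have hu2 : ∀ d d' : Bool, (cond d u 1 : Γ) * cond d' u 1 = cond (xor d d') u 1 := by
      intro d d'
      cases d <;> cases d' <;>
        simp only [cond_true, cond_false, one_mul, mul_one, Bool.xor_false, Bool.xor_true, Bool.not_true,
          Bool.not_false, h.u_sq]
    have huc : ∀ d e' : Bool, (cond d u 1 : Γ) * cond e' t 1 = cond e' t 1 * cond d u 1 := by
      intro d e'
      cases d <;> cases e' <;> simp only [cond_true, cond_false, one_mul, mul_one, h.tu]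
    simp only
    calc zp a (i + sg m e * cond d j' i') * zp b (j + sg m e * cond d i' j') *
          (cond (xor e e') t 1 * cond (xor d d') u 1)
        = zp a i * zp b j * (zp a (sg m e * cond d j' i') * zp b (sg m e * cond d i' j')) *
          ((cond e t 1 * cond e' t 1) * (cond d u 1 * cond d' u 1)) := by rw [hA, ht2, hu2]
      _ = zp a i * zp b j * (zp a (sg m e * cond d j' i') * zp b (sg m e * cond d i' j')) *
          (cond e t 1 * (cond d u 1 * cond e' t 1) * cond d' u 1) := by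
            rw [huc]; simp only [mul_assoc]
      _ = zp a i * zp b j * ((zp a (sg m e * cond d j' i') * zp b (sg m e * cond d i' j')) *
          (cond e t 1 * cond d u 1)) * (cond e' t 1 * cond d' u 1) := by simp only [mul_assoc]
      _ = zp a i * zp b j * (cond e t 1 * cond d u 1 * (zp a i' * zp b j')) * (cond e' t 1 * cond d' u 1) := by
            rw [key]
      _ = _ := by simp only [mul_assoc]

theorem lift_apply (h : Rel m a b t u) (x : T m) :
    lift h x = zp a x.i * zp b x.j * (cond x.e t 1 * cond x.d u 1) := rfl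

end lift

/-! ### injectivity criterion -/

theorem exists_pow_half (k : ℕ) (c : ZMod (2 * 2 ^ k)) (hc : c ≠ 0) :
    ∃ s : ℕ, (2 ^ s : ZMod (2 * 2 ^ k)) * c = ((2 ^ k : ℕ) : ZMod (2 * 2 ^ k)) := by
  have hne : NeZero (2 ^ k) := ⟨by positivity⟩
  have hex : ∃ s : ℕ, (2 ^ s : ZMod (2 * 2 ^ k)) * c = 0 := by
    refine ⟨k + 1, ?_⟩
    have h1 : ((2 * 2 ^ k : ℕ) : ZMod (2 * 2 ^ k)) = 0 := ZMod.natCast_self _
    push_cast at h1
    rw [pow_succ, mul_comm ((2 : ZMod (2 * 2 ^ k)) ^ k), h1, zero_mul]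
  classical
  have hs := Nat.find_spec hex
  have hmin := fun {m} => Nat.find_min (m := m) hex
  set s := Nat.find hex
  have hs0 : s ≠ 0 := by
    intro h0
    rw [h0, pow_zero, one_mul] at hs
    exact hc hs
  obtain ⟨s', hs'⟩ := Nat.exists_eq_succ_of_ne_zero hs0
  refine ⟨s', ?_⟩
  rw [hs'] at hs
  have h2 := two_half (2 ^ k) ((2 ^ s' : ZMod (2 * 2 ^ k)) * c) (by
    rw [← hs, Nat.succ_eq_add_one, pow_succ]; ring)
  rcases h2 with h2 | h2
  · exact absurd h2 (hmin (by omega))
  · exact h2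

theorem exists_pow_half' (l k : ℕ) (hl : l = 2 ^ k) (c : ZMod (2 * l)) (hc : c ≠ 0) :
    ∃ s : ℕ, (2 ^ s : ZMod (2 * l)) * c = (l : ZMod (2 * l)) := by
  subst hl
  exact exists_pow_half k c hc

theorem injective_of_z {Γ : Type*} [Group Γ] (l k : ℕ) (hl : l = 2 ^ k) (hk : 1 ≤ k) (f : T (2 * l) →* Γ)
    (hz : f (z l) ≠ 1) : Function.Injective f := by
  have hne : NeZero l := ⟨by rw [hl]; positivity⟩
  have hl2 : (2 : ZMod (2 * l)) ≠ 0 := by
    have h1 : ((2 : ℕ) : ZMod (2 * l)) ≠ 0 := by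
      rw [Ne, ZMod.natCast_eq_zero_iff]
      intro h
      have h2 := Nat.le_of_dvd (by norm_num) h
      have h3 : 2 ≤ l := by
        rw [hl]
        calc 2 = 2 ^ 1 := rfl
          _ ≤ 2 ^ k := Nat.pow_le_pow_right (by norm_num) hk
      omega
    exact_mod_cast h1
  have hpow : ∀ (i j : ZMod (2 * l)) (n : ℕ),
      (⟨i, j, false, false⟩ : T (2 * l)) ^ n = ⟨n * i, n * j, false, false⟩ := by
    intro i j n
    induction n with
    | zero => rw [pow_zero, one_def]; congr 1 <;> simp
    | succ n ih =>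
      rw [pow_succ, ih, mul_mk]
      simp only [sg_false, cond_false, Bool.xor_false]
      congr 1 <;> push_cast <;> ring
  -- abelian part
  have hA : ∀ i j : ZMod (2 * l), f ⟨i, j, false, false⟩ = 1 → i = 0 ∧ j = 0 := by
    intro i j hij
    have hsw : f ⟨j, i, false, false⟩ = 1 := by
      have h1 : (⟨j, i, false, false⟩ : T (2 * l)) = u l * ⟨i, j, false, false⟩ * (u l)⁻¹ := by
        rw [u, inv_mk, mul_mk, mul_mk]
        simp
      rw [h1, map_mul, map_mul, hij, mul_one, ← map_mul, mul_inv_cancel, map_one]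
    have hsum : f ⟨i + j, i + j, false, false⟩ = 1 := by
      have h1 : (⟨i + j, i + j, false, false⟩ : T (2 * l)) = ⟨i, j, false, false⟩ * ⟨j, i, false, false⟩ := by
        rw [mul_mk]
        simp only [sg_false, cond_false, one_mul, Bool.xor_false]
        rw [add_comm j i]
      rw [h1, map_mul, hij, hsw, mul_one]
    have h0 : i + j = 0 := by
      by_contra hc
      obtain ⟨s, hs⟩ := exists_pow_half' l k hl (i + j) hc
      apply hz
      have h1 : z l = (⟨i + j, i + j, false, false⟩ : T (2 * l)) ^ (2 ^ s) := by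
        rw [hpow, z]
        push_cast
        rw [hs]
      rw [h1, map_pow, hsum, one_pow]
    have hj : j = -i := eq_neg_of_add_eq_zero_right h0
    subst hj
    by_cases hi : i = 0
    · subst hi; exact ⟨rfl, neg_zero⟩
    · exfalso
      obtain ⟨s, hs⟩ := exists_pow_half' l k hl i hi
      apply hz
      have h1 : z l = (⟨i, -i, false, false⟩ : T (2 * l)) ^ (2 ^ s) := by
        rw [hpow, z]
        push_cast
        rw [mul_neg, hs]
        have h2 := half_add_half l
        congr 1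
        linear_combination h2
      rw [h1, map_pow, hij, one_pow]
  rw [injective_iff_map_eq_one]
  rintro ⟨i, j, e, d⟩ hx
  -- commutator with (1,0)
  have hc : f ((⟨1, 0, false, false⟩ : T (2 * l)) * ⟨i, j, e, d⟩ * (⟨1, 0, false, false⟩)⁻¹ *
      (⟨i, j, e, d⟩)⁻¹) = 1 := by
    rw [map_mul, map_mul, map_mul, map_inv, map_inv, hx, mul_one, inv_one, mul_one, mul_inv_cancel]
  cases e <;> cases d
  · obtain ⟨rfl, rfl⟩ := hA i j hx
    rfl
  · exfalso
    have h1 : (⟨1, 0, false, false⟩ : T (2 * l)) * ⟨i, j, false, true⟩ * (⟨1, 0, false, false⟩)⁻¹ *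
      (⟨i, j, false, true⟩)⁻¹ = ⟨1, -1, false, false⟩ := by
      rw [inv_mk, inv_mk, mul_mk, mul_mk, mul_mk]
      simp only [sg_false, cond_true, cond_false, Bool.xor_false, Bool.xor_true, Bool.not_false, Bool.not_true]
      congr 1 <;> ring
    rw [h1] at hc
    have h2 := (hA _ _ hc).1
    apply hl2
    linear_combination 2 * h2
  · exfalso
    have h1 : (⟨1, 0, false, false⟩ : T (2 * l)) * ⟨i, j, true, false⟩ * (⟨1, 0, false, false⟩)⁻¹ *
      (⟨i, j, true, false⟩)⁻¹ = ⟨2, 0, false, false⟩ := by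
      rw [inv_mk, inv_mk, mul_mk, mul_mk, mul_mk]
      simp only [sg_false, sg_true, cond_false, Bool.xor_false, Bool.xor_true, Bool.not_false, Bool.not_true]
      congr 1 <;> ring
    rw [h1] at hc
    exact hl2 (hA _ _ hc).1
  · exfalso
    have h1 : (⟨1, 0, false, false⟩ : T (2 * l)) * ⟨i, j, true, true⟩ * (⟨1, 0, false, false⟩)⁻¹ *
      (⟨i, j, true, true⟩)⁻¹ = ⟨1, 1, false, false⟩ := by
      rw [inv_mk, inv_mk, mul_mk, mul_mk, mul_mk]
      simp only [sg_false, sg_true, cond_true, cond_false, Bool.xor_false, Bool.xor_true, Bool.not_false,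
        Bool.not_true]
      congr 1 <;> ring
    rw [h1] at hc
    have h2 := (hA _ _ hc).1
    apply hl2
    linear_combination 2 * h2


/-! ### the embedding from two commuting quaternion-like subgroups and an outer involution -/

theorem exists_embedding {Γ L : Type*} [Group Γ] [Group L] (l k : ℕ) (hl : l = 2 ^ k) (hk : 1 ≤ k)
    (φ ψ : L →* Γ) (hcomm : ∀ g g', Commute (φ g) (ψ g')) (e₀ : L) (he : φ e₀ = ψ e₀) (he1 : φ e₀ ≠ 1)
    (he2 : e₀ * e₀ = 1) (d : Γ) (hd : d * d = 1) (δ : L →* L) (hφ : ∀ g, d * φ g = φ (δ g) * d)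
    (hψ : ∀ g, d * ψ g = ψ (δ g) * d) (c x : L) (hc : c ^ l = e₀) (hx : x * x = e₀)
    (hxc : x * c = c⁻¹ * x) (hδc : δ c = c⁻¹) (hδx : δ x = c * x) :
    ∃ f : T (2 * l) →* Γ, Function.Injective f := by
  have hne : NeZero l := ⟨by rw [hl]; positivity⟩
  -- the product homomorphism
  set Φ : L × L →* Γ := MonoidHom.noncommCoprod φ ψ hcomm with hΦ
  have hΦa : ∀ g g', Φ (g, g') = φ g * ψ g' := fun g g' => rfl
  have hdΦ : ∀ g g', d * Φ (g, g') = Φ (δ g, δ g') * d := by
    intro g g'
    rw [hΦa, hΦa, ← mul_assoc, hφ, mul_assoc, hψ, mul_assoc]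
  have hee : Φ (e₀, e₀) = 1 := by
    rw [hΦa, ← he, ← map_mul, he2, map_one]
  have hex : e₀ * x = x * e₀ := by rw [← hx, mul_assoc]
  have hec : e₀ * c = c * e₀ := by rw [← hc, ← pow_succ, ← pow_succ']
  set j : L := c ^ (2 ^ (k - 1)) with hj
  have hjj : j * j = e₀ := by
    rw [hj, ← pow_add, ← two_mul, ← pow_succ', Nat.sub_add_cancel hk, ← hl, hc]
  have hjinv : j⁻¹ = j * e₀ := by
    rw [inv_eq_iff_mul_eq_one, ← mul_assoc, hjj, he2]
  have hxj : x * j = j⁻¹ * x := by
    rw [hj, ← inv_pow]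
    exact (show SemiconjBy x c c⁻¹ from hxc).pow_right _
  have hcj : c * j = j * c := by rw [hj, ← pow_succ, ← pow_succ']
  have hδj : δ j = j⁻¹ := by rw [hj, map_pow, hδc, inv_pow]
  have hej : e₀ * j = j * e₀ := by rw [← hjj, mul_assoc]
  set t : Γ := Φ (x, x) with ht
  set a : Γ := d * t with ha
  set u : Γ := Φ (j, j * x) with hu
  have htt : t * t = 1 := by
    rw [ht, ← map_mul, Prod.mk_mul_mk, hx, hee]
  have hdinv : d⁻¹ = d := inv_eq_of_mul_eq_one_right hd
  have htinv : t⁻¹ = t := inv_eq_of_mul_eq_one_right htt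
  have haa : a * a = Φ (c, c) := by
    calc a * a = d * Φ (x, x) * (d * Φ (x, x)) := rfl
      _ = Φ (δ x, δ x) * d * (d * Φ (x, x)) := by rw [← hdΦ]
      _ = Φ (c * x, c * x) * (d * d) * Φ (x, x) := by rw [hδx]; simp only [mul_assoc]
      _ = Φ (c * x, c * x) * Φ (x, x) := by rw [hd, mul_one]
      _ = Φ (c, c) * Φ (e₀, e₀) := by
        rw [← map_mul, ← map_mul, Prod.mk_mul_mk, Prod.mk_mul_mk, mul_assoc, hx]
      _ = Φ (c, c) := by rw [hee, mul_one]
  have haφ : a * φ c = φ c * a := by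
    have h1 : φ c = Φ (c, 1) := by rw [hΦa, map_one, mul_one]
    calc a * φ c = d * (Φ (x, x) * Φ (c, 1)) := by rw [h1, ha, ht, mul_assoc]
      _ = d * (Φ (c⁻¹, 1) * Φ (x, x)) := by
        rw [← map_mul, ← map_mul, Prod.mk_mul_mk, Prod.mk_mul_mk, hxc, mul_one, one_mul]
      _ = Φ (c, 1) * (d * Φ (x, x)) := by
        rw [← mul_assoc, hdΦ, map_inv, hδc, inv_inv, map_one, mul_assoc]
      _ = φ c * a := by rw [h1]
  set b : Γ := a⁻¹ * φ c with hb
  have hab : a * b = b * a := by
    rw [hb, mul_inv_cancel_left, mul_assoc, ← haφ, inv_mul_cancel_left]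
  have hab' : a * b = φ c := by rw [hb, mul_inv_cancel_left]
  -- `b = a ψ(c)⁻¹`
  have hb2 : b = a * Φ (1, c⁻¹) := by
    have h1 : φ c = Φ (c, 1) := by rw [hΦa, map_one, mul_one]
    rw [hb, inv_mul_eq_iff_eq_mul, ← mul_assoc, haa, h1, ← map_mul, Prod.mk_mul_mk, mul_one, mul_inv_cancel]
  have hapow : a ^ (2 * l) = 1 := by
    rw [pow_mul, pow_two, haa, ← map_pow, Prod.pow_mk, hc, hee]
  have hbpow : b ^ (2 * l) = 1 := by
    have h1 : (a * b) ^ (2 * l) = 1 := by
      rw [hab', ← map_pow, mul_comm 2 l, pow_mul, hc, pow_two, he2, map_one]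
    rw [(show Commute a b from hab).mul_pow, hapow, one_mul] at h1
    exact h1
  have hta : t * a = a⁻¹ * t := by
    rw [ha, mul_inv_rev, hdinv, htinv, mul_assoc]
  have hta' : t * a⁻¹ = a * t := by
    rw [mul_inv_eq_iff_eq_mul, mul_assoc, hta, mul_inv_cancel_left]
  have htφ : t * φ c = (φ c)⁻¹ * t := by
    have h1 : φ c = Φ (c, 1) := by rw [hΦa, map_one, mul_one]
    rw [h1, ← map_inv, ht, ← map_mul, ← map_mul, Prod.inv_mk, Prod.mk_mul_mk, Prod.mk_mul_mk, hxc, mul_one,
      inv_one, one_mul]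
  have htb : t * b = b⁻¹ * t := by
    have h1 : a * (φ c)⁻¹ = (φ c)⁻¹ * a := by
      rw [mul_inv_eq_iff_eq_mul, mul_assoc, haφ, inv_mul_cancel_left]
    calc t * b = (t * a⁻¹) * φ c := by rw [hb, mul_assoc]
      _ = a * (t * φ c) := by rw [hta', mul_assoc]
      _ = a * ((φ c)⁻¹ * t) := by rw [htφ]
      _ = (a * (φ c)⁻¹) * t := (mul_assoc _ _ _).symm
      _ = b⁻¹ * t := by rw [h1, hb, mul_inv_rev, inv_inv]
  have huu : u * u = 1 := by
    have h1 : j * x * (j * x) = e₀ := by
      rw [mul_assoc, ← mul_assoc x j x, hxj, mul_assoc, mul_inv_cancel_left, hx]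
    rw [hu, ← map_mul, Prod.mk_mul_mk, h1, hjj, hee]
  have htu : t * u = u * t := by
    have h1 : Φ (x, x) * Φ (j, j * x) = Φ (j, j * x) * Φ (x, x) * Φ (e₀, e₀) := by
      rw [← map_mul, ← map_mul, ← map_mul, Prod.mk_mul_mk, Prod.mk_mul_mk, Prod.mk_mul_mk]
      congr 2
      · rw [hxj, hjinv, mul_assoc, hex, ← mul_assoc]
      · calc x * (j * x) = (x * j) * x := by rw [mul_assoc]
          _ = j * (e₀ * (x * x)) := by rw [hxj, hjinv]; simp only [mul_assoc]
          _ = j * ((x * x) * e₀) := by rw [hx]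
          _ = j * x * x * e₀ := by simp only [mul_assoc]
    rw [hee, mul_one] at h1
    exact h1
  have hua : u * a = b * u := by
    have hud : u * d = d * Φ (j⁻¹, c * (j⁻¹ * x)) := by
      have h1 : δ j⁻¹ = j := by rw [map_inv, hδj, inv_inv]
      have h2 : δ (c * (j⁻¹ * x)) = j * x := by
        rw [map_mul, map_mul, h1, hδc, hδx, ← mul_assoc j c x, ← hcj, mul_assoc, inv_mul_cancel_left]
      rw [hdΦ, h1, h2]
    have h2 : Φ (j⁻¹, c * (j⁻¹ * x)) * Φ (x, x) = Φ (x, x) * (Φ (1, c⁻¹) * Φ (j, j * x)) := by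
      rw [← map_mul, ← map_mul, ← map_mul, Prod.mk_mul_mk, Prod.mk_mul_mk, Prod.mk_mul_mk]
      congr 2
      · rw [one_mul, hxj]
      · have h3 : x * c⁻¹ = c * x := by
          rw [mul_inv_eq_iff_eq_mul, mul_assoc, hxc, mul_inv_cancel_left]
        rw [← mul_assoc x, h3, mul_assoc c x, ← mul_assoc x j x, hxj]
        simp only [mul_assoc]
    calc u * a = u * d * Φ (x, x) := by rw [ha, mul_assoc]
      _ = d * (Φ (j⁻¹, c * (j⁻¹ * x)) * Φ (x, x)) := by rw [hud, mul_assoc]
      _ = d * (Φ (x, x) * (Φ (1, c⁻¹) * Φ (j, j * x))) := by rw [h2]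
      _ = (d * Φ (x, x)) * Φ (1, c⁻¹) * Φ (j, j * x) := by simp only [mul_assoc]
      _ = b * u := by rw [hb2]
  have hub : u * b = a * u := by
    calc u * b = u * (b * (u * u)) := by rw [huu, mul_one]
      _ = u * (b * u) * u := by simp only [mul_assoc]
      _ = u * (u * a) * u := by rw [hua]
      _ = (u * u) * a * u := by simp only [mul_assoc]
      _ = a * u := by rw [huu, one_mul]
  have hrel : Rel (2 * l) a b t u := ⟨hapow, hbpow, hab, htt, huu, htu, hta, htb, hua, hub⟩
  refine ⟨lift hrel, injective_of_z l k hl hk _ ?_⟩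
  rw [lift_apply, z]
  simp only [cond_false, mul_one]
  rw [zp_natCast hapow, zp_natCast hbpow, ← (show Commute a b from hab).mul_pow, hab', ← map_pow, hc]
  exact he1

end Cfsg.Agent.ClassificationK.GTwoEmbed
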