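import Mathlib

/-!
Elements of `SL₂(q)`, `q` odd, generating a Sylow 2-subgroup together with an outer diagonal automorphism.
-/

set_option autoImplicit false

namespace Cfsg.Agent.ClassificationK.GTwoSL

open Matrix

variable {F : Type*} [Field F]

/-- conjugation by `!![0, -ε; 1, 0]` on `SL₂(F)` -/
def delta (ε : Fˣ) : SpecialLinearGroup (Fin 2) F →* SpecialLinearGroup (Fin 2) F where
  toFun g := ⟨!![g.1 1 1, -(ε * g.1 1 0); -((ε⁻¹ : Fˣ) * g.1 0 1), g.1 0 0], by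
    have h := g.2
    rw [Matrix.det_fin_two] at h
    rw [Matrix.det_fin_two_of]
    have h2 : (ε : F) * ((ε⁻¹ : Fˣ) : F) = 1 := by simp
    linear_combination h + (-(g.1 1 0 * g.1 0 1)) * h2⟩
  map_one' := by
    apply Subtype.ext
    simp
    exact Matrix.one_fin_two.symm
  map_mul' := by
    intro g h
    apply Subtype.ext
    have h2 : (ε : F) * ((ε⁻¹ : Fˣ) : F) = 1 := by simp
    change !![(g.1 * h.1) 1 1, -(ε * (g.1 * h.1) 1 0); -((ε⁻¹ : Fˣ) * (g.1 * h.1) 0 1), (g.1 * h.1) 0 0] =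
      !![g.1 1 1, -(ε * g.1 1 0); -((ε⁻¹ : Fˣ) * g.1 0 1), g.1 0 0] *
      !![h.1 1 1, -(ε * h.1 1 0); -((ε⁻¹ : Fˣ) * h.1 0 1), h.1 0 0]
    rw [Matrix.mul_fin_two]
    simp only [Matrix.mul_apply, Fin.sum_univ_two]
    congr 1
    congr 1
    · congr 1
      · linear_combination (-(g.1 1 0 * h.1 0 1)) * h2
      · congr 1
        ring
    · congr 1
      · congr 1
        · ring
        · congr 1
          linear_combination (-(g.1 0 1 * h.1 1 0)) * h2

theorem coe_delta (ε : Fˣ) (g : SpecialLinearGroup (Fin 2) F) :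
    (delta ε g).1 = !![g.1 1 1, -(ε * g.1 1 0); -((ε⁻¹ : Fˣ) * g.1 0 1), g.1 0 0] := rfl


theorem exists_root {K : Type*} [Field K] [Finite K] (a m : ℕ) (h : Nat.card K - 1 = 2 ^ (a + 1) * m) (hm : Odd m) :
    ∃ ζ : K, ζ ^ (2 ^ a) = -1 := by
  obtain ⟨g, hg⟩ := IsCyclic.exists_ofOrder_eq_natCard (α := Kˣ)
  have hcard : orderOf g = 2 ^ (a + 1) * m := by rw [hg, Nat.card_units, h]
  refine ⟨((g ^ m : Kˣ) : K), ?_⟩
  have h1 : (g ^ m) ^ (2 ^ a) ≠ 1 := by
    intro h1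
    rw [← pow_mul] at h1
    have h2 := orderOf_dvd_of_pow_eq_one h1
    rw [hcard] at h2
    have hmpos : 0 < m := hm.pos
    have h3 := Nat.le_of_dvd (by positivity) h2
    rw [pow_succ] at h3
    have : 0 < 2 ^ a := by positivity
    nlinarith
  have h2 : ((g ^ m) ^ (2 ^ a)) * ((g ^ m) ^ (2 ^ a)) = 1 := by
    rw [← pow_add, ← two_mul, ← pow_succ', ← pow_mul, mul_comm m, ← hcard, pow_orderOf_eq_one]
  have h3 : (((g ^ m : Kˣ) : K) ^ (2 ^ a)) * (((g ^ m : Kˣ) : K) ^ (2 ^ a)) = 1 := by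
    have h5 := congrArg (fun u : Kˣ => (u : K)) h2
    simpa using h5
  rcases mul_self_eq_one_iff.1 h3 with h4 | h4
  · exact absurd (Units.ext (by push_cast at h4 ⊢; exact h4)) h1
  · exact h4

/-- the required elements -/
def HasElements (F : Type*) [Field F] (k : ℕ) : Prop :=
  ∃ (ε : Fˣ) (c x : SpecialLinearGroup (Fin 2) F), c ^ (2 ^ k) = -1 ∧ x * x = -1 ∧
    x * c = c⁻¹ * x ∧ delta ε c = c⁻¹ ∧ delta ε x = c * x

theorem case_one (k : ℕ) (ζ : F) (hζ : ζ ^ (2 ^ k) = -1) : HasElements F k := by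
  have hζ0 : ζ ≠ 0 := by
    rintro rfl
    rw [zero_pow (by positivity)] at hζ
    exact one_ne_zero (by linear_combination hζ : (1 : F) = 0)
  let ε : Fˣ := Units.mk0 ζ hζ0
  have hmul : ζ * ζ⁻¹ = 1 := mul_inv_cancel₀ hζ0
  let c : SpecialLinearGroup (Fin 2) F := ⟨!![ζ, 0; 0, ζ⁻¹], by rw [Matrix.det_fin_two_of]; simp [hmul]⟩
  let x : SpecialLinearGroup (Fin 2) F := ⟨!![0, 1; -1, 0], by rw [Matrix.det_fin_two_of]; simp⟩
  let c' : SpecialLinearGroup (Fin 2) F := ⟨!![ζ⁻¹, 0; 0, ζ], by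
    rw [Matrix.det_fin_two_of]; simp [inv_mul_cancel₀ hζ0]⟩
  have hcinv : c⁻¹ = c' := by
    refine inv_eq_of_mul_eq_one_right ?_
    apply Subtype.ext
    change (!![ζ, 0; 0, ζ⁻¹] * !![ζ⁻¹, 0; 0, ζ] : Matrix (Fin 2) (Fin 2) F) = 1
    rw [Matrix.mul_fin_two, Matrix.one_fin_two]
    simp [hζ0]
  refine ⟨ε, c, x, ?_, ?_, ?_, ?_, ?_⟩
  · apply Subtype.ext
    rw [Matrix.SpecialLinearGroup.coe_pow, Matrix.SpecialLinearGroup.coe_neg]
    have h1 : c.1 = Matrix.diagonal ![ζ, ζ⁻¹] := by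
      change (!![ζ, 0; 0, ζ⁻¹] : Matrix (Fin 2) (Fin 2) F) = _
      ext i j
      fin_cases i <;> fin_cases j <;> simp
    rw [h1, Matrix.diagonal_pow]
    ext i j
    fin_cases i <;> fin_cases j <;> simp [hζ]
  · apply Subtype.ext
    change (!![0, 1; -1, 0] * !![0, 1; -1, 0] : Matrix (Fin 2) (Fin 2) F) = -1
    rw [Matrix.mul_fin_two]
    ext i j
    fin_cases i <;> fin_cases j <;> simp
  · rw [hcinv]
    apply Subtype.ext
    change (!![0, 1; -1, 0] * !![ζ, 0; 0, ζ⁻¹] : Matrix (Fin 2) (Fin 2) F) = !![ζ⁻¹, 0; 0, ζ] * !![0, 1; -1, 0]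
    rw [Matrix.mul_fin_two, Matrix.mul_fin_two]
    simp
  · rw [hcinv]
    apply Subtype.ext
    rw [coe_delta]
    change !![ζ⁻¹, -((ε : F) * 0); -(((ε⁻¹ : Fˣ) : F) * 0), ζ] = !![ζ⁻¹, 0; 0, ζ]
    simp
  · apply Subtype.ext
    rw [coe_delta]
    change !![(0 : F), -((ε : F) * (-1)); -(((ε⁻¹ : Fˣ) : F) * 1), 0] = !![ζ, 0; 0, ζ⁻¹] * !![0, 1; -1, 0]
    rw [Matrix.mul_fin_two]
    simp [ε]

theorem case_three (k : ℕ) (hk : 1 ≤ k) (α β : F) (hab : α ^ 2 + β ^ 2 = -1)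
    (hpow : (!![α, β; -β, α] : Matrix (Fin 2) (Fin 2) F) ^ (2 * 2 ^ k) = -1) : HasElements F k := by
  let c : SpecialLinearGroup (Fin 2) F := ⟨!![β ^ 2 - α ^ 2, -(2 * α * β); 2 * α * β, β ^ 2 - α ^ 2], by
    rw [Matrix.det_fin_two_of]
    linear_combination (α ^ 2 + β ^ 2 - 1) * hab⟩
  let x : SpecialLinearGroup (Fin 2) F := ⟨!![-β, α; α, β], by
    rw [Matrix.det_fin_two_of]
    linear_combination -hab⟩
  let c' : SpecialLinearGroup (Fin 2) F := ⟨!![β ^ 2 - α ^ 2, 2 * α * β; -(2 * α * β), β ^ 2 - α ^ 2], by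
      rw [Matrix.det_fin_two_of]
      linear_combination (α ^ 2 + β ^ 2 - 1) * hab⟩
  have hcinv : c⁻¹ = c' := by
    refine inv_eq_of_mul_eq_one_right ?_
    apply Subtype.ext
    change (!![β ^ 2 - α ^ 2, -(2 * α * β); 2 * α * β, β ^ 2 - α ^ 2] *
      !![β ^ 2 - α ^ 2, 2 * α * β; -(2 * α * β), β ^ 2 - α ^ 2] : Matrix (Fin 2) (Fin 2) F) = 1
    rw [Matrix.mul_fin_two, Matrix.one_fin_two]
    have h1 : (β ^ 2 - α ^ 2) * (β ^ 2 - α ^ 2) + -(2 * α * β) * -(2 * α * β) = 1 := by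
      linear_combination (α ^ 2 + β ^ 2 - 1) * hab
    have h2 : (β ^ 2 - α ^ 2) * (2 * α * β) + -(2 * α * β) * (β ^ 2 - α ^ 2) = 0 := by ring
    have h3 : 2 * α * β * (β ^ 2 - α ^ 2) + (β ^ 2 - α ^ 2) * -(2 * α * β) = 0 := by ring
    have h4 : 2 * α * β * (2 * α * β) + (β ^ 2 - α ^ 2) * (β ^ 2 - α ^ 2) = 1 := by
      linear_combination (α ^ 2 + β ^ 2 - 1) * hab
    rw [h1, h2, h3, h4]
  refine ⟨-1, c, x, ?_, ?_, ?_, ?_, ?_⟩
  · apply Subtype.ext
    rw [Matrix.SpecialLinearGroup.coe_pow, Matrix.SpecialLinearGroup.coe_neg]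
    have h1 : c.1 = -(!![α, β; -β, α] : Matrix (Fin 2) (Fin 2) F) ^ 2 := by
      rw [pow_two, Matrix.mul_fin_two]
      change !![β ^ 2 - α ^ 2, -(2 * α * β); 2 * α * β, β ^ 2 - α ^ 2] = _
      ext i j
      fin_cases i <;> fin_cases j <;> simp <;> ring
    have heven : Even (2 ^ k) := (Nat.even_pow.2 ⟨even_two, by omega⟩)
    rw [h1, heven.neg_pow, ← pow_mul, hpow]
    rfl
  · apply Subtype.ext
    change (!![-β, α; α, β] * !![-β, α; α, β] : Matrix (Fin 2) (Fin 2) F) = -1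
    rw [Matrix.mul_fin_two]
    have h1 : -β * -β + α * α = -1 := by linear_combination hab
    have h2 : -β * α + α * β = 0 := by ring
    have h3 : α * -β + β * α = 0 := by ring
    have h4 : α * α + β * β = -1 := by linear_combination hab
    rw [h1, h2, h3, h4]
    ext i j
    fin_cases i <;> fin_cases j <;> simp
  · rw [hcinv]
    apply Subtype.ext
    change (!![-β, α; α, β] * !![β ^ 2 - α ^ 2, -(2 * α * β); 2 * α * β, β ^ 2 - α ^ 2] :
      Matrix (Fin 2) (Fin 2) F) = !![β ^ 2 - α ^ 2, 2 * α * β; -(2 * α * β), β ^ 2 - α ^ 2] * !![-β, α; α, β]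
    rw [Matrix.mul_fin_two, Matrix.mul_fin_two]
    ext i j
    fin_cases i <;> fin_cases j <;> simp <;> ring
  · rw [hcinv]
    apply Subtype.ext
    rw [coe_delta]
    change !![β ^ 2 - α ^ 2, -(((-1 : Fˣ) : F) * (2 * α * β)); -((((-1 : Fˣ)⁻¹ : Fˣ) : F) * (-(2 * α * β))), β ^ 2 - α ^ 2] =
      !![β ^ 2 - α ^ 2, 2 * α * β; -(2 * α * β), β ^ 2 - α ^ 2]
    simp
  · apply Subtype.ext
    rw [coe_delta]
    change !![β, -(((-1 : Fˣ) : F) * α); -((((-1 : Fˣ)⁻¹ : Fˣ) : F) * α), -β] =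
      !![β ^ 2 - α ^ 2, -(2 * α * β); 2 * α * β, β ^ 2 - α ^ 2] * !![-β, α; α, β]
    rw [Matrix.mul_fin_two]
    have h1 : (β ^ 2 - α ^ 2) * -β + -(2 * α * β) * α = β := by linear_combination (-β) * hab
    have h2 : (β ^ 2 - α ^ 2) * α + -(2 * α * β) * β = α := by linear_combination (-α) * hab
    have h3 : 2 * α * β * -β + (β ^ 2 - α ^ 2) * α = α := by linear_combination (-α) * hab
    have h4 : 2 * α * β * α + (β ^ 2 - α ^ 2) * β = -β := by linear_combination (β) * hab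
    rw [h1, h2, h3, h4]
    simp

theorem pow_matrix (α β : F) (n : ℕ) :
    (!![α, β; -β, α] : Matrix (Fin 2) (Fin 2) F) ^ n =
      !![((⟨α, β⟩ : QuadraticAlgebra F (-1) 0) ^ n).re, ((⟨α, β⟩ : QuadraticAlgebra F (-1) 0) ^ n).im;
        -((⟨α, β⟩ : QuadraticAlgebra F (-1) 0) ^ n).im, ((⟨α, β⟩ : QuadraticAlgebra F (-1) 0) ^ n).re] := by
  induction n with
  | zero =>
    rw [pow_zero, pow_zero, Matrix.one_fin_two]
    simp [QuadraticAlgebra.re_one, QuadraticAlgebra.im_one]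
  | succ n ih =>
    rw [pow_succ, pow_succ, ih, Matrix.mul_fin_two, QuadraticAlgebra.re_mul, QuadraticAlgebra.im_mul]
    ext i j
    fin_cases i <;> fin_cases j <;> simp <;> ring

theorem elements_three [Finite F] (k m : ℕ) (hk : 1 ≤ k) (hq : Nat.card F + 1 = 2 ^ (k + 1) * m) (hm : Odd m) :
    HasElements F k := by
  classical
  have : Fintype F := Fintype.ofFinite F
  have h4 : 4 ∣ Nat.card F + 1 := by
    rw [hq]
    obtain ⟨k', rfl⟩ := Nat.exists_eq_add_of_le hk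
    exact ⟨2 ^ k' * m, by ring⟩
  have hmod : Fintype.card F % 4 = 3 := by
    rw [← Nat.card_eq_fintype_card]; omega
  have hns : ¬ IsSquare (-1 : F) := by
    rw [FiniteField.isSquare_neg_one_iff]
    simpa using hmod
  haveI : Fact (∀ r : F, r ^ 2 ≠ -1 + 0 * r) := ⟨fun r hr => hns ⟨r, by linear_combination -hr⟩⟩
  haveI : Finite (QuadraticAlgebra F (-1) 0) :=
    Finite.of_equiv (F × F) (QuadraticAlgebra.equivProd (-1 : F) 0).symm
  have hcard : Nat.card (QuadraticAlgebra F (-1) 0) = Nat.card F * Nat.card F := by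
    rw [Nat.card_congr (QuadraticAlgebra.equivProd (-1 : F) 0), Nat.card_prod]
  obtain ⟨q, hqe⟩ : ∃ q, q = Nat.card F := ⟨_, rfl⟩
  have hq3 : q % 4 = 3 := by rw [hqe, Nat.card_eq_fintype_card]; exact hmod
  obtain ⟨m₁, hm₁⟩ : ∃ m₁, q - 1 = 2 * (2 * m₁ + 1) := ⟨q / 4, by omega⟩
  have hroot : Nat.card (QuadraticAlgebra F (-1) 0) - 1 = 2 ^ (k + 1 + 1) * (m * (2 * m₁ + 1)) := by
    rw [hcard, ← hqe]
    have h5 : q * q - 1 = (q + 1) * (q - 1) := by
      have := Nat.mul_self_sub_mul_self_eq q 1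
      simpa using this
    rw [h5, hqe, hq, ← hqe, hm₁]
    ring
  obtain ⟨ζ, hζ⟩ := exists_root (K := QuadraticAlgebra F (-1) 0) (k + 1) _ hroot
    (hm.mul (odd_two_mul_add_one m₁))
  -- the Frobenius
  have hω : (QuadraticAlgebra.omega : QuadraticAlgebra F (-1) 0) ^ q = -QuadraticAlgebra.omega := by
    have h2 : (QuadraticAlgebra.omega : QuadraticAlgebra F (-1) 0) ^ 2 = -1 := by
      rw [pow_two, QuadraticAlgebra.omega_mul_omega_eq_mk]
      ext <;> simp [QuadraticAlgebra.re_one, QuadraticAlgebra.im_one]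
    obtain ⟨j, hj⟩ : ∃ j, q = 2 * (2 * j + 1) + 1 := ⟨q / 4, by omega⟩
    rw [hj, pow_succ, pow_mul, h2, (odd_two_mul_add_one j).neg_one_pow]
    ring
  have hfrob : ζ ^ q = ⟨ζ.re, -ζ.im⟩ := by
    have h1 : ζ ^ q = FiniteField.frobeniusAlgHom F (QuadraticAlgebra F (-1) 0) ζ := by
      rw [hqe, Nat.card_eq_fintype_card]
      rfl
    have h2 : ζ = algebraMap F _ ζ.re + ζ.im • (QuadraticAlgebra.omega : QuadraticAlgebra F (-1) 0) := by
      ext <;> simp [QuadraticAlgebra.algebraMap_re, QuadraticAlgebra.algebraMap_im]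
    have h3 : FiniteField.frobeniusAlgHom F (QuadraticAlgebra F (-1) 0) QuadraticAlgebra.omega =
        -QuadraticAlgebra.omega := by
      rw [← hω, hqe, Nat.card_eq_fintype_card]
      rfl
    rw [h1]
    conv_lhs => rw [h2]
    rw [map_add, map_smul, AlgHom.commutes, h3]
    ext <;> simp [QuadraticAlgebra.algebraMap_re, QuadraticAlgebra.algebraMap_im]
  have hnorm : ζ.re ^ 2 + ζ.im ^ 2 = -1 := by
    have h1 : ζ ^ (q + 1) = -1 := by
      rw [hqe, hq, pow_mul, hζ, hm.neg_one_pow]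
    rw [pow_succ, hfrob] at h1
    have h2 := congrArg QuadraticAlgebra.re h1
    rw [QuadraticAlgebra.re_mul, QuadraticAlgebra.re_neg, QuadraticAlgebra.re_one] at h2
    simp only at h2
    linear_combination h2
  refine case_three k hk ζ.re ζ.im hnorm ?_
  rw [pow_matrix, QuadraticAlgebra.mk_eta, ← pow_succ', hζ]
  rw [QuadraticAlgebra.re_neg, QuadraticAlgebra.re_one, QuadraticAlgebra.im_neg, QuadraticAlgebra.im_one]
  ext i j
  fin_cases i <;> fin_cases j <;> simp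

theorem exists_elements (F : Type*) [Field F] [Finite F] (hodd : Odd (Nat.card F)) :
    ∃ k m : ℕ, 1 ≤ k ∧ Odd m ∧ Nat.card F ^ 2 - 1 = 4 * 2 ^ k * m ∧ HasElements F k := by
  obtain ⟨q, hqe⟩ : ∃ q, q = Nat.card F := ⟨_, rfl⟩
  have hq1 : 1 < q := by rw [hqe]; exact Finite.one_lt_card
  rw [← hqe] at hodd
  have h5 : q ^ 2 - 1 = (q + 1) * (q - 1) := by
    have := Nat.mul_self_sub_mul_self_eq q 1
    rw [pow_two]
    simpa using this
  rcases hodd with ⟨n, hn⟩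
  rcases Nat.even_or_odd n with hev | hod
  · -- q ≡ 1 mod 4
    obtain ⟨a, m, hm, hqm⟩ := Nat.exists_eq_two_pow_mul_odd (n := q - 1) (by omega)
    obtain ⟨n', hn'⟩ := hev
    have ha : 2 ≤ a := by
      by_contra hlt
      have : a = 0 ∨ a = 1 := by omega
      rcases this with rfl | rfl
      · rw [pow_zero, one_mul] at hqm
        obtain ⟨b, hb⟩ := hm
        omega
      · obtain ⟨b, hb⟩ := hm
        omega
    obtain ⟨k, rfl⟩ := Nat.exists_eq_add_of_le' (show 1 ≤ a by omega)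
    obtain ⟨ζ, hζ⟩ := exists_root (K := F) k m (by rw [← hqe]; exact hqm) hm
    refine ⟨k, m * (2 * n' + 1), by omega, hm.mul (odd_two_mul_add_one n'), ?_, case_one k ζ hζ⟩
    rw [← hqe, h5, hqm]
    have : q + 1 = 2 * (2 * n' + 1) := by omega
    rw [this]
    ring
  · obtain ⟨a, m, hm, hqm⟩ := Nat.exists_eq_two_pow_mul_odd (n := q + 1) (by omega)
    obtain ⟨n', hn'⟩ := hod
    have ha : 2 ≤ a := by
      by_contra hlt
      have : a = 0 ∨ a = 1 := by omega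
      rcases this with rfl | rfl
      · rw [pow_zero, one_mul] at hqm
        obtain ⟨b, hb⟩ := hm
        omega
      · obtain ⟨b, hb⟩ := hm
        omega
    obtain ⟨k, rfl⟩ := Nat.exists_eq_add_of_le' (show 1 ≤ a by omega)
    refine ⟨k, m * (2 * n' + 1), by omega, hm.mul (odd_two_mul_add_one n'), ?_,
      elements_three k m (by omega) (by rw [← hqe]; exact hqm) hm⟩
    rw [← hqe, h5, hqm]
    have : q - 1 = 2 * (2 * n' + 1) := by omega
    rw [this]
    ring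

end Cfsg.Agent.ClassificationK.GTwoSL
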