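import Cfsg.Agent.ChevalleyStructure.LaurentNH
import Cfsg.Agent.ChevalleyStructure.SL2Hom
import Cfsg.Agent.ChevalleyStructure.SL2TabSmall
import Cfsg.Agent.ClassificationK.GTwoSL
import Cfsg.Agent.ClassificationK.GTwoEmbed
import Cfsg.Prelude.Def_ChevG2

/-!
The subgroup `(SL₂(q) ∘ SL₂(q)).2` of `G₂(q)`, `q` odd, and the group of type `T (2 * 2 ^ k)` in it.
-/

set_option autoImplicit false

namespace Cfsg.Agent.ClassificationK.GTwoChev

open Cfsg Cfsg.Lie
open Cfsg.Agent.ChevalleyStructure.LaurentWord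
open Cfsg.Agent.ChevalleyStructure.LaurentNH
open Cfsg.Agent.ChevalleyStructure.SL2Rep
open Cfsg.Agent.ChevalleyStructure.SL2Hom

/-! ### The kernel checks -/

/-- the word of `h(t) = h_7(t) h_6(t)` -/
def hw : List (ℕ × Mono) :=
  [(7, 1, 1, 0), (4, -1, -1, 0), (7, 1, 1, 0), (7, -1, 0, 0), (4, 1, 0, 0), (7, -1, 0, 0),
   (6, 1, 1, 0), (5, -1, -1, 0), (6, 1, 1, 0), (6, -1, 0, 0), (5, 1, 0, 0), (6, -1, 0, 0)]

/-- the word of the Weyl element of the highest root -/
def w11 : List (ℕ × Mono) := [(11, -1, 0, 0), (0, 1, 0, 0), (11, -1, 0, 0)]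

/-- the word of the Weyl element of the short simple root -/
def w7 : List (ℕ × Mono) := [(7, -1, 0, 0), (4, 1, 0, 0), (7, -1, 0, 0)]

theorem check_comm : (([(7,11),(7,0),(4,11),(4,0)] : List (ℕ × ℕ)).all fun p =>
      checkEq 14 12 (col chevG2) [(p.1, 1, 1, 0), (p.2, 1, 0, 1)] [(p.2, 1, 0, 1), (p.1, 1, 1, 0)]) = true := by
  decide +kernel

theorem check_hconj : (([(7,1),(4,-1),(11,1),(0,-1)] : List (ℕ × ℤ)).all fun p =>
      checkEq 14 12 (col chevG2) (hw ++ [(p.1, 1, 0, 1)]) ([(p.1, 1, p.2, 1)] ++ hw)) = true := by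
  decide +kernel

theorem check_sq : checkEq 14 12 (col chevG2) (hw ++ w11 ++ w7 ++ hw ++ w11 ++ w7) [] = true := by
  decide +kernel

theorem check_z : checkEq 14 12 (col chevG2) (w11 ++ w11) (w7 ++ w7) = true := by
  decide +kernel

/-- the diagonal matrix of the central involution -/
def dz : ℕ → Mono := fun j => ((applyW 14 (col chevG2) (w11 ++ w11) [(j, 1, 0, 0)]).headD (j, 1, 0, 0)).2

theorem check_dz : checkDiag 14 12 (col chevG2) (w11 ++ w11) dz = true := by
  decide +kernel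

theorem dz_three : dz 3 = (-1, 0, 0) := by decide +kernel

theorem colsOK : ColsOK chevG2 (col chevG2) := fun _ _ _ _ => rfl

/-! ### The homomorphisms -/

theorem good (r : ℕ) (hr : r < chevG2.nroots) : Good chevG2 r :=
  Cfsg.Agent.ChevalleyStructure.SL2Check.good_of_generalCheck
    (Cfsg.Agent.ChevalleyStructure.SL2Check.basic_of_check
      Cfsg.Agent.ChevalleyStructure.SL2TabSmall.basicG2)
    Cfsg.Agent.ChevalleyStructure.SL2TabSmall.generalG2 r hr

variable {F : Type*} [Field F]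

theorem phi_mem {r : ℕ} (hr : r < chevG2.nroots) (g : Matrix.SpecialLinearGroup (Fin 2) F) :
    phi (good r hr) F g ∈ chevG2.group F := by
  have hneg : chevG2.neg r < chevG2.nroots := by
    change r < 12 at hr
    interval_cases r <;> decide
  have h1 : phi (good r hr) F g ∈ chevG2.rootSubgroup F r ⊔ chevG2.rootSubgroup F (chevG2.neg r) := by
    rw [← range_phi (good r hr)]
    exact ⟨g, rfl⟩
  refine (sup_le ?_ ?_ : chevG2.rootSubgroup F r ⊔ chevG2.rootSubgroup F (chevG2.neg r) ≤ _) h1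
  · refine (Subgroup.closure_le _).2 ?_
    rintro x ⟨t, ht⟩
    refine Subgroup.subset_closure ⟨⟨r, hr⟩, t, ?_⟩
    rw [ht]
    unfold ChevalleyDatum.x
    rw [dif_pos hr]
  · refine (Subgroup.closure_le _).2 ?_
    rintro x ⟨t, ht⟩
    refine Subgroup.subset_closure ⟨⟨chevG2.neg r, hneg⟩, t, ?_⟩
    rw [ht]
    unfold ChevalleyDatum.x
    rw [dif_pos hneg]

/-- the homomorphism of the root `r` into the group -/
noncomputable def ph (r : ℕ) (hr : r < chevG2.nroots) (F : Type*) [Field F] :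
    Matrix.SpecialLinearGroup (Fin 2) F →* ↥(chevG2.group F) :=
  (phi (good r hr) F).codRestrict (chevG2.group F) (fun g => phi_mem hr g)

theorem ph_up (r : ℕ) (hr : r < chevG2.nroots) (t : F) :
    (((ph r hr F (up t) : ↥(chevG2.group F)) : GL chevG2.Idx F) : Matrix chevG2.Idx chevG2.Idx F) =
      chevG2.x F r t := phi_upper (good r hr) _ t rfl

theorem ph_lo (r s : ℕ) (hr : r < chevG2.nroots) (hs : chevG2.neg r = s) (t : F) :
    (((ph r hr F (lo t) : ↥(chevG2.group F)) : GL chevG2.Idx F) : Matrix chevG2.Idx chevG2.Idx F) =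
      chevG2.x F s t := by
  subst hs
  exact phi_lower (good r hr) _ t rfl

/-- the matrix of an element of the group -/
def mat (g : ↥(chevG2.group F)) : Matrix chevG2.Idx chevG2.Idx F := ((g : GL chevG2.Idx F) : Matrix _ _ F)

theorem mat_injective : Function.Injective (mat (F := F)) := fun _ _ h =>
  Subtype.ext (Units.ext h)

theorem mat_mul (g h : ↥(chevG2.group F)) : mat (g * h) = mat g * mat h := rfl
theorem mat_one : mat (1 : ↥(chevG2.group F)) = 1 := rfl

theorem mat_up (r : ℕ) (hr : r < chevG2.nroots) (t : F) : mat (ph r hr F (up t)) = chevG2.x F r t :=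
  ph_up r hr t

theorem mat_lo (r s : ℕ) (hr : r < chevG2.nroots) (hs : chevG2.neg r = s) (t : F) :
    mat (ph r hr F (lo t)) = chevG2.x F s t := ph_lo r s hr hs t

/-- highest root -/
noncomputable def ph11 (F : Type*) [Field F] : Matrix.SpecialLinearGroup (Fin 2) F →* ↥(chevG2.group F) :=
  ph 11 (by decide) F
/-- short simple root -/
noncomputable def ph7 (F : Type*) [Field F] : Matrix.SpecialLinearGroup (Fin 2) F →* ↥(chevG2.group F) :=
  ph 7 (by decide) F
/-- long simple root -/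
noncomputable def ph6 (F : Type*) [Field F] : Matrix.SpecialLinearGroup (Fin 2) F →* ↥(chevG2.group F) :=
  ph 6 (by decide) F

theorem m11u (t : F) : mat (ph11 F (up t)) = chevG2.x F 11 t := mat_up 11 _ t
theorem m11l (t : F) : mat (ph11 F (lo t)) = chevG2.x F 0 t := mat_lo 11 0 _ (by decide) t
theorem m7u (t : F) : mat (ph7 F (up t)) = chevG2.x F 7 t := mat_up 7 _ t
theorem m7l (t : F) : mat (ph7 F (lo t)) = chevG2.x F 4 t := mat_lo 7 4 _ (by decide) t
theorem m6u (t : F) : mat (ph6 F (up t)) = chevG2.x F 6 t := mat_up 6 _ t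
theorem m6l (t : F) : mat (ph6 F (lo t)) = chevG2.x F 5 t := mat_lo 6 5 _ (by decide) t

theorem x_comm {r s : ℕ} (h : (r, s) ∈ ([(7,11),(7,0),(4,11),(4,0)] : List (ℕ × ℕ))) (t u : F) :
    chevG2.x F r t * chevG2.x F s u = chevG2.x F s u * chevG2.x F r t :=
  x_comm_of_check chevG2 colsOK (List.all_eq_true.1 check_comm _ h) t u

theorem commute_closure {L Γ : Type*} [Group L] [Group Γ] (φ ψ : L →* Γ) (S : Set L)
    (hS : ∀ g, g ∈ Subgroup.closure S) (h : ∀ a ∈ S, ∀ b ∈ S, Commute (φ a) (ψ b)) (a b : L) :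
    Commute (φ a) (ψ b) := by
  have h1 : ∀ a ∈ S, ∀ b, Commute (φ a) (ψ b) := by
    intro a ha b
    refine Subgroup.closure_induction (p := fun b _ => Commute (φ a) (ψ b)) (fun b hb => h a ha b hb)
      ?_ ?_ ?_ (hS b)
    · rw [map_one]; exact Commute.one_right _
    · intro x y _ _ hx hy
      rw [map_mul]; exact hx.mul_right hy
    · intro x _ hx
      rw [map_inv]; exact hx.inv_right
  refine Subgroup.closure_induction (p := fun a _ => Commute (φ a) (ψ b)) (fun a ha => h1 a ha b)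
    ?_ ?_ ?_ (hS a)
  · rw [map_one]; exact Commute.one_left _
  · intro x y _ _ hx hy
    rw [map_mul]; exact hx.mul_left hy
  · intro x _ hx
    rw [map_inv]; exact hx.inv_left

theorem comm (g g' : Matrix.SpecialLinearGroup (Fin 2) F) : Commute (ph11 F g) (ph7 F g') := by
  refine commute_closure (ph11 F) (ph7 F) _ mem_closure_SL2 ?_ g g'
  rintro _ (⟨t, rfl⟩ | ⟨t, rfl⟩) _ (⟨u, rfl⟩ | ⟨u, rfl⟩) <;> apply mat_injective
  · rw [mat_mul, mat_mul, m11u, m7u]
    exact (x_comm (by decide) u t).symm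
  · rw [mat_mul, mat_mul, m11u, m7l]
    exact (x_comm (by decide) u t).symm
  · rw [mat_mul, mat_mul, m11l, m7u]
    exact (x_comm (by decide) u t).symm
  · rw [mat_mul, mat_mul, m11l, m7l]
    exact (x_comm (by decide) u t).symm

/-- the Weyl element of `SL₂` -/
def wsl (F : Type*) [Field F] : Matrix.SpecialLinearGroup (Fin 2) F := up (-1) * lo 1 * up (-1)

theorem coe_wsl : (wsl F).1 = !![0, -1; 1, 0] := by
  change (!![1, -1; 0, 1] * !![1, 0; 1, 1] * !![1, -1; 0, 1] : Matrix (Fin 2) (Fin 2) F) = _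
  rw [Matrix.mul_fin_two, Matrix.mul_fin_two]
  simp

theorem wsl_sq : wsl F * wsl F = -1 := by
  apply Subtype.ext
  change ((wsl F).1 * (wsl F).1 : Matrix (Fin 2) (Fin 2) F) = -1
  rw [coe_wsl, Matrix.mul_fin_two]
  ext i j
  fin_cases i <;> fin_cases j <;> simp

theorem wsl_up (t : F) : wsl F * up t = lo (-t) * wsl F := by
  apply Subtype.ext
  change ((wsl F).1 * !![1, t; 0, 1] : Matrix (Fin 2) (Fin 2) F) = !![1, 0; -t, 1] * (wsl F).1
  rw [coe_wsl, Matrix.mul_fin_two, Matrix.mul_fin_two]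
  simp

theorem wsl_lo (t : F) : wsl F * lo t = up (-t) * wsl F := by
  apply Subtype.ext
  change ((wsl F).1 * !![1, 0; t, 1] : Matrix (Fin 2) (Fin 2) F) = !![1, -t; 0, 1] * (wsl F).1
  rw [coe_wsl, Matrix.mul_fin_two, Matrix.mul_fin_two]
  simp

/-- the torus element -/
noncomputable def H (t : F) : ↥(chevG2.group F) :=
  ph7 F (up t) * ph7 F (lo (-t⁻¹)) * ph7 F (up t) * ph7 F (up (-1)) * ph7 F (lo 1) * ph7 F (up (-1)) *
  ph6 F (up t) * ph6 F (lo (-t⁻¹)) * ph6 F (up t) * ph6 F (up (-1)) * ph6 F (lo 1) * ph6 F (up (-1))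

theorem evM_ninv (t u : F) : evM t u (-1, -1, 0) = -t⁻¹ := by simp [evM]

theorem mat_H (t u : F) : mat (H t) = chevG2.wordMat F (evW t u hw) := by
  simp only [evW, hw, List.map_cons, List.map_nil, ChevalleyDatum.wordMat, List.prod_cons, List.prod_nil,
    mul_one, evM_ninv, evM_t, evM_neg_one, evM_one]
  rw [← m7u, ← m7l, ← m7l, ← m7u, ← m6u, ← m6l, ← m6l, ← m6u]
  simp only [← mat_mul]
  congr 1
  simp only [H, mul_assoc]

theorem wordMat_append (l₁ l₂ : List (ℕ × F)) :
    chevG2.wordMat F (l₁ ++ l₂) = chevG2.wordMat F l₁ * chevG2.wordMat F l₂ := by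
  simp [ChevalleyDatum.wordMat]

theorem evW_append (t u : F) (l₁ l₂ : List (ℕ × Mono)) : evW t u (l₁ ++ l₂) = evW t u l₁ ++ evW t u l₂ := by
  simp [evW]

theorem H_conj_aux {s : ℕ} {k : ℤ} (h : (s, k) ∈ ([(7,1),(4,-1),(11,1),(0,-1)] : List (ℕ × ℤ)))
    {t : F} (ht : t ≠ 0) (u : F) :
    mat (H t) * chevG2.x F s u = chevG2.x F s (t ^ k * u) * mat (H t) := by
  by_cases hu : u = 0
  · subst hu
    rw [mul_zero, x_zero, one_mul, mul_one]
  · have h1 := wordMat_eq_of_checkEq chevG2 colsOK ht hu (List.all_eq_true.1 check_hconj _ h)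
    rw [evW_append, evW_append, wordMat_append, wordMat_append, ← mat_H] at h1
    simp only [evW, List.map_cons, List.map_nil, ChevalleyDatum.wordMat, List.prod_cons, List.prod_nil,
      mul_one, evM_u] at h1
    rw [h1]
    congr 2
    simp [evM]

/-- the words of the Weyl elements -/
theorem mat_w11 (t u : F) : mat (ph11 F (wsl F)) = chevG2.wordMat F (evW t u w11) := by
  simp only [evW, w11, List.map_cons, List.map_nil, ChevalleyDatum.wordMat, List.prod_cons, List.prod_nil,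
    mul_one, evM_neg_one, evM_one]
  rw [← m11u, ← m11l, wsl, map_mul, map_mul, mat_mul, mat_mul, mul_assoc]

theorem mat_w7 (t u : F) : mat (ph7 F (wsl F)) = chevG2.wordMat F (evW t u w7) := by
  simp only [evW, w7, List.map_cons, List.map_nil, ChevalleyDatum.wordMat, List.prod_cons, List.prod_nil,
    mul_one, evM_neg_one, evM_one]
  rw [← m7u, ← m7l, wsl, map_mul, map_mul, mat_mul, mat_mul, mul_assoc]

theorem phi_neg_one_eq : ph11 F (-1) = ph7 F (-1) := by
  rw [← wsl_sq, map_mul, map_mul]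
  apply mat_injective
  rw [mat_mul, mat_mul, mat_w11 1 1, mat_w7 1 1, ← wordMat_append, ← wordMat_append, ← evW_append,
    ← evW_append]
  exact wordMat_eq_of_checkEq chevG2 colsOK one_ne_zero one_ne_zero check_z

theorem phi_neg_one_ne (h2 : (2 : F) ≠ 0) : ph11 F (-1) ≠ 1 := by
  intro h
  rw [← wsl_sq, map_mul] at h
  have h1 := congrArg mat h
  rw [mat_mul, mat_w11 1 1, ← wordMat_append, ← evW_append,
    wordMat_eq_of_checkDiag chevG2 colsOK one_ne_zero one_ne_zero check_dz, mat_one] at h1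
  have h3 := congrFun (congrFun h1 (Sum.inr ⟨1, by decide⟩)) (Sum.inr ⟨1, by decide⟩)
  rw [Matrix.diagonal_apply_eq, Matrix.one_apply_eq] at h3
  have h4 : code chevG2 (Sum.inr ⟨1, by decide⟩) = 3 := rfl
  rw [h4, dz_three, evM_neg_one] at h3
  exact h2 (by linear_combination -h3)

/-- the involution inducing the diagonal-graph-like automorphism on both factors -/
noncomputable def dd (ε : Fˣ) : ↥(chevG2.group F) := H (ε : F) * ph11 F (wsl F) * ph7 F (wsl F)

theorem dd_sq (ε : Fˣ) : dd ε * dd ε = 1 := by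
  apply mat_injective
  have h1 := wordMat_eq_of_checkEq chevG2 colsOK ε.ne_zero (one_ne_zero (α := F)) check_sq
  simp only [evW_append, wordMat_append] at h1
  rw [← mat_H, ← mat_w11, ← mat_w7] at h1
  simp only [← mat_mul] at h1
  have h3 : chevG2.wordMat F (evW (ε : F) 1 ([] : List (ℕ × Mono))) = mat 1 := by
    simp [evW, ChevalleyDatum.wordMat, mat_one]
  rw [h3] at h1
  have h5 : dd ε * dd ε = H (ε : F) * ph11 F (wsl F) * ph7 F (wsl F) * H (ε : F) * ph11 F (wsl F) *
      ph7 F (wsl F) := by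
    simp only [dd, mul_assoc]
  rw [h5]
  exact h1

open Cfsg.Agent.ClassificationK.GTwoSL in
theorem delta_up (ε : Fˣ) (t : F) : delta ε (up t) = lo (-((ε⁻¹ : Fˣ) * t)) := by
  apply Subtype.ext
  rw [coe_delta]
  change !![(1 : F), -((ε : F) * 0); -(((ε⁻¹ : Fˣ) : F) * t), 1] = !![1, 0; -(((ε⁻¹ : Fˣ) : F) * t), 1]
  rw [mul_zero, neg_zero]

open Cfsg.Agent.ClassificationK.GTwoSL in
theorem delta_lo (ε : Fˣ) (t : F) : delta ε (lo t) = up (-(ε * t)) := by
  apply Subtype.ext
  rw [coe_delta]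
  change !![(1 : F), -((ε : F) * t); -(((ε⁻¹ : Fˣ) : F) * 0), 1] = !![1, -((ε : F) * t); 0, 1]
  rw [mul_zero, neg_zero]

theorem H_up11 (ε : Fˣ) (t : F) : H (ε : F) * ph11 F (up t) = ph11 F (up (ε * t)) * H (ε : F) := by
  apply mat_injective
  rw [mat_mul, mat_mul, m11u, m11u, H_conj_aux (s := 11) (k := 1) (by decide) ε.ne_zero, zpow_one]

theorem H_lo11 (ε : Fˣ) (t : F) :
    H (ε : F) * ph11 F (lo t) = ph11 F (lo ((ε⁻¹ : Fˣ) * t)) * H (ε : F) := by
  apply mat_injective
  rw [mat_mul, mat_mul, m11l, m11l, H_conj_aux (s := 0) (k := -1) (by decide) ε.ne_zero, zpow_neg_one,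
    Units.val_inv_eq_inv_val]

theorem H_up7 (ε : Fˣ) (t : F) : H (ε : F) * ph7 F (up t) = ph7 F (up (ε * t)) * H (ε : F) := by
  apply mat_injective
  rw [mat_mul, mat_mul, m7u, m7u, H_conj_aux (s := 7) (k := 1) (by decide) ε.ne_zero, zpow_one]

theorem H_lo7 (ε : Fˣ) (t : F) :
    H (ε : F) * ph7 F (lo t) = ph7 F (lo ((ε⁻¹ : Fˣ) * t)) * H (ε : F) := by
  apply mat_injective
  rw [mat_mul, mat_mul, m7l, m7l, H_conj_aux (s := 4) (k := -1) (by decide) ε.ne_zero, zpow_neg_one,
    Units.val_inv_eq_inv_val]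

open Cfsg.Agent.ClassificationK.GTwoSL in
theorem dd_phi (ε : Fˣ) (g : Matrix.SpecialLinearGroup (Fin 2) F) :
    dd ε * ph11 F g = ph11 F (delta ε g) * dd ε := by
  refine Subgroup.closure_induction (p := fun g _ => dd ε * ph11 F g = ph11 F (delta ε g) * dd ε)
    ?_ ?_ ?_ ?_ (mem_closure_SL2 g)
  · rintro _ (⟨t, rfl⟩ | ⟨t, rfl⟩)
    · rw [delta_up, dd]
      calc H (ε : F) * ph11 F (wsl F) * ph7 F (wsl F) * ph11 F (up t)
          = H (ε : F) * (ph11 F (wsl F) * ph11 F (up t)) * ph7 F (wsl F) := by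
            rw [mul_assoc _ (ph7 F (wsl F)), ← (comm (up t) (wsl F)).eq]
            simp only [mul_assoc]
        _ = H (ε : F) * ph11 F (lo (-t)) * ph11 F (wsl F) * ph7 F (wsl F) := by
            rw [← map_mul, wsl_up, map_mul]
            simp only [mul_assoc]
        _ = _ := by
            rw [H_lo11]
            simp only [mul_assoc, mul_neg]
    · rw [delta_lo, dd]
      calc H (ε : F) * ph11 F (wsl F) * ph7 F (wsl F) * ph11 F (lo t)
          = H (ε : F) * (ph11 F (wsl F) * ph11 F (lo t)) * ph7 F (wsl F) := by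
            rw [mul_assoc _ (ph7 F (wsl F)), ← (comm (lo t) (wsl F)).eq]
            simp only [mul_assoc]
        _ = H (ε : F) * ph11 F (up (-t)) * ph11 F (wsl F) * ph7 F (wsl F) := by
            rw [← map_mul, wsl_lo, map_mul]
            simp only [mul_assoc]
        _ = _ := by
            rw [H_up11]
            simp only [mul_assoc, mul_neg]
  · rw [map_one, map_one, map_one, mul_one, one_mul]
  · intro x y _ _ hx hy
    rw [map_mul, map_mul, map_mul, ← mul_assoc, hx, mul_assoc, hy, mul_assoc]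
  · intro x _ hx
    rw [map_inv, map_inv, map_inv, mul_inv_eq_iff_eq_mul, mul_assoc, hx, inv_mul_cancel_left]

open Cfsg.Agent.ClassificationK.GTwoSL in
theorem dd_psi (ε : Fˣ) (g : Matrix.SpecialLinearGroup (Fin 2) F) :
    dd ε * ph7 F g = ph7 F (delta ε g) * dd ε := by
  refine Subgroup.closure_induction (p := fun g _ => dd ε * ph7 F g = ph7 F (delta ε g) * dd ε)
    ?_ ?_ ?_ ?_ (mem_closure_SL2 g)
  · rintro _ (⟨t, rfl⟩ | ⟨t, rfl⟩)
    · rw [delta_up, dd]
      calc H (ε : F) * ph11 F (wsl F) * ph7 F (wsl F) * ph7 F (up t)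
          = H (ε : F) * (ph11 F (wsl F) * ph7 F (lo (-t))) * ph7 F (wsl F) := by
            rw [mul_assoc _ (ph7 F (wsl F)), ← map_mul, wsl_up, map_mul]
            simp only [mul_assoc]
        _ = _ := by
            rw [(comm (wsl F) (lo (-t))).eq, ← mul_assoc, H_lo7]
            simp only [mul_assoc, mul_neg]
    · rw [delta_lo, dd]
      calc H (ε : F) * ph11 F (wsl F) * ph7 F (wsl F) * ph7 F (lo t)
          = H (ε : F) * (ph11 F (wsl F) * ph7 F (up (-t))) * ph7 F (wsl F) := by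
            rw [mul_assoc _ (ph7 F (wsl F)), ← map_mul, wsl_lo, map_mul]
            simp only [mul_assoc]
        _ = _ := by
            rw [(comm (wsl F) (up (-t))).eq, ← mul_assoc, H_up7]
            simp only [mul_assoc, mul_neg]
  · rw [map_one, map_one, map_one, mul_one, one_mul]
  · intro x y _ _ hx hy
    rw [map_mul, map_mul, map_mul, ← mul_assoc, hx, mul_assoc, hy, mul_assoc]
  · intro x _ hx
    rw [map_inv, map_inv, map_inv, mul_inv_eq_iff_eq_mul, mul_assoc, hx, inv_mul_cancel_left]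

open Cfsg.Agent.ClassificationK.GTwoSL in
theorem exists_embedding (k : ℕ) (hk : 1 ≤ k) (h2 : (2 : F) ≠ 0) (h : HasElements F k) :
    ∃ f : Cfsg.Agent.ClassificationK.GTwoModel.T (2 * 2 ^ k) →* ↥(chevG2.group F), Function.Injective f := by
  obtain ⟨ε, c, x, hc, hx, hxc, hδc, hδx⟩ := h
  exact Cfsg.Agent.ClassificationK.GTwoEmbed.exists_embedding (2 ^ k) k rfl hk (ph11 F) (ph7 F) comm (-1)
    phi_neg_one_eq (phi_neg_one_ne h2) (by simp) (dd ε) (dd_sq ε) (delta ε) (dd_phi ε) (dd_psi ε) c x hc hx hxc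
    hδc hδx

end Cfsg.Agent.ClassificationK.GTwoChev
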