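import Mathlib

/-!
The 2-group `T m = (Z_m × Z_m) ⋊ (Z_2 × Z_2)`, one factor inverting, the other one swapping; for `m = 2^n`
this is the Sylow 2-subgroup of `G₂(q)`, `q` odd.
-/

set_option autoImplicit false

namespace Cfsg.Agent.ClassificationK.GTwoModel

/-- the model group: elements `(i, j) t^e u^d` -/
@[ext] structure T (m : ℕ) where
  i : ZMod m
  j : ZMod m
  e : Bool
  d : Bool

variable {m : ℕ}

/-- sign of a boolean -/
def sg (m : ℕ) : Bool → ZMod m
  | true => -1
  | false => 1

@[simp] theorem sg_true : sg m true = -1 := rfl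
@[simp] theorem sg_false : sg m false = 1 := rfl

namespace T

instance instMul : Mul (T m) :=
  ⟨fun x y => ⟨x.i + sg m x.e * (cond x.d y.j y.i), x.j + sg m x.e * (cond x.d y.i y.j),
    xor x.e y.e, xor x.d y.d⟩⟩

instance instOne : One (T m) := ⟨⟨0, 0, false, false⟩⟩

instance instInv : Inv (T m) :=
  ⟨fun x => ⟨- sg m x.e * (cond x.d x.j x.i), - sg m x.e * (cond x.d x.i x.j), x.e, x.d⟩⟩

theorem mul_mk (i j i' j' : ZMod m) (e d e' d' : Bool) :
    (⟨i, j, e, d⟩ : T m) * ⟨i', j', e', d'⟩ =
      ⟨i + sg m e * (cond d j' i'), j + sg m e * (cond d i' j'), xor e e', xor d d'⟩ := rfl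

theorem one_def : (1 : T m) = ⟨0, 0, false, false⟩ := rfl

theorem inv_mk (i j : ZMod m) (e d : Bool) :
    (⟨i, j, e, d⟩ : T m)⁻¹ = ⟨- sg m e * (cond d j i), - sg m e * (cond d i j), e, d⟩ := rfl

instance instGroup : Group (T m) :=
  Group.ofLeftAxioms
    (by
      rintro ⟨i, j, e, d⟩ ⟨i', j', e', d'⟩ ⟨i'', j'', e'', d''⟩
      cases e <;> cases d <;> cases e' <;> cases d' <;> cases e'' <;> cases d'' <;>
        simp only [mul_mk, sg_true, sg_false, cond_true, cond_false, Bool.xor_false, Bool.xor_true,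
          Bool.not_true, Bool.not_false] <;>
        congr 1 <;> ring)
    (by
      rintro ⟨i, j, e, d⟩
      cases e <;> cases d <;>
        simp only [one_def, mul_mk, sg_false, cond_false, Bool.xor_false, Bool.xor_true,
          Bool.not_false] <;>
        congr 1 <;> ring)
    (by
      rintro ⟨i, j, e, d⟩
      cases e <;> cases d <;>
        simp only [one_def, inv_mk, mul_mk, sg_true, sg_false, cond_true, cond_false, Bool.xor_false, Bool.xor_true,
          Bool.not_true] <;>
        congr 1 <;> ring)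

/-- the underlying product -/
def equivProd (m : ℕ) : T m ≃ (ZMod m × ZMod m) × (Bool × Bool) where
  toFun x := ((x.i, x.j), (x.e, x.d))
  invFun p := ⟨p.1.1, p.1.2, p.2.1, p.2.2⟩
  left_inv _ := rfl
  right_inv _ := rfl

theorem card_T (m : ℕ) : Nat.card (T m) = 4 * m ^ 2 := by
  rw [Nat.card_congr (equivProd m), Nat.card_prod, Nat.card_prod, Nat.card_prod, Nat.card_zmod]
  simp only [Nat.card_eq_fintype_card, Fintype.card_bool]
  ring

instance instFinite [NeZero m] : Finite (T m) := Finite.of_equiv _ (equivProd m).symm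

/-! ### special elements; `m = 2 l` -/

/-- `(l, l)` -/
def z (l : ℕ) : T (2 * l) := ⟨(l : ZMod (2 * l)), (l : ZMod (2 * l)), false, false⟩
/-- `(l, 0)` -/
def a' (l : ℕ) : T (2 * l) := ⟨(l : ZMod (2 * l)), 0, false, false⟩
/-- `(0, l)` -/
def b' (l : ℕ) : T (2 * l) := ⟨0, (l : ZMod (2 * l)), false, false⟩
/-- the inverting involution -/
def t (l : ℕ) : T (2 * l) := ⟨0, 0, true, false⟩
/-- another inverting involution -/
def r (l : ℕ) : T (2 * l) := ⟨1, 1, true, false⟩
/-- a third inverting involution -/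
def s (l : ℕ) : T (2 * l) := ⟨1, 0, true, false⟩
/-- the swapping involution -/
def u (l : ℕ) : T (2 * l) := ⟨0, 0, false, true⟩
/-- `t u` -/
def w (l : ℕ) : T (2 * l) := ⟨0, 0, true, true⟩

end T

/-! ### arithmetic in `ZMod (2 l)` -/

section arith

variable (l : ℕ)

theorem two_half [NeZero l] (x : ZMod (2 * l)) (hx : x + x = 0) : x = 0 ∨ x = (l : ZMod (2 * l)) := by
  have hl : 0 < l := Nat.pos_of_ne_zero (NeZero.ne l)
  have : NeZero (2 * l) := ⟨by omega⟩
  have h1 : ((x.val + x.val : ℕ) : ZMod (2 * l)) = 0 := by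
    rw [Nat.cast_add, ZMod.natCast_zmod_val]; exact hx
  rw [ZMod.natCast_eq_zero_iff] at h1
  obtain ⟨c, hc⟩ := h1
  have h2 : x.val < 2 * l := ZMod.val_lt x
  have h3 : x.val = l * c := by nlinarith
  have h4 : c < 2 := by
    by_contra hcon
    have : l * 2 ≤ l * c := Nat.mul_le_mul_left l (by omega)
    omega
  have h5 : x = ((x.val : ℕ) : ZMod (2 * l)) := (ZMod.natCast_zmod_val x).symm
  interval_cases c
  · left; rw [h5, h3]; simp
  · right; rw [h5, h3]; simp

theorem half_add_half : (l : ZMod (2 * l)) + (l : ZMod (2 * l)) = 0 := by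
  have : ((l + l : ℕ) : ZMod (2 * l)) = 0 := by
    rw [ZMod.natCast_eq_zero_iff]; exact ⟨1, by ring⟩
  rwa [Nat.cast_add] at this

theorem half_ne_zero [NeZero l] : (l : ZMod (2 * l)) ≠ 0 := by
  have hl : 0 < l := Nat.pos_of_ne_zero (NeZero.ne l)
  rw [Ne, ZMod.natCast_eq_zero_iff]
  intro h
  have := Nat.le_of_dvd hl h
  omega

/-- parity -/
def par (l : ℕ) : ZMod (2 * l) →+* ZMod 2 := ZMod.castHom (Dvd.intro l rfl) (ZMod 2)

theorem par_natCast (c : ℕ) : par l (c : ZMod (2 * l)) = (c : ZMod 2) := map_natCast _ _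

theorem par_cases (x : ZMod (2 * l)) : par l x = 0 ∨ par l x = 1 := by
  have : ∀ y : ZMod 2, y = 0 ∨ y = 1 := by decide
  exact this _

theorem exists_half [NeZero l] (x : ZMod (2 * l)) (hx : par l x = 0) : ∃ y, x = y + y := by
  have hl : 0 < l := Nat.pos_of_ne_zero (NeZero.ne l)
  have : NeZero (2 * l) := ⟨by omega⟩
  have h5 : x = ((x.val : ℕ) : ZMod (2 * l)) := (ZMod.natCast_zmod_val x).symm
  rw [h5, par_natCast, ZMod.natCast_eq_zero_iff] at hx
  obtain ⟨c, hc⟩ := hx
  refine ⟨(c : ZMod (2 * l)), ?_⟩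
  rw [h5, hc]
  push_cast
  ring

theorem half_mul_of_par_zero [NeZero l] (x : ZMod (2 * l)) (hx : par l x = 0) : (l : ZMod (2 * l)) * x = 0 := by
  obtain ⟨y, rfl⟩ := exists_half l x hx
  rw [mul_add, ← add_mul, half_add_half, zero_mul]

theorem half_mul_of_par_one [NeZero l] (x : ZMod (2 * l)) (hx : par l x = 1) :
    (l : ZMod (2 * l)) * x = (l : ZMod (2 * l)) := by
  have h1 : par l (x - 1) = 0 := by rw [map_sub, map_one, hx, sub_self]
  have h2 := half_mul_of_par_zero l _ h1
  rw [mul_sub, mul_one, sub_eq_zero] at h2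
  exact h2

theorem par_double (x : ZMod (2 * l)) : par l (x + x) = 0 := by
  rw [map_add]
  have : ∀ y : ZMod 2, y + y = 0 := by decide
  exact this _

end arith

/-! ### the homomorphisms to `Z_2` -/

/-- the bit of a boolean -/
def bit : Bool → ZMod 2
  | true => 1
  | false => 0

@[simp] theorem bit_true : bit true = 1 := rfl
@[simp] theorem bit_false : bit false = 0 := rfl

theorem par_neg (l : ℕ) (x : ZMod (2 * l)) : par l (-x) = par l x := by
  rw [map_neg]
  have : ∀ y : ZMod 2, -y = y := by decide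
  exact this _

/-- the linear functionals `T (2 l) → Z_2` -/
def lam (l : ℕ) (α β γ : ZMod 2) : T (2 * l) →* Multiplicative (ZMod 2) where
  toFun x := Multiplicative.ofAdd (α * (par l x.i + par l x.j) + β * bit x.e + γ * bit x.d)
  map_one' := by
    rw [T.one_def]
    simp only [map_zero, bit_false, add_zero, mul_zero]
    rfl
  map_mul' := by
    rintro ⟨i, j, e, d⟩ ⟨i', j', e', d'⟩
    have h2 : (2 : ZMod 2) = 0 := by decide
    rw [T.mul_mk, ← ofAdd_add]
    congr 1
    cases e <;> cases d <;> cases e' <;> cases d' <;>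
      simp only [sg_true, sg_false, cond_true, cond_false, Bool.xor_false, Bool.xor_true,
          Bool.not_true, Bool.not_false, bit_true, bit_false, map_add, one_mul, neg_mul, par_neg] <;>
      first
        | ring1
        | linear_combination (-γ) * h2
        | linear_combination (-β) * h2
        | linear_combination (-β - γ) * h2


theorem lam_eq_one_iff (l : ℕ) (α β γ : ZMod 2) (x : T (2 * l)) :
    lam l α β γ x = 1 ↔ α * (par l x.i + par l x.j) + β * bit x.e + γ * bit x.d = 0 := Iff.rfl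

/-! ### conjugacy in `T (2 l)` -/

open T

theorem isConj_of_conj {H : Type*} [Group H] (g x y : H) (h : g * x = y * g) : IsConj x y := by
  rw [isConj_iff]
  exact ⟨g, by rw [h, mul_inv_cancel_right]⟩

theorem isConj_inv {l : ℕ} (i j a b : ZMod (2 * l)) :
    IsConj (⟨i, j, true, false⟩ : T (2 * l)) ⟨i + (a + a), j + (b + b), true, false⟩ := by
  refine isConj_of_conj ⟨a, b, false, false⟩ _ _ ?_
  simp only [mul_mk, sg_true, sg_false, cond_false, Bool.xor_false, Bool.xor_true, Bool.not_false]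
  congr 1 <;> ring

theorem isConj_inv_swap {l : ℕ} (i j : ZMod (2 * l)) :
    IsConj (⟨i, j, true, false⟩ : T (2 * l)) ⟨j, i, true, false⟩ := by
  refine isConj_of_conj ⟨0, 0, false, true⟩ _ _ ?_
  simp only [mul_mk, sg_true, sg_false, cond_true, cond_false, Bool.xor_false, Bool.xor_true, Bool.not_false]
  congr 1 <;> ring

theorem isConj_inv_of_par {l : ℕ} [NeZero l] (i j i' j' : ZMod (2 * l)) (hi : par l i = par l i')
    (hj : par l j = par l j') :
    IsConj (⟨i, j, true, false⟩ : T (2 * l)) ⟨i', j', true, false⟩ := by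
  obtain ⟨a, ha⟩ := exists_half l (i' - i) (by rw [map_sub, hi, sub_self])
  obtain ⟨b, hb⟩ := exists_half l (j' - j) (by rw [map_sub, hj, sub_self])
  have := isConj_inv i j a b
  rwa [← ha, ← hb, add_sub_cancel, add_sub_cancel] at this

theorem isConj_swapElt {l : ℕ} (i i' : ZMod (2 * l)) :
    IsConj (⟨i, -i, false, true⟩ : T (2 * l)) ⟨i', -i', false, true⟩ := by
  refine isConj_of_conj ⟨i' - i, 0, false, false⟩ _ _ ?_
  simp only [mul_mk, sg_false, cond_true, cond_false, Bool.xor_false, Bool.xor_true, Bool.not_false]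
  congr 1 <;> ring

theorem isConj_swapInvElt {l : ℕ} (i i' : ZMod (2 * l)) :
    IsConj (⟨i, i, true, true⟩ : T (2 * l)) ⟨i', i', true, true⟩ := by
  refine isConj_of_conj ⟨i' - i, 0, false, false⟩ _ _ ?_
  simp only [mul_mk, sg_true, sg_false, cond_true, cond_false, Bool.xor_false, Bool.xor_true, Bool.not_false]
  congr 1 <;> ring

theorem isConj_a'_b' (l : ℕ) : IsConj (a' l) (b' l) := by
  refine isConj_of_conj ⟨0, 0, false, true⟩ _ _ ?_
  simp only [a', b', mul_mk, sg_false, cond_true, cond_false, Bool.xor_false, Bool.xor_true, Bool.not_false]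
  congr 1 <;> ring

theorem inv_cases (l : ℕ) [NeZero l] (y : T (2 * l)) (hy : y * y = 1) (hy1 : y ≠ 1) :
    y = z l ∨ y = a' l ∨ y = b' l ∨ IsConj y (t l) ∨ IsConj y (r l) ∨ IsConj y (s l) ∨
      IsConj y (u l) ∨ IsConj y (w l) := by
  obtain ⟨i, j, e, d⟩ := y
  rw [mul_mk, one_def, T.mk.injEq] at hy
  obtain ⟨h1, h2, -, -⟩ := hy
  cases e <;> cases d
  · simp only [sg_false, cond_false, one_mul] at h1 h2
    rcases two_half l i h1 with rfl | rfl <;> rcases two_half l j h2 with rfl | rfl
    · exact absurd rfl hy1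
    · exact Or.inr (Or.inr (Or.inl rfl))
    · exact Or.inr (Or.inl rfl)
    · exact Or.inl rfl
  · simp only [sg_false, cond_true, one_mul] at h1 h2
    have hj : j = -i := eq_neg_of_add_eq_zero_right h1
    subst hj
    refine Or.inr (Or.inr (Or.inr (Or.inr (Or.inr (Or.inr (Or.inl ?_))))))
    have := isConj_swapElt i (0 : ZMod (2 * l))
    rwa [neg_zero] at this
  · refine Or.inr (Or.inr (Or.inr ?_))
    have h0 : par l (0 : ZMod (2 * l)) = 0 := map_zero _
    have h1' : par l (1 : ZMod (2 * l)) = 1 := map_one _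
    rcases par_cases l i with hi | hi <;> rcases par_cases l j with hj | hj
    · exact Or.inl (isConj_inv_of_par _ _ _ _ (by rw [hi, h0]) (by rw [hj, h0]))
    · exact Or.inr (Or.inr (Or.inl ((isConj_inv_swap _ _).trans
        (isConj_inv_of_par _ _ _ _ (by rw [hj, h1']) (by rw [hi, h0])))))
    · exact Or.inr (Or.inr (Or.inl
        (isConj_inv_of_par _ _ _ _ (by rw [hi, h1']) (by rw [hj, h0]))))
    · exact Or.inr (Or.inl (isConj_inv_of_par _ _ _ _ (by rw [hi, h1']) (by rw [hj, h1'])))
  · simp only [sg_true, cond_true] at h1 h2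
    have hj : j = i := by linear_combination -h1
    subst hj
    exact Or.inr (Or.inr (Or.inr (Or.inr (Or.inr (Or.inr (Or.inr
      (isConj_swapInvElt _ _)))))))

end Cfsg.Agent.ClassificationK.GTwoModel
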