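import Mathlib

/-!
A group generated by two subgroups acting on `W = F × F` by the two families of elementary matrices
induces `SL₂(F)` on `W`.
-/

set_option autoImplicit false

namespace Cfsg.Agent.ClassificationK.SLTwoAction

open Matrix

variable {G : Type*} [Group G] {F : Type*} [Field F]

/-- `h` acts on `W` as the matrix `M` -/
def Acts (α β : F → G) (h : G) (M : Matrix (Fin 2) (Fin 2) F) : Prop :=
  ∀ a b, h * (α a * β b) * h⁻¹ = α (M 0 0 * a + M 0 1 * b) * β (M 1 0 * a + M 1 1 * b)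

theorem acts_mul {α β : F → G} {h k : G} {M N : Matrix (Fin 2) (Fin 2) F}
    (hM : Acts α β h M) (hN : Acts α β k N) : Acts α β (h * k) (M * N) := by
  intro a b
  have h1 : h * k * (α a * β b) * (h * k)⁻¹ = h * (k * (α a * β b) * k⁻¹) * h⁻¹ := by group
  rw [h1, hN, hM]
  simp only [Matrix.mul_apply, Fin.sum_univ_two]
  congr 2 <;> ring

theorem acts_one {α β : F → G} : Acts α β (1 : G) 1 := by
  intro a b
  simp

theorem inj_of {α β : F → G}
    (hα : ∀ a b, α (a + b) = α a * α b) (hβ : ∀ a b, β (a + b) = β a * β b)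
    (hcomm : ∀ a b, α a * β b = β b * α a) (hinj : ∀ a b, α a * β b = 1 → a = 0 ∧ b = 0)
    {a b c d : F} (h : α a * β b = α c * β d) : a = c ∧ b = d := by
  have hα0 : α 0 = 1 := by
    have := hα 0 0
    rw [add_zero] at this
    exact (mul_eq_left.1 this.symm)
  have hβ0 : β 0 = 1 := by
    have := hβ 0 0
    rw [add_zero] at this
    exact (mul_eq_left.1 this.symm)
  have hαn : ∀ x, α (-x) = (α x)⁻¹ := by
    intro x
    apply eq_inv_of_mul_eq_one_left
    rw [← hα, neg_add_cancel, hα0]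
  have hβn : ∀ x, β (-x) = (β x)⁻¹ := by
    intro x
    apply eq_inv_of_mul_eq_one_left
    rw [← hβ, neg_add_cancel, hβ0]
  have h1 : α (a + -c) * β (b + -d) = 1 := by
    rw [hα, hβ, hαn, hβn]
    calc α a * (α c)⁻¹ * (β b * (β d)⁻¹) = α a * ((α c)⁻¹ * β b) * (β d)⁻¹ := by group
      _ = α a * (β b * (α c)⁻¹) * (β d)⁻¹ := by rw [← hαn, hcomm]
      _ = (α a * β b) * (β d * α c)⁻¹ := by group
      _ = 1 := by rw [h, hcomm, mul_inv_cancel]
  obtain ⟨h2, h3⟩ := hinj _ _ h1
  exact ⟨by linear_combination h2, by linear_combination h3⟩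

theorem acts_unique {α β : F → G}
    (hα : ∀ a b, α (a + b) = α a * α b) (hβ : ∀ a b, β (a + b) = β a * β b)
    (hcomm : ∀ a b, α a * β b = β b * α a) (hinj : ∀ a b, α a * β b = 1 → a = 0 ∧ b = 0)
    {h : G} {M N : Matrix (Fin 2) (Fin 2) F} (hM : Acts α β h M) (hN : Acts α β h N) : M = N := by
  have h1 := fun a b => inj_of hα hβ hcomm hinj ((hM a b).symm.trans (hN a b))
  have h2 := h1 1 0
  have h3 := h1 0 1
  simp only [mul_one, mul_zero, add_zero, zero_add] at h2 h3
  ext i j
  fin_cases i <;> fin_cases j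
  · exact h2.1
  · exact h3.1
  · exact h2.2
  · exact h3.2

/-- upper elementary matrix -/
def U (c : F) : SpecialLinearGroup (Fin 2) F := ⟨!![1, c; 0, 1], by simp [Matrix.det_fin_two]⟩
/-- lower elementary matrix -/
def L (c : F) : SpecialLinearGroup (Fin 2) F := ⟨!![1, 0; c, 1], by simp [Matrix.det_fin_two]⟩

theorem mem_of_elem (S : Subgroup (SpecialLinearGroup (Fin 2) F)) (hU : ∀ c, U c ∈ S)
    (hL : ∀ c, L c ∈ S) (M : SpecialLinearGroup (Fin 2) F) : M ∈ S := by
  have key : ∀ M : SpecialLinearGroup (Fin 2) F, M.1 1 0 ≠ 0 → M ∈ S := by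
    intro M hM
    have hdet := M.2
    rw [Matrix.det_fin_two] at hdet
    have h1 : M = U ((M.1 0 0 - 1) / M.1 1 0) * L (M.1 1 0) * U ((M.1 1 1 - 1) / M.1 1 0) := by
      apply Subtype.ext
      show M.1 = !![1, (M.1 0 0 - 1) / M.1 1 0; 0, 1] * !![1, 0; M.1 1 0, 1] *
        !![1, (M.1 1 1 - 1) / M.1 1 0; 0, 1]
      generalize M.1 = m at *
      ext i j
      fin_cases i <;> fin_cases j <;>
        simp [Matrix.mul_apply, Fin.sum_univ_two]
      · field_simp; ring
      · field_simp; linear_combination (-1 : F) * hdet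
      · field_simp; ring
    rw [h1]
    exact S.mul_mem (S.mul_mem (hU _) (hL _)) (hU _)
  by_cases h : M.1 1 0 = 0
  · have hdet := M.2
    rw [Matrix.det_fin_two, h] at hdet
    have h0 : M.1 0 0 ≠ 0 := by
      intro h0
      rw [h0] at hdet
      simp at hdet
    have h2 : L 1 * M ∈ S := by
      apply key
      show (L (1:F) * M).1 1 0 ≠ 0
      have : (L (1:F) * M).1 1 0 = M.1 0 0 + M.1 1 0 := by
        show ((!![1, 0; 1, 1] : Matrix (Fin 2) (Fin 2) F) * M.1) 1 0 = _
        simp [Matrix.mul_apply, Fin.sum_univ_two]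
      rw [this, h, add_zero]
      exact h0
    exact (S.mul_mem_cancel_left (hL 1)).1 h2
  · exact key M h

theorem quotient_equiv_SL2 {G : Type*} [Group G] {F : Type*} [Field F] (α β : F → G)
    (hα : ∀ a b, α (a + b) = α a * α b) (hβ : ∀ a b, β (a + b) = β a * β b)
    (hcomm : ∀ a b, α a * β b = β b * α a) (hinj : ∀ a b, α a * β b = 1 → a = 0 ∧ b = 0)
    (W P P' : Subgroup G) (hW : ∀ w, w ∈ W ↔ ∃ a b, w = α a * β b)
    (hP : ∀ p ∈ P, ∃ c : F, ∀ a b, p * (α a * β b) * p⁻¹ = α (a + c * b) * β b)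
    (hPs : ∀ c : F, ∃ p ∈ P, ∀ a b, p * (α a * β b) * p⁻¹ = α (a + c * b) * β b)
    (hP' : ∀ p ∈ P', ∃ c : F, ∀ a b, p * (α a * β b) * p⁻¹ = α a * β (b + c * a))
    (hPs' : ∀ c : F, ∃ p ∈ P', ∀ a b, p * (α a * β b) * p⁻¹ = α a * β (b + c * a))
    [hN : ((Subgroup.centralizer (W : Set G)).subgroupOf (P ⊔ P')).Normal] :
    Nonempty (↥(P ⊔ P') ⧸ (Subgroup.centralizer (W : Set G)).subgroupOf (P ⊔ P') ≃*
      Matrix.SpecialLinearGroup (Fin 2) F) := by
  -- existence of the matrix
  have hex : ∀ h ∈ P ⊔ P', ∃ M : SpecialLinearGroup (Fin 2) F, Acts α β h M.1 := by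
    intro h hh
    rw [Subgroup.sup_eq_closure] at hh
    have hinv : ∀ (x : G) (M : SpecialLinearGroup (Fin 2) F), Acts α β x M.1 →
        Acts α β x⁻¹ (M⁻¹).1 := by
      intro x M hx a b
      have h1 := hx ((M⁻¹).1 0 0 * a + (M⁻¹).1 0 1 * b) ((M⁻¹).1 1 0 * a + (M⁻¹).1 1 1 * b)
      have h2 : M.1 * (M⁻¹).1 = 1 := by
        have : (M * M⁻¹).1 = (1 : SpecialLinearGroup (Fin 2) F).1 := by rw [mul_inv_cancel]
        exact this
      have e : ∀ i j, (M.1 * (M⁻¹).1) i j = (1 : Matrix (Fin 2) (Fin 2) F) i j := by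
        intro i j; rw [h2]
      simp only [Matrix.mul_apply, Fin.sum_univ_two] at e
      have e00 := e 0 0
      have e01 := e 0 1
      have e10 := e 1 0
      have e11 := e 1 1
      simp only [Matrix.one_apply_eq, ne_eq, zero_ne_one, one_ne_zero, not_false_eq_true,
        Matrix.one_apply_ne] at e00 e01 e10 e11
      have h3 : M.1 0 0 * ((M⁻¹).1 0 0 * a + (M⁻¹).1 0 1 * b) +
          M.1 0 1 * ((M⁻¹).1 1 0 * a + (M⁻¹).1 1 1 * b) = a := by
        linear_combination a * e00 + b * e01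
      have h4 : M.1 1 0 * ((M⁻¹).1 0 0 * a + (M⁻¹).1 0 1 * b) +
          M.1 1 1 * ((M⁻¹).1 1 0 * a + (M⁻¹).1 1 1 * b) = b := by
        linear_combination a * e10 + b * e11
      rw [h3, h4] at h1
      rw [← h1]
      group
    induction hh using Subgroup.closure_induction with
    | mem x hx =>
      rcases hx with hx | hx
      · obtain ⟨c, hc⟩ := hP x hx
        refine ⟨U c, fun a b => ?_⟩
        rw [hc]
        simp [U]
      · obtain ⟨c, hc⟩ := hP' x hx
        refine ⟨L c, fun a b => ?_⟩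
        rw [hc]
        simp [L, add_comm]
    | one => exact ⟨1, acts_one⟩
    | mul x y hx hy h1 h2 =>
      obtain ⟨M, hM⟩ := h1
      obtain ⟨N, hN'⟩ := h2
      exact ⟨M * N, acts_mul hM hN'⟩
    | inv x hx h1 =>
      obtain ⟨M, hM⟩ := h1
      exact ⟨M⁻¹, hinv x M hM⟩
  choose! φ hφ using hex
  let f : ↥(P ⊔ P') →* SpecialLinearGroup (Fin 2) F :=
    { toFun := fun h => φ h
      map_one' := Subtype.ext (acts_unique hα hβ hcomm hinj (hφ _ (P ⊔ P').one_mem) acts_one)
      map_mul' := by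
        intro x y
        apply Subtype.ext
        exact acts_unique hα hβ hcomm hinj (hφ _ (x * y).2)
          (acts_mul (hφ _ x.2) (hφ _ y.2)) }
  have hf : ∀ h : ↥(P ⊔ P'), Acts α β (h : G) (f h).1 := fun h => hφ _ h.2
  have hker : f.ker = (Subgroup.centralizer (W : Set G)).subgroupOf (P ⊔ P') := by
    ext h
    rw [MonoidHom.mem_ker, Subgroup.mem_subgroupOf, Subgroup.mem_centralizer_iff]
    constructor
    · intro h1 w hw
      obtain ⟨a, b, rfl⟩ := (hW w).1 hw
      have h2 : (h : G) * (α a * β b) * (h : G)⁻¹ =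
          α ((1 : Matrix (Fin 2) (Fin 2) F) 0 0 * a + (1 : Matrix (Fin 2) (Fin 2) F) 0 1 * b) *
          β ((1 : Matrix (Fin 2) (Fin 2) F) 1 0 * a + (1 : Matrix (Fin 2) (Fin 2) F) 1 1 * b) := by
        have h3 := hf h
        rw [h1] at h3
        exact h3 a b
      simp only [Matrix.one_apply_eq, ne_eq, zero_ne_one, one_ne_zero,
        not_false_eq_true, Matrix.one_apply_ne, one_mul, zero_mul, add_zero, zero_add] at h2
      rw [mul_inv_eq_iff_eq_mul] at h2
      exact h2.symm
    · intro h1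
      apply Subtype.ext
      refine acts_unique hα hβ hcomm hinj (hf h) ?_
      intro a b
      have h2 := h1 _ ((hW _).2 ⟨a, b, rfl⟩)
      rw [← h2, mul_inv_cancel_right]
      simp
  have hsurj : Function.Surjective f := by
    intro M
    have : M ∈ f.range := by
      apply mem_of_elem
      · intro c
        obtain ⟨p, hp, h1⟩ := hPs c
        refine ⟨⟨p, Subgroup.mem_sup_left hp⟩, ?_⟩
        apply Subtype.ext
        refine acts_unique hα hβ hcomm hinj (hf _) ?_
        intro a b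
        show p * (α a * β b) * p⁻¹ = _
        rw [h1]
        simp [U]
      · intro c
        obtain ⟨p, hp, h1⟩ := hPs' c
        refine ⟨⟨p, Subgroup.mem_sup_right hp⟩, ?_⟩
        apply Subtype.ext
        refine acts_unique hα hβ hcomm hinj (hf _) ?_
        intro a b
        show p * (α a * β b) * p⁻¹ = _
        rw [h1]
        simp [L, add_comm]
    exact this
  exact ⟨(QuotientGroup.quotientMulEquivOfEq hker.symm).trans
    (QuotientGroup.quotientKerEquivOfSurjective f hsurj)⟩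

end Cfsg.Agent.ClassificationK.SLTwoAction
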