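import Mathlib
import Cfsg.Prelude.Def_CaseTheorems

/-!
# The configuration "two commuting quaternion subgroups, strongly closed in a Sylow 2-subgroup"

`Conf k P a φ ψ`: `X` is a finite group without normal subgroups of odd order, `P` a Sylow 2-subgroup,
`φ, ψ : QuaternionGroup (2^k) →* X` are injective with commuting ranges contained in `P`, meeting in the group of
order 2 generated by `t = φ (a (2^k)) = ψ (a (2^k))`, which is central in `X`; `P = Q R ∪ Q R a`, the element `a`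
acts on both factors by `a i ↦ a i`, `xa i ↦ xa (i - 1)`; both ranges are strongly closed in `P`; and all involutions
`φ x * ψ y`, `x, y` of order 4, are conjugate. The structure is symmetric in `φ, ψ` (`Conf.symm`).
-/

set_option autoImplicit false

namespace Cfsg.Agent.ClassificationK.GTwoConf

open QuaternionGroup Subgroup

structure Conf {X : Type*} [Group X] [Finite X] (k : ℕ) (P : Sylow 2 X) (s : X)
    (φ ψ : QuaternionGroup (2 ^ k) →* X) : Prop where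
  hk : 1 ≤ k
  hO : Cfsg.oddCore X = ⊥
  inj₁ : Function.Injective φ
  inj₂ : Function.Injective ψ
  mem₁ : ∀ x, φ x ∈ (P : Subgroup X)
  mem₂ : ∀ x, ψ x ∈ (P : Subgroup X)
  t_eq : φ (a ((2 ^ k : ℕ) : ZMod (2 * 2 ^ k))) = ψ (a ((2 ^ k : ℕ) : ZMod (2 * 2 ^ k)))
  central : ∀ g : X, g * φ (a ((2 ^ k : ℕ) : ZMod (2 * 2 ^ k))) = φ (a ((2 ^ k : ℕ) : ZMod (2 * 2 ^ k))) * g
  comm : ∀ x y, φ x * ψ y = ψ y * φ x
  inf₁ : ∀ x y, φ x = ψ y → x = 1 ∨ x = a ((2 ^ k : ℕ) : ZMod (2 * 2 ^ k))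
  inf₂ : ∀ x y, φ x = ψ y → y = 1 ∨ y = a ((2 ^ k : ℕ) : ZMod (2 * 2 ^ k))
  s_mem : s ∈ (P : Subgroup X)
  s_a₁ : ∀ i, s * φ (a i) * s⁻¹ = φ (a i)
  s_a₂ : ∀ i, s * ψ (a i) * s⁻¹ = ψ (a i)
  s_xa₁ : ∀ i, s * φ (xa i) * s⁻¹ = φ (xa (i - 1))
  s_xa₂ : ∀ i, s * ψ (xa i) * s⁻¹ = ψ (xa (i - 1))
  cases : ∀ g ∈ (P : Subgroup X), ∃ x y, g = φ x * ψ y ∨ g = φ x * ψ y * s
  closed₁ : ∀ (g : X) (x), g * φ x * g⁻¹ ∈ (P : Subgroup X) → g * φ x * g⁻¹ ∈ φ.range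
  closed₂ : ∀ (g : X) (x), g * ψ x * g⁻¹ ∈ (P : Subgroup X) → g * ψ x * g⁻¹ ∈ ψ.range
  inv : ∀ x y x' y' : QuaternionGroup (2 ^ k), x ^ 2 = a ((2 ^ k : ℕ) : ZMod (2 * 2 ^ k)) →
    y ^ 2 = a ((2 ^ k : ℕ) : ZMod (2 * 2 ^ k)) → x' ^ 2 = a ((2 ^ k : ℕ) : ZMod (2 * 2 ^ k)) →
    y' ^ 2 = a ((2 ^ k : ℕ) : ZMod (2 * 2 ^ k)) → ∃ g : X, g * (φ x * ψ y) * g⁻¹ = φ x' * ψ y'

namespace Conf

variable {X : Type*} [Group X] [Finite X] {k : ℕ} {P : Sylow 2 X} {s : X} {φ ψ : QuaternionGroup (2 ^ k) →* X}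

theorem symm (h : Conf k P s φ ψ) : Conf k P s ψ φ where
  hk := h.hk
  hO := h.hO
  inj₁ := h.inj₂
  inj₂ := h.inj₁
  mem₁ := h.mem₂
  mem₂ := h.mem₁
  t_eq := h.t_eq.symm
  central := by rw [← h.t_eq]; exact h.central
  comm := fun x y => (h.comm y x).symm
  inf₁ := fun x y e => h.inf₂ y x e.symm
  inf₂ := fun x y e => h.inf₁ y x e.symm
  s_mem := h.s_mem
  s_a₁ := h.s_a₂
  s_a₂ := h.s_a₁
  s_xa₁ := h.s_xa₂
  s_xa₂ := h.s_xa₁
  cases := by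
    intro g hg
    obtain ⟨x, y, e | e⟩ := h.cases g hg
    · exact ⟨y, x, Or.inl (by rw [e, h.comm])⟩
    · exact ⟨y, x, Or.inr (by rw [e, h.comm])⟩
  closed₁ := h.closed₂
  closed₂ := h.closed₁
  inv := by
    intro x y x' y' hx hy hx' hy'
    obtain ⟨g, hg⟩ := h.inv y x y' x' hy hx hy' hx'
    exact ⟨g, by rw [← h.comm, ← h.comm]; exact hg⟩

variable (φ) in
/-- the central involution -/
def t : X := φ (a ((2 ^ k : ℕ) : ZMod (2 * 2 ^ k)))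

end Conf

end Cfsg.Agent.ClassificationK.GTwoConf
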