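import Cfsg.Agent.ClassificationK.GTwoQuat
import Cfsg.Agent.ClassificationK.GTwoConf

/-!
The configuration `Conf` from the model group `T (2 · 2^k)`.
-/

set_option autoImplicit false

namespace Cfsg.Agent.ClassificationK.GTwoModelConf

open Cfsg.Agent.ClassificationK.GTwoModel Cfsg.Agent.ClassificationK.GTwoModel.T
open Cfsg.Agent.ClassificationK.GTwoQuat
open Cfsg.Agent.ClassificationK.GTwoConf
open Subgroup

variable {l : ℕ}

/-- the first quaternion factor as a homomorphism -/
def phiT (l : ℕ) : QuaternionGroup l →* T (2 * l) where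
  toFun x := match x with
    | .a i => ⟨i, i, false, false⟩
    | .xa i => ⟨-i + (l : ZMod (2 * l)), -i, true, true⟩
  map_one' := by
    rw [QuaternionGroup.one_def, one_def]
  map_mul' := by
    have h := neg_half l
    rintro (i | i) (j | j)
    · rw [QuaternionGroup.a_mul_a, mul_mk]
      simp only [sg_false, cond_false, one_mul, Bool.xor_false]
    · rw [QuaternionGroup.a_mul_xa, mul_mk]
      simp only [sg_false, cond_false, one_mul, Bool.xor_true, Bool.not_false]
      congr 1 <;> ring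
    · rw [QuaternionGroup.xa_mul_a, mul_mk]
      simp only [sg_true, cond_true, Bool.xor_false]
      congr 1 <;> ring
    · rw [QuaternionGroup.xa_mul_xa, mul_mk]
      simp only [sg_true, cond_true, Bool.xor_true, Bool.not_true]
      congr 1
      · ring
      · linear_combination -h

/-- the second quaternion factor as a homomorphism -/
def psiT (l : ℕ) : QuaternionGroup l →* T (2 * l) where
  toFun x := match x with
    | .a i => ⟨i, -i, false, false⟩
    | .xa i => ⟨-i + (l : ZMod (2 * l)), i, false, true⟩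
  map_one' := by
    rw [QuaternionGroup.one_def, one_def]
    simp
  map_mul' := by
    have h := neg_half l
    rintro (i | i) (j | j)
    · rw [QuaternionGroup.a_mul_a, mul_mk]
      simp only [sg_false, cond_false, one_mul, Bool.xor_false]
      congr 1
      ring
    · rw [QuaternionGroup.a_mul_xa, mul_mk]
      simp only [sg_false, cond_false, one_mul, Bool.xor_false, Bool.false_xor]
      congr 1 <;> ring
    · rw [QuaternionGroup.xa_mul_a, mul_mk]
      simp only [sg_false, cond_true, one_mul, Bool.xor_false]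
      congr 1 <;> ring
    · rw [QuaternionGroup.xa_mul_xa, mul_mk]
      simp only [sg_false, cond_true, one_mul, Bool.xor_false, Bool.xor_true, Bool.not_true]
      congr 1
      · ring
      · linear_combination h

theorem phiT_a (i : ZMod (2 * l)) : phiT l (.a i) = ⟨i, i, false, false⟩ := rfl
theorem phiT_xa (i : ZMod (2 * l)) : phiT l (.xa i) = ⟨-i + l, -i, true, true⟩ := rfl
theorem psiT_a (i : ZMod (2 * l)) : psiT l (.a i) = ⟨i, -i, false, false⟩ := rfl
theorem psiT_xa (i : ZMod (2 * l)) : psiT l (.xa i) = ⟨-i + l, i, false, true⟩ := rfl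

theorem phiT_inj : Function.Injective (phiT l) := by
  rintro (i | i) (j | j) h
  · rw [phiT_a, phiT_a, T.mk.injEq] at h
    rw [h.1]
  · rw [phiT_a, phiT_xa, T.mk.injEq] at h
    exact absurd h.2.2.1 (by decide)
  · rw [phiT_a, phiT_xa, T.mk.injEq] at h
    exact absurd h.2.2.1 (by decide)
  · rw [phiT_xa, phiT_xa, T.mk.injEq] at h
    rw [neg_injective h.2.1]

theorem psiT_inj : Function.Injective (psiT l) := by
  rintro (i | i) (j | j) h
  · rw [psiT_a, psiT_a, T.mk.injEq] at h
    rw [h.1]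
  · rw [psiT_a, psiT_xa, T.mk.injEq] at h
    exact absurd h.2.2.2 (by decide)
  · rw [psiT_a, psiT_xa, T.mk.injEq] at h
    exact absurd h.2.2.2 (by decide)
  · rw [psiT_xa, psiT_xa, T.mk.injEq] at h
    rw [h.2.1]

theorem phiT_range : (phiT l).range = Q1 l := by
  ext p
  constructor
  · rintro ⟨i | i, rfl⟩
    · exact mem_Q1.2 ⟨rfl, by simp [phiT_a]⟩
    · exact mem_Q1.2 ⟨rfl, by simp [phiT_xa]⟩
  · obtain ⟨i, j, e, d⟩ := p
    intro h
    obtain ⟨h1, h2⟩ := mem_Q1.1 h
    simp only at h1 h2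
    subst h1; subst h2
    cases e
    · exact ⟨.a j, by rw [phiT_a, cond_false, add_zero]⟩
    · exact ⟨.xa (-j), by rw [phiT_xa, neg_neg, cond_true]⟩

theorem psiT_range : (psiT l).range = Q2 l := by
  ext p
  constructor
  · rintro ⟨i | i, rfl⟩
    · exact mem_Q2.2 ⟨rfl, by simp [psiT_a]⟩
    · exact mem_Q2.2 ⟨rfl, by simp [psiT_xa]⟩
  · obtain ⟨i, j, e, d⟩ := p
    intro h
    obtain ⟨h1, h2⟩ := mem_Q2.1 h
    simp only at h1 h2
    subst h1; subst h2
    cases d
    · exact ⟨.a (-j), by rw [psiT_a, neg_neg, cond_false, add_zero]⟩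
    · exact ⟨.xa j, by rw [psiT_xa, cond_true]⟩

theorem phiT_z : phiT l (.a (l : ZMod (2 * l))) = z l := rfl
theorem psiT_z : psiT l (.a (l : ZMod (2 * l))) = z l := by
  rw [psiT_a, neg_half]
  rfl

/-- the outer element -/
def sT (l : ℕ) : T (2 * l) := ⟨1, 0, false, false⟩

theorem s_phiT_a (i : ZMod (2 * l)) : sT l * phiT l (.a i) * (sT l)⁻¹ = phiT l (.a i) := by
  rw [phiT_a, sT, inv_mk, mul_mk, mul_mk]
  simp only [sg_false, cond_false, one_mul, Bool.xor_false]
  congr 1 <;> ring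

theorem s_psiT_a (i : ZMod (2 * l)) : sT l * psiT l (.a i) * (sT l)⁻¹ = psiT l (.a i) := by
  rw [psiT_a, sT, inv_mk, mul_mk, mul_mk]
  simp only [sg_false, cond_false, one_mul, Bool.xor_false]
  congr 1 <;> ring

theorem s_phiT_xa (i : ZMod (2 * l)) : sT l * phiT l (.xa i) * (sT l)⁻¹ = phiT l (.xa (i - 1)) := by
  rw [phiT_xa, phiT_xa, sT, inv_mk, mul_mk, mul_mk]
  simp only [sg_false, sg_true, cond_false, cond_true, one_mul, Bool.xor_false, Bool.false_xor]
  congr 1 <;> ring

theorem s_psiT_xa (i : ZMod (2 * l)) : sT l * psiT l (.xa i) * (sT l)⁻¹ = psiT l (.xa (i - 1)) := by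
  rw [psiT_xa, psiT_xa, sT, inv_mk, mul_mk, mul_mk]
  simp only [sg_false, cond_false, cond_true, one_mul, Bool.xor_false, Bool.false_xor]
  congr 1 <;> ring

theorem cases_even [NeZero l] (hl : 2 ∣ l) (p : T (2 * l)) (hp : par l p.i = par l p.j) :
    ∃ x y, p = phiT l x * psiT l y := by
  have hll : par l (l : ZMod (2 * l)) = 0 := by
    rw [par_natCast, ZMod.natCast_eq_zero_iff]
    exact hl
  have h0 := half_add_half l
  obtain ⟨i, j, e, d⟩ := p
  simp only at hp
  cases e <;> cases d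
  · obtain ⟨n, hn⟩ := exists_half l (i - j) (by rw [map_sub, hp, sub_self])
    refine ⟨.a (i - n), .a n, ?_⟩
    rw [phiT_a, psiT_a, mul_mk]
    simp only [sg_false, cond_false, one_mul, Bool.xor_false]
    congr 1
    · ring
    · linear_combination -hn
  · obtain ⟨n, hn⟩ := exists_half l (j - i + l) (by rw [map_add, map_sub, hp, sub_self, hll, add_zero])
    refine ⟨.a (j - n), .xa n, ?_⟩
    rw [phiT_a, psiT_xa, mul_mk]
    simp only [sg_false, cond_false, one_mul, Bool.xor_false, Bool.false_xor]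
    congr 1
    · linear_combination -hn
    · ring
  · obtain ⟨n, hn⟩ := exists_half l (j - i) (by rw [map_sub, hp, sub_self])
    refine ⟨.xa (-i - n + l), .xa n, ?_⟩
    rw [phiT_xa, psiT_xa, mul_mk]
    simp only [sg_true, cond_true, Bool.xor_false, Bool.xor_true, Bool.not_true]
    congr 1
    · linear_combination (0 : ZMod (2 * l)) * h0
    · linear_combination hn + h0
  · obtain ⟨n, hn⟩ := exists_half l (i - j - l) (by rw [map_sub, map_sub, hp, sub_self, hll, sub_zero])
    refine ⟨.xa (-j - n), .a n, ?_⟩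
    rw [phiT_xa, psiT_a, mul_mk]
    simp only [sg_true, cond_true, Bool.xor_false]
    congr 1
    · linear_combination hn
    · ring

theorem cases_all [NeZero l] (hl : 2 ∣ l) (p : T (2 * l)) :
    ∃ x y, p = phiT l x * psiT l y ∨ p = phiT l x * psiT l y * sT l := by
  by_cases hp : par l p.i = par l p.j
  · obtain ⟨x, y, h⟩ := cases_even hl p hp
    exact ⟨x, y, Or.inl h⟩
  · have h1 : par l (p * (sT l)⁻¹).i = par l (p * (sT l)⁻¹).j := by
      have key : ∀ u v : ZMod 2, u ≠ v → u - 1 = v ∧ u + 1 = v ∧ u = v - 1 ∧ u = v + 1 := by decide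
      obtain ⟨i, j, e, d⟩ := p
      simp only at hp
      obtain ⟨k1, k2, k3, k4⟩ := key _ _ hp
      rw [sT, inv_mk, mul_mk]
      cases e <;> cases d <;>
        simp only [sg_true, sg_false, cond_true, cond_false, one_mul, mul_zero, add_zero, mul_one,
          neg_mul, neg_neg, map_add, map_neg, map_one]
      · linear_combination k1
      · linear_combination k3
      · linear_combination k2
      · linear_combination k4
    obtain ⟨x, y, h⟩ := cases_even hl _ h1
    exact ⟨x, y, Or.inr (by rw [← h]; group)⟩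

theorem lam_phiT (hl : 2 ∣ l) (x : QuaternionGroup l) : lam l 1 0 0 (phiT l x) = 1 := by
  have hll : par l (l : ZMod (2 * l)) = 0 := by
    rw [par_natCast, ZMod.natCast_eq_zero_iff]
    exact hl
  have key : ∀ u : ZMod 2, u + u = 0 := by decide
  rw [lam_eq_one_iff]
  rcases x with i | i
  · rw [phiT_a]
    simp only [one_mul, zero_mul, add_zero]
    exact key _
  · rw [phiT_xa]
    simp only [one_mul, zero_mul, add_zero, map_add, hll]
    exact key _

theorem lam_psiT (hl : 2 ∣ l) (x : QuaternionGroup l) : lam l 1 0 0 (psiT l x) = 1 := by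
  have hll : par l (l : ZMod (2 * l)) = 0 := by
    rw [par_natCast, ZMod.natCast_eq_zero_iff]
    exact hl
  have key : ∀ u : ZMod 2, u + u = 0 := by decide
  rw [lam_eq_one_iff]
  rcases x with i | i
  · rw [psiT_a]
    simp only [one_mul, zero_mul, add_zero, par_neg]
    exact key _
  · rw [psiT_xa]
    simp only [one_mul, zero_mul, add_zero, map_add, hll, par_neg]
    exact key _

theorem par_eq_of_lam {p : T (2 * l)} (h : lam l 1 0 0 p = 1) : par l p.i = par l p.j := by
  rw [lam_eq_one_iff] at h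
  simp only [one_mul, zero_mul, add_zero] at h
  have key : ∀ u v : ZMod 2, u + v = 0 → u = v := by decide
  exact key _ _ h

theorem eq_one_or [NeZero l] {x y : QuaternionGroup l} (h : phiT l x = psiT l y) :
    (x = 1 ∨ x = .a (l : ZMod (2 * l))) ∧ (y = 1 ∨ y = .a (l : ZMod (2 * l))) := by
  have h1 : phiT l x ∈ Q1 l := by rw [← phiT_range]; exact ⟨x, rfl⟩
  have h2 : phiT l x ∈ Q2 l := by rw [← psiT_range, h]; exact ⟨y, rfl⟩
  rcases eq_of_mem_both h1 h2 with h3 | h3
  · exact ⟨Or.inl (phiT_inj (by rw [h3, map_one])), Or.inl (psiT_inj (by rw [← h, h3, map_one]))⟩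
  · exact ⟨Or.inr (phiT_inj (by rw [h3, phiT_z])), Or.inr (psiT_inj (by rw [← h, h3, psiT_z]))⟩

/-- the configuration from the model -/
theorem conf {X : Type*} [Group X] [Finite X] (k : ℕ) (hk : 1 ≤ k) (hO : Cfsg.oddCore X = ⊥) (S : Sylow 2 X)
    (f : T (2 * 2 ^ k) →* X) (hf : Function.Injective f) (hr : f.range = (S : Subgroup X))
    (hz : ∀ x, x * f (z (2 ^ k)) = f (z (2 ^ k)) * x)
    (h1 : ∀ g p q, p ∈ Q1 (2 ^ k) → g * f p * g⁻¹ = f q → q ∈ Q1 (2 ^ k))
    (h2 : ∀ g p q, p ∈ Q2 (2 ^ k) → g * f p * g⁻¹ = f q → q ∈ Q2 (2 ^ k))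
    (hinv : ∀ p, p * p = 1 → p ≠ 1 → p ≠ z (2 ^ k) → par (2 ^ k) p.i = par (2 ^ k) p.j →
      ∃ g, g * f p * g⁻¹ = f (a' (2 ^ k))) :
    Conf k S (f (sT (2 ^ k))) (f.comp (phiT (2 ^ k))) (f.comp (psiT (2 ^ k))) := by
  have hne : NeZero (2 ^ k) := ⟨by positivity⟩
  have hl : 2 ∣ 2 ^ k := dvd_pow_self 2 (by omega)
  have hmem : ∀ p, f p ∈ (S : Subgroup X) := fun p => by rw [← hr]; exact ⟨p, rfl⟩
  have hinv' : ∀ x y : QuaternionGroup (2 ^ k), x ^ 2 = .a ((2 ^ k : ℕ) : ZMod (2 * 2 ^ k)) →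
      y ^ 2 = .a ((2 ^ k : ℕ) : ZMod (2 * 2 ^ k)) →
      ∃ g, g * (f (phiT _ x) * f (psiT _ y)) * g⁻¹ = f (a' (2 ^ k)) := by
    intro x y hx hy
    have hx1 : x ≠ 1 ∧ x ≠ .a ((2 ^ k : ℕ) : ZMod (2 * 2 ^ k)) := by
      have hz1 : z (2 ^ k) ≠ 1 := z_ne
      constructor
      · rintro rfl
        rw [one_pow] at hx
        apply hz1
        rw [← phiT_z, ← hx, map_one]
      · rintro rfl
        have h3 := congrArg (phiT (2 ^ k)) hx
        rw [map_pow, phiT_z, z_sq] at h3
        exact hz1 h3.symm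
    have hcomm : phiT (2 ^ k) x * psiT (2 ^ k) y = psiT (2 ^ k) y * phiT (2 ^ k) x :=
      comm_of_mem (by rw [← phiT_range]; exact ⟨x, rfl⟩) (by rw [← psiT_range]; exact ⟨y, rfl⟩)
    obtain ⟨g, hg⟩ := hinv (phiT (2 ^ k) x * psiT (2 ^ k) y) (by
      rw [← pow_two, Commute.mul_pow hcomm, ← map_pow, ← map_pow, hx, hy, phiT_z, psiT_z, ← pow_two, z_sq]) (by
      intro h3
      have h4 : phiT (2 ^ k) x = psiT (2 ^ k) y⁻¹ := by rw [map_inv]; exact eq_inv_of_mul_eq_one_left h3
      rcases (eq_one_or h4).1 with h5 | h5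
      · exact hx1.1 h5
      · exact hx1.2 h5) (by
      intro h3
      have h4 : phiT (2 ^ k) x = psiT (2 ^ k) (.a ((2 ^ k : ℕ) : ZMod (2 * 2 ^ k)) * y⁻¹) := by
        rw [map_mul, psiT_z, map_inv, ← h3, mul_inv_cancel_right]
      rcases (eq_one_or h4).1 with h5 | h5
      · exact hx1.1 h5
      · exact hx1.2 h5) (par_eq_of_lam (by rw [map_mul, lam_phiT hl, lam_psiT hl, one_mul]))
    exact ⟨g, by rw [← map_mul]; exact hg⟩
  exact
  { hk := hk
    hO := hO
    inj₁ := hf.comp phiT_inj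
    inj₂ := hf.comp psiT_inj
    mem₁ := fun x => hmem _
    mem₂ := fun x => hmem _
    t_eq := by rw [MonoidHom.comp_apply, MonoidHom.comp_apply, phiT_z, psiT_z]
    central := fun g => by rw [MonoidHom.comp_apply, phiT_z]; exact hz g
    comm := fun x y => by
      rw [MonoidHom.comp_apply, MonoidHom.comp_apply, ← map_mul, ← map_mul]
      rw [comm_of_mem (by rw [← phiT_range]; exact ⟨x, rfl⟩) (by rw [← psiT_range]; exact ⟨y, rfl⟩)]
    inf₁ := fun x y h => (eq_one_or (hf h)).1
    inf₂ := fun x y h => (eq_one_or (hf h)).2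
    s_mem := hmem _
    s_a₁ := fun i => by
      rw [MonoidHom.comp_apply, ← map_inv, ← map_mul, ← map_mul, s_phiT_a]
    s_a₂ := fun i => by
      rw [MonoidHom.comp_apply, ← map_inv, ← map_mul, ← map_mul, s_psiT_a]
    s_xa₁ := fun i => by
      rw [MonoidHom.comp_apply, MonoidHom.comp_apply, ← map_inv, ← map_mul, ← map_mul, s_phiT_xa]
    s_xa₂ := fun i => by
      rw [MonoidHom.comp_apply, MonoidHom.comp_apply, ← map_inv, ← map_mul, ← map_mul, s_psiT_xa]
    cases := by
      intro g hg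
      rw [← hr] at hg
      obtain ⟨p, rfl⟩ := hg
      obtain ⟨x, y, h | h⟩ := cases_all hl p
      · exact ⟨x, y, Or.inl (by rw [h, map_mul]; rfl)⟩
      · exact ⟨x, y, Or.inr (by rw [h, map_mul, map_mul]; rfl)⟩
    closed₁ := by
      intro g x h
      rw [← hr] at h
      obtain ⟨q, hq⟩ := h
      have h3 := h1 g (phiT _ x) q (by rw [← phiT_range]; exact ⟨x, rfl⟩) hq.symm
      rw [← phiT_range] at h3
      obtain ⟨y, rfl⟩ := h3
      exact ⟨y, hq⟩
    closed₂ := by
      intro g x h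
      rw [← hr] at h
      obtain ⟨q, hq⟩ := h
      have h3 := h2 g (psiT _ x) q (by rw [← psiT_range]; exact ⟨x, rfl⟩) hq.symm
      rw [← psiT_range] at h3
      obtain ⟨y, rfl⟩ := h3
      exact ⟨y, hq⟩
    inv := by
      intro x y x' y' hx hy hx' hy'
      obtain ⟨g, hg⟩ := hinv' x y hx hy
      obtain ⟨g', hg'⟩ := hinv' x' y' hx' hy'
      refine ⟨g'⁻¹ * g, ?_⟩
      rw [MonoidHom.comp_apply, MonoidHom.comp_apply, MonoidHom.comp_apply, MonoidHom.comp_apply]
      calc g'⁻¹ * g * (f (phiT _ x) * f (psiT _ y)) * (g'⁻¹ * g)⁻¹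
          = g'⁻¹ * (g * (f (phiT _ x) * f (psiT _ y)) * g⁻¹) * g' := by group
        _ = f (phiT _ x') * f (psiT _ y') := by rw [hg, ← hg']; group }

end Cfsg.Agent.ClassificationK.GTwoModelConf
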