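import Cfsg.Agent.ClassificationK.GTwoQuat
import Cfsg.Agent.Lib.GoldschmidtFusion

/-!
In a finite group with Sylow 2-subgroup the model group `T (2 l)` of type `G₂(q)` in which the involution `z` is
central, the two quaternion factors `Q₁`, `Q₂` are strongly closed.
-/

set_option autoImplicit false

namespace Cfsg.Agent.ClassificationK.GTwoClosed

open Cfsg.Agent.ClassificationK.GTwoModel Cfsg.Agent.ClassificationK.GTwoModel.T
open Cfsg.Agent.ClassificationK.GTwoQuat
open Cfsg.Agent.Lib.GoldschmidtFusion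
open Subgroup

/-- a subgroup containing the elements of odd order of `N` and a Sylow 2-subgroup of `N` contains `N` -/
theorem le_of_odd {G : Type*} [Group G] [Finite G] (N M P : Subgroup G) (hPM : P ≤ M)
    (hP : ¬ 2 ∣ P.relIndex N) (h : ∀ g ∈ N, Odd (orderOf g) → g ∈ M) : N ≤ M := by
  by_contra hcon
  have h1 : M.relIndex N ≠ 1 := fun h' => hcon (relIndex_eq_one.1 h')
  obtain ⟨q, hq, hqd⟩ := Nat.exists_prime_and_dvd h1
  have : Fact q.Prime := ⟨hq⟩
  rcases hq.eq_two_or_odd' with rfl | hodd
  · exact hP (hqd.trans (relIndex_dvd_of_le_left N hPM))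
  · obtain ⟨Q⟩ : Nonempty (Sylow q N) := inferInstance
    have h2 : (Q : Subgroup N).map N.subtype ≤ M := by
      rintro _ ⟨x, hx, rfl⟩
      refine h _ x.2 ?_
      have h3 : IsPGroup q (Q : Subgroup N) := Q.isPGroup'
      obtain ⟨k, hk⟩ := IsPGroup.iff_orderOf.1 h3 ⟨x, hx⟩
      have h4 : orderOf ((⟨x, hx⟩ : (Q : Subgroup N)) : N) = q ^ k := by rw [orderOf_coe, hk]
      have h5 : orderOf (N.subtype x) = q ^ k := by
        rw [orderOf_injective _ N.subtype_injective]
        exact h4
      rw [h5]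
      exact hodd.pow
    have h6 : q ∣ (Q : Subgroup N).index := by
      have h7 := relIndex_dvd_of_le_left N h2
      have h8 : ((Q : Subgroup N).map N.subtype).relIndex N = (Q : Subgroup N).index := by
        have h9 := relIndex_map_map_of_injective (f := N.subtype) (Q : Subgroup N) ⊤ N.subtype_injective
        rwa [relIndex_top_right, ← MonoidHom.range_eq_map, range_subtype] at h9
      rw [h8] at h7
      exact hqd.trans h7
    exact Q.not_dvd_index h6

variable {X : Type*} [Group X] [Finite X] {l : ℕ}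

/-- the abstract strong closure argument: `K` a normal subgroup of `T (2 l)` containing `z` which is preserved by
all automorphisms of odd order of the subgroups containing `c₁`, `c₂`. -/
theorem closed_aux [NeZero l] (S : Sylow 2 X) (f : T (2 * l) →* X) (hf : Function.Injective f)
    (hr : f.range = (S : Subgroup X)) (hz : ∀ x, x * f (z l) = f (z l) * x) (K : Subgroup (T (2 * l)))
    [K.Normal] (hzK : z l ∈ K)
    (hK : ∀ (R : Subgroup (T (2 * l))) (α : MulAut R) (m : ℕ), Odd m → α ^ m = 1 → c1 l ∈ R → c2 l ∈ R →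
      (∀ r : R, (r : T (2 * l)) = z l → (α r : T (2 * l)) = z l) →
      ∀ r : R, (r : T (2 * l)) ∈ K → (α r : T (2 * l)) ∈ K)
    (hc1 : ∀ s : T (2 * l), s * c1 l = c1 l * s ∨ s * c1 l = z l * (c1 l * s))
    (hc2 : ∀ s : T (2 * l), s * c2 l = c2 l * s ∨ s * c2 l = z l * (c2 l * s))
    {g : X} {p q : T (2 * l)} (hp : p ∈ K) (hg : g * f p * g⁻¹ = f q) : q ∈ K := by
  set Z : Subgroup X := zpowers (f (z l)) with hZ
  have hZn : Z.Normal := by
    refine ⟨fun n hn g => ?_⟩
    obtain ⟨k, rfl⟩ := mem_zpowers_iff.1 hn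
    have h1 : Commute g (f (z l) ^ k) := Commute.zpow_right (hz g) k
    rw [h1.eq, mul_inv_cancel_right]
    exact hn
  set π : X →* X ⧸ Z := QuotientGroup.mk' Z with hπ
  have hπs : Function.Surjective π := QuotientGroup.mk'_surjective Z
  have hker : ∀ x : X, π x = 1 ↔ x ∈ Z := fun x => by rw [hπ, QuotientGroup.mk'_apply, QuotientGroup.eq_one_iff]
  have hZT : ∀ x ∈ Z, ∃ k : ℤ, x = f (z l ^ k) := by
    intro x hx
    obtain ⟨k, rfl⟩ := mem_zpowers_iff.1 hx
    exact ⟨k, by rw [map_zpow]⟩
  have hZc : ∀ x ∈ Z, ∀ y : X, y * x = x * y := by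
    intro x hx y
    obtain ⟨k, rfl⟩ := mem_zpowers_iff.1 hx
    exact Commute.zpow_right (hz y) k
  -- equality in the quotient
  have hπeq : ∀ (r r' : T (2 * l)), π (f r) = π (f r') → ∃ k : ℤ, r = r' * z l ^ k := by
    intro r r' h
    have h1 : π ((f r')⁻¹ * f r) = 1 := by rw [map_mul, map_inv, h, inv_mul_cancel]
    obtain ⟨k, hk⟩ := hZT _ ((hker _).1 h1)
    refine ⟨k, hf ?_⟩
    rw [map_mul, ← hk, mul_inv_cancel_left]
  have hmemK : ∀ (x : X) (r : T (2 * l)), π x = π (f r) → ∃ k : ℤ, x = f (r * z l ^ k) := by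
    intro x r h
    have h1 : π ((f r)⁻¹ * x) = 1 := by rw [map_mul, map_inv, h, inv_mul_cancel]
    obtain ⟨k, hk⟩ := hZT _ ((hker _).1 h1)
    exact ⟨k, by rw [map_mul, ← hk, mul_inv_cancel_left]⟩
  set P : Sylow 2 (X ⧸ Z) := Sylow.mapSurjective hπs S with hP
  have hPm : ∀ x ∈ (P : Subgroup (X ⧸ Z)), ∃ r : T (2 * l), π (f r) = x := by
    intro x hx
    rw [hP, Sylow.coe_mapSurjective, ← hr] at hx
    obtain ⟨_, ⟨r, rfl⟩, rfl⟩ := hx
    exact ⟨r, rfl⟩
  have hPm' : ∀ r : T (2 * l), π (f r) ∈ (P : Subgroup (X ⧸ Z)) := by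
    intro r
    rw [hP, Sylow.coe_mapSurjective, ← hr]
    exact ⟨_, ⟨r, rfl⟩, rfl⟩
  set D : Subgroup (X ⧸ Z) := (K.map f).map π with hD
  have hDm : ∀ r : T (2 * l), π (f r) ∈ D ↔ r ∈ K := by
    intro r
    constructor
    · rintro ⟨_, ⟨s, hs, rfl⟩, h⟩
      obtain ⟨k, rfl⟩ := hπeq r s h.symm
      exact mul_mem hs (zpow_mem hzK k)
    · intro hr
      exact ⟨_, ⟨r, hr, rfl⟩, rfl⟩
  -- the key: normalizers of the relevant subgroups preserve `D`
  have key : ∀ R' : Subgroup (X ⧸ Z), R' ≤ P →
      ¬ 2 ∣ ((P : Subgroup (X ⧸ Z)) ⊓ normalizer (R' : Set (X ⧸ Z))).relIndex (normalizer (R' : Set (X ⧸ Z))) →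
      centralizer (R' : Set (X ⧸ Z)) ⊓ P ≤ R' →
      ∀ g ∈ normalizer (R' : Set (X ⧸ Z)), ∀ x ∈ R', x ∈ D → g * x * g⁻¹ ∈ D := by
    intro R' hR'P hR'f hR'c
    set R : Subgroup (T (2 * l)) := (R'.comap π).comap f with hR
    have hRm : ∀ r : T (2 * l), r ∈ R ↔ π (f r) ∈ R' := fun r => Iff.rfl
    have hcent : ∀ c : T (2 * l), (∀ s : T (2 * l), s * c = c * s ∨ s * c = z l * (c * s)) → c ∈ R := by
      intro c hc
      rw [hRm]
      refine hR'c ⟨?_, hPm' c⟩
      change _ ∈ centralizer _
      rw [mem_centralizer_iff]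
      intro x hx
      obtain ⟨s, rfl⟩ := hPm x (hR'P hx)
      rw [← map_mul, ← map_mul, ← map_mul, ← map_mul]
      rcases hc s with h | h
      · rw [h]
      · rw [h, map_mul, map_mul]
        have : π (f (z l)) = 1 := (hker _).2 (mem_zpowers _)
        rw [this, one_mul]
    have h1 : c1 l ∈ R := hcent _ hc1
    have h2 : c2 l ∈ R := hcent _ hc2
    have hzR : z l ∈ R := by
      rw [hRm, (hker _).2 (mem_zpowers _)]
      exact one_mem _
    -- `D ∩ R'` is normalized by the Sylow subgroup
    have hle : normalizer (R' : Set (X ⧸ Z)) ≤ normalizer ((R' ⊓ D : Subgroup (X ⧸ Z)) : Set (X ⧸ Z)) := by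
      refine le_of_odd _ _ _ ?_ hR'f ?_
      · intro x hx
        obtain ⟨s, rfl⟩ := hPm x hx.1
        have hxN : π (f s) ∈ normalizer (R' : Set (X ⧸ Z)) := hx.2
        rw [mem_normalizer_iff] at hxN ⊢
        intro y
        constructor
        · rintro ⟨hy1, hy2⟩
          refine ⟨(hxN y).1 hy1, ?_⟩
          obtain ⟨r, rfl⟩ := hPm y (hR'P hy1)
          rw [← map_inv, ← map_inv, ← map_mul, ← map_mul, ← map_mul, ← map_mul]
          have := (hDm r).1 hy2
          exact (hDm _).2 (Normal.conj_mem inferInstance r this s)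
        · rintro ⟨hy1, hy2⟩
          have hy3 := (hxN y).2 hy1
          refine ⟨hy3, ?_⟩
          obtain ⟨r, rfl⟩ := hPm y (hR'P hy3)
          rw [← map_inv, ← map_inv, ← map_mul, ← map_mul, ← map_mul, ← map_mul] at hy2
          have h3 := (hDm _).1 hy2
          have h4 := Normal.conj_mem (H := K) inferInstance _ h3 s⁻¹
          refine (hDm _).2 ?_
          have h5 : s⁻¹ * (s * r * s⁻¹) * s⁻¹⁻¹ = r := by group
          rwa [h5] at h4
      · -- elements of odd order
        intro g' hg' hodd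
        set m := orderOf g' with hm
        obtain ⟨g, rfl⟩ := hπs g'
        have hgm : g ^ m ∈ Z := by
          rw [← hker, map_pow, hm, pow_orderOf_eq_one]
        have hgN : g ∈ normalizer ((R.map f : Subgroup X) : Set X) := by
          rw [mem_normalizer_iff] at hg'
          have hRf : ∀ x : X, π x ∈ R' ↔ x ∈ R.map f := by
            intro x
            constructor
            · intro hx
              obtain ⟨r, hr'⟩ := hPm _ (hR'P hx)
              obtain ⟨k, rfl⟩ := hmemK x r hr'.symm
              refine ⟨_, ?_, rfl⟩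
              have : r ∈ R := by
                rw [hRm, hr']
                exact hx
              exact mul_mem this (zpow_mem hzR k)
            · rintro ⟨r, hr', rfl⟩
              exact hr'
          rw [mem_normalizer_iff]
          intro x
          rw [← hRf, ← hRf, map_mul, map_mul, map_inv]
          exact hg' (π x)
        set e : R ≃* R.map f := R.equivMapOfInjective f hf with he
        set α : MulAut R := (MulAut.congr e).symm (normalizerMonoidHom (R.map f) ⟨g, hgN⟩) with hα
        have hαapp : ∀ r : R, f (α r : T (2 * l)) = g * f r * g⁻¹ := by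
          intro r
          have h3 : e (α r) = (normalizerMonoidHom (R.map f) ⟨g, hgN⟩) (e r) := by
            rw [hα]
            simp [MulAut.congr]
          have h4 := congrArg Subtype.val h3
          rw [he, coe_equivMapOfInjective_apply] at h4
          rw [h4]
          rfl
        have hαm : α ^ m = 1 := by
          refine MulEquiv.ext fun r => Subtype.ext (hf ?_)
          have key2 : ∀ k : ℕ, f ((α ^ k) r : T (2 * l)) = g ^ k * f r * (g ^ k)⁻¹ := by
            intro k
            induction k with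
            | zero => simp
            | succ k ih =>
              rw [pow_succ' α, MulAut.mul_apply, hαapp, ih, pow_succ' g, mul_inv_rev]
              simp only [mul_assoc]
          have h3 := key2 m
          rw [← hZc _ hgm, mul_inv_cancel_right] at h3
          rw [h3, MulAut.one_apply]
        have hαz : ∀ r : R, (r : T (2 * l)) = z l → (α r : T (2 * l)) = z l := by
          intro r hr'
          apply hf
          rw [hαapp, hr', hz, mul_inv_cancel_right]
        have hpres := hK R α m hodd hαm h1 h2 hαz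
        have : Finite (X ⧸ Z) := inferInstance
        refine mem_normalizer_iff_map_conj.2 (map_conj_le_of_le_normalizer (A := R' ⊓ D) ?_)
        rintro _ ⟨y, ⟨hy1, hy2⟩, rfl⟩
        obtain ⟨r, rfl⟩ := hPm y (hR'P hy1)
        have h3 := hpres ⟨r, hy1⟩ ((hDm r).1 hy2)
        have h4 := hαapp ⟨r, hy1⟩
        have h5 : π (f (α ⟨r, hy1⟩ : T (2 * l))) = (MulAut.conj (π g)).toMonoidHom (π (f r)) := by
          rw [h4, map_mul, map_mul, map_inv]
          rfl
        rw [← h5]
        exact ⟨(α ⟨r, hy1⟩).2, (hDm _).2 h3⟩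
    intro g hg x hx hxD
    have := hle hg
    rw [mem_normalizer_iff] at this
    exact ((this x).1 ⟨hx, hxD⟩).2
  -- the fusion theorem
  have hgπ : π g * π (f p) * (π g)⁻¹ = π (f q) := by
    rw [← map_inv, ← map_mul, ← map_mul, hg]
  have hA : zpowers (π (f p)) ≤ (P : Subgroup (X ⧸ Z)) := by
    rw [zpowers_le]
    exact hPm' p
  have hgen := gen_of_conj P (fun R' => R' ≤ P ∧
    ¬ 2 ∣ ((P : Subgroup (X ⧸ Z)) ⊓ normalizer (R' : Set (X ⧸ Z))).relIndex (normalizer (R' : Set (X ⧸ Z))) ∧
      centralizer (R' : Set (X ⧸ Z)) ⊓ P ≤ R') ⟨le_rfl, by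
        rw [inf_eq_left.2 le_normalizer]
        intro hd
        exact P.not_dvd_index (hd.trans (relIndex_dvd_index_of_le le_normalizer)), inf_le_right⟩
    (fun R' h1 h2 h3 _ => ⟨h1.le, h2, h3⟩) hA (g := π g) (by
      apply zpowers_map_conj_le
      rw [hgπ]
      exact hPm' q)
  have hinv := hgen.invariant (fun x => x ∈ D) (by
    rintro R' hR' ⟨-, hR'f, hR'c⟩ g hg x hx
    apply propext
    constructor
    · intro h
      have h1 : g * x * g⁻¹ ∈ R' := (mem_normalizer_iff.1 hg x).1 hx
      have := key R' hR' hR'f hR'c g⁻¹ (inv_mem hg) _ h1 h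
      have h2 : g⁻¹ * (g * x * g⁻¹) * g⁻¹⁻¹ = x := by group
      rwa [h2] at this
    · exact key R' hR' hR'f hR'c g hg x hx) _ (mem_zpowers _)
  rw [hgπ] at hinv
  exact (hDm q).1 (hinv.mpr ((hDm p).2 hp))

theorem comm_c1_or [NeZero l] (hl : 2 ∣ l) (s : T (2 * l)) :
    s * c1 l = c1 l * s ∨ s * c1 l = z l * (c1 l * s) := by
  obtain ⟨i, j, e, d⟩ := s
  have h := hh_add_hh hl
  cases e <;> cases d
  · left
    rw [c1, mul_mk, mul_mk]
    simp only [sg_false, cond_false, Bool.xor_false]
    congr 1 <;> ring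
  · left
    rw [c1, mul_mk, mul_mk]
    simp only [sg_false, cond_false, cond_true, Bool.xor_false, Bool.false_xor]
    congr 1 <;> ring
  · right
    rw [c1, mul_mk, mul_mk, z, mul_mk]
    simp only [sg_false, sg_true, cond_false, Bool.xor_false, Bool.xor_true, Bool.not_false]
    congr 1 <;> linear_combination -h - half_add_half l
  · right
    rw [c1, mul_mk, mul_mk, z, mul_mk]
    simp only [sg_false, sg_true, cond_false, cond_true, Bool.xor_false, Bool.xor_true, Bool.not_false]
    congr 1 <;> linear_combination -h - half_add_half l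

theorem comm_c2_or [NeZero l] (hl : 2 ∣ l) (s : T (2 * l)) :
    s * c2 l = c2 l * s ∨ s * c2 l = z l * (c2 l * s) := by
  obtain ⟨i, j, e, d⟩ := s
  have h := hh_add_hh hl
  cases e <;> cases d
  · left
    rw [c2, mul_mk, mul_mk]
    simp only [sg_false, cond_false, Bool.xor_false]
    congr 1 <;> ring
  · right
    rw [c2, mul_mk, mul_mk, z, mul_mk]
    simp only [sg_false, cond_false, cond_true, Bool.xor_false, Bool.false_xor]
    congr 1
    · linear_combination -h - half_add_half l
    · linear_combination h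
  · right
    rw [c2, mul_mk, mul_mk, z, mul_mk]
    simp only [sg_false, sg_true, cond_false, Bool.xor_false, Bool.xor_true, Bool.not_false]
    congr 1
    · linear_combination -h - half_add_half l
    · linear_combination h
  · left
    rw [c2, mul_mk, mul_mk]
    simp only [sg_false, sg_true, cond_false, cond_true, Bool.xor_false, Bool.xor_true, Bool.not_false]
    congr 1 <;> ring

section

variable [NeZero l] (hl : 2 ∣ l) (S : Sylow 2 X) (f : T (2 * l) →* X) (hf : Function.Injective f)
    (hr : f.range = (S : Subgroup X)) (hz : ∀ x, x * f (z l) = f (z l) * x)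

omit [Finite X] [NeZero l] in
include hf hr in
theorem isPGroup_T : IsPGroup 2 (T (2 * l)) := by
  have h1 : IsPGroup 2 f.range := by
    rw [hr]
    exact S.isPGroup'
  exact h1.of_injective f.rangeRestrict (f.rangeRestrict_injective_iff.2 hf)

include hl hf hr hz

theorem closed1 {g : X} {p q : T (2 * l)} (hp : p ∈ Q1 l) (hg : g * f p * g⁻¹ = f q) : q ∈ Q1 l :=
  closed_aux S f hf hr hz (Q1 l) z_mem_Q1
    (fun _ α _ hm hαm h1 h2 hαz r hr' => pres_Q1 hl α hαz (isPGroup_T S f hf hr) hm hαm h1 h2 r hr')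
    (comm_c1_or hl) (comm_c2_or hl) hp hg

theorem closed2 {g : X} {p q : T (2 * l)} (hp : p ∈ Q2 l) (hg : g * f p * g⁻¹ = f q) : q ∈ Q2 l :=
  closed_aux S f hf hr hz (Q2 l) z_mem_Q2
    (fun _ α _ hm hαm h1 h2 hαz r hr' => pres_Q2 hl α hαz (isPGroup_T S f hf hr) hm hαm h1 h2 r hr')
    (comm_c1_or hl) (comm_c2_or hl) hp hg

end

end Cfsg.Agent.ClassificationK.GTwoClosed
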