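import Cfsg.Agent.ClassificationK.GTwoQuat
import Cfsg.Agent.Lib.GoldschmidtFusion

/-!
If all involutions of a finite group with Sylow 2-subgroup the model group `T (2 l)` of type `G₂(q)` are conjugate, then
the involutions `≠ z` of `Q₁ Q₂` are all conjugate in the centralizer of `z`.
-/

set_option autoImplicit false

namespace Cfsg.Agent.ClassificationK.GTwoInv

open Cfsg.Agent.ClassificationK.GTwoModel Cfsg.Agent.ClassificationK.GTwoModel.T
open Cfsg.Agent.ClassificationK.GTwoQuat
open Cfsg.Agent.Lib.GoldschmidtFusion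
open Subgroup

variable {G : Type*} [Group G] [Finite G] {l : ℕ}

theorem step1 [NeZero l] (S : Sylow 2 G) (f : T (2 * l) →* G) (hf : Function.Injective f)
    (hr : f.range = (S : Subgroup G)) (w c d : T (2 * l)) (hwz : w ≠ z l) (hcon : IsConj (f w) (f (z l)))
    (hc : c * w = w * c) (hd : d * w = w * d) (hcd : c * d * c⁻¹ * d⁻¹ = z l) :
    ∃ g : G, g * f w * g⁻¹ = f (z l) ∧ g * f (z l) * g⁻¹ = f (a' l) := by
  obtain ⟨g0, hg0⟩ := isConj_iff.1 hcon
  set H : Subgroup G := centralizer {f (z l)} with hH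
  have hSH : (S : Subgroup G) ≤ H := by
    rw [← hr]
    rintro _ ⟨s, rfl⟩
    rw [hH, mem_centralizer_singleton_iff, ← map_mul, ← map_mul, z_comm]
  set E : Subgroup G := ((centralizer {w}).map f).map (MulAut.conj g0).toMonoidHom with hE
  have hEH : E ≤ H := by
    rw [hE]
    rintro _ ⟨_, ⟨s, hs, rfl⟩, rfl⟩
    have hs' : s * w = w * s := mem_centralizer_singleton_iff.1 hs
    rw [hH, mem_centralizer_singleton_iff, ← hg0]
    have h2 : f s * f w = f w * f s := by rw [← map_mul, hs', map_mul]
    simp only [MulEquiv.coe_toMonoidHom, MulAut.conj_apply]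
    calc g0 * f s * g0⁻¹ * (g0 * f w * g0⁻¹) = g0 * (f s * f w) * g0⁻¹ := by group
      _ = g0 * f w * g0⁻¹ * (g0 * f s * g0⁻¹) := by rw [h2]; group
  have hSp : IsPGroup 2 (S : Subgroup G) := S.isPGroup'
  have hE2 : IsPGroup 2 E := by
    refine IsPGroup.map (hSp.to_le ?_) _
    rintro _ ⟨s, -, rfl⟩
    rw [← hr]
    exact ⟨s, rfl⟩
  have hSi : ¬ 2 ∣ (S : Subgroup G).relIndex H := by
    intro h
    exact S.not_dvd_index (h.trans (relIndex_dvd_index_of_le hSH))
  obtain ⟨h, hhH, hh⟩ := exists_conj_le_in (p := 2) hSp hSi hEH hE2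
  have hmem : ∀ s : T (2 * l), s * w = w * s → ∃ s' : T (2 * l), f s' = (h * g0) * f s * (h * g0)⁻¹ := by
    intro s hs
    have h1 : (MulAut.conj h).toMonoidHom ((MulAut.conj g0).toMonoidHom (f s)) ∈ (S : Subgroup G) := by
      apply hh
      refine ⟨_, ⟨_, ⟨s, mem_centralizer_singleton_iff.2 hs, rfl⟩, rfl⟩, rfl⟩
    rw [← hr] at h1
    obtain ⟨s', hs'⟩ := h1
    refine ⟨s', ?_⟩
    rw [hs']
    simp only [MulEquiv.coe_toMonoidHom, MulAut.conj_apply, mul_inv_rev, mul_assoc]
  obtain ⟨c', hc'⟩ := hmem c hc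
  obtain ⟨d', hd'⟩ := hmem d hd
  set g1 : G := h * g0 with hg1
  have hg1w : g1 * f w * g1⁻¹ = f (z l) := by
    have h2 : h * f (z l) = f (z l) * h := mem_centralizer_singleton_iff.1 hhH
    calc g1 * f w * g1⁻¹ = h * (g0 * f w * g0⁻¹) * h⁻¹ := by rw [hg1]; group
      _ = f (z l) := by rw [hg0, h2, mul_inv_cancel_right]
  have hz' : f (c' * d' * c'⁻¹ * d'⁻¹) = g1 * f (z l) * g1⁻¹ := by
    rw [map_mul, map_mul, map_mul, map_inv, map_inv, hc', hd', ← hcd, map_mul, map_mul, map_mul, map_inv, map_inv]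
    group
  set z' : T (2 * l) := c' * d' * c'⁻¹ * d'⁻¹ with hz'def
  have hbe : z'.e = false := by
    have : z'.e = xor (xor (xor c'.e d'.e) c'.e) d'.e := rfl
    rw [this]
    generalize c'.e = a
    generalize d'.e = b
    revert a b
    decide
  have hbd : z'.d = false := by
    have : z'.d = xor (xor (xor c'.d d'.d) c'.d) d'.d := rfl
    rw [this]
    generalize c'.d = a
    generalize d'.d = b
    revert a b
    decide
  have hsq : z' ^ 2 = 1 := by
    apply hf
    rw [map_pow, hz', map_one, pow_two]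
    have : f (z l) * f (z l) = 1 := by rw [← map_mul, ← pow_two, z_sq, map_one]
    calc g1 * f (z l) * g1⁻¹ * (g1 * f (z l) * g1⁻¹) = g1 * (f (z l) * f (z l)) * g1⁻¹ := by group
      _ = 1 := by rw [this]; group
  have hne1 : z' ≠ 1 := by
    intro h1
    rw [h1, map_one] at hz'
    apply z_ne (l := l)
    apply hf
    rw [map_one]
    calc f (z l) = g1⁻¹ * (g1 * f (z l) * g1⁻¹) * g1 := by group
      _ = 1 := by rw [← hz']; group
  have hnez : z' ≠ z l := by
    intro h1
    rw [h1] at hz'
    apply hwz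
    apply hf
    have h2 : g1 * f w * g1⁻¹ = g1 * f (z l) * g1⁻¹ := by rw [hg1w]; exact hz'
    exact mul_left_cancel (mul_right_cancel h2)
  have hcases : z' = a' l ∨ z' = b' l := by
    clear_value z'
    obtain ⟨i, j, e, d⟩ := z'
    simp only at hbe hbd
    subst hbe; subst hbd
    rw [sq_mk, one_def, T.mk.injEq] at hsq
    obtain ⟨h5, h6, -, -⟩ := hsq
    simp only [sg_false, cond_false, one_mul] at h5 h6
    rcases two_half l i h5 with rfl | rfl <;> rcases two_half l j h6 with rfl | rfl
    · exact absurd rfl hne1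
    · exact Or.inr rfl
    · exact Or.inl rfl
    · exact absurd rfl hnez
  rcases hcases with h1 | h1
  · exact ⟨g1, hg1w, by rw [← hz', h1]⟩
  · refine ⟨f (u l) * g1, ?_, ?_⟩
    · calc f (u l) * g1 * f w * (f (u l) * g1)⁻¹ = f (u l) * (g1 * f w * g1⁻¹) * (f (u l))⁻¹ := by group
        _ = f (z l) := by rw [hg1w, ← map_mul, ← z_comm, map_mul, mul_inv_cancel_right]
    · calc f (u l) * g1 * f (z l) * (f (u l) * g1)⁻¹ = f (u l) * (g1 * f (z l) * g1⁻¹) * (f (u l))⁻¹ := by group
        _ = f (a' l) := by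
          rw [← hz', h1, ← map_inv, ← map_mul, ← map_mul]
          congr 1
          rw [u, b', a', inv_mk, mul_mk, mul_mk]
          simp

/-- the involutions of `Q₁ Q₂` other than `z` are conjugate to `a'` in the centralizer of `z`. -/
theorem inv_conj [NeZero l] (hl : 2 ∣ l) (S : Sylow 2 G) (f : T (2 * l) →* G) (hf : Function.Injective f)
    (hr : f.range = (S : Subgroup G))
    (hone : ∀ x y : G, orderOf x = 2 → orderOf y = 2 → IsConj x y)
    (p : T (2 * l)) (hp : p * p = 1) (hp1 : p ≠ 1) (hpz : p ≠ z l) (hpQ : par l p.i = par l p.j) :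
    ∃ g : G, g * f (z l) * g⁻¹ = f (z l) ∧ g * f p * g⁻¹ = f (a' l) := by
  have h0 := hh_add_hh hl
  have h00 := half_add_half l
  have hord : ∀ y : T (2 * l), y * y = 1 → y ≠ 1 → orderOf (f y) = 2 := by
    intro y hy hy1
    rw [orderOf_injective f hf]
    exact orderOf_eq_prime (by rw [pow_two, hy]) hy1
  have hzz : orderOf (f (z l)) = 2 := hord _ (by rw [← pow_two, z_sq]) z_ne
  have hc1t : c1 l * t l * (c1 l)⁻¹ * (t l)⁻¹ = z l := by
    rw [c1, t, z, inv_mk, inv_mk, mul_mk, mul_mk, mul_mk]
    simp only [sg_true, sg_false, cond_false, Bool.xor_false, Bool.xor_true, Bool.not_false]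
    congr 1 <;> linear_combination h0
  have ha : a' l ≠ z l := by
    intro h
    rw [a', z, T.mk.injEq] at h
    exact half_ne_zero l h.2.1.symm
  have ha1 : a' l ≠ 1 := by
    intro h
    rw [a', one_def, T.mk.injEq] at h
    exact half_ne_zero l h.1
  have ha2 : a' l * a' l = 1 := by
    rw [a', mul_mk, one_def]
    simp only [sg_false, cond_false, one_mul, Bool.xor_false, add_zero, half_add_half]
  have hneg := neg_half l
  obtain ⟨r0, hr1, hr2⟩ := step1 S f hf hr (a' l) (c1 l) (t l) ha (hone _ _ (hord _ ha2 ha1) hzz)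
    (by
      rw [c1, a', mul_mk, mul_mk]
      simp only [sg_false, cond_false, one_mul, Bool.xor_false]
      congr 1 <;> ring)
    (by
      rw [t, a', mul_mk, mul_mk]
      simp only [sg_false, sg_true, cond_false, one_mul, Bool.xor_false, Bool.xor_true, Bool.not_false]
      congr 1
      · linear_combination hneg
      · ring) hc1t
  suffices h : ∃ c d : T (2 * l), c * p = p * c ∧ d * p = p * d ∧ c * d * c⁻¹ * d⁻¹ = z l by
    obtain ⟨c, d, h1, h2, h3⟩ := h
    obtain ⟨g, hg1, hg2⟩ := step1 S f hf hr p c d hpz (hone _ _ (hord _ hp hp1) hzz) h1 h2 h3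
    refine ⟨r0 * g, ?_, ?_⟩
    · calc r0 * g * f (z l) * (r0 * g)⁻¹ = r0 * (g * f (z l) * g⁻¹) * r0⁻¹ := by group
        _ = f (z l) := by rw [hg2, hr1]
    · calc r0 * g * f p * (r0 * g)⁻¹ = r0 * (g * f p * g⁻¹) * r0⁻¹ := by group
        _ = f (a' l) := by rw [hg1, hr2]
  obtain ⟨i, j, e, d⟩ := p
  rw [mul_mk, one_def, T.mk.injEq] at hp
  obtain ⟨h1, h2, -, -⟩ := hp
  cases e <;> cases d
  · simp only [sg_false, cond_false, one_mul] at h1 h2
    refine ⟨c1 l, t l, ?_, ?_, hc1t⟩
    · rw [c1, mul_mk, mul_mk]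
      simp only [sg_false, cond_false, one_mul, Bool.xor_false]
      congr 1 <;> ring
    · rw [t, mul_mk, mul_mk]
      simp only [sg_false, sg_true, cond_false, one_mul, Bool.xor_false, Bool.xor_true, Bool.not_false]
      congr 1
      · linear_combination -h1
      · linear_combination -h2
  · simp only [sg_false, cond_true, one_mul] at h1 h2
    refine ⟨c1 l, ⟨i, -i, true, false⟩, ?_, ?_, ?_⟩
    · rw [c1, mul_mk, mul_mk]
      simp only [sg_false, cond_false, cond_true, one_mul, Bool.xor_false, Bool.xor_true]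
      congr 1 <;> ring
    · rw [mul_mk, mul_mk]
      simp only [sg_false, sg_true, cond_false, cond_true, one_mul, Bool.xor_false, Bool.xor_true, Bool.not_false,
        Bool.false_xor]
      congr 1
      · linear_combination (0 : ZMod (2 * l)) * h1
      · linear_combination -h1 - h2
    · rw [c1, z, inv_mk, inv_mk, mul_mk, mul_mk, mul_mk]
      simp only [sg_true, sg_false, cond_false, Bool.xor_false, Bool.xor_true, Bool.not_false]
      congr 1 <;> linear_combination h0
  · simp only at hpQ
    obtain ⟨x, hx⟩ := exists_half l (i - j) (by rw [map_sub, hpQ, sub_self])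
    refine ⟨a' l, ⟨x, -x, false, true⟩, ?_, ?_, ?_⟩
    · rw [a', mul_mk, mul_mk]
      simp only [sg_false, sg_true, cond_false, one_mul, Bool.xor_false, Bool.xor_true, Bool.not_false]
      congr 1
      · linear_combination h00
      · ring
    · rw [mul_mk, mul_mk]
      simp only [sg_false, sg_true, cond_false, cond_true, one_mul, Bool.xor_false, Bool.xor_true,
        Bool.false_xor]
      congr 1
      · linear_combination -hx
      · linear_combination hx
    · rw [a', z, inv_mk, inv_mk, mul_mk, mul_mk, mul_mk]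
      simp only [sg_false, cond_false, cond_true, Bool.xor_false, Bool.xor_true, Bool.not_false]
      congr 1
      · ring
      · linear_combination hneg
  · simp only [sg_true, cond_true] at h1 h2
    refine ⟨c2 l, ⟨i, j, true, false⟩, ?_, ?_, ?_⟩
    · rw [c2, mul_mk, mul_mk]
      simp only [sg_false, sg_true, cond_false, cond_true, one_mul, Bool.xor_false, Bool.xor_true, Bool.not_false]
      congr 1 <;> ring
    · rw [mul_mk, mul_mk]
      simp only [sg_true, cond_false, cond_true, Bool.xor_true, Bool.not_true]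
      congr 1
      · linear_combination -h1
      · linear_combination h1
    · rw [c2, z, inv_mk, inv_mk, mul_mk, mul_mk, mul_mk]
      simp only [sg_true, sg_false, cond_false, Bool.xor_false, Bool.xor_true, Bool.not_false]
      congr 1
      · linear_combination h0
      · linear_combination -h0 + hneg

end Cfsg.Agent.ClassificationK.GTwoInv
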