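import Cfsg.Prelude.Def_CaseTheorems
import Cfsg.Agent.Lib.Cores
import Cfsg.Agent.ClassificationK.GTwoClosed
import Cfsg.Agent.ClassificationK.GTwoInv

/-!
Type `G₂(q)`, one class of involutions: the data in the centralizer of the central involution modulo its core.
-/

set_option autoImplicit false

namespace Cfsg.Agent.ClassificationK.GTwoReduce

open Cfsg.Agent.ClassificationK.GTwoModel Cfsg.Agent.ClassificationK.GTwoModel.T
open Cfsg.Agent.ClassificationK.GTwoQuat
open Subgroup

/-- the central involution of `T (2 l)` is `z` -/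
theorem eq_z_of_central {l : ℕ} [NeZero l] (hl : 2 ∣ l) (p : T (2 * l)) (hp : p * p = 1) (hp1 : p ≠ 1)
    (hc : ∀ q, q * p = p * q) : p = z l := by
  have hl0 : 0 < l := Nat.pos_of_ne_zero (NeZero.ne l)
  have hl2 : 2 ≤ l := Nat.le_of_dvd hl0 hl
  have h10 : (1 : ZMod (2 * l)) ≠ 0 := by
    have : Fact (1 < 2 * l) := ⟨by omega⟩
    exact one_ne_zero
  have h20 : (1 : ZMod (2 * l)) + 1 ≠ 0 := by
    intro h
    have h1 : ((2 : ℕ) : ZMod (2 * l)) = 0 := by push_cast; rw [← h]; norm_num
    rw [ZMod.natCast_eq_zero_iff] at h1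
    have := Nat.le_of_dvd (by norm_num) h1
    omega
  obtain ⟨i, j, e, d⟩ := p
  have h1 := hc ⟨1, 0, false, false⟩
  have h2 := hc ⟨0, 0, false, true⟩
  rw [mul_mk, mul_mk, T.mk.injEq] at h1 h2
  rw [mul_mk, one_def, T.mk.injEq] at hp
  cases e <;> cases d
  · simp only [sg_false, cond_false, cond_true, one_mul, Bool.xor_false, Bool.xor_true,
      add_zero, zero_add, and_true, true_and] at h1 h2 hp
    have hij : j = i := h2.1
    subst hij
    rcases two_half l j hp.1 with rfl | rfl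
    · exact absurd rfl hp1
    · rfl
  · exfalso
    simp only [sg_false, cond_false, cond_true, one_mul, add_zero] at h1
    exact h10 (by linear_combination h1.1)
  · exfalso
    simp only [sg_false, sg_true, cond_false, one_mul] at h1
    exact h20 (by linear_combination h1.1)
  · exfalso
    simp only [sg_false, sg_true, cond_false, cond_true, one_mul, mul_zero, add_zero] at h1
    exact h10 (by linear_combination h1.1)

variable {G : Type*} [Group G] [Finite G] {l : ℕ}

theorem reduce [NeZero l] (hl : 2 ∣ l) (S : Sylow 2 G) (e : T (2 * l) ≃* ↥(S : Subgroup G))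
    (hone : ∀ x y : G, orderOf x = 2 → orderOf y = 2 → IsConj x y) (t : G) (ht : orderOf t = 2)
    (htS : t ∈ (S : Subgroup G)) (htZ : ∀ s ∈ (S : Subgroup G), s * t = t * s) :
    ∃ (SX : Sylow 2 (↥(centralizer ({t} : Set G)) ⧸ Cfsg.oddCore ↥(centralizer ({t} : Set G))))
      (f : T (2 * l) →* ↥(centralizer ({t} : Set G)) ⧸ Cfsg.oddCore ↥(centralizer ({t} : Set G))),
      Cfsg.oddCore (↥(centralizer ({t} : Set G)) ⧸ Cfsg.oddCore ↥(centralizer ({t} : Set G))) = ⊥ ∧
      Function.Injective f ∧ f.range = (SX : Subgroup _) ∧ (∀ x, x * f (z l) = f (z l) * x) ∧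
      (∀ g p q, p ∈ Q1 l → g * f p * g⁻¹ = f q → q ∈ Q1 l) ∧
      (∀ g p q, p ∈ Q2 l → g * f p * g⁻¹ = f q → q ∈ Q2 l) ∧
      (∀ p, p * p = 1 → p ≠ 1 → p ≠ z l → par l p.i = par l p.j → ∃ g, g * f p * g⁻¹ = f (a' l)) := by
  set f0 : T (2 * l) →* G := (S : Subgroup G).subtype.comp e.toMonoidHom with hf0
  have hf0i : Function.Injective f0 := (subtype_injective _).comp e.injective
  have hf0r : f0.range = (S : Subgroup G) := by
    rw [hf0, MonoidHom.range_comp, MonoidHom.range_eq_top.2 e.surjective, ← MonoidHom.range_eq_map,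
      range_subtype]
  have htz : t = f0 (z l) := by
    have h1 : t ∈ f0.range := by rw [hf0r]; exact htS
    obtain ⟨p, hp⟩ := h1
    have h2 : p = z l := by
      refine eq_z_of_central hl p ?_ ?_ ?_
      · apply hf0i
        rw [map_mul, hp, map_one, ← pow_two, ← ht, pow_orderOf_eq_one]
      · rintro rfl
        rw [map_one] at hp
        rw [← hp, orderOf_one] at ht
        omega
      · intro q
        apply hf0i
        rw [map_mul, map_mul, hp]
        exact htZ _ (by rw [← hf0r]; exact ⟨q, rfl⟩)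
    rw [← hp, h2]
  set C : Subgroup G := centralizer ({t} : Set G) with hC
  have hSC : (S : Subgroup G) ≤ C := by
    intro s hs
    rw [hC, mem_centralizer_singleton_iff]
    exact htZ s hs
  have hf0C : ∀ p, f0 p ∈ C := fun p => hSC (by rw [← hf0r]; exact ⟨p, rfl⟩)
  set f1 : T (2 * l) →* C := f0.codRestrict C hf0C with hf1
  have hf1c : ∀ p, (f1 p : G) = f0 p := fun p => rfl
  have hf1i : Function.Injective f1 := fun a b h => hf0i (by rw [← hf1c, h, hf1c])
  set SC : Sylow 2 C := S.subtype hSC with hSCd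
  have hf1r : f1.range = (SC : Subgroup C) := by
    rw [hSCd, Sylow.coe_subtype]
    ext x
    rw [mem_subgroupOf, ← hf0r]
    constructor
    · rintro ⟨p, rfl⟩
      exact ⟨p, rfl⟩
    · rintro ⟨p, hp⟩
      exact ⟨p, Subtype.ext hp⟩
  have hON : (Cfsg.oddCore C).Normal := Cfsg.Agent.Lib.Cores.pPrimeCore_normal 2
  set π : C →* C ⧸ Cfsg.oddCore C := QuotientGroup.mk' (Cfsg.oddCore C) with hπ
  have hπs : Function.Surjective π := QuotientGroup.mk'_surjective _
  have hT2 : IsPGroup 2 (T (2 * l)) := GTwoClosed.isPGroup_T S f0 hf0i hf0r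
  have hfi : Function.Injective (π.comp f1) := by
    rw [injective_iff_map_eq_one]
    intro p hp
    rw [MonoidHom.comp_apply, hπ, QuotientGroup.mk'_apply, QuotientGroup.eq_one_iff] at hp
    have h1 : (Nat.card (Cfsg.oddCore C)).Coprime 2 := Cfsg.Agent.Lib.Cores.pPrimeCore_coprime 2
    have h2 : orderOf (f1 p) ∣ Nat.card (Cfsg.oddCore C) := by
      have := orderOf_dvd_natCard (⟨f1 p, hp⟩ : Cfsg.oddCore C)
      rwa [← orderOf_coe] at this
    rw [orderOf_injective f1 hf1i] at h2
    obtain ⟨k, hk⟩ := IsPGroup.iff_orderOf.1 hT2 p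
    rw [hk] at h2
    have h3 : Nat.Coprime (2 ^ k) (Nat.card (Cfsg.oddCore C)) := Nat.Coprime.pow_left _ h1.symm
    have h4 : 2 ^ k = 1 := Nat.eq_one_of_dvd_coprimes h3 dvd_rfl h2
    rw [h4] at hk
    exact orderOf_eq_one_iff.1 hk
  set SX : Sylow 2 (C ⧸ Cfsg.oddCore C) := Sylow.mapSurjective hπs SC with hSX
  have hrX : (π.comp f1).range = (SX : Subgroup (C ⧸ Cfsg.oddCore C)) := by
    rw [hSX, Sylow.coe_mapSurjective, MonoidHom.range_comp, hf1r]
  have hzX : ∀ x, x * (π.comp f1) (z l) = (π.comp f1) (z l) * x := by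
    intro x
    obtain ⟨y, rfl⟩ := hπs x
    rw [MonoidHom.comp_apply, ← map_mul, ← map_mul]
    congr 1
    apply Subtype.ext
    change (y : G) * (f1 (z l) : G) = (f1 (z l) : G) * y
    rw [hf1c, ← htz]
    exact mem_centralizer_singleton_iff.1 y.2
  refine ⟨SX, π.comp f1, Cfsg.Agent.Lib.Cores.pPrimeCore_quotient_pPrimeCore 2, hfi, hrX, hzX, ?_, ?_, ?_⟩
  · intro g p q hp hg
    exact GTwoClosed.closed1 hl SX _ hfi hrX hzX hp hg
  · intro g p q hp hg
    exact GTwoClosed.closed2 hl SX _ hfi hrX hzX hp hg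
  · intro p hp hp1 hpz hpar
    obtain ⟨g, hg1, hg2⟩ := GTwoInv.inv_conj hl S f0 hf0i hf0r hone p hp hp1 hpz hpar
    have hgC : g ∈ C := by
      rw [hC, mem_centralizer_singleton_iff, htz]
      nth_rewrite 2 [← hg1]
      group
    refine ⟨π ⟨g, hgC⟩, ?_⟩
    rw [MonoidHom.comp_apply, MonoidHom.comp_apply, ← map_inv, ← map_mul, ← map_mul]
    congr 1
    exact Subtype.ext hg2

end Cfsg.Agent.ClassificationK.GTwoReduce
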