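import Cfsg.Agent.ClassificationK.GTwoChev

/-!
The Sylow 2-subgroups of `G₂(q)`, `q` odd.
-/

set_option autoImplicit false

namespace Cfsg.Agent.ClassificationK.GTwoSylow

open Cfsg Cfsg.Lie
open Cfsg.Agent.ClassificationK.GTwoModel Cfsg.Agent.ClassificationK.GTwoModel.T

/-- the 2-part of the order of `G₂(q)` -/
theorem factorization_card (q k m : ℕ) (hq : Odd q) (hq1 : 1 < q) (hm : Odd m) (h : q ^ 2 - 1 = 4 * 2 ^ k * m) :
    (q ^ 6 * (q ^ 2 - 1) * (q ^ 6 - 1)).factorization 2 = 2 * (k + 2) := by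
  have h6 : q ^ 6 - 1 = (q ^ 2 - 1) * (q ^ 4 + q ^ 2 + 1) := by
    have h2 : 1 ≤ q ^ 2 := Nat.one_le_pow _ _ (by omega)
    have h3 : 1 ≤ q ^ 6 := Nat.one_le_pow _ _ (by omega)
    zify [h2, h3]
    ring
  have hodd : Odd (q ^ 4 + q ^ 2 + 1) := by
    have h4 : Odd (q ^ 4) := hq.pow
    have h2 : Odd (q ^ 2) := hq.pow
    exact (h4.add_odd h2).add_one
  have hall : q ^ 6 * (q ^ 2 - 1) * (q ^ 6 - 1) = 2 ^ (2 * (k + 2)) * (q ^ 6 * m * m * (q ^ 4 + q ^ 2 + 1)) := by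
    rw [h6, h]
    have : 2 ^ (2 * (k + 2)) = (4 * 2 ^ k) * (4 * 2 ^ k) := by
      rw [two_mul, pow_add, pow_add]
      ring
    rw [this]
    ring
  have hodd2 : Odd (q ^ 6 * m * m * (q ^ 4 + q ^ 2 + 1)) := (((hq.pow).mul hm).mul hm).mul hodd
  rw [hall, Nat.factorization_mul (by positivity) (by rintro h0; rw [h0] at hodd2; exact absurd hodd2 (by decide)),
    Nat.Prime.factorization_pow Nat.prime_two]
  simp only [Finsupp.add_apply, Finsupp.single_eq_same]
  rw [Nat.factorization_eq_zero_of_not_dvd, add_zero]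
  intro hd
  exact (Nat.not_even_iff_odd.2 hodd2) (even_iff_two_dvd.2 hd)

theorem exists_equiv {F : Type*} [Field F] [Fintype F] (hF : Odd (Fintype.card F))
    (hcard : Nat.card ↥(chevG2.group F) =
      Fintype.card F ^ 6 * (Fintype.card F ^ 2 - 1) * (Fintype.card F ^ 6 - 1))
    (P : Sylow 2 ↥(chevG2.group F)) :
    ∃ k : ℕ, 1 ≤ k ∧ Nonempty (T (2 * 2 ^ k) ≃* ↥(P : Subgroup ↥(chevG2.group F))) := by
  have : Fact (Nat.Prime 2) := ⟨Nat.prime_two⟩
  obtain ⟨k, m, hk, hm, hq, hel⟩ := Cfsg.Agent.ClassificationK.GTwoSL.exists_elements F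
    (by rw [Nat.card_eq_fintype_card]; exact hF)
  refine ⟨k, hk, ?_⟩
  have h2 : (2 : F) ≠ 0 := by
    intro h0
    have hc : CharP F 2 := CharTwo.of_one_ne_zero_of_two_eq_zero one_ne_zero h0
    have := FiniteField.even_card_of_char_two (F := F) ((ringChar.eq_iff (R := F)).2 hc)
    have h3 := Nat.odd_iff.1 hF
    omega
  obtain ⟨f, hf⟩ := Cfsg.Agent.ClassificationK.GTwoChev.exists_embedding k hk h2 hel
  rw [Nat.card_eq_fintype_card] at hq
  have hR : Nat.card f.range = 2 ^ (Nat.card ↥(chevG2.group F)).factorization 2 := by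
    have : NeZero (2 * 2 ^ k) := ⟨by positivity⟩
    rw [← Nat.card_congr (MonoidHom.ofInjective hf).toEquiv, card_T, hcard,
      factorization_card _ k m hF Fintype.one_lt_card hm hq, two_mul (k + 2), pow_add, pow_add]
    ring
  let Q : Sylow 2 ↥(chevG2.group F) := Sylow.ofCard f.range hR
  have e1 : T (2 * 2 ^ k) ≃* ↥(Q : Subgroup ↥(chevG2.group F)) := MonoidHom.ofInjective hf
  exact ⟨e1.trans (Sylow.equiv Q P)⟩

end Cfsg.Agent.ClassificationK.GTwoSylow
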