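import Cfsg.Prelude.Def_CaseTheorems
import Cfsg.Agent.Lib.Cores
import Cfsg.Agent.Lib.SylowNormalInf
import Cfsg.Agent.Lib.AutSL2Out
import Cfsg.Agent.TwoFusion.IsolatedCenter

/-!
Two commuting normal subgroups `SL(2,F₁)`, `SL(2,F₂)` of a core-free group with small centralizer contain the commutator
subgroup.
-/

set_option autoImplicit false

namespace Cfsg.Agent.ClassificationK.GTwoCommutator

open Subgroup

variable {X : Type*} [Group X] [Finite X]

/-- In a group without normal subgroup of odd order, a normal subgroup whose Sylow 2-subgroup is central in the whole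
group is contained in the Sylow 2-subgroup. -/
theorem le_of_central (hO : Cfsg.oddCore X = ⊥) (S : Sylow 2 X) (N : Subgroup X) [hN : N.Normal]
    (h : ∀ s ∈ (S : Subgroup X), s ∈ N → s ∈ center X) : N ≤ S := by
  set Z : Subgroup N := ((S : Subgroup X)).subgroupOf N with hZ
  have hZc : Z ≤ center N := by
    intro x hx
    rw [mem_center_iff]
    intro y
    apply Subtype.ext
    have := mem_center_iff.1 (h x (mem_subgroupOf.1 hx) x.2) y
    simpa using this
  have hidx : Odd Z.index := by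
    rw [← Nat.not_even_iff_odd, even_iff_two_dvd]
    exact Cfsg.Agent.Lib.SylowNormalInf.not_dvd_relIndex S N
  have hMO : Cfsg.oddCore N = ⊥ := by
    have h1 := Cfsg.Agent.Lib.Cores.map_subtype_pPrimeCore (G := X) 2 (N := N) hN
    have h2 : (Cfsg.pPrimeCore 2 X) = ⊥ := hO
    rw [h2, inf_bot_eq] at h1
    exact (Subgroup.map_eq_bot_iff_of_injective _ N.subtype_injective).mp h1
  have h3 := Cfsg.Agent.TwoFusion.IsolatedCenter.eq_top_of_central Z hZc
    (Cfsg.Agent.Lib.SylowNormalInf.isPGroup_subgroupOf S N) hidx hMO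
  exact subgroupOf_eq_top.1 h3

omit [Finite X] in
/-- commutators act as inner automorphisms on a normal subgroup isomorphic to `SL(2,F)` -/
theorem inner_of_commutator (L : Subgroup X) [hL : L.Normal] {F : Type*} [Field F] [Finite F]
    (e : ↥L ≃* Matrix.SpecialLinearGroup (Fin 2) F) (x y : X) :
    ∃ s ∈ L, ∀ u ∈ L, (x * y * x⁻¹ * y⁻¹) * u * (x * y * x⁻¹ * y⁻¹)⁻¹ = s * u * s⁻¹ := by
  set φ : X →* MulAut (Matrix.SpecialLinearGroup (Fin 2) F) :=
    (MulAut.congr e).toMonoidHom.comp (MulAut.conjNormal (H := L)) with hφ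
  obtain ⟨s, hs⟩ := Cfsg.Agent.Lib.AutSL2Out.commutator_inner (φ x) (φ y)
  refine ⟨(e.symm s : X), (e.symm s).2, fun u hu => ?_⟩
  have h1 : φ (x * y * x⁻¹ * y⁻¹) = φ x * φ y * (φ x)⁻¹ * (φ y)⁻¹ := by
    rw [map_mul, map_mul, map_mul, map_inv, map_inv]
  have h2 := hs (e ⟨u, hu⟩)
  rw [← h1] at h2
  have h3 : φ (x * y * x⁻¹ * y⁻¹) (e ⟨u, hu⟩) = e (MulAut.conjNormal (x * y * x⁻¹ * y⁻¹) ⟨u, hu⟩) := by
    rw [hφ]
    simp [MulAut.congr]
  rw [h3] at h2
  have h4 := congrArg e.symm h2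
  rw [MulEquiv.symm_apply_apply, map_mul e.symm, map_mul e.symm, map_inv e.symm, MulEquiv.symm_apply_apply] at h4
  have h5 := congrArg Subtype.val h4
  rw [MulAut.conjNormal_apply] at h5
  rw [h5]
  rfl

theorem commutator_le (hO : Cfsg.oddCore X = ⊥) (z : X) (hz : ∀ x, x * z = z * x)
    (S : Sylow 2 X) (L1 L2 : Subgroup X) [L1.Normal] [L2.Normal]
    {F1 : Type*} [Field F1] [Finite F1] (e1 : ↥L1 ≃* Matrix.SpecialLinearGroup (Fin 2) F1)
    {F2 : Type*} [Field F2] [Finite F2] (e2 : ↥L2 ≃* Matrix.SpecialLinearGroup (Fin 2) F2)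
    (h12 : ⁅L1, L2⁆ = ⊥) (hzL : z ∈ L1)
    (hC : ∀ s ∈ (S : Subgroup X), (∀ x ∈ L1, s * x = x * s) → (∀ x ∈ L2, s * x = x * s) → s = 1 ∨ s = z) :
    commutator X ≤ L1 ⊔ L2 := by
  have hcomm : ∀ a ∈ L1, ∀ b ∈ L2, a * b = b * a := by
    intro a ha b hb
    exact ((commutator_eq_bot_iff_le_centralizer.1 h12) ha b hb).symm
  set N : Subgroup X := centralizer (L1 : Set X) ⊓ centralizer (L2 : Set X) with hN
  have hNn : N.Normal := inferInstance
  have hNS : N ≤ S := by
    refine le_of_central hO S N ?_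
    intro s hs hsN
    have h1 := hC s hs (fun x hx => ((mem_centralizer_iff.1 hsN.1) x hx).symm)
      (fun x hx => ((mem_centralizer_iff.1 hsN.2) x hx).symm)
    rw [mem_center_iff]
    rcases h1 with rfl | rfl
    · intro g; simp
    · exact hz
  have hNz : N ≤ L1 := by
    intro n hn
    rcases hC n (hNS hn) (fun x hx => ((mem_centralizer_iff.1 hn.1) x hx).symm)
      (fun x hx => ((mem_centralizer_iff.1 hn.2) x hx).symm) with rfl | rfl
    · exact one_mem _
    · exact hzL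
  rw [commutator_def, Subgroup.commutator_le]
  intro x _ y _
  obtain ⟨s1, hs1, h1⟩ := inner_of_commutator L1 e1 x y
  obtain ⟨s2, hs2, h2⟩ := inner_of_commutator L2 e2 x y
  rw [commutatorElement_def]
  set c : X := x * y * x⁻¹ * y⁻¹ with hc
  have h3 : s1⁻¹ * s2⁻¹ * c ∈ N := by
    constructor
    · change _ ∈ centralizer _
      rw [mem_centralizer_iff]
      intro u hu
      have h4 := h1 u hu
      have h5 : s2 * u = u * s2 := (hcomm u hu s2 hs2).symm
      have h6 : s1 * s2 = s2 * s1 := hcomm _ hs1 _ hs2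
      have h7 : c * u = s1 * u * s1⁻¹ * c := by rw [← h4]; group
      have h8 : s2⁻¹ * (s1 * u * s1⁻¹) = (s1 * u * s1⁻¹) * s2⁻¹ := by
        have : s1 * u * s1⁻¹ ∈ L1 := mul_mem (mul_mem hs1 hu) (inv_mem hs1)
        exact (hcomm _ this _ (inv_mem hs2)).symm
      calc u * (s1⁻¹ * s2⁻¹ * c) = s1⁻¹ * ((s1 * u * s1⁻¹) * s2⁻¹) * c := by group
        _ = s1⁻¹ * (s2⁻¹ * (s1 * u * s1⁻¹)) * c := by rw [h8]
        _ = s1⁻¹ * s2⁻¹ * (s1 * u * s1⁻¹ * c) := by group
        _ = s1⁻¹ * s2⁻¹ * c * u := by rw [← h7]; group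
    · change _ ∈ centralizer _
      rw [mem_centralizer_iff]
      intro u hu
      have h4 := h2 u hu
      have h7 : c * u = s2 * u * s2⁻¹ * c := by rw [← h4]; group
      have h8 : s1⁻¹ * u = u * s1⁻¹ := hcomm _ (inv_mem hs1) _ hu
      calc u * (s1⁻¹ * s2⁻¹ * c) = (u * s1⁻¹) * s2⁻¹ * c := by group
        _ = (s1⁻¹ * u) * s2⁻¹ * c := by rw [h8]
        _ = s1⁻¹ * s2⁻¹ * (s2 * u * s2⁻¹ * c) := by group
        _ = s1⁻¹ * s2⁻¹ * c * u := by rw [← h7]; group
  have h9 : c = s2 * s1 * (s1⁻¹ * s2⁻¹ * c) := by group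
  rw [h9]
  exact mul_mem (mul_mem (mem_sup_right hs2) (mem_sup_left hs1)) (mem_sup_left (hNz h3))

end Cfsg.Agent.ClassificationK.GTwoCommutator
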