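import Cfsg.Agent.ClassificationK.GTwoModel
import Cfsg.Agent.ClassificationK.GTwoConf
import Cfsg.Agent.ClassificationK.GTwoCommutator

/-!
First consequences of the configuration `Conf`: centralizers of the quaternion factors in the Sylow 2-subgroup,
commutators.
-/

set_option autoImplicit false

namespace Cfsg.Agent.ClassificationK.GTwoConfBasic

open Cfsg.Agent.ClassificationK.GTwoConf
open QuaternionGroup Subgroup

/-! ### the quaternion group -/

section Quat

variable {k : ℕ}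

theorem one_ne_zero' (hk : 1 ≤ k) : (1 : ZMod (2 * 2 ^ k)) + 1 ≠ 0 := by
  intro h
  have h1 : ((2 : ℕ) : ZMod (2 * 2 ^ k)) = 0 := by push_cast; rw [← h]; norm_num
  rw [ZMod.natCast_eq_zero_iff] at h1
  have h2 := Nat.le_of_dvd (by norm_num) h1
  have h3 : 2 ^ 1 ≤ 2 ^ k := Nat.pow_le_pow_right (by norm_num) hk
  omega

theorem conj_a (i j : ZMod (2 * 2 ^ k)) :
    (a i : QuaternionGroup (2 ^ k)) * xa j * (a i)⁻¹ = xa (j - (i + i)) := by
  have : (a i : QuaternionGroup (2 ^ k))⁻¹ = a (-i) := rfl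
  rw [this, a_mul_xa, xa_mul_a]
  congr 1
  ring

theorem conj_xa (i j : ZMod (2 * 2 ^ k)) :
    (xa i : QuaternionGroup (2 ^ k)) * xa j * (xa i)⁻¹ = xa (i + i - j) := by
  have : (xa i : QuaternionGroup (2 ^ k))⁻¹ = xa (((2 ^ k : ℕ) : ZMod (2 * 2 ^ k)) + i) := rfl
  rw [this, xa_mul_xa, a_mul_xa]
  congr 1
  ring

theorem conj_xa_a (i j : ZMod (2 * 2 ^ k)) :
    (xa i : QuaternionGroup (2 ^ k)) * a j * (xa i)⁻¹ = a (-j) := by
  have h := GTwoModel.half_add_half (2 ^ k)
  have : (xa i : QuaternionGroup (2 ^ k))⁻¹ = xa (((2 ^ k : ℕ) : ZMod (2 * 2 ^ k)) + i) := rfl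
  rw [this, xa_mul_a, xa_mul_xa]
  congr 1
  linear_combination h

/-- conjugation in the quaternion group preserves the parity of `xa j` -/
theorem conj_par (x : QuaternionGroup (2 ^ k)) (j : ZMod (2 * 2 ^ k)) :
    ∃ j', x * xa j * x⁻¹ = xa j' ∧ GTwoModel.par (2 ^ k) j' = GTwoModel.par (2 ^ k) j := by
  rcases x with i | i
  · exact ⟨_, conj_a i j, by rw [map_sub, GTwoModel.par_double, sub_zero]⟩
  · exact ⟨_, conj_xa i j, by rw [map_sub, GTwoModel.par_double, zero_sub, ← map_neg, GTwoModel.par_neg]⟩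

/-- the centre of the quaternion group -/
theorem eq_of_central (hk : 1 ≤ k) (x : QuaternionGroup (2 ^ k)) (h : ∀ y, x * y = y * x) :
    x = 1 ∨ x = a ((2 ^ k : ℕ) : ZMod (2 * 2 ^ k)) := by
  have hne : NeZero (2 ^ k) := ⟨by positivity⟩
  rcases x with i | i
  · have h1 := h (xa 0)
    rw [a_mul_xa, xa_mul_a] at h1
    have h2 : (0 : ZMod (2 * 2 ^ k)) - i = 0 + i := by injection h1
    rcases GTwoModel.two_half (2 ^ k) i (by linear_combination -h2) with rfl | rfl
    · left; rfl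
    · right; rfl
  · exfalso
    have h1 := h (a 1)
    rw [xa_mul_a, a_mul_xa] at h1
    have h2 : i + 1 = i - 1 := by injection h1
    exact one_ne_zero' hk (by linear_combination h2)

theorem a_half_comm (x : QuaternionGroup (2 ^ k)) :
    x * a ((2 ^ k : ℕ) : ZMod (2 * 2 ^ k)) = a ((2 ^ k : ℕ) : ZMod (2 * 2 ^ k)) * x := by
  have h := GTwoModel.half_add_half (2 ^ k)
  rcases x with i | i
  · rw [a_mul_a, a_mul_a, add_comm]
  · rw [xa_mul_a, a_mul_xa]
    congr 1
    linear_combination h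

theorem a_half_sq : (a ((2 ^ k : ℕ) : ZMod (2 * 2 ^ k)) : QuaternionGroup (2 ^ k)) ^ 2 = 1 := by
  rw [pow_two, a_mul_a, GTwoModel.half_add_half, one_def]

theorem xa_sq' (i : ZMod (2 * 2 ^ k)) : (xa i : QuaternionGroup (2 ^ k)) ^ 2 = a ((2 ^ k : ℕ) : ZMod (2 * 2 ^ k)) := by
  rw [pow_two, xa_mul_xa]
  congr 1
  ring

end Quat

variable {X : Type*} [Group X] [Finite X] {k : ℕ} {P : Sylow 2 X} {s : X} {φ ψ : QuaternionGroup (2 ^ k) →* X}

/-- `C_P(φ.range) = ψ.range` -/
theorem mem_range_of_comm (h : Conf k P s φ ψ) (g : X) (hg : g ∈ (P : Subgroup X))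
    (hc : ∀ x, g * φ x = φ x * g) : ∃ y, g = ψ y := by
  obtain ⟨x, y, e | e⟩ := h.cases g hg
  · have h1 : ∀ x', x * x' = x' * x := by
      intro x'
      apply h.inj₁
      have h2 := hc x'
      rw [e, mul_assoc, ← h.comm, ← mul_assoc, ← mul_assoc, ← map_mul, ← map_mul] at h2
      exact mul_right_cancel h2
    rcases eq_of_central h.hk x h1 with rfl | rfl
    · exact ⟨y, by rw [e, map_one, one_mul]⟩
    · exact ⟨_, by rw [e, h.t_eq, ← map_mul]⟩
  · exfalso
    have h1 := hc (xa 0)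
    have h2 : s * φ (xa 0) = φ (xa (0 - 1)) * s := by rw [← h.s_xa₁]; group
    obtain ⟨j', h3, h4⟩ := conj_par x (0 - 1)
    have h5 : φ (xa j') = φ (xa 0) := by
      have e1 : g * φ (xa 0) = φ (xa j') * g := by
        rw [e]
        calc φ x * ψ y * s * φ (xa 0) = φ x * ψ y * (s * φ (xa 0)) := by group
          _ = φ x * (ψ y * φ (xa (0 - 1))) * s := by rw [h2]; group
          _ = φ x * φ (xa (0 - 1)) * ψ y * s := by rw [← h.comm]; group
          _ = φ (x * xa (0 - 1) * x⁻¹) * (φ x * ψ y * s) := by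
            rw [map_mul, map_mul, map_inv]; group
          _ = φ (xa j') * (φ x * ψ y * s) := by rw [h3]
      rw [e1] at h1
      exact mul_right_cancel h1
    have h6 : (xa j' : QuaternionGroup (2 ^ k)) = xa 0 := h.inj₁ h5
    have h7 : j' = 0 := by injection h6
    rw [h7, map_zero, zero_sub, map_neg, map_one] at h4
    exact absurd h4 (by decide)

/-- the centralizer of both factors in `P` -/
theorem eq_of_comm (h : Conf k P s φ ψ) (g : X) (hg : g ∈ (P : Subgroup X))
    (hc : ∀ x, g * φ x = φ x * g) (hc' : ∀ x, g * ψ x = ψ x * g) : g = 1 ∨ g = Conf.t φ := by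
  obtain ⟨y, rfl⟩ := mem_range_of_comm h g hg hc
  have h1 : ∀ x', y * x' = x' * y := by
    intro x'
    apply h.inj₂
    rw [map_mul, map_mul]
    exact hc' x'
  rcases eq_of_central h.hk y h1 with rfl | rfl
  · left; rw [map_one]
  · right; exact h.t_eq.symm

/-- (A4) the commutator subgroup is contained in the product of the two factors `SL(2, F₁)`, `SL(2, F₂)`. -/
theorem commutator_le (h : Conf k P s φ ψ) (L M : Subgroup X) [L.Normal] [M.Normal]
    (hL : φ.range ≤ L) (hM : ψ.range ≤ M) (hLM : ⁅L, M⁆ = ⊥)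
    {F1 : Type*} [Field F1] [Finite F1] (e1 : ↥L ≃* Matrix.SpecialLinearGroup (Fin 2) F1)
    {F2 : Type*} [Field F2] [Finite F2] (e2 : ↥M ≃* Matrix.SpecialLinearGroup (Fin 2) F2) :
    commutator X ≤ L ⊔ M := by
  refine GTwoCommutator.commutator_le h.hO (Conf.t φ) h.central P L M e1 e2 hLM (hL ⟨_, rfl⟩) ?_
  intro g hg h1 h2
  exact eq_of_comm h g hg (fun x => h1 _ (hL ⟨x, rfl⟩)) (fun x => h2 _ (hM ⟨x, rfl⟩))

end Cfsg.Agent.ClassificationK.GTwoConfBasic
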