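import Cfsg.Prelude.Def_CaseTheorems
import Cfsg.Agent.Lib.Cores
import Cfsg.Agent.Lib.SylowNormalInf
import Cfsg.Agent.TwoFusion.LocalIndex
import Cfsg.Agent.TwoFusion.SLTwoFacts
import Cfsg.Agent.PermutationGroups.AutQuaternion
import Cfsg.Agent.SylowG2.SLTwoThreeRecog
import Cfsg.Agent.ClassificationK.GTwoConf
import Cfsg.Agent.ClassificationK.GTwoConfBasic
import Cfsg.Agent.ClassificationK.GTwoCommutator

/-!
(A3): the case where one of the quaternion factors is normal of order 8; its partner's centralizer is `SL(2,3)`.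
-/

set_option autoImplicit false

namespace Cfsg.Agent.ClassificationK.GTwoCenterCase

open Cfsg.Agent.ClassificationK.GTwoConf Cfsg.Agent.ClassificationK.GTwoConfBasic
open Cfsg.Agent.PermutationGroups.AutQuaternion
open QuaternionGroup Subgroup

/-! ### automorphisms of `Q₈` -/

theorem D1 : ∀ x y : QuaternionGroup 2, good x y = true →
    (∀ g, cand x y (cand x y (cand x y g)) = g ∨ cand x y (cand x y (cand x y g)) = g * a 2) →
    (¬ ∀ g, cand x y g = g ∨ cand x y g = g * a 2) → x ≠ a 1 ∧ x ≠ a 3 := by decide +kernel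

/-- the outer automorphism -/
def sig : QuaternionGroup 2 → QuaternionGroup 2
  | a i => a i
  | xa i => xa (i - 1)

theorem D3 : ∀ x y : QuaternionGroup 2, (good x y = true ∧ (x = xa 0 ∨ x = xa 2)) →
    ¬ ∀ g, (cand x y (cand x y g) = g ∨ cand x y (cand x y g) = g * a 2) ∧
    (cand x y (sig (cand x y (sig g))) = g ∨
      cand x y (sig (cand x y (sig g))) = g * a 2) := by decide +kernel

theorem D4 : ∀ x y : QuaternionGroup 2, good x y = true → (x = a 1 ∨ x = a 3) →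
    ∀ g, cand x y (cand x y g) = g ∨ cand x y (cand x y g) = g * a 2 := by decide +kernel

theorem D5 : ∀ w y : QuaternionGroup 2, w * y * w⁻¹ = y ∨ w * y * w⁻¹ = y * a 2 := by decide +kernel

theorem D6 : ∀ x y : QuaternionGroup 2, good x y = true → x ≠ a 1 → x ≠ a 3 →
    (x = xa 0 ∨ x = xa 1 ∨ x = xa 2 ∨ x = xa 3) := by decide +kernel

theorem D7 : ∀ x : QuaternionGroup 2, (x = xa 0 ∨ x = xa 1 ∨ x = xa 2 ∨ x = xa 3) →
    sig x ≠ x ∧ sig x ≠ x * a 2 ∧ sig x * a 2 ≠ x := by decide +kernel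

/-- an automorphism acting trivially modulo the centre -/
def Tr (ρ : MulAut (QuaternionGroup 2)) : Prop := ∀ x, ρ x = x ∨ ρ x = x * a 2

theorem not_a_of_cube (ρ : MulAut (QuaternionGroup 2)) (h3 : Tr (ρ * ρ * ρ)) (h1 : ¬ Tr ρ) :
    ρ (a 1) ≠ a 1 ∧ ρ (a 1) ≠ a 3 := by
  apply D1 _ _ (good_map ρ)
  · intro g
    rw [← eq_cand, ← eq_cand, ← eq_cand]
    exact h3 g
  · intro h
    apply h1
    intro g
    rw [eq_cand ρ g]
    exact h g

theorem sq_of_a (ρ : MulAut (QuaternionGroup 2)) (h : ρ (a 1) = a 1 ∨ ρ (a 1) = a 3) : Tr (ρ * ρ) := by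
  intro g
  have := D4 _ _ (good_map ρ) h g
  rw [← eq_cand, ← eq_cand] at this
  exact this

theorem no_two (ρ σ : MulAut (QuaternionGroup 2)) (hσ : ∀ x, σ x = sig x)
    (h : ρ (a 1) = xa 0 ∨ ρ (a 1) = xa 2) (h2 : Tr (ρ * ρ)) (h3 : Tr (ρ * σ * (ρ * σ))) : False := by
  refine D3 (ρ (a 1)) (ρ (xa 0)) ⟨good_map ρ, h⟩ ?_
  intro g
  rw [← eq_cand, ← eq_cand, ← eq_cand, ← eq_cand, ← hσ, ← hσ]
  exact ⟨h2 g, h3 g⟩

section

variable {X : Type*} [Group X] [Finite X]

omit [Finite X] in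
theorem exists_action (φ : QuaternionGroup 2 →* X) (hφ : Function.Injective φ) (hn : φ.range.Normal) :
    ∃ γ : X →* MulAut (QuaternionGroup 2), ∀ g x, φ (γ g x) = g * φ x * g⁻¹ := by
  let e : QuaternionGroup 2 ≃* φ.range := φ.ofInjective hφ
  refine ⟨(MulAut.congr e.symm).toMonoidHom.comp (MulAut.conjNormal (H := φ.range)), fun g x => ?_⟩
  have h1 : e (((MulAut.congr e.symm).toMonoidHom.comp (MulAut.conjNormal (H := φ.range))) g x) =
      MulAut.conjNormal g (e x) := by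
    simp [MulAut.congr]
  have h2 := congrArg Subtype.val h1
  rw [MulAut.conjNormal_apply] at h2
  exact h2

omit [Finite X] in
theorem tr_of_mem {φ : QuaternionGroup 2 →* X} (hφ : Function.Injective φ) {γ : X →* MulAut (QuaternionGroup 2)}
    (hγ : ∀ g x, φ (γ g x) = g * φ x * g⁻¹) (w : QuaternionGroup 2) : Tr (γ (φ w)) := by
  intro x
  have h1 : γ (φ w) x = w * x * w⁻¹ := by
    apply hφ
    rw [hγ, map_mul, map_mul, map_inv]
  rw [h1]
  exact D5 w x

omit [Finite X] in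
theorem exists_of_tr {φ : QuaternionGroup 2 →* X} {γ : X →* MulAut (QuaternionGroup 2)}
    (hγ : ∀ g x, φ (γ g x) = g * φ x * g⁻¹) (g : X) (hg : Tr (γ g)) :
    ∃ w, ∀ x, (φ w)⁻¹ * g * φ x = φ x * ((φ w)⁻¹ * g) := by
  obtain ⟨w, hw⟩ := Cfsg.Agent.TwoFusion.LocalIndex.quaternion_aut_inner (γ g) hg
  refine ⟨w, fun x => ?_⟩
  have h1 := hγ g x
  rw [hw, map_mul, map_mul, map_inv] at h1
  calc (φ w)⁻¹ * g * φ x = (φ w)⁻¹ * (g * φ x * g⁻¹) * g := by group
    _ = φ x * ((φ w)⁻¹ * g) := by rw [← h1]; group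

omit [Finite X] in
/-- multiplying by an element commuting with the quaternion group does not change the action -/
theorem action_mul_of_comm {φ : QuaternionGroup 2 →* X} (hφ : Function.Injective φ)
    {γ : X →* MulAut (QuaternionGroup 2)} (hγ : ∀ g x, φ (γ g x) = g * φ x * g⁻¹) (m g : X)
    (hm : ∀ x, m * φ x = φ x * m) : γ (m * g) = γ g := by
  ext x
  apply hφ
  rw [map_mul, MulAut.mul_apply, hγ, hm, mul_inv_cancel_right]

end

theorem noncomm (ρ σ : MulAut (QuaternionGroup 2)) (hσ : ∀ x, σ x = sig x)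
    (h : ρ (a 1) = xa 0 ∨ ρ (a 1) = xa 1 ∨ ρ (a 1) = xa 2 ∨ ρ (a 1) = xa 3) (hT : Tr (ρ * σ * ρ⁻¹ * σ⁻¹)) :
    False := by
  obtain ⟨h1, h2, h3⟩ := D7 _ h
  have h4 := hT (σ (ρ (a 1)))
  have h5 : (ρ * σ * ρ⁻¹ * σ⁻¹) (σ (ρ (a 1))) = ρ (a 1) := by
    simp only [MulAut.mul_apply, MulAut.inv_apply_self]
    rw [hσ]
    rfl
  rw [h5, hσ] at h4
  rcases h4 with h4 | h4
  · exact h1 h4.symm
  · exact h3 h4.symm

section Main

variable {X : Type*} [Group X] [Finite X] {P : Sylow 2 X} {s : X} {φ ψ : QuaternionGroup (2 ^ 1) →* X}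

set_option maxHeartbeats 1000000 in
/-- (A3) -/
theorem center_case (h : Conf 1 P s φ ψ) (hn : φ.range.Normal) (M : Subgroup X) [hMn : M.Normal]
    (h1 : ψ.range ≤ M) (h2 : M ⊓ P ≤ ψ.range) (hc : ∀ x, ∀ y ∈ M, φ x * y = y * φ x)
    (hM : M = ψ.range ∨ ∃ (F : Type) (_ : Field F) (_ : Fintype F), Odd (Fintype.card F) ∧
      Nonempty (M ≃* Matrix.SpecialLinearGroup (Fin 2) F)) :
    φ.range ≤ centralizer (M : Set X) ∧ centralizer (M : Set X) ⊓ P ≤ φ.range ∧
      Nonempty (↥(centralizer (M : Set X)) ≃* Matrix.SpecialLinearGroup (Fin 2) (ZMod 3)) ∧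
      centralizer (M : Set X) ≤ commutator X := by
  set L : Subgroup X := centralizer (M : Set X) with hL
  have hLn : L.Normal := inferInstance
  have hQL : φ.range ≤ L := by
    rintro _ ⟨x, rfl⟩
    rw [hL, mem_centralizer_iff]
    intro y hy
    exact (hc x y hy).symm
  have hLP : L ⊓ P ≤ φ.range := by
    rintro g ⟨hgL, hgP⟩
    obtain ⟨y, rfl⟩ := mem_range_of_comm h.symm g hgP
      (fun x => ((mem_centralizer_iff.1 hgL) _ (h1 ⟨x, rfl⟩)).symm)
    exact ⟨y, rfl⟩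
  have hCLQ : ∀ g ∈ L, (∀ x, g * φ x = φ x * g) → g ∈ φ.range := by
    intro g hg hgc
    have h3 : L ⊓ centralizer (φ.range : Set X) ≤ P := by
      refine GTwoCommutator.le_of_central h.hO P _ ?_
      rintro u hu ⟨hu1, hu2⟩
      have h4 := eq_of_comm h u hu (fun x => ((mem_centralizer_iff.1 hu2) _ ⟨x, rfl⟩).symm)
        (fun x => ((mem_centralizer_iff.1 hu1) _ (h1 ⟨x, rfl⟩)).symm)
      rw [mem_center_iff]
      rcases h4 with rfl | rfl
      · intro g; simp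
      · exact h.central
    refine hLP ⟨hg, h3 ⟨hg, ?_⟩⟩
    change g ∈ centralizer _
    rw [mem_centralizer_iff]
    rintro _ ⟨x, rfl⟩
    exact (hgc x).symm
  let φ' : QuaternionGroup 2 →* X := φ
  let ψ' : QuaternionGroup 2 →* X := ψ
  have hφ' : Function.Injective φ' := h.inj₁
  have hψ' : Function.Injective ψ' := h.inj₂
  obtain ⟨γ, hγ⟩ := exists_action φ' hφ' hn
  have hγs : ∀ x, γ s x = sig x := by
    rintro (i | i)
    · apply hφ'
      rw [hγ]
      exact h.s_a₁ i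
    · apply hφ'
      rw [hγ]
      exact h.s_xa₁ i
  have hinf₁ : ∀ x y : QuaternionGroup 2, φ' x = ψ' y → x = 1 ∨ x = a 2 := h.inf₁
  have hinf₂ : ∀ x y : QuaternionGroup 2, φ' x = ψ' y → y = 1 ∨ y = a 2 := h.inf₂
  have hcomm : ∀ x y : QuaternionGroup 2, φ' x * ψ' y = ψ' y * φ' x := h.comm
  have e8 : ∀ u : QuaternionGroup 2, ((xa 0)⁻¹ * u = 1 ∨ (xa 0)⁻¹ * u = a 2) → (u = xa 0 ∨ u = xa 2) := by
    decide +kernel
  have e9 : ∀ u : QuaternionGroup 2, (a 1 * u⁻¹ = 1 ∨ a 1 * u⁻¹ = a 2) → (u = a 1 ∨ u = a 3) := by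
    decide +kernel
  have hnotQ : ∃ g ∈ L, g ∉ φ.range := by
    by_contra hcon
    push Not at hcon
    have hL1 : ∀ g ∈ L, Tr (γ g) := by
      intro g hg
      obtain ⟨w, rfl⟩ := hcon g hg
      exact tr_of_mem hφ' hγ w
    obtain ⟨g, hg⟩ : ∃ g : X, g * (φ' (a 1) * ψ' (a 1)) * g⁻¹ = φ' (xa 0) * ψ' (a 1) :=
      h.inv (a 1) (a 1) (xa 0) (a 1) rfl rfl rfl rfl
    rcases hM with hM | ⟨F, _, _, hF, ⟨e⟩⟩
    · -- both factors are normal
      have hn2 : ψ'.range.Normal := by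
        have : ψ'.range = M := hM.symm
        rw [this]
        exact hMn
      obtain ⟨δ, hδ⟩ := exists_action ψ' hψ' hn2
      have h3 : φ' (γ g (a 1)) * ψ' (δ g (a 1)) = φ' (xa 0) * ψ' (a 1) := by
        rw [hγ, hδ, ← hg]; group
      have h4 : φ' ((xa 0)⁻¹ * γ g (a 1)) = ψ' (a 1 * (δ g (a 1))⁻¹) := by
        rw [map_mul, map_mul, map_inv, map_inv]
        calc (φ' (xa 0))⁻¹ * φ' (γ g (a 1))
            = (φ' (xa 0))⁻¹ * (φ' (γ g (a 1)) * ψ' (δ g (a 1))) * (ψ' (δ g (a 1)))⁻¹ := by group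
          _ = ψ' (a 1) * (ψ' (δ g (a 1)))⁻¹ := by rw [h3]; group
      have h5 := e8 _ (hinf₁ _ _ h4)
      have h6 := e9 _ (hinf₂ _ _ h4)
      have hsq : ∀ u : X, (δ u (a 1) = a 1 ∨ δ u (a 1) = a 3) → Tr (γ u * γ u) := by
        intro u hu
        have h7 := sq_of_a (δ u) hu
        rw [← map_mul] at h7
        obtain ⟨w, hw⟩ := exists_of_tr hδ _ h7
        have h8 : (ψ' w)⁻¹ * (u * u) ∈ L := by
          rw [hL, mem_centralizer_iff]
          intro y hy
          rw [hM] at hy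
          obtain ⟨x, rfl⟩ := hy
          exact (hw x).symm
        have h9 := hL1 _ h8
        rw [action_mul_of_comm hφ' hγ, map_mul] at h9
        · exact h9
        · intro x
          rw [← map_inv]
          exact (hcomm x _).symm
      refine no_two (γ g) (γ s) hγs h5 (hsq g h6) ?_
      have h7 : δ (g * s) (a 1) = δ g (a 1) := by
        rw [map_mul, MulAut.mul_apply]
        congr 1
        apply hψ'
        rw [hδ]
        exact h.s_a₂ 1
      have h8 := hsq (g * s) (by rw [h7]; exact h6)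
      rwa [map_mul] at h8
    · -- `M` is `SL(2,F)`
      have h3 : φ' (γ g (a 1)) * (g * ψ' (a 1) * g⁻¹) = φ' (xa 0) * ψ' (a 1) := by
        rw [hγ, ← hg]; group
      have h4 : φ' ((xa 0)⁻¹ * γ g (a 1)) = ψ' (a 1) * (g * ψ' (a 1) * g⁻¹)⁻¹ := by
        rw [map_mul, map_inv]
        calc (φ' (xa 0))⁻¹ * φ' (γ g (a 1))
            = (φ' (xa 0))⁻¹ * (φ' (γ g (a 1)) * (g * ψ' (a 1) * g⁻¹)) * (g * ψ' (a 1) * g⁻¹)⁻¹ := by group
          _ = ψ' (a 1) * (g * ψ' (a 1) * g⁻¹)⁻¹ := by rw [h3]; group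
      have h5 : φ' ((xa 0)⁻¹ * γ g (a 1)) ∈ ψ.range := by
        refine h2 ⟨?_, h.mem₁ _⟩
        rw [h4]
        exact M.mul_mem (h1 ⟨_, rfl⟩) (M.inv_mem (hMn.conj_mem _ (h1 ⟨_, rfl⟩) g))
      obtain ⟨v, hv⟩ := h5
      have h6 := e8 _ (hinf₁ _ _ hv.symm)
      obtain ⟨m, hm, hm2⟩ := GTwoCommutator.inner_of_commutator M e g s
      have h7 : m⁻¹ * (g * s * g⁻¹ * s⁻¹) ∈ L := by
        rw [hL, mem_centralizer_iff]
        intro u hu
        have h8 := hm2 u hu
        calc u * (m⁻¹ * (g * s * g⁻¹ * s⁻¹)) = m⁻¹ * (m * u * m⁻¹) * (g * s * g⁻¹ * s⁻¹) := by group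
          _ = m⁻¹ * (g * s * g⁻¹ * s⁻¹) * u := by rw [← h8]; group
      have h8 := hL1 _ h7
      rw [action_mul_of_comm hφ' hγ] at h8
      · rw [map_mul, map_mul, map_mul, map_inv, map_inv] at h8
        exact noncomm (γ g) (γ s) hγs (by rcases h6 with h | h <;> simp [h]) h8
      · intro x
        exact (hc x _ (inv_mem hm)).symm
  -- the index of `Q` in `L` is 3
  obtain ⟨g0, hg0L, hg0Q⟩ := hnotQ
  set Q' : Subgroup L := φ.range.subgroupOf L with hQ'
  have hQ'n : Q'.Normal := inferInstance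
  have e' : Q' ≃* QuaternionGroup 2 := (subgroupOfEquivOfLe hQL).trans (φ'.ofInjective hφ').symm
  have hcent : centralizer (Q' : Set L) ≤ Q' := by
    intro g hg
    rw [mem_centralizer_iff] at hg
    refine hCLQ g g.2 (fun x => ?_)
    have := hg ⟨φ x, hQL ⟨x, rfl⟩⟩ ⟨x, rfl⟩
    exact (congrArg Subtype.val this).symm
  have hidx6 : Q'.index ∣ 6 := by
    have h3 := Cfsg.Agent.TwoFusion.LocalIndex.relIndex_quaternion_dvd Q' e'
    rwa [sup_eq_left.2 hcent, normalizer_eq_top_iff.mpr hQ'n, relIndex_top_right] at h3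
  have hidxodd : ¬ 2 ∣ Q'.index := by
    have h3 := Cfsg.Agent.Lib.SylowNormalInf.not_dvd_relIndex P L
    have h4 : (P : Subgroup X).subgroupOf L = Q' := by
      ext x
      rw [hQ', mem_subgroupOf, mem_subgroupOf]
      constructor
      · intro hx
        exact hLP ⟨x.2, hx⟩
      · rintro ⟨y, hy⟩
        rw [← hy]
        exact h.mem₁ y
    rw [relIndex, h4] at h3
    exact h3
  have hidx3 : Q'.index = 3 := by
    have h3 : Q'.index ∣ 3 := by
      have h4 : Nat.Coprime Q'.index 2 := ((Nat.Prime.coprime_iff_not_dvd Nat.prime_two).2 hidxodd).symm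
      exact h4.dvd_of_dvd_mul_left (show Q'.index ∣ 2 * 3 from hidx6)
    rcases (Nat.dvd_prime Nat.prime_three).1 h3 with h4 | h4
    · exfalso
      apply hg0Q
      have h5 := index_eq_one.1 h4
      have h6 : (⟨g0, hg0L⟩ : L) ∈ Q' := by rw [h5]; exact mem_top _
      exact h6
    · exact h4
  have hcardQ' : Nat.card Q' = 8 := by
    rw [Nat.card_congr e'.toEquiv, Nat.card_eq_fintype_card, QuaternionGroup.card]
  have hcardL : Nat.card L = 24 := by
    rw [← Q'.card_mul_index, hcardQ', hidx3]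
  -- recognition
  have hSL : Nonempty (L ≃* Matrix.SpecialLinearGroup (Fin 2) (ZMod 3)) := by
    have h3 : Fact (Nat.Prime 3) := ⟨Nat.prime_three⟩
    obtain ⟨g, hg⟩ := exists_prime_orderOf_dvd_card' (G := L) 3 (by rw [hcardL]; norm_num)
    refine Cfsg.Agent.SylowG2.SLTwoThreeRecog.mulEquiv_of_quaternion hcardL Q' hQ'n ⟨e'⟩ g hg ?_
    intro h4
    have h5 := hcent h4
    have h6 : orderOf g ∣ 8 := by
      have := orderOf_dvd_natCard (⟨g, h5⟩ : Q')
      rwa [hcardQ', ← orderOf_coe] at this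
    rw [hg] at h6
    omega
  refine ⟨hQL, hLP, hSL, ?_⟩
  -- `L` is contained in the commutator subgroup
  have hTr : ¬ Tr (γ g0) := by
    intro h3
    obtain ⟨w, hw⟩ := exists_of_tr hγ g0 h3
    have h4 : (φ' w)⁻¹ * g0 ∈ φ.range :=
      hCLQ _ (mul_mem (inv_mem (hQL ⟨w, rfl⟩)) hg0L) hw
    have h5 : g0 = φ' w * ((φ' w)⁻¹ * g0) := by group
    apply hg0Q
    rw [h5]
    exact mul_mem ⟨w, rfl⟩ h4
  have hcube : Tr (γ g0 * γ g0 * γ g0) := by
    have h3 : (⟨g0, hg0L⟩ : L) ^ 3 ∈ Q' := by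
      rw [← hidx3]
      exact pow_index_mem Q' _
    obtain ⟨w, hw⟩ := h3
    have h4 : φ' w = g0 ^ 3 := hw
    rw [← map_mul, ← map_mul]
    have h5 : g0 * g0 * g0 = φ' w := by rw [h4, pow_succ, pow_two]
    rw [h5]
    exact tr_of_mem hφ' hγ w
  obtain ⟨h3, h4⟩ := not_a_of_cube _ hcube hTr
  have h5 := D6 _ _ (good_map (γ g0)) h3 h4
  set c : X := g0 * s * g0⁻¹ * s⁻¹ with hcdef
  have hcL : c ∈ L := by
    have : c = g0 * (s * g0⁻¹ * s⁻¹) := by rw [hcdef]; group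
    rw [this]
    exact mul_mem hg0L (hLn.conj_mem _ (inv_mem hg0L) s)
  have hcQ : c ∉ φ.range := by
    rintro ⟨w, hw⟩
    have h6 := tr_of_mem hφ' hγ w
    have h7 : φ' w = c := hw
    rw [h7, hcdef, map_mul, map_mul, map_mul, map_inv, map_inv] at h6
    exact noncomm (γ g0) (γ s) hγs h5 h6
  have hcX : c ∈ commutator X := by
    have h6 := commutator_mem_commutator (mem_top g0) (mem_top s)
    rw [commutatorElement_def] at h6
    exact h6
  set N : Subgroup L := (commutator X).subgroupOf L with hN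
  have hNn : N.Normal := inferInstance
  have hNQ : N ⊔ Q' = ⊤ := by
    have h6 : (N ⊔ Q').index ∣ 3 := by
      rw [← hidx3]
      exact index_dvd_of_le le_sup_right
    rcases (Nat.dvd_prime Nat.prime_three).1 h6 with h7 | h7
    · exact index_eq_one.1 h7
    · exfalso
      apply hcQ
      have h8 : Q' = N ⊔ Q' := by
        refine eq_of_le_of_card_ge le_sup_right ?_
        have h9 := (N ⊔ Q').card_mul_index
        have h10 := Q'.card_mul_index
        rw [h7] at h9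
        rw [hidx3] at h10
        omega
      have h9 : (⟨c, hcL⟩ : L) ∈ Q' := by
        rw [h8]
        exact mem_sup_left hcX
      exact h9
  have hP2 : IsPGroup 2 (L ⧸ N) := by
    intro x
    obtain ⟨x, rfl⟩ := QuotientGroup.mk_surjective x
    have hx : x ∈ N ⊔ Q' := by rw [hNQ]; exact mem_top _
    obtain ⟨n, hn', q, hq, rfl⟩ := mem_sup_of_normal_right.1 hx
    refine ⟨3, ?_⟩
    have h6 : (QuotientGroup.mk (n * q) : L ⧸ N) = QuotientGroup.mk q := by
      rw [QuotientGroup.mk_mul, (QuotientGroup.eq_one_iff n).2 hn', one_mul]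
    rw [h6, ← QuotientGroup.mk_pow]
    have h7 : q ^ 2 ^ 3 = 1 := by
      have h8 : orderOf q ∣ 8 := by
        have := orderOf_dvd_natCard (⟨q, hq⟩ : Q')
        rwa [hcardQ', ← orderOf_coe] at this
      have h9 : (2 : ℕ) ^ 3 = 8 := by norm_num
      rw [h9]
      exact orderOf_dvd_iff_pow_eq_one.1 h8
    rw [h7, QuotientGroup.mk_one]
  obtain ⟨θ⟩ := hSL
  intro x hx
  have h3' : Fact (Nat.Prime 3) := ⟨Nat.prime_three⟩
  have h6 := Cfsg.Agent.TwoFusion.SLTwoFacts.hom_eq_one (F := ZMod 3) (by rw [ZMod.card]; decide) hP2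
    ((QuotientGroup.mk' N).comp θ.symm.toMonoidHom) (θ ⟨x, hx⟩)
  have h7 : (QuotientGroup.mk (⟨x, hx⟩ : L) : L ⧸ N) = 1 := by
    simpa using h6
  have h8 : (⟨x, hx⟩ : L) ∈ N := (QuotientGroup.eq_one_iff _).1 h7
  exact h8

end Main

end Cfsg.Agent.ClassificationK.GTwoCenterCase
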