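import Cfsg.Prelude.Def_CaseTheorems
import Cfsg.Agent.Lib.Cores
import Cfsg.Agent.Lib.SylowNormalInf
import Cfsg.Agent.TwoFusion.IsolatedCenter
import Cfsg.Agent.TwoFusion.QuatCoverSL
import Cfsg.Agent.TwoFusion.QuatQuotient
import Cfsg.Agent.TwoFusion.A7NoSwap
import Cfsg.Agent.ClassificationK.GTwoConf
import Cfsg.Agent.ClassificationK.GTwoConfBasic

/-!
(A2): a perfect normal subgroup with Sylow 2-subgroup one of the quaternion factors is `SL(2,q)`.
-/

set_option autoImplicit false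

namespace Cfsg.Agent.ClassificationK.GTwoSLTwo

open Cfsg.Agent.ClassificationK.GTwoConf Cfsg.Agent.ClassificationK.GTwoConfBasic
open Cfsg.Agent.TwoFusion
open QuaternionGroup Subgroup

universe u

section Basic

variable {X : Type*} [Group X] [Finite X] {k : ℕ} {P : Sylow 2 X} {s : X} {φ ψ : QuaternionGroup (2 ^ k) →* X}

theorem orderOf_t (h : Conf k P s φ ψ) : orderOf (Conf.t φ) = 2 := by
  have hne : NeZero (2 ^ k) := ⟨by positivity⟩
  rw [Conf.t, orderOf_injective φ h.inj₁]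
  refine orderOf_eq_prime a_half_sq ?_
  intro h1
  rw [one_def] at h1
  have h2 : ((2 ^ k : ℕ) : ZMod (2 * 2 ^ k)) = 0 := by injection h1
  exact GTwoModel.half_ne_zero (2 ^ k) h2

variable (L : Subgroup X) [hLn : L.Normal]

/-- the Sylow 2-subgroup of `L` -/
noncomputable def sylL (P : Sylow 2 X) (L : Subgroup X) [L.Normal] : Sylow 2 L :=
  (Cfsg.Agent.Lib.SylowNormalInf.isPGroup_subgroupOf P L).toSylow
    (Cfsg.Agent.Lib.SylowNormalInf.not_dvd_relIndex P L)

theorem mem_sylL (x : L) : x ∈ (sylL P L : Subgroup L) ↔ (x : X) ∈ (P : Subgroup X) := Iff.rfl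

/-- the homomorphism onto the Sylow 2-subgroup of `L` -/
noncomputable def homQ (h : Conf k P s φ ψ) (h1 : φ.range ≤ L) :
    QuaternionGroup (2 ^ k) →* (sylL P L : Subgroup L) where
  toFun x := ⟨⟨φ x, h1 ⟨x, rfl⟩⟩, h.mem₁ x⟩
  map_one' := by
    apply Subtype.ext
    apply Subtype.ext
    exact map_one φ
  map_mul' := by
    intro x y
    apply Subtype.ext
    apply Subtype.ext
    exact map_mul φ x y

theorem homQ_apply (h : Conf k P s φ ψ) (h1 : φ.range ≤ L) (x : QuaternionGroup (2 ^ k)) :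
    (((homQ L h h1 x : (sylL P L : Subgroup L)) : L) : X) = φ x := rfl

theorem homQ_bijective (h : Conf k P s φ ψ) (h1 : φ.range ≤ L) (h2 : L ⊓ P ≤ φ.range) :
    Function.Bijective (homQ L h h1) := by
  refine ⟨fun x y hxy => h.inj₁ (congrArg (fun w : (sylL P L : Subgroup L) => ((w : L) : X)) hxy), ?_⟩
  rintro ⟨⟨x, hxL⟩, hxP⟩
  obtain ⟨y, hy⟩ := h2 ⟨hxL, hxP⟩
  exact ⟨y, Subtype.ext (Subtype.ext hy)⟩

/-- the Sylow 2-subgroup of `L` is quaternion -/
noncomputable def equivQ (h : Conf k P s φ ψ) (h1 : φ.range ≤ L) (h2 : L ⊓ P ≤ φ.range) :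
    QuaternionGroup (2 ^ k) ≃* (sylL P L : Subgroup L) :=
  MulEquiv.ofBijective (homQ L h h1) (homQ_bijective L h h1 h2)

theorem equivQ_apply (h : Conf k P s φ ψ) (h1 : φ.range ≤ L) (h2 : L ⊓ P ≤ φ.range) (x : QuaternionGroup (2 ^ k)) :
    (((equivQ L h h1 h2 x : (sylL P L : Subgroup L)) : L) : X) = φ x := rfl

/-- the unique involution of `L` -/
theorem unique_involution (h : Conf k P s φ ψ) (h1 : φ.range ≤ L) (h2 : L ⊓ P ≤ φ.range) (x : L)
    (hx : orderOf x = 2) : (x : X) = Conf.t φ := by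
  have hne : NeZero (2 ^ k) := ⟨by positivity⟩
  have h3 : IsPGroup 2 (zpowers x) := IsPGroup.of_card (n := 1) (by rw [Nat.card_zpowers, hx]; rfl)
  obtain ⟨Q, hQ⟩ := h3.exists_le_sylow
  obtain ⟨g, hg⟩ := MulAction.exists_smul_eq L Q (sylL P L)
  have h4 : MulAut.conj g x ∈ (sylL P L : Subgroup L) := by
    rw [← hg, Sylow.coe_subgroup_smul]
    exact Subgroup.smul_mem_pointwise_smul _ _ _ (hQ (mem_zpowers x))
  obtain ⟨y, hy⟩ := (equivQ L h h1 h2).surjective ⟨_, h4⟩
  have h5 : φ y = (g : X) * (x : X) * (g : X)⁻¹ := congrArg (fun w : (sylL P L : Subgroup L) => ((w : L) : X)) hy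
  have hx2 : (x : X) ^ 2 = 1 := by
    have := pow_orderOf_eq_one x
    rw [hx] at this
    have h6 := congrArg Subtype.val this
    simpa using h6
  have hx1 : (x : X) ≠ 1 := by
    intro h6
    have : x = 1 := Subtype.ext h6
    rw [this, orderOf_one] at hx
    omega
  have h6 : y = a ((2 ^ k : ℕ) : ZMod (2 * 2 ^ k)) := by
    apply QuatCover.eq_a_of_sq_eq_one
    · apply h.inj₁
      rw [map_pow, h5, map_one, conj_pow, hx2]
      group
    · rintro rfl
      rw [map_one] at h5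
      apply hx1
      calc (x : X) = (g : X)⁻¹ * ((g : X) * (x : X) * (g : X)⁻¹) * g := by group
        _ = 1 := by rw [← h5]; group
  calc (x : X) = (g : X)⁻¹ * ((g : X) * (x : X) * (g : X)⁻¹) * g := by group
    _ = (g : X)⁻¹ * Conf.t φ * g := by rw [← h5, h6]; rfl
    _ = Conf.t φ := by
      have := h.central (g : X)
      rw [Conf.t, mul_assoc, ← this]
      group

end Basic

/-! ### `2·A₇` is impossible -/

theorem q4_1 : (xa 0 * xa (-1) : QuaternionGroup 4) ^ 2 ≠ 1 ∧ (xa 0 * xa (-1) : QuaternionGroup 4) ^ 2 ≠ a 4 := by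
  decide
theorem q4_2 : (xa 0 * xa (-1) : QuaternionGroup 4) ^ 2 = a 6 := by decide
theorem q4_3 : ∀ j : ZMod (2 * 4), (xa j : QuaternionGroup 4) ^ 2 = a 4 := by decide

theorem A7_excluded {X : Type*} [Group X] [Finite X] {P : Sylow 2 X} {s : X} {φ ψ : QuaternionGroup (2 ^ 2) →* X}
    (h : Conf 2 P s φ ψ) (L : Subgroup X) [hLn : L.Normal] (h1 : φ.range ≤ L)
    (z : L) (hz : (z : X) = Conf.t φ) [hn : (zpowers z).Normal]
    (θ : L ⧸ zpowers z ≃* alternatingGroup (Fin 7)) : False := by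
  have hz2 : orderOf z = 2 := by rw [← orderOf_coe, hz, orderOf_t h]
  let φ' : QuaternionGroup 4 →* L := φ.codRestrict L (fun x => h1 ⟨x, rfl⟩)
  have hφ' : ∀ x, ((φ' x : L) : X) = φ x := fun x => rfl
  have hsa : MulAut.conjNormal s (φ' (a 6)) = φ' (a 6) := by
    apply Subtype.ext
    rw [MulAut.conjNormal_apply, hφ']
    exact h.s_a₁ 6
  have hsx : MulAut.conjNormal s (φ' (xa 0)) = φ' (xa (-1)) := by
    apply Subtype.ext
    rw [MulAut.conjNormal_apply, hφ', hφ']
    have := h.s_xa₁ 0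
    rw [zero_sub] at this
    exact this
  have hz4 : φ' (a 4) = z := Subtype.ext hz.symm
  have hzmap : (zpowers z).map (MulAut.conjNormal s : L ≃* L).toMonoidHom = zpowers z := by
    rw [MonoidHom.map_zpowers]
    congr 1
    apply Subtype.ext
    change ((MulAut.conjNormal s z : L) : X) = z
    rw [MulAut.conjNormal_apply, hz, Conf.t, h.central]
    group
  let σ₁ : L ⧸ zpowers z ≃* L ⧸ zpowers z :=
    QuotientGroup.congr (zpowers z) (zpowers z) (MulAut.conjNormal s) hzmap
  have hσ₁ : ∀ x : L, σ₁ (QuotientGroup.mk x) = QuotientGroup.mk (MulAut.conjNormal s x) := fun x => rfl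
  let g : QuaternionGroup 4 →* alternatingGroup (Fin 7) :=
    (θ.toMonoidHom.comp (QuotientGroup.mk' (zpowers z))).comp φ'
  have hg : ∀ x, g x = θ (QuotientGroup.mk (φ' x)) := fun x => rfl
  have hgker : ∀ x, g x = 1 ↔ x = 1 ∨ x = a 4 := by
    intro x
    rw [hg, map_eq_one_iff θ θ.injective, QuotientGroup.eq_one_iff]
    constructor
    · intro h3
      rcases QuatCover.mem_zpowers_of_orderOf_two hz2 h3 with h4 | h4
      · left
        apply h.inj₁
        rw [map_one]
        exact congrArg Subtype.val h4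
      · right
        rw [← hz4] at h4
        exact h.inj₁ (congrArg Subtype.val h4)
    · rintro (h3 | h3)
      · rw [h3, map_one]; exact one_mem _
      · rw [h3, hz4]; exact mem_zpowers z
  have hPg : IsPGroup 2 g.range := by
    have h3 : IsPGroup 2 (QuaternionGroup 4) :=
      IsPGroup.of_card (n := 4) (by rw [Nat.card_eq_fintype_card, QuaternionGroup.card]; norm_num)
    exact h3.of_surjective g.rangeRestrict g.rangeRestrict_surjective
  refine A7NoSwap.no_swap g.range hPg (g (xa 0)) (g (xa (-1))) ⟨_, rfl⟩ ⟨_, rfl⟩ ?_ ?_ ?_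
    (θ.symm.trans (σ₁.trans θ)) ?_ ?_
  · rw [← map_pow, q4_3, hgker]; right; rfl
  · rw [← map_pow, q4_3, hgker]; right; rfl
  · rw [← map_mul, ← map_pow, Ne, hgker]
    exact not_or.mpr q4_1
  · change θ (σ₁ (θ.symm (g (xa 0)))) = g (xa (-1))
    rw [hg, MulEquiv.symm_apply_apply, hσ₁, hsx, hg]
  · rw [← map_mul, ← map_pow, q4_2]
    change θ (σ₁ (θ.symm (g (a 6)))) = g (a 6)
    rw [hg, MulEquiv.symm_apply_apply, hσ₁, hsa]

/-- (A2) -/
theorem exists_sl_two
    (hGW : ∀ (X : Type u) [Group X] [Finite X] [Group.IsPerfect X]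
      (S : Sylow 2 X) (n : ℕ), 2 ≤ n → Nonempty ((S : Subgroup X) ≃* DihedralGroup n) →
      (∃ (F : Type) (_ : Field F) (_ : Fintype F), Odd (Fintype.card F) ∧ 3 < Fintype.card F ∧
        Nonempty (X ⧸ Cfsg.oddCore X ≃* Matrix.ProjectiveSpecialLinearGroup (Fin 2) F)) ∨
      Nonempty (X ⧸ Cfsg.oddCore X ≃* alternatingGroup (Fin 7)))
    {X : Type u} [Group X] [Finite X] {k : ℕ} {P : Sylow 2 X} {s : X} {φ ψ : QuaternionGroup (2 ^ k) →* X}
    (h : Conf k P s φ ψ) (L : Subgroup X) [hLn : L.Normal] (h1 : φ.range ≤ L) (h2 : L ⊓ P ≤ φ.range)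
    (hperf : commutator L = ⊤) :
    ∃ (F : Type) (_ : Field F) (_ : Fintype F), Odd (Fintype.card F) ∧ 3 < Fintype.card F ∧
      Nonempty (L ≃* Matrix.SpecialLinearGroup (Fin 2) F) := by
  have hne : NeZero (2 ^ k) := ⟨by positivity⟩
  let z : L := ⟨Conf.t φ, h1 ⟨_, rfl⟩⟩
  have hz2 : orderOf z = 2 := by rw [← orderOf_coe]; exact orderOf_t h
  have hzcL : z ∈ center L := by
    rw [Subgroup.mem_center_iff]
    intro g
    exact Subtype.ext (h.central g)
  have hO : Cfsg.oddCore L = ⊥ := by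
    have h1 := Cfsg.Agent.Lib.Cores.map_subtype_pPrimeCore (G := X) 2 (N := L) hLn
    have h2 : (Cfsg.pPrimeCore 2 X) = ⊥ := h.hO
    rw [h2, inf_bot_eq] at h1
    exact (Subgroup.map_eq_bot_iff_of_injective _ L.subtype_injective).mp h1
  have hn : (zpowers z).Normal := IsolatedCenter.normal_of_le_center (by rw [zpowers_le]; exact hzcL)
  have e : (sylL P L : Subgroup L) ≃* QuaternionGroup (2 ^ k) := (equivQ L h h1 h2).symm
  have hperfX : Group.IsPerfect (L ⧸ zpowers z) := by
    refine ⟨?_⟩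
    have h1 : (commutator L).map (QuotientGroup.mk' (zpowers z)) = commutator (L ⧸ zpowers z) := by
      rw [commutator_def, commutator_def, Subgroup.map_commutator,
        Subgroup.map_top_of_surjective _ (QuotientGroup.mk'_surjective _)]
    rw [← h1, hperf, Subgroup.map_top_of_surjective _ (QuotientGroup.mk'_surjective _)]
  have hOX := QuatQuotient.oddCore_quotient_eq_bot hO z hzcL hz2
  have e2 : (L ⧸ zpowers z) ⧸ Cfsg.oddCore (L ⧸ zpowers z) ≃* L ⧸ zpowers z :=
    (QuotientGroup.quotientMulEquivOfEq hOX).trans QuotientGroup.quotientBot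
  rcases hGW (L ⧸ zpowers z) ((sylL P L).mapSurjective (QuotientGroup.mk'_surjective (zpowers z))) (2 ^ k)
    (by
      calc 2 = 2 ^ 1 := by norm_num
        _ ≤ 2 ^ k := Nat.pow_le_pow_right (by norm_num) h.hk)
    (QuatQuotient.sylow_quotient z hz2 (sylL P L) k e) with ⟨F, hF1, hF2, hodd, hcard, ⟨θ⟩⟩ | h7
  · exact ⟨F, hF1, hF2, hodd, hcard,
      QuatCoverSL.mulEquiv_sl_two z hzcL hz2 (sylL P L) k h.hk e hodd (e2.symm.trans θ)⟩
  · obtain ⟨θ⟩ := h7
    exfalso
    have θ' : L ⧸ zpowers z ≃* alternatingGroup (Fin 7) := e2.symm.trans θ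
    have hcardL : Nat.card L = 5040 := by
      have h1 := Subgroup.card_eq_card_quotient_mul_card_subgroup (zpowers z)
      rw [Nat.card_congr θ'.toEquiv, A7NoSwap.card_A7, Nat.card_zpowers, hz2] at h1
      omega
    have hcardP : Nat.card (sylL P L : Subgroup L) = 4 * 2 ^ k := by
      rw [Nat.card_congr e.toEquiv, Nat.card_eq_fintype_card, QuaternionGroup.card]
    have hk2 : k = 2 := by
      have h1 := (sylL P L : Subgroup L).card_mul_index
      rw [hcardP, hcardL] at h1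
      have h2 : ¬ 2 ∣ (sylL P L : Subgroup L).index := (sylL P L).not_dvd_index
      have h3 : k < 11 := by
        by_contra h
        have h4 : 2 ^ 11 ≤ 2 ^ k := Nat.pow_le_pow_right (by norm_num) (by omega)
        have h5 : 0 < (sylL P L : Subgroup L).index := Nat.pos_of_ne_zero Subgroup.index_ne_zero_of_finite
        nlinarith
      interval_cases k <;> omega
    subst hk2
    exact A7_excluded h L h1 z rfl θ'

end Cfsg.Agent.ClassificationK.GTwoSLTwo
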