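import Cfsg.Agent.ClassificationK.GTwoFusionB

/-!
Classes of involutions of a finite simple group whose Sylow 2-subgroup is isomorphic to the model group
`T (2 · 2^k)`, `k ≥ 1`.
-/

set_option autoImplicit false

namespace Cfsg.Agent.ClassificationK.GTwoSimple

open Cfsg.Agent.ClassificationK.GTwoModel Cfsg.Agent.ClassificationK.GTwoModel.T
open Cfsg.Agent.ClassificationK.GTwoFusion Cfsg.Agent.ClassificationK.GTwoFusionB

theorem main {G : Type*} [Group G] [Finite G] [IsSimpleGroup G] (S : Sylow 2 G) (k : ℕ) (hk : 1 ≤ k)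
    (e : T (2 * 2 ^ k) ≃* ↥(S : Subgroup G)) :
    (∀ x y : G, orderOf x = 2 → orderOf y = 2 → IsConj x y) ∨
      (Nat.card ↥(S : Subgroup G) = 64 ∧ ∃ x y : G, orderOf x = 2 ∧ orderOf y = 2 ∧ ¬ IsConj x y ∧
        ∀ z : G, orderOf z = 2 → IsConj z x ∨ IsConj z y) := by
  set l : ℕ := 2 ^ k with hl
  have : NeZero l := ⟨by positivity⟩
  set f : T (2 * l) →* G := (S : Subgroup G).subtype.comp e.toMonoidHom with hf'
  have hf : Function.Injective f := (Subgroup.subtype_injective _).comp e.injective
  have hr : f.range = (S : Subgroup G) := by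
    rw [hf', MonoidHom.range_comp, MonoidHom.range_eq_top.2 e.surjective, ← MonoidHom.range_eq_map,
      Subgroup.range_subtype]
  have hl2 : 2 ∣ l := by
    rw [hl]
    exact dvd_pow_self 2 (by omega)
  have hcard : Nat.card ↥(S : Subgroup G) = 4 * (2 * l) ^ 2 := by
    rw [← card_T (2 * l)]
    exact Nat.card_congr e.symm.toEquiv
  have hlpos : 0 < l := by positivity
  have hGcard : 16 ≤ Nat.card G := by
    have h1 : Nat.card ↥(S : Subgroup G) ≤ Nat.card G := Subgroup.card_le_card_group _
    rw [hcard] at h1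
    nlinarith
  have hG : commutator G = ⊤ := by
    have hc : (commutator G).Normal := inferInstance
    rcases hc.eq_bot_or_eq_top with h | h
    · exfalso
      have h1 : (u l : T (2 * l)) * s l = s l * u l := by
        apply hf
        rw [map_mul, map_mul]
        have h2 : f (u l) * f (s l) * (f (u l))⁻¹ * (f (s l))⁻¹ ∈ commutator G :=
          Subgroup.commutator_mem_commutator (Subgroup.mem_top _) (Subgroup.mem_top _)
        rw [h, Subgroup.mem_bot] at h2
        rw [mul_inv_eq_one, mul_inv_eq_iff_eq_mul] at h2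
        exact h2
      rw [u, s, mul_mk, mul_mk, T.mk.injEq] at h1
      have h3 := h1.1
      simp only [sg_false, sg_true, cond_true, cond_false, mul_zero, add_zero] at h3
      have h4 : par l (0 : ZMod (2 * l)) = par l 1 := by rw [h3]
      rw [map_zero, map_one] at h4
      exact absurd h4 (by decide)
    · exact h
  have hG2 : ∀ M : Subgroup G, M.Normal → M.index ≠ 2 := by
    intro M hM hM2
    rcases hM.eq_bot_or_eq_top with h | h
    · rw [h, Subgroup.index_bot] at hM2
      omega
    · rw [h, Subgroup.index_top] at hM2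
      omega
  have hinv : ∀ x : G, orderOf x = 2 → ∃ y : T (2 * l), y * y = 1 ∧ y ≠ 1 ∧ IsConj x (f y) := by
    intro x hx
    have hxp : IsPGroup 2 (Subgroup.zpowers x) :=
      IsPGroup.of_card (n := 1) (by rw [Nat.card_zpowers, hx, pow_one])
    obtain ⟨P, hP⟩ := hxp.exists_le_sylow
    obtain ⟨g, hg⟩ := MulAction.exists_smul_eq G P S
    have h1 : g * x * g⁻¹ ∈ (S : Subgroup G) := by
      rw [← hg, Sylow.coe_subgroup_smul]
      exact ⟨x, hP (Subgroup.mem_zpowers x), rfl⟩
    rw [← hr] at h1
    obtain ⟨y, hy⟩ := h1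
    have hx2 : x * x = 1 := by rw [← pow_two, ← hx, pow_orderOf_eq_one]
    refine ⟨y, ?_, ?_, isConj_iff.2 ⟨g, hy.symm⟩⟩
    · apply hf
      rw [map_mul, map_one, hy]
      calc g * x * g⁻¹ * (g * x * g⁻¹) = g * (x * x) * g⁻¹ := by group
        _ = 1 := by rw [hx2]; group
    · rintro rfl
      rw [map_one] at hy
      have hx1 : x = 1 := by
        calc x = g⁻¹ * (g * x * g⁻¹) * g := by group
          _ = 1 := by rw [← hy]; group
      rw [hx1, orderOf_one] at hx
      omega
  have hord : ∀ y : T (2 * l), y * y = 1 → y ≠ 1 → orderOf (f y) = 2 := by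
    intro y hy hy1
    rw [orderOf_injective f hf]
    exact orderOf_eq_prime (by rw [pow_two, hy]) hy1
  rcases GTwoFusionB.main hl2 S f hf hr hG hG2 with h | ⟨h4, huz, h⟩
  · left
    intro x y hx hy
    obtain ⟨x', hx1, hx2, hx3⟩ := hinv x hx
    obtain ⟨y', hy1, hy2, hy3⟩ := hinv y hy
    exact (hx3.trans (h x' hx1 hx2)).trans (hy3.trans (h y' hy1 hy2)).symm
  · right
    have hk1 : k = 1 := by
      by_contra hne
      apply h4
      rw [hl]
      exact pow_dvd_pow 2 (show 2 ≤ k by omega)
    refine ⟨?_, f (z l), f (u l), ?_, ?_, fun hc => huz hc.symm, ?_⟩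
    · rw [hcard, hl, hk1]; norm_num
    · refine hord _ ?_ z_ne_one
      rw [z, mul_mk, one_def]
      simp [half_add_half]
    · refine hord _ u_sq ?_
      intro hu
      rw [u, one_def, T.mk.injEq] at hu
      exact absurd hu.2.2.2 (by decide)
    · intro x hx
      obtain ⟨x', hx1, hx2, hx3⟩ := hinv x hx
      rcases h x' hx1 hx2 with h5 | h5
      · exact Or.inl (hx3.trans h5)
      · exact Or.inr (hx3.trans h5)

end Cfsg.Agent.ClassificationK.GTwoSimple
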