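import Mathlib
import Cfsg.Prelude.Def_Local
import Cfsg.Agent.Lib.Cores
import Cfsg.Agent.SignalizersComponents.CompBasic
import Cfsg.Agent.SignalizersComponents.Components

/-!
# Transport of `p`-components along homomorphisms

* `isPComponent_map`: the image of a `p`-component under a homomorphism whose kernel is a
  `p'`-group and whose range is subnormal is a `p`-component (finite groups).
* `isComponent_of_isPComponent`: a `p`-component centralized by the `p'`-core is a component.
* `isPComponent_not_le`: a `p`-component is in no `p'`-subgroup.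
* `exists_mem_mul_commute`: centralizer of an involution modulo a normal subgroup of odd order.
-/

set_option autoImplicit false

open Cfsg Subgroup
open scoped commutatorElement IsMulCommutative

namespace Cfsg.Agent.ClassificationK.PCompTransport

variable {G X : Type*} [Group G] [Group X]

/-- The order of the preimage divides the product of the orders. -/
theorem card_comap_dvd (φ : G →* X) (N : Subgroup X) :
    Nat.card (N.comap φ) ∣ Nat.card φ.ker * Nat.card N := by
  have h1 : Nat.card (N.comap φ) = (φ.comp (N.comap φ).subtype).ker.index *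
      Nat.card (φ.comp (N.comap φ).subtype).ker := by
    rw [mul_comm, Subgroup.card_mul_index]
  have h2 : (φ.comp (N.comap φ).subtype).ker.index ∣ Nat.card N := by
    rw [Subgroup.index_ker]
    apply Subgroup.card_dvd_of_le
    rintro _ ⟨x, rfl⟩
    exact x.2
  have h3 : Nat.card (φ.comp (N.comap φ).subtype).ker ∣ Nat.card φ.ker := by
    refine Subgroup.card_dvd_of_injective
      (((N.comap φ).subtype.comp (φ.comp (N.comap φ).subtype).ker.subtype).codRestrict φ.ker
        (fun x => x.2)) ?_
    intro a b hab
    apply Subtype.ext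
    apply Subtype.ext
    have := congrArg (fun z : φ.ker => (z : G)) hab
    exact this
  rw [h1, mul_comm]
  exact mul_dvd_mul h3 h2

/-- Preimage of the `p'`-core under a homomorphism with `p'`-kernel and subnormal range. -/
theorem comap_pPrimeCore [Finite G] [Finite X] (p : ℕ) (φ : G →* X)
    (hker : (Nat.card φ.ker).Coprime p) (hrange : φ.range.IsSubnormal) :
    (pPrimeCore p X).comap φ = pPrimeCore p G := by
  apply le_antisymm
  · apply Lib.Cores.le_pPrimeCore
    · exact (Lib.Cores.pPrimeCore_normal p).comap φ
    · exact (Nat.Coprime.mul_left hker (Lib.Cores.pPrimeCore_coprime p)).coprime_dvd_left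
        (card_comap_dvd φ _)
  · rw [← Subgroup.map_le_iff_le_comap]
    apply SignalizersComponents.CompBasic.subnormal_coprime_le_pPrimeCore
    · -- subnormal
      have h1 : ((pPrimeCore p G).map φ.rangeRestrict).IsSubnormal :=
        (Lib.Cores.pPrimeCore_normal p).isSubnormal.map φ.rangeRestrict_surjective
      have h2 := h1.trans' hrange
      rwa [Subgroup.map_map, MonoidHom.subtype_comp_rangeRestrict] at h2
    · exact (Lib.Cores.pPrimeCore_coprime p).coprime_dvd_left (Subgroup.card_map_dvd _ _)

/-- A `p`-component of `G` maps to a `p`-component under a homomorphism of finite groups whose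
kernel is a `p'`-group and whose range is subnormal. -/
theorem isPComponent_map [Finite G] [Finite X] (p : ℕ) (φ : G →* X)
    (hker : (Nat.card φ.ker).Coprime p) (hrange : φ.range.IsSubnormal) {J : Subgroup G}
    (hJ : IsPComponent p J) : IsPComponent p (J.map φ) := by
  have hcomap := comap_pPrimeCore p φ hker hrange
  obtain ⟨hsub, hcomp, hmin⟩ := hJ
  let π : G →* G ⧸ pPrimeCore p G := QuotientGroup.mk' (pPrimeCore p G)
  let ρ : X →* X ⧸ pPrimeCore p X := QuotientGroup.mk' (pPrimeCore p X)
  let ψ : G ⧸ pPrimeCore p G →* X ⧸ pPrimeCore p X :=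
    QuotientGroup.map _ _ φ hcomap.ge
  have hψ : ψ.comp π = ρ.comp φ := by
    ext x
    rfl
  have hψinj : Function.Injective ψ := by
    rw [← MonoidHom.ker_eq_bot_iff, eq_bot_iff]
    intro x hx
    induction x using QuotientGroup.induction_on with
    | H x =>
      have h1 : ((φ x : X) : X ⧸ pPrimeCore p X) = 1 := hx
      rw [QuotientGroup.eq_one_iff, ← Subgroup.mem_comap, hcomap] at h1
      rw [Subgroup.mem_bot]
      exact (QuotientGroup.eq_one_iff x).mpr h1
  have hmapmap : ∀ H : Subgroup G, (H.map φ).map ρ = (H.map π).map ψ := by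
    intro H
    rw [Subgroup.map_map, Subgroup.map_map, hψ]
  have hsubn : ∀ H : Subgroup G, H.IsSubnormal → (H.map φ).IsSubnormal := by
    intro H hH
    have h2 := (hH.map φ.rangeRestrict_surjective).trans' hrange
    rwa [Subgroup.map_map, MonoidHom.subtype_comp_rangeRestrict] at h2
  refine ⟨hsubn J hsub, ⟨?_, ?_⟩, ?_⟩
  · exact (hsubn J hsub).map (QuotientGroup.mk'_surjective _)
  · have e : (J.map π) ≃* ((J.map φ).map ρ) := by
      rw [hmapmap]
      exact (J.map π).equivMapOfInjective ψ hψinj
    exact SignalizersComponents.Components.isQuasisimple_of_mulEquiv e hcomp.2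
  · intro H hH hle heq
    have h1 : (H.comap φ ⊓ J).map φ = H := by
      apply le_antisymm
      · rintro _ ⟨x, hx, rfl⟩
        exact hx.1
      · intro h hh
        obtain ⟨j, hj, rfl⟩ := hle hh
        exact ⟨j, ⟨hh, hj⟩, rfl⟩
    have h2 : (H.comap φ ⊓ J).map π = J.map π := by
      apply Subgroup.map_injective hψinj
      rw [← hmapmap, ← hmapmap, h1]
      exact heq
    have h3 := hmin (H.comap φ ⊓ J) ((hH.comap φ).inf hsub) inf_le_right h2
    rw [← h1, h3]

/-- The `p`-layer of a finite group is normal. -/
theorem pLayer_normal [Finite G] (p : ℕ) : (pLayer p G).Normal := by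
  have h : (pLayer p G).Characteristic := by
    refine Lib.Cores.sSup_characteristic _ fun e K hK => ?_
    refine isPComponent_map p e.toMonoidHom ?_ ?_ hK
    · have h1 : e.toMonoidHom.ker = ⊥ := (MonoidHom.ker_eq_bot_iff _).mpr e.injective
      rw [h1]
      simp
    · have h1 : e.toMonoidHom.range = ⊤ := MonoidHom.range_eq_top.mpr e.surjective
      rw [h1]
      exact IsSubnormal.top
  exact inferInstance

/-- A `p`-component is perfect. -/
theorem isPComponent_perfect (p : ℕ) {J : Subgroup G} (hJ : IsPComponent p J) : ⁅J, J⁆ = J := by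
  obtain ⟨hsub, hcomp, hmin⟩ := hJ
  have hle : ⁅J, J⁆ ≤ J := by
    rw [Subgroup.commutator_le]
    intro a ha b hb
    rw [commutatorElement_def]
    exact J.mul_mem (J.mul_mem (J.mul_mem ha hb) (J.inv_mem ha)) (J.inv_mem hb)
  apply hmin
  · -- subnormal
    apply IsSubnormal.step _ J hle hsub
    rw [normal_subgroupOf_iff_le_normalizer hle]
    intro g hg
    rw [mem_normalizer_iff]
    have hn : J ≤ normalizer (J : Set G) := le_normalizer
    have hc : ∀ g ∈ J, (⁅J, J⁆).map (MulAut.conj g).toMonoidHom = ⁅J, J⁆ := by
      intro g hg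
      rw [map_commutator]
      have hJm : J.map (MulAut.conj g).toMonoidHom = J := by
        ext x
        constructor
        · rintro ⟨y, hy, rfl⟩
          exact J.mul_mem (J.mul_mem hg hy) (J.inv_mem hg)
        · intro hx
          exact ⟨g⁻¹ * x * g, J.mul_mem (J.mul_mem (J.inv_mem hg) hx) hg, by
            simp [mul_assoc]⟩
      rw [hJm]
    intro x
    constructor
    · intro hx
      have := hc g hg
      rw [← this]
      exact ⟨x, hx, rfl⟩
    · intro hx
      have := hc g⁻¹ (J.inv_mem hg)
      rw [← this]
      exact ⟨g * x * g⁻¹, hx, by simp [mul_assoc]⟩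
  · exact hle
  · rw [map_commutator]
    exact Subgroup.isPerfect_iff.mp hcomp.2.1

/-- A `p`-component is not contained in the `p'`-core. -/
theorem isPComponent_not_le (p : ℕ) {J : Subgroup G} (hJ : IsPComponent p J) :
    ¬ J ≤ pPrimeCore p G := by
  intro h
  have h1 : J.map (QuotientGroup.mk' (pPrimeCore p G)) = ⊥ := by
    rw [Subgroup.map_eq_bot_iff, QuotientGroup.ker_mk']
    exact h
  have h2 := SignalizersComponents.Components.component_ne_bot hJ.2.1
  exact h2 h1

/-- A `p`-component of a finite group is not a `p'`-group. -/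
theorem isPComponent_not_coprime [Finite G] (p : ℕ) {J : Subgroup G} (hJ : IsPComponent p J) :
    ¬ (Nat.card J).Coprime p := fun h =>
  isPComponent_not_le p hJ
    (SignalizersComponents.CompBasic.subnormal_coprime_le_pPrimeCore hJ.1 h)

/-- A `p`-component which commutes with the `p'`-core is a component. -/
theorem isComponent_of_isPComponent (p : ℕ) {J : Subgroup G} (hJ : IsPComponent p J)
    (hc : ⁅J, pPrimeCore p G⁆ = ⊥) : IsComponent J := by
  have hperf : Group.IsPerfect J := Subgroup.isPerfect_iff.mpr (isPComponent_perfect p hJ)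
  obtain ⟨hsub, hcomp, hmin⟩ := hJ
  refine ⟨hsub, hperf, ?_⟩
  -- the surjection of `J` onto its image
  let π : G →* G ⧸ pPrimeCore p G := QuotientGroup.mk' (pPrimeCore p G)
  let f : J →* J.map π := (π.subgroupMap J)
  have hf : Function.Surjective f := π.subgroupMap_surjective J
  have hfker : ∀ j : J, f j = 1 → j ∈ center J := by
    intro j hj
    have h1 : π (j : G) = 1 := congrArg Subtype.val hj
    have h2 : (j : G) ∈ pPrimeCore p G := (QuotientGroup.eq_one_iff (j : G)).mp h1
    rw [mem_center_iff]
    intro k
    apply Subtype.ext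
    rw [commutator_eq_bot_iff_le_centralizer] at hc
    exact ((mem_centralizer_iff.mp (hc k.2)) j h2).symm
  have hcen : (center (J.map π)).comap f = center J := by
    apply le_antisymm
    · -- Grün's lemma
      intro z hz
      -- `[J, z]` is central, hence the map `x ↦ [x, z]` is a homomorphism to the centre
      have hz1 : ∀ x : J, ⁅x, z⁆ ∈ center J := by
        intro x
        apply hfker
        rw [map_commutatorElement, commutatorElement_eq_one_iff_mul_comm]
        exact (mem_center_iff.mp hz) (f x)
      let g : J →* center J :=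
        { toFun := fun x => ⟨⁅x, z⁆, hz1 x⟩
          map_one' := by
            apply Subtype.ext
            simp
          map_mul' := by
            intro a b
            apply Subtype.ext
            change ⁅a * b, z⁆ = ⁅a, z⁆ * ⁅b, z⁆
            have h1 : ⁅a * b, z⁆ = a * ⁅b, z⁆ * a⁻¹ * ⁅a, z⁆ := by
              simp only [commutatorElement_def]
              group
            have h2 : a * ⁅b, z⁆ * a⁻¹ = ⁅b, z⁆ := by
              have := (mem_center_iff.mp (hz1 b)) a
              rw [this, mul_inv_cancel_right]
            rw [h1, h2]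
            exact (mem_center_iff.mp (hz1 a)) _ }
      rw [mem_center_iff]
      intro x
      have h3 := SignalizersComponents.CompBasic.hom_eq_one_of_perfect
        (A := center J) hperf g x
      have h4 : ⁅x, z⁆ = 1 := congrArg Subtype.val h3
      exact commutatorElement_eq_one_iff_mul_comm.mp h4
    · intro z hz
      rw [mem_comap, mem_center_iff]
      intro y
      obtain ⟨x, rfl⟩ := hf y
      rw [← map_mul, ← map_mul, (mem_center_iff.mp hz) x]
  have e : (J ⧸ center J) ≃* (J.map π ⧸ center (J.map π)) := by
    let q : J →* J.map π ⧸ center (J.map π) := (QuotientGroup.mk' _).comp f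
    have hq : Function.Surjective q := (QuotientGroup.mk'_surjective _).comp hf
    have hk : q.ker = center J := by
      rw [← hcen]
      ext x
      rw [MonoidHom.mem_ker]
      exact QuotientGroup.eq_one_iff (f x)
    exact (QuotientGroup.quotientMulEquivOfEq hk.symm).trans
      (QuotientGroup.quotientKerEquivOfSurjective q hq)
  exact (MulEquiv.isSimpleGroup_congr e).mpr hcomp.2.2

/-- Centralizers of involutions modulo a normal subgroup of odd order: if the involution `t`
commutes with `c` modulo `O`, then `v⁻¹ c` commutes with `t` for some `v` in `O`. -/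
theorem exists_mem_mul_commute [Finite G] (O : Subgroup G) (hO : (Nat.card O).Coprime 2)
    (t c : G) (ht : t * t = 1) (hc : c * t * c⁻¹ * t⁻¹ ∈ O) :
    ∃ v ∈ O, v⁻¹ * c * t = t * (v⁻¹ * c) := by
  set w : G := c * t * c⁻¹ * t⁻¹ with hw
  have htinv : t⁻¹ = t := by
    rw [inv_eq_iff_mul_eq_one]
    exact ht
  have hord : Odd (orderOf w) := by
    have h1 : orderOf w ∣ Nat.card O := Subgroup.orderOf_dvd_natCard O hc
    exact Nat.coprime_two_right.mp (hO.coprime_dvd_left h1)
  have htw : t * w * t⁻¹ = w⁻¹ := by
    have h2 : (c * t * c⁻¹) * (c * t * c⁻¹) = 1 := by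
      have : (c * t * c⁻¹) * (c * t * c⁻¹) = c * (t * t) * c⁻¹ := by group
      rw [this, ht, mul_one, mul_inv_cancel]
    have h3 : w⁻¹ = t * (c * t * c⁻¹) := by
      rw [inv_eq_iff_mul_eq_one, hw]
      calc c * t * c⁻¹ * t⁻¹ * (t * (c * t * c⁻¹)) = (c * t * c⁻¹) * (c * t * c⁻¹) := by group
        _ = 1 := h2
    rw [h3, hw, htinv]
    calc t * (c * t * c⁻¹ * t) * t = t * (c * t * c⁻¹) * (t * t) := by group
      _ = t * (c * t * c⁻¹) := by rw [ht, mul_one]
  obtain ⟨m, hm⟩ := hord
  let v : G := w ^ (m + 1)
  have hvv : v * v = w := by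
    change w ^ (m + 1) * w ^ (m + 1) = w
    rw [← pow_add]
    have : m + 1 + (m + 1) = orderOf w + 1 := by omega
    rw [this, pow_succ, pow_orderOf_eq_one, one_mul]
  have htv : t * v * t⁻¹ = v⁻¹ := by
    change t * w ^ (m + 1) * t⁻¹ = (w ^ (m + 1))⁻¹
    rw [← conj_pow, htw, inv_pow]
  refine ⟨v, O.pow_mem hc _, ?_⟩
  -- `v t v⁻¹ = c t c⁻¹`
  have h5 : v * t = c * t * c⁻¹ * v := by
    have h6 : c * t * c⁻¹ = w * t := by rw [hw]; group
    rw [h6, ← hvv]
    have h7 : t * v = v⁻¹ * t := by
      rw [← htv]; group
    calc v * t = v * (v * (v⁻¹ * t)) := by group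
      _ = v * (v * (t * v)) := by rw [h7]
      _ = v * v * t * v := by group
  have h8 : c * t = v * t * v⁻¹ * c := by
    rw [h5]; group
  rw [mul_assoc, h8]
  group

end Cfsg.Agent.ClassificationK.PCompTransport
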