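import Mathlib
import Cfsg.Prelude.Def_CaseTheorems
import Cfsg.Prelude.Def_LieRecognition
import Cfsg.Prelude.Def_LieTwisted
import Cfsg.Prelude.Def_Spor_J1
import Cfsg.Agent.Walter.Main
import Cfsg.Agent.Ree.Ward
import Cfsg.Agent.S1644
import Cfsg.Agent.SmallSimple.SylowEight

/-!
# Simple groups with abelian Sylow 2-subgroups, at the level of isomorphism

From the theorem in centraliser form (`WType`), the theorem on the centraliser `Z₂ × PSL(2, q)` (`CentThm`, S0343),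
Ward's theorem (`Ree.Ward`), the theorem on groups of Ree type (`ReeThm`, S1149) and the characterisation of `J₁`
(S1644).
-/

set_option autoImplicit false

namespace Cfsg.Agent.ClassificationK.WalterIso

open Cfsg Cfsg.Agent.Walter.Types Cfsg.Agent.Walter.Main

universe u

/-- The statement of S1149. -/
def ReeThm : Prop :=
  ∀ (G : Type u) [Group G] [Finite G] [IsSimpleGroup G] (P : Cfsg.BNPair G), P.rank = 1 → ∀ n : ℕ, Odd n →
    ∀ U : Subgroup G, U ≤ P.B → (∀ b ∈ P.B, ∀ u ∈ U, b * u * b⁻¹ ∈ U) → Group.IsNilpotent U →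
    U ⊔ (P.B ⊓ P.N) = P.B → U ⊓ (P.B ⊓ P.N) = ⊥ → P.B.index = 3 ^ (3 * n) + 1 → Nat.card U = 3 ^ (3 * n) →
    IsCyclic ↥(P.B ⊓ P.N) → Nat.card ↥(P.B ⊓ P.N) = 3 ^ n - 1 →
    (∀ h ∈ P.B ⊓ P.N, h ≠ 1 → Odd (orderOf h) → U ⊓ Subgroup.centralizer {h} = ⊥) →
    ∀ (K : Type) [Field K] [Fintype K], Fintype.card K = 3 ^ n →
    (∃ a ∈ P.B ⊓ P.N, a ≠ 1 ∧ a * a = 1 ∧
      Nonempty (↥(Subgroup.centralizer {a}) ≃* Multiplicative (ZMod 2) × Matrix.ProjectiveSpecialLinearGroup (Fin 2) K)) →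
    (∀ S : Sylow 2 G, Nat.card S = 8 ∧ ∀ x ∈ S, x * x = 1) → Cfsg.Lie.IsoRee G

/-- Groups of Janko–Ree type. -/
theorem iso_of_isJR (hC : CentThm.{u}) (hR : ReeThm.{u}) {G : Type u} [Group G] [Finite G] [IsSimpleGroup G]
    (hna : ¬ IsMulCommutative G) (h : IsJR G) : Cfsg.Lie.IsoRee G ∨ Cfsg.Spor.IsoJ1 G := by
  have h2 : Fact (Nat.Prime 2) := ⟨Nat.prime_two⟩
  obtain ⟨S⟩ : Nonempty (Sylow 2 G) := inferInstance
  obtain ⟨⟨S₀, hS₀, hS₀2⟩, F, i1, i2, hmod, hq, hc⟩ := h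
  have hsyl : ∀ P : Sylow 2 G, Nat.card P = 8 ∧ ∀ x ∈ P, x * x = 1 := by
    intro P
    let e := P.equiv S₀
    refine ⟨by rw [Nat.card_congr e.toEquiv]; exact hS₀, fun x hx => ?_⟩
    have h3 := hS₀2 _ (e ⟨x, hx⟩).2
    have h4 : e ⟨x, hx⟩ * e ⟨x, hx⟩ = 1 := Subtype.ext h3
    rw [← map_mul, ← map_one e] at h4
    exact congrArg Subtype.val (e.injective h4)
  have hab : ∀ P : Sylow 2 G, ∀ a b : P, a * b = b * a := by
    intro P a b
    have h3 := (hsyl P).2 _ (mul_mem a.2 b.2)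
    have ha := (hsyl P).2 _ a.2
    have hb := (hsyl P).2 _ b.2
    apply Subtype.ext
    calc (a : G) * b = ((a : G) * b)⁻¹ := (inv_eq_of_mul_eq_one_right h3).symm
      _ = (b : G)⁻¹ * (a : G)⁻¹ := mul_inv_rev _ _
      _ = b * a := by rw [inv_eq_of_mul_eq_one_right ha, inv_eq_of_mul_eq_one_right hb]
  have h8 : Nat.card (S : Subgroup G) = 8 := (hsyl S).1
  have h8d : 8 ∣ Nat.card G := h8 ▸ (S : Subgroup G).card_subgroup_dvd_card
  have h16 : ¬ 16 ∣ Nat.card G := by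
    intro h
    have h3 := (S : Subgroup G).card_mul_index
    rw [h8] at h3
    have h4 := S.not_dvd_index
    apply h4
    obtain ⟨k, hk⟩ := h
    rw [hk] at h3
    exact ⟨k, by omega⟩
  have hconj := Cfsg.Agent.SmallSimple.SylowEight.isConj_of_card_sylow_eight hna h8d h16
  obtain ⟨t, ht⟩ : ∃ t : G, orderOf t = 2 := by
    apply exists_prime_orderOf_dvd_card'
    omega
  rcases hC G hab F (by omega) t ht (hc t ht) with ⟨m, hm, hF, hcard⟩ | ⟨hF, -⟩
  · left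
    have hodd : Odd (2 * m + 1) := ⟨m, rfl⟩
    obtain ⟨P, U, h1, h3, h4, h5, h6, h7, h9, h10, h11, h12, h13, h14⟩ :=
      Cfsg.Agent.Ree.Ward.exists_bnPair hodd hF ht (hc t ht) hconj (fun P => (hsyl P).2) hcard
    exact hR G P h1 (2 * m + 1) hodd U h3 h4 h5 h6 h7 h9 h10 h11 h12 h13 F hF h14 hsyl
  · right
    have hF5 : Fintype.card F = 5 := by omega
    obtain ⟨e⟩ := hc t ht
    obtain ⟨f⟩ : Nonempty (Matrix.ProjectiveSpecialLinearGroup (Fin 2) F ≃* alternatingGroup (Fin 5)) := by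
      apply Cfsg.Agent.Walter.TypeSylow.equiv_alternating
      · rw [hF5]
        exact Dvd.intro _ rfl
      · have h := Cfsg.Agent.ClassicalGeometry.PSL2Basic.card_PSL2_odd F (by rw [hF5]; decide)
        rw [hF5] at h
        omega
    exact Cfsg.Agent.S1644.result S ⟨⟨hab S⟩⟩ h8 t ht (e.trans (MulEquiv.prodCongr (MulEquiv.refl _) f))

/-- Simple groups with abelian Sylow 2-subgroups, at the level of isomorphism. -/
theorem iso_of_wType (hC : CentThm.{u}) (hR : ReeThm.{u}) {G : Type u} [Group G] [Finite G] [IsSimpleGroup G]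
    (hna : ¬ IsMulCommutative G) (h : WType G) :
    IsEvenType G ∨ IsOddType G ∨ Cfsg.Lie.IsoRee G ∨ Cfsg.Spor.IsoJ1 G := by
  rcases h with h | h | h
  · exact Or.inl h
  · exact Or.inr (Or.inl h)
  · exact Or.inr (Or.inr (iso_of_isJR hC hR hna h))

/-- Type `L₂(2^n)` for S1740. -/
theorem type_psl_two (hC : CentThm.{u}) (hR : ReeThm.{u}) {G : Type u} [Group G] [Finite G] [IsSimpleGroup G]
    (hna : ¬ IsMulCommutative G) (h : WType G) (S : Sylow 2 G) {n : ℕ} (hn : 3 ≤ n)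
    (hS : Nat.card (S : Subgroup G) = 2 ^ n) :
    (∃ (F : Type) (_ : Field F) (_ : Fintype F), Fintype.card F = 2 ^ n ∧
      Nonempty (G ≃* Matrix.ProjectiveSpecialLinearGroup (Fin 2) F)) ∨ Cfsg.Lie.IsoRee G ∨ Cfsg.Spor.IsoJ1 G := by
  rcases iso_of_wType hC hR hna h with ⟨F, i1, i2, k, hk, hF, ⟨e⟩⟩ | ⟨F, i1, i2, hF, -, ⟨e⟩⟩ | h
  · left
    have h1 := Cfsg.Agent.Walter.TypeSylow.card_sylow_even hF e S
    rw [hS] at h1
    have h2 : n = k := Nat.pow_right_injective (le_refl 2) h1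
    exact ⟨F, i1, i2, by rw [h2, hF], ⟨e⟩⟩
  · exfalso
    have h1 := Cfsg.Agent.Walter.TypeSylow.card_sylow_odd hF e S
    rw [hS] at h1
    have h2 : n = 2 := Nat.pow_right_injective (le_refl 2) (h1.trans (by norm_num))
    omega
  · exact Or.inr h

end Cfsg.Agent.ClassificationK.WalterIso
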