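import Mathlib
import Cfsg.Agent.ClassificationK.GTwoConf
import Cfsg.Agent.ClassificationK.GTwoModel
import Cfsg.Agent.TwoFusion.QuatCover
import Cfsg.Agent.TwoFusion.QuatQuotient
import Cfsg.Agent.Lib.SylowNormalInf

/-!
Basic facts on generalized quaternion groups and on the configuration `Conf`.
-/

set_option autoImplicit false

namespace Cfsg.Agent.ClassificationK.GTwoFactorBasic

open QuaternionGroup Subgroup Cfsg.Agent.ClassificationK.GTwoConf

section quat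

variable {n : ℕ}

theorem n_add_n : (n : ZMod (2 * n)) + (n : ZMod (2 * n)) = 0 := GTwoModel.half_add_half n

theorem neg_n : -(n : ZMod (2 * n)) = n := by linear_combination -(n_add_n (n := n))

theorem inv_a (i : ZMod (2 * n)) : (a i : QuaternionGroup n)⁻¹ = a (-i) := by
  rw [inv_eq_iff_mul_eq_one, a_mul_a, add_neg_cancel, one_def]

theorem inv_xa (i : ZMod (2 * n)) : (xa i : QuaternionGroup n)⁻¹ = xa ((n : ZMod (2 * n)) + i) := by
  rw [inv_eq_iff_mul_eq_one, xa_mul_xa, one_def]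
  congr 1
  linear_combination n_add_n (n := n)

theorem an_comm (x : QuaternionGroup n) : a (n : ZMod (2 * n)) * x = x * a (n : ZMod (2 * n)) := by
  rcases x with i | i
  · rw [a_mul_a, a_mul_a, add_comm]
  · rw [a_mul_xa, xa_mul_a]
    congr 1
    linear_combination -(n_add_n (n := n))

theorem an_sq : (a (n : ZMod (2 * n)) : QuaternionGroup n) ^ 2 = 1 := by
  rw [sq, a_mul_a, n_add_n, one_def]

theorem an_ne_one [NeZero n] : (a (n : ZMod (2 * n)) : QuaternionGroup n) ≠ 1 := by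
  rw [one_def]
  intro h
  exact GTwoModel.half_ne_zero n (a.inj h)

theorem conj_xa (v : QuaternionGroup n) (i : ZMod (2 * n)) : ∃ j, v * xa i * v⁻¹ = xa (i + (j + j)) := by
  rcases v with j | j
  · refine ⟨-j, ?_⟩
    rw [inv_a, a_mul_xa, xa_mul_a]
    congr 1
    ring
  · refine ⟨j - i, ?_⟩
    rw [inv_xa, xa_mul_xa, a_mul_xa]
    congr 1
    ring

/-- elements with square `1` -/
theorem sq_one [NeZero n] {x : QuaternionGroup n} (hx : x ^ 2 = 1) : x = 1 ∨ x = a (n : ZMod (2 * n)) := by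
  by_cases h : x = 1
  · exact Or.inl h
  · exact Or.inr (TwoFusion.QuatCover.eq_a_of_sq_eq_one n x hx h)

theorem quarter {k : ℕ} (hk : 1 ≤ k) : ((2 ^ (k - 1) : ℕ) : ZMod (2 * 2 ^ k)) + ((2 ^ (k - 1) : ℕ) : ZMod (2 * 2 ^ k)) =
    ((2 ^ k : ℕ) : ZMod (2 * 2 ^ k)) := by
  rw [← Nat.cast_add]
  congr 1
  obtain ⟨j, rfl⟩ := Nat.exists_eq_add_of_le' hk
  rw [Nat.add_sub_cancel, pow_succ]
  ring

theorem par_n {k : ℕ} (hk : 1 ≤ k) : GTwoModel.par (2 ^ k) ((2 ^ k : ℕ) : ZMod (2 * 2 ^ k)) = 0 := by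
  rw [GTwoModel.par_natCast, ZMod.natCast_eq_zero_iff]
  exact dvd_pow_self 2 (by omega)

theorem two_ne {k : ℕ} (hk : 2 ≤ k) : (1 : ZMod (2 * 2 ^ k)) + 1 ≠ 0 ∧
    (1 : ZMod (2 * 2 ^ k)) + 1 ≠ ((2 ^ k : ℕ) : ZMod (2 * 2 ^ k)) := by
  have h2 : (1 : ZMod (2 * 2 ^ k)) + 1 = ((2 : ℕ) : ZMod (2 * 2 ^ k)) := by push_cast; norm_num
  have h4 : 4 ≤ 2 ^ k := by
    calc 4 = 2 ^ 2 := by norm_num
      _ ≤ 2 ^ k := Nat.pow_le_pow_right (by norm_num) hk
  constructor
  · rw [h2, Ne, ZMod.natCast_eq_zero_iff]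
    intro h
    have := Nat.le_of_dvd (by norm_num) h
    omega
  · rw [h2, Ne, ZMod.natCast_eq_natCast_iff]
    intro h
    have h5 : 2 % (2 * 2 ^ k) = 2 ^ k % (2 * 2 ^ k) := h
    rw [Nat.mod_eq_of_lt (by omega), Nat.mod_eq_of_lt (by omega)] at h5
    omega

/-- the centre of the dihedral quotient -/
theorem center_mod {k : ℕ} (hk : 2 ≤ k) (x : QuaternionGroup (2 ^ k))
    (h1 : x * a 1 = a 1 * x ∨ x * a 1 = a ((2 ^ k : ℕ) : ZMod (2 * 2 ^ k)) * (a 1 * x))
    (h2 : x * xa 0 = xa 0 * x ∨ x * xa 0 = a ((2 ^ k : ℕ) : ZMod (2 * 2 ^ k)) * (xa 0 * x)) :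
    x = 1 ∨ x = a ((2 ^ k : ℕ) : ZMod (2 * 2 ^ k)) ∨ x = a ((2 ^ (k - 1) : ℕ) : ZMod (2 * 2 ^ k)) ∨
      x = a ((2 ^ k : ℕ) : ZMod (2 * 2 ^ k)) * a ((2 ^ (k - 1) : ℕ) : ZMod (2 * 2 ^ k)) := by
  have : NeZero (2 ^ k) := ⟨by positivity⟩
  have hq := quarter (k := k) (by omega)
  have hn := n_add_n (n := 2 ^ k)
  rcases x with i | i
  · rw [a_mul_xa, xa_mul_a] at h2
    rw [a_mul_xa] at h2
    have h3 : i + i = 0 ∨ i + i = ((2 ^ k : ℕ) : ZMod (2 * 2 ^ k)) := by
      rcases h2 with h | h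
      · left
        have := xa.inj h
        linear_combination -this
      · right
        have := xa.inj h
        linear_combination -this
    rcases h3 with h | h
    · rcases GTwoModel.two_half (2 ^ k) i h with rfl | rfl
      · left; rfl
      · right; left; rfl
    · rcases GTwoModel.two_half (2 ^ k) (i - ((2 ^ (k - 1) : ℕ) : ZMod (2 * 2 ^ k)))
        (by linear_combination h - hq) with h3 | h3
      · right; right; left
        congr 1
        linear_combination h3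
      · right; right; right
        rw [a_mul_a]
        congr 1
        linear_combination h3
  · exfalso
    rw [xa_mul_a, a_mul_xa] at h1
    rw [a_mul_xa] at h1
    obtain ⟨h3, h4⟩ := two_ne hk
    rcases h1 with h | h
    · apply h3
      linear_combination xa.inj h
    · apply h4
      have := xa.inj h
      linear_combination this - hn

/-- the central involution is a commutator -/
theorem an_eq_commutator {k : ℕ} (hk : 1 ≤ k) : (a ((2 ^ k : ℕ) : ZMod (2 * 2 ^ k)) : QuaternionGroup (2 ^ k)) =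
    xa 0 * a ((2 ^ (k - 1) : ℕ) : ZMod (2 * 2 ^ k)) * (xa 0)⁻¹ * (a ((2 ^ (k - 1) : ℕ) : ZMod (2 * 2 ^ k)))⁻¹ := by
  have hq := quarter hk
  have hn := n_add_n (n := 2 ^ k)
  rw [inv_xa, inv_a, xa_mul_a, xa_mul_xa, a_mul_a]
  congr 1
  linear_combination hq

/-- squares equal to the central involution -/
theorem quarter_sq {k : ℕ} (hk : 1 ≤ k) : (a ((2 ^ (k - 1) : ℕ) : ZMod (2 * 2 ^ k)) : QuaternionGroup (2 ^ k)) ^ 2 =
    a ((2 ^ k : ℕ) : ZMod (2 * 2 ^ k)) := by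
  rw [sq, a_mul_a, quarter hk]

end quat

/-! ### the configuration -/

namespace Conf

variable {X : Type*} [Group X] [Finite X] {k : ℕ} {P : Sylow 2 X} {s : X} {φ ψ : QuaternionGroup (2 ^ k) →* X}
  (h : Conf k P s φ ψ)

include h

omit h [Finite X] in
theorem neZero (k : ℕ) : NeZero (2 ^ k) := ⟨by positivity⟩

theorem t_sq : (Conf.t φ) ^ 2 = 1 := by
  have := h.hk
  rw [Conf.t, ← map_pow, an_sq, map_one]

theorem t_ne : Conf.t φ ≠ 1 := by
  have := neZero k
  intro h1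
  have h2 : φ (a ((2 ^ k : ℕ) : ZMod (2 * 2 ^ k))) = φ 1 := by rw [map_one]; exact h1
  exact an_ne_one (h.inj₁ h2)

theorem orderOf_t : orderOf (Conf.t φ) = 2 := orderOf_eq_prime (t_sq h) (t_ne h)

theorem t_center : Conf.t φ ∈ Subgroup.center X := Subgroup.mem_center_iff.2 h.central

theorem t_symm : Conf.t ψ = Conf.t φ := h.t_eq.symm

theorem normal_t : (Subgroup.zpowers (Conf.t φ)).Normal := by
  refine ⟨fun x hx g => ?_⟩
  have hx' : x ∈ Subgroup.center X := (Subgroup.zpowers_le.2 (t_center h)) hx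
  rw [Subgroup.mem_center_iff.1 hx' g, mul_inv_cancel_right]
  exact hx

theorem mem_zpowers_t {x : X} : x ∈ Subgroup.zpowers (Conf.t φ) ↔ x = 1 ∨ x = Conf.t φ := by
  constructor
  · exact TwoFusion.QuatCover.mem_zpowers_of_orderOf_two (orderOf_t h)
  · rintro (rfl | rfl)
    · exact one_mem _
    · exact Subgroup.mem_zpowers _

omit h [Finite X] in
theorem t_mem_range : Conf.t φ ∈ φ.range := ⟨_, rfl⟩

theorem range_le : φ.range ≤ (P : Subgroup X) := by
  rintro _ ⟨x, rfl⟩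
  exact h.mem₁ x

theorem t_mem : Conf.t φ ∈ (P : Subgroup X) := range_le h t_mem_range

/-- `s` moves the class of `xa 0` modulo the other factor and the centre -/
theorem conj_s_ne (u : QuaternionGroup (2 ^ k)) (v : QuaternionGroup (2 ^ k)) :
    (φ u * ψ v * s) * ψ (xa 0) * (φ u * ψ v * s)⁻¹ ≠ ψ (xa 0) ∧
    (φ u * ψ v * s) * ψ (xa 0) * (φ u * ψ v * s)⁻¹ ≠ Conf.t φ * ψ (xa 0) := by
  have e1 : (φ u * ψ v * s) * ψ (xa 0) * (φ u * ψ v * s)⁻¹ = ψ (v * xa (0 - 1) * v⁻¹) := by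
    calc (φ u * ψ v * s) * ψ (xa 0) * (φ u * ψ v * s)⁻¹
        = φ u * (ψ v * (s * ψ (xa 0) * s⁻¹) * (ψ v)⁻¹) * (φ u)⁻¹ := by group
      _ = φ u * ψ (v * xa (0 - 1) * v⁻¹) * (φ u)⁻¹ := by rw [h.s_xa₂, map_mul, map_mul, map_inv]
      _ = ψ (v * xa (0 - 1) * v⁻¹) := by rw [h.comm, mul_inv_cancel_right]
  obtain ⟨j, hj⟩ := conj_xa v (0 - 1)
  rw [e1, hj]
  have h0 := par_n h.hk
  have h1 : GTwoModel.par (2 ^ k) (0 - 1 + (j + j)) = 1 := by
    rw [map_add, GTwoModel.par_double, map_sub, map_zero, map_one]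
    decide
  constructor
  · intro h2
    have h3 := xa.inj (h.inj₂ h2)
    rw [h3, map_zero] at h1
    exact absurd h1 (by decide)
  · rw [← t_symm h, Conf.t, ← map_mul, a_mul_xa]
    intro h2
    have h3 := xa.inj (h.inj₂ h2)
    rw [h3, map_sub, map_zero, h0, sub_zero] at h1
    exact absurd h1 (by decide)

/-- an element of `P` centralizing `R` modulo `t` lies in `Q R` -/
theorem exists_of_comm {g : X} (hg : g ∈ (P : Subgroup X))
    (hc : g * ψ (xa 0) * g⁻¹ = ψ (xa 0) ∨ g * ψ (xa 0) * g⁻¹ = Conf.t φ * ψ (xa 0)) :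
    ∃ u v, g = φ u * ψ v := by
  obtain ⟨u, v, hgu | hgu⟩ := h.cases g hg
  · exact ⟨u, v, hgu⟩
  · exfalso
    rw [hgu] at hc
    obtain ⟨h1, h2⟩ := conj_s_ne h u v
    rcases hc with h3 | h3
    · exact h1 h3
    · exact h2 h3

/-- `C_P(R) = Q` -/
theorem mem_range_of_comm {g : X} (hg : g ∈ (P : Subgroup X)) (hc : ∀ y, g * ψ y = ψ y * g) : g ∈ φ.range := by
  obtain ⟨u, v, rfl⟩ := exists_of_comm h hg (Or.inl (by rw [hc, mul_inv_cancel_right]))
  have h1 : ∀ y, v * y = y * v := by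
    intro y
    apply h.inj₂
    rw [map_mul, map_mul]
    have h2 := hc y
    rw [mul_assoc, ← mul_assoc (ψ y), ← h.comm u y, mul_assoc (φ u)] at h2
    exact mul_left_cancel h2
  have h2 : v = 1 ∨ v = a ((2 ^ k : ℕ) : ZMod (2 * 2 ^ k)) := by
    have := neZero k
    apply sq_one
    rcases v with i | i
    · have h3 := h1 (xa 0)
      rw [a_mul_xa, xa_mul_a] at h3
      have h4 := xa.inj h3
      rw [sq, a_mul_a, one_def]
      congr 1
      linear_combination -h4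
    · exfalso
      have h3 := h1 (a ((2 ^ (k - 1) : ℕ) : ZMod (2 * 2 ^ k)))
      rw [xa_mul_a, a_mul_xa] at h3
      have h4 := xa.inj h3
      have h5 := quarter h.hk
      exact GTwoModel.half_ne_zero (2 ^ k) (by linear_combination h4 - h5)
  rcases h2 with rfl | rfl
  · exact ⟨u, by rw [map_one, mul_one]⟩
  · rw [← h.t_eq, ← map_mul]
    exact ⟨_, rfl⟩

omit h in
theorem mem_map_iff {t : X} [hn : (Subgroup.zpowers t).Normal] {H : Subgroup X} (hH : t ∈ H) {g : X} :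
    QuotientGroup.mk' (Subgroup.zpowers t) g ∈ H.map (QuotientGroup.mk' (Subgroup.zpowers t)) ↔ g ∈ H := by
  constructor
  · rintro ⟨x, hx, hxg⟩
    have h1 : x⁻¹ * g ∈ Subgroup.zpowers t := (QuotientGroup.eq).1 hxg
    have h2 : x⁻¹ * g ∈ H := (Subgroup.zpowers_le.2 hH) h1
    have h3 := H.mul_mem hx h2
    rwa [mul_inv_cancel_left] at h3
  · intro hg
    exact ⟨g, hg, rfl⟩

/-- the Sylow subgroup of `X / ⟨t⟩` -/
noncomputable def PK (P : Sylow 2 X) (t : X) [hn : (Subgroup.zpowers t).Normal] :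
    Sylow 2 (X ⧸ Subgroup.zpowers t) :=
  P.mapSurjective (QuotientGroup.mk'_surjective (Subgroup.zpowers t))

section quotient

variable {t : X} (ht : Conf.t φ = t) [hn : (Subgroup.zpowers t).Normal]

include ht

theorem mem_PK {g : X} : QuotientGroup.mk' (Subgroup.zpowers t) g ∈
    (PK P t : Subgroup (X ⧸ Subgroup.zpowers t)) ↔ g ∈ (P : Subgroup X) := by
  subst ht
  rw [PK, Sylow.coe_mapSurjective]
  exact mem_map_iff (t_mem h)

theorem oddCore_quotient : Cfsg.oddCore (X ⧸ Subgroup.zpowers t) = ⊥ := by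
  subst ht
  exact TwoFusion.QuatQuotient.oddCore_quotient_eq_bot h.hO _ (t_center h) (orderOf_t h)

theorem mk_eq_one {g : X} : QuotientGroup.mk' (Subgroup.zpowers t) g = 1 ↔ g = 1 ∨ g = t := by
  subst ht
  rw [← mem_zpowers_t h]
  exact QuotientGroup.eq_one_iff g

theorem mk_eq_iff {g g' : X} : QuotientGroup.mk' (Subgroup.zpowers t) g =
    QuotientGroup.mk' (Subgroup.zpowers t) g' ↔ g = g' ∨ g = t * g' := by
  rw [← mul_inv_eq_one, ← map_inv, ← map_mul, mk_eq_one h ht, mul_inv_eq_one, mul_inv_eq_iff_eq_mul]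

theorem mk_phi_eq_one {x : QuaternionGroup (2 ^ k)} : QuotientGroup.mk' (Subgroup.zpowers t) (φ x) = 1 ↔
    x = 1 ∨ x = a ((2 ^ k : ℕ) : ZMod (2 * 2 ^ k)) := by
  rw [mk_eq_one h ht]
  refine or_congr ?_ ?_
  · exact map_eq_one_iff φ h.inj₁
  · rw [← ht, Conf.t]
    exact h.inj₁.eq_iff

/-- a normal subgroup meeting `P` in at most `⟨t⟩` is contained in `⟨t⟩` -/
theorem eq_one_or_eq_t_of_inf (M : Subgroup X) [hMn : M.Normal]
    (hM : ∀ x ∈ M, x ∈ (P : Subgroup X) → x = 1 ∨ x = t) : ∀ x ∈ M, x = 1 ∨ x = t := by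
  set M' := M.map (QuotientGroup.mk' (Subgroup.zpowers t)) with hM'
  have hn' : M'.Normal := Subgroup.Normal.map inferInstance _ (QuotientGroup.mk'_surjective _)
  have h1 : (PK P t : Subgroup (X ⧸ Subgroup.zpowers t)) ⊓ M' = ⊥ := by
    rw [eq_bot_iff]
    rintro _ ⟨hx, m, hm, rfl⟩
    rw [Subgroup.mem_bot, mk_eq_one h ht]
    exact hM m hm ((mem_PK h ht).1 hx)
  have h3 := Lib.SylowNormalInf.card_inf_mul_relIndex (PK P t : Subgroup (X ⧸ Subgroup.zpowers t)) M'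
  rw [h1, Subgroup.card_bot, one_mul] at h3
  have h4 := Lib.SylowNormalInf.not_dvd_relIndex (PK P t) M'
  rw [h3] at h4
  have h5 : M' ≤ Cfsg.oddCore (X ⧸ Subgroup.zpowers t) := by
    refine Cfsg.Agent.Lib.Cores.le_pPrimeCore hn' ?_
    exact ((Nat.Prime.coprime_iff_not_dvd Nat.prime_two).mpr h4).symm
  rw [oddCore_quotient h ht, le_bot_iff] at h5
  intro x hx
  rw [← mk_eq_one h ht, ← Subgroup.mem_bot, ← h5]
  exact ⟨x, hx, rfl⟩

end quotient

end Conf

end Cfsg.Agent.ClassificationK.GTwoFactorBasic
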