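import Mathlib
import Cfsg.Prelude.Def_CaseTheorems
import Cfsg.Prelude.Def_Sz
import Cfsg.Prelude.Def_LieTwisted
import Cfsg.Prelude.Def_Spor_J1
import Cfsg.Agent.ClassificationK.WalterIso
import Cfsg.Agent.Classification.PSLTwoEvenSylow
import Cfsg.Agent.TypeL3.Main
import Cfsg.Agent.TypeSpFour.Main
import Cfsg.Agent.TypeU3Sz.Types

/-!
# Simple groups with the Sylow 2-subgroups of the small groups of Lie type in characteristic two

Assembly of S1740 from the theorem on abelian Sylow 2-subgroups (`Step`, `CentThm`, `ReeThm`), Goldschmidt's theorem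
(`H1169`), the product theorem (`H1171`), the dichotomy theorem (`H1296`) and Bender's theorem.
-/

set_option autoImplicit false

namespace Cfsg.Agent.ClassificationK.SmallLieTwo

open Cfsg Cfsg.Agent.Walter.Types Cfsg.Agent.Walter.Main Cfsg.Agent.ClassificationK.WalterIso Cfsg.Agent.TypeL3

universe u

/-- Bender's theorem. -/
def BenderThm : Prop := ∀ (X : Type u) [Group X] [Finite X] [IsSimpleGroup X], (∃ a b : X, a * b ≠ b * a) →
  ∀ H : Subgroup X, Cfsg.IsStronglyEmbedded H → Cfsg.Agent.TypeU3Sz.Main.Concl X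

/-- A group that is not of 2-rank at most two has an elementary abelian subgroup of a Sylow 2-subgroup of order at
least eight. -/
theorem exists_elem {G : Type*} [Group G] [Finite G] (h3 : ¬ Cfsg.PRankLE 2 2 G) (S : Sylow 2 G) :
    ∃ A : Subgroup G, A ≤ S ∧ (∀ a ∈ A, ∀ b ∈ A, a * b = b * a) ∧ 8 ≤ Nat.card A := by
  have h2 : Fact (Nat.Prime 2) := ⟨Nat.prime_two⟩
  unfold Cfsg.PRankLE at h3
  push Not at h3
  obtain ⟨A, hA, hA2, hcard⟩ := h3
  have hAp : IsPGroup 2 A := fun a => ⟨1, Subtype.ext (by simpa using hA2 a a.2)⟩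
  obtain ⟨n, hn⟩ := hAp.exists_card_eq
  obtain ⟨T, hT⟩ := hAp.exists_le_sylow
  obtain ⟨g, hg⟩ := MulAction.exists_smul_eq G T S
  refine ⟨A.map (MulAut.conj g).toMonoidHom, ?_, ?_, ?_⟩
  · rw [← hg]
    exact Subgroup.map_mono hT
  · rintro _ ⟨a, ha, rfl⟩ _ ⟨b, hb, rfl⟩
    have h4 : a * b = b * a := congrArg Subtype.val (hA.is_comm.comm ⟨a, ha⟩ ⟨b, hb⟩)
    rw [← map_mul, h4, map_mul]
  · rw [Nat.card_congr (A.equivMapOfInjective _ (MulAut.conj g).injective).symm.toEquiv, hn]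
    rw [hn] at hcard
    have h5 : 2 < n := (Nat.pow_lt_pow_iff_right (by norm_num)).1 hcard
    calc 8 = 2 ^ 3 := by norm_num
      _ ≤ 2 ^ n := Nat.pow_le_pow_right (by norm_num) h5

/-- Two non-commuting unitriangular matrices. -/
theorem ut_noncomm (F : Type*) [Field F] :
    ∃ a b : Cfsg.Agent.SylowL.UT.UT 3 F, a * b ≠ b * a := by
  have h01 : Matrix.single (0 : Fin 3) (1 : Fin 3) (1 : F) ∈ Cfsg.Agent.SylowL.Lev.lev 3 F 1 :=
    Cfsg.Agent.SylowL.Lev.single_mem_lev (by decide) 1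
  have h12 : Matrix.single (1 : Fin 3) (2 : Fin 3) (1 : F) ∈ Cfsg.Agent.SylowL.Lev.lev 3 F 1 :=
    Cfsg.Agent.SylowL.Lev.single_mem_lev (by decide) 1
  refine ⟨Cfsg.Agent.SylowL.UT.mk _ h01, Cfsg.Agent.SylowL.UT.mk _ h12, fun h => ?_⟩
  have h1 := congrArg Cfsg.Agent.SylowL.UT.N h
  rw [Cfsg.Agent.SylowL.UT.N_mul, Cfsg.Agent.SylowL.UT.N_mul, Cfsg.Agent.SylowL.UT.N_mk,
    Cfsg.Agent.SylowL.UT.N_mk] at h1
  have h2 := congrFun (congrFun h1 0) 2
  simp [Matrix.mul_apply, Matrix.single] at h2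

/-- **S1740 from its ingredients.** -/
theorem main (hstep : Step.{u}) (hC : CentThm.{u}) (hR : ReeThm.{u}) (h1169 : H1169.{u}) (h1171 : H1171.{u})
    (h1296 : H1296.{u}) (hB : BenderThm.{u}) {G : Type u} [Group G] [Finite G] [IsSimpleGroup G]
    (hG : ¬ IsMulCommutative G) (h3 : ¬ Cfsg.PRankLE 2 2 G) (S : Sylow 2 G) (n : ℕ)
    (hS : (∃ (F : Type) (_ : Field F) (_ : Fintype F), Fintype.card F = 2 ^ n ∧ ((∃ P : Sylow 2 (Matrix.ProjectiveSpecialLinearGroup (Fin 2) F), Nonempty (↥(S : Subgroup G) ≃* ↥(P : Subgroup (Matrix.ProjectiveSpecialLinearGroup (Fin 2) F)))) ∨ (∃ P : Sylow 2 (Matrix.ProjectiveSpecialLinearGroup (Fin 3) F), Nonempty (↥(S : Subgroup G) ≃* ↥(P : Subgroup (Matrix.ProjectiveSpecialLinearGroup (Fin 3) F)))) ∨ (2 ≤ n ∧ (∃ P : Sylow 2 (Cfsg.PSp 2 F), Nonempty (↥(S : Subgroup G) ≃* ↥(P : Subgroup (Cfsg.PSp 2 F))))))) ∨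
      (∃ (F : Type) (_ : Field F) (_ : Fintype F), Fintype.card F = 4 ^ n ∧ (∃ P : Sylow 2 (Cfsg.PSU 3 F (2 ^ n)), Nonempty (↥(S : Subgroup G) ≃* ↥(P : Subgroup (Cfsg.PSU 3 F (2 ^ n)))))) ∨
      (∃ m : ℕ, 1 ≤ m ∧ n = 2 * m + 1 ∧ ∃ (F : Type) (_ : Field F) (_ : Fintype F), Fintype.card F = 2 ^ n ∧ (∃ P : Sylow 2 ↥(Cfsg.Lie.Sz F (2 ^ (m + 1))), Nonempty (↥(S : Subgroup G) ≃* ↥(P : Subgroup ↥(Cfsg.Lie.Sz F (2 ^ (m + 1)))))))) :
    (∃ (F : Type) (_ : Field F) (_ : Fintype F), Fintype.card F = 2 ^ n ∧ (Nonempty (G ≃* Matrix.ProjectiveSpecialLinearGroup (Fin 2) F) ∨ Nonempty (G ≃* Matrix.ProjectiveSpecialLinearGroup (Fin 3) F) ∨ Nonempty (G ≃* Cfsg.PSp 2 F))) ∨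
      (∃ (F : Type) (_ : Field F) (_ : Fintype F), Fintype.card F = 4 ^ n ∧ Nonempty (G ≃* Cfsg.PSU 3 F (2 ^ n))) ∨
      (∃ m : ℕ, 1 ≤ m ∧ n = 2 * m + 1 ∧ ∃ (F : Type) (_ : Field F) (_ : Fintype F), Fintype.card F = 2 ^ n ∧ Nonempty (G ≃* ↥(Cfsg.Lie.Sz F (2 ^ (m + 1))))) ∨
      Cfsg.Lie.IsoRee G ∨ Cfsg.Spor.IsoJ1 G := by
  have hnc : ∃ a b : G, a * b ≠ b * a := by
    by_contra hcon
    push Not at hcon
    exact hG ⟨⟨hcon⟩⟩
  obtain ⟨A, hAS, hAc, hA8⟩ := exists_elem h3 S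
  have h8 : 8 ≤ Nat.card (S : Subgroup G) := hA8.trans (Subgroup.card_le_of_le hAS)
  rcases hS with ⟨F, i1, i2, hF, hS⟩ | hS | hS
  · have : CharP F 2 := Cfsg.Agent.TypeL3.Main.charP_two hF
    rcases hS with ⟨P, ⟨e⟩⟩ | ⟨P, ⟨e⟩⟩ | ⟨hn, P, ⟨e⟩⟩
    · -- `L₂(2ⁿ)`
      have hPc : IsMulCommutative (P : Subgroup (Matrix.ProjectiveSpecialLinearGroup (Fin 2) F)) :=
        Cfsg.Agent.Classification.PSLTwoEvenSylow.sylow_comm (MulEquiv.refl _) P
      have hSc : ∀ a ∈ (S : Subgroup G), ∀ b ∈ (S : Subgroup G), a * b = b * a := by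
        intro a ha b hb
        have h1 : (⟨a, ha⟩ : (S : Subgroup G)) * ⟨b, hb⟩ = ⟨b, hb⟩ * ⟨a, ha⟩ := by
          apply e.injective
          rw [map_mul, map_mul]
          exact hPc.is_comm.comm _ _
        exact congrArg Subtype.val h1
      have hScard : Nat.card (S : Subgroup G) = 2 ^ n := by
        rw [Nat.card_congr e.toEquiv]
        exact Cfsg.Agent.Walter.TypeSylow.card_sylow_even hF (MulEquiv.refl _) P
      have hn : 3 ≤ n := by
        rw [hScard] at h8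
        exact (Nat.pow_le_pow_iff_right (by norm_num : 1 < 2)).1 (show 2 ^ 3 ≤ 2 ^ n from h8)
      have hW : WType G := wType_of_step hstep G inferInstance hG S hSc
      rcases type_psl_two hC hR hG hW S hn hScard with ⟨F', j1, j2, hF', e'⟩ | h
      · exact Or.inl ⟨F', j1, j2, hF', Or.inl e'⟩
      · exact Or.inr (Or.inr (Or.inr h))
    · -- `L₃(2ⁿ)`
      have hn : 2 ≤ n := by
        by_contra hn
        have hcF : 1 < Fintype.card F := Fintype.one_lt_card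
        have hn1 : n = 1 := by
          have h0 : n ≠ 0 := by
            rintro rfl
            rw [hF] at hcF
            norm_num at hcF
          omega
        obtain ⟨e'⟩ := Cfsg.Agent.SylowL.SylowPSL.sylow_equiv 2 P
        have hcS : Nat.card (S : Subgroup G) = 8 := by
          rw [Nat.card_congr (e.trans e').toEquiv, Cfsg.Agent.SylowL.Lower.card_UT, Nat.card_eq_fintype_card, hF, hn1]
          norm_num
        have hAeq : A = (S : Subgroup G) := Subgroup.eq_of_le_of_card_ge hAS (by rw [hcS]; exact hA8)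
        obtain ⟨a, b, hab⟩ := ut_noncomm F
        apply hab
        apply (e.trans e').symm.injective
        rw [map_mul, map_mul]
        apply Subtype.ext
        exact hAc _ (by rw [hAeq]; exact ((e.trans e').symm a).2) _ (by rw [hAeq]; exact ((e.trans e').symm b).2)
      exact Or.inl ⟨F, i1, i2, hF, Or.inr (Or.inl
        (Cfsg.Agent.TypeL3.Main.nonempty_psl_of_sylow h1169 h1171 h1296 hn hF S P ⟨e⟩))⟩
    · -- `Sp₄(2ⁿ)`
      exact Or.inl ⟨F, i1, i2, hF, Or.inr (Or.inr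
        (Cfsg.Agent.TypeSpFour.Main.nonempty_psp_of_sylow h1169 h1171 h1296 hn hF S P ⟨e⟩))⟩
  · exact Or.inr (Or.inl (Cfsg.Agent.TypeU3Sz.Types.iso_psu S n hS
      (fun A hA hc hs => h1169 G S A hA hc hs) (fun H hH => hB G hnc H hH)))
  · exact Or.inr (Or.inr (Or.inl (Cfsg.Agent.TypeU3Sz.Types.iso_sz S n hS
      (fun A hA hc hs => h1169 G S A hA hc hs) (fun H hH => hB G hnc H hH))))

end Cfsg.Agent.ClassificationK.SmallLieTwo
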