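import Mathlib
import Cfsg.Agent.ClassificationK.SmallLieTwo
import Cfsg.Agent.S0343
import Cfsg.Agent.S1149
import Cfsg.Agent.S1169
import Cfsg.Agent.S1296
import Cfsg.Agent.StrongEmb.Strong
import Cfsg.Agent.TwoFusion.ClosedCommutator

/-!
# S1740 from `Step` (the induction step for abelian Sylow 2-subgroups)
-/

set_option autoImplicit false

namespace Cfsg.Agent.ClassificationK.SmallLieTwoFinal

open Cfsg Cfsg.Agent.Walter.Types Cfsg.Agent.Walter.Main Cfsg.Agent.ClassificationK.WalterIso Cfsg.Agent.TypeL3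

universe u

theorem centThm : CentThm.{u} := fun G _ _ _ hab F _ _ hq t ht hC => Cfsg.Agent.S0343.result hab hq t ht hC

theorem reeThm : ReeThm.{u} :=
  fun G _ _ _ P h1 n hn U hUB hUn hUnil hsplit hdisj hind hU hHc hH hfpf K _ _ hK hinv hsyl =>
    Cfsg.Agent.S1149.result P h1 hn U hUB hUn hUnil hsplit hdisj hind hU hHc hH hfpf K hK hinv hsyl

theorem h1171 : H1171.{u} := fun X _ _ P A B hd hA hB =>
  Cfsg.Agent.TwoFusion.ClosedCommutator.commutator_le P A B hd hA hB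

theorem h1296 : H1296.{u} := fun X _ _ h1 h2 h3 => Cfsg.Agent.S1296.result h1 h2 h3

theorem h1169 : H1169.{u} := fun X _ _ _ S A hA hc hs => Cfsg.Agent.S1169.result S A hA hc hs

theorem benderThm : Cfsg.Agent.ClassificationK.SmallLieTwo.BenderThm.{u} := fun X _ _ _ hna H hH =>
  Cfsg.Agent.StrongEmb.Strong.result hna H hH

/-- **S1740 from the induction step.** -/
theorem main (hstep : Step.{u}) {G : Type u} [Group G] [Finite G] [IsSimpleGroup G]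
    (hG : ¬ IsMulCommutative G) (h3 : ¬ Cfsg.PRankLE 2 2 G) (S : Sylow 2 G) (n : ℕ)
    (hS : (∃ (F : Type) (_ : Field F) (_ : Fintype F), Fintype.card F = 2 ^ n ∧ ((∃ P : Sylow 2 (Matrix.ProjectiveSpecialLinearGroup (Fin 2) F), Nonempty (↥(S : Subgroup G) ≃* ↥(P : Subgroup (Matrix.ProjectiveSpecialLinearGroup (Fin 2) F)))) ∨ (∃ P : Sylow 2 (Matrix.ProjectiveSpecialLinearGroup (Fin 3) F), Nonempty (↥(S : Subgroup G) ≃* ↥(P : Subgroup (Matrix.ProjectiveSpecialLinearGroup (Fin 3) F)))) ∨ (2 ≤ n ∧ (∃ P : Sylow 2 (Cfsg.PSp 2 F), Nonempty (↥(S : Subgroup G) ≃* ↥(P : Subgroup (Cfsg.PSp 2 F))))))) ∨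
      (∃ (F : Type) (_ : Field F) (_ : Fintype F), Fintype.card F = 4 ^ n ∧ (∃ P : Sylow 2 (Cfsg.PSU 3 F (2 ^ n)), Nonempty (↥(S : Subgroup G) ≃* ↥(P : Subgroup (Cfsg.PSU 3 F (2 ^ n)))))) ∨
      (∃ m : ℕ, 1 ≤ m ∧ n = 2 * m + 1 ∧ ∃ (F : Type) (_ : Field F) (_ : Fintype F), Fintype.card F = 2 ^ n ∧ (∃ P : Sylow 2 ↥(Cfsg.Lie.Sz F (2 ^ (m + 1))), Nonempty (↥(S : Subgroup G) ≃* ↥(P : Subgroup ↥(Cfsg.Lie.Sz F (2 ^ (m + 1)))))))) :
    (∃ (F : Type) (_ : Field F) (_ : Fintype F), Fintype.card F = 2 ^ n ∧ (Nonempty (G ≃* Matrix.ProjectiveSpecialLinearGroup (Fin 2) F) ∨ Nonempty (G ≃* Matrix.ProjectiveSpecialLinearGroup (Fin 3) F) ∨ Nonempty (G ≃* Cfsg.PSp 2 F))) ∨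
      (∃ (F : Type) (_ : Field F) (_ : Fintype F), Fintype.card F = 4 ^ n ∧ Nonempty (G ≃* Cfsg.PSU 3 F (2 ^ n))) ∨
      (∃ m : ℕ, 1 ≤ m ∧ n = 2 * m + 1 ∧ ∃ (F : Type) (_ : Field F) (_ : Fintype F), Fintype.card F = 2 ^ n ∧ Nonempty (G ≃* ↥(Cfsg.Lie.Sz F (2 ^ (m + 1))))) ∨
      Cfsg.Lie.IsoRee G ∨ Cfsg.Spor.IsoJ1 G :=
  Cfsg.Agent.ClassificationK.SmallLieTwo.main hstep centThm reeThm h1169 h1171 h1296 benderThm hG h3 S n hS

end Cfsg.Agent.ClassificationK.SmallLieTwoFinal
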