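import Mathlib

/-!
A finite linear space of matrices of full dimension in which every non-zero element is invertible and which is
closed under the Jordan triple product is commutative (Chevalley–Warning argument).
-/

set_option autoImplicit false

namespace Cfsg.Agent.ClassificationK.SpreadCW

open MvPolynomial Polynomial Matrix

variable {k : Type*} [Field k] {n : ℕ}

/-- the generic element of the span of the matrices `u i` -/
noncomputable def gen (u : Fin n → Matrix (Fin n) (Fin n) k) :
    Matrix (Fin n) (Fin n) (MvPolynomial (Fin n) k) :=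
  ∑ i, (MvPolynomial.X i : MvPolynomial (Fin n) k) • (u i).map (MvPolynomial.C : k →+* MvPolynomial (Fin n) k)

theorem gen_def (u : Fin n → Matrix (Fin n) (Fin n) k) :
    gen u = ∑ i, (MvPolynomial.X i : MvPolynomial (Fin n) k) •
      (u i).map (MvPolynomial.C : k →+* MvPolynomial (Fin n) k) := rfl

theorem gen_apply (u : Fin n → Matrix (Fin n) (Fin n) k) (a b : Fin n) :
    gen u a b = ∑ i, MvPolynomial.X i * MvPolynomial.C (u i a b) := by
  rw [gen_def, Matrix.sum_apply]
  rfl

/-- specialising the generic element -/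
theorem gen_map_eval (u : Fin n → Matrix (Fin n) (Fin n) k) (x : Fin n → k) :
    (gen u).map (MvPolynomial.eval x) = ∑ i, x i • u i := by
  ext a b
  rw [Matrix.map_apply, gen_apply, map_sum, Matrix.sum_apply]
  refine Finset.sum_congr rfl fun i _ => ?_
  rw [map_mul, MvPolynomial.eval_X, MvPolynomial.eval_C, Matrix.smul_apply, smul_eq_mul]

theorem totalDegree_gen_le (u : Fin n → Matrix (Fin n) (Fin n) k) (a b : Fin n) :
    (gen u a b).totalDegree ≤ 1 := by
  rw [gen_apply]
  refine MvPolynomial.totalDegree_finsetSum_le fun i _ => ?_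
  refine (MvPolynomial.totalDegree_mul _ _).trans ?_
  rw [MvPolynomial.totalDegree_C, MvPolynomial.totalDegree_X]

theorem totalDegree_det_gen_le (u : Fin n → Matrix (Fin n) (Fin n) k) :
    (gen u).det.totalDegree ≤ n := by
  rw [Matrix.det_apply]
  refine MvPolynomial.totalDegree_finsetSum_le fun σ _ => ?_
  refine (MvPolynomial.totalDegree_smul_le _ _).trans ?_
  refine (MvPolynomial.totalDegree_finsetProd _ _).trans ?_
  refine (Finset.sum_le_sum fun i _ => totalDegree_gen_le u (σ i) i).trans ?_
  simp

theorem eval_det_gen (u : Fin n → Matrix (Fin n) (Fin n) k) (x : Fin n → k) :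
    MvPolynomial.eval x (gen u).det = (∑ i, x i • u i).det := by
  rw [← gen_map_eval, ← RingHom.mapMatrix_apply, RingHom.map_det]

/-- a monic divisor of positive degree of the characteristic polynomial of the generic element has a
constant coefficient vanishing at the origin -/
theorem eval_zero_coeff_zero (u : Fin n → Matrix (Fin n) (Fin n) k)
    (f g : Polynomial (MvPolynomial (Fin n) k)) (hf : f.Monic) (hfg : f * g = (gen u).charpoly)
    (hd : f.natDegree ≠ 0) : MvPolynomial.eval (0 : Fin n → k) (f.coeff 0) = 0 := by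
  have h0 : (gen u).map (MvPolynomial.eval (0 : Fin n → k)) = 0 := by
    rw [gen_map_eval]; simp
  have h1 : (f.map (MvPolynomial.eval (0 : Fin n → k))) * (g.map (MvPolynomial.eval (0 : Fin n → k)))
      = Polynomial.X ^ n := by
    rw [← Polynomial.map_mul, hfg, ← Matrix.charpoly_map, h0, Matrix.charpoly_zero]
    simp
  have h2 : f.map (MvPolynomial.eval (0 : Fin n → k)) ∣ Polynomial.X ^ n := ⟨_, h1.symm⟩
  obtain ⟨j, _, hj⟩ := (dvd_prime_pow Polynomial.prime_X n).1 h2
  have h3 : f.map (MvPolynomial.eval (0 : Fin n → k)) = Polynomial.X ^ j :=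
    Polynomial.eq_of_monic_of_associated (hf.map _) (Polynomial.monic_X_pow j) hj
  have h4 : j ≠ 0 := by
    intro hj0
    rw [hj0, pow_zero] at h3
    have h5 := congrArg Polynomial.natDegree h3
    rw [hf.natDegree_map, Polynomial.natDegree_one] at h5
    exact hd h5
  have h6 := congrArg (fun p => Polynomial.coeff p 0) h3
  simp only [Polynomial.coeff_map] at h6
  rw [h6, Polynomial.coeff_X_pow]
  simp [h4.symm]

variable [Finite k]

theorem charpoly_gen_irreducible (hn : 0 < n) (u : Fin n → Matrix (Fin n) (Fin n) k)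
    (hdet : ∀ x : Fin n → k, x ≠ 0 → (∑ i, x i • u i).det ≠ 0) :
    Irreducible (gen u).charpoly := by
  classical
  letI : Fintype k := Fintype.ofFinite k
  obtain ⟨p, hp⟩ := CharP.exists k
  have hdet0 : (gen u).det ≠ 0 := by
    intro h
    have h1 := eval_det_gen u (fun _ => (1 : k))
    rw [h, map_zero] at h1
    refine hdet (fun _ => (1 : k)) ?_ h1.symm
    intro h2
    exact one_ne_zero (congrFun h2 ⟨0, hn⟩)
  rw [(Matrix.charpoly_monic (gen u)).irreducible_iff_natDegree]
  refine ⟨?_, ?_⟩
  · intro h
    have h1 := congrArg Polynomial.natDegree h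
    rw [Matrix.charpoly_natDegree_eq_dim, Polynomial.natDegree_one, Fintype.card_fin] at h1
    omega
  · intro f g hf hg hfg
    by_contra hcon
    push Not at hcon
    obtain ⟨hf0, hg0⟩ := hcon
    have e1 := eval_zero_coeff_zero u f g hf hfg hf0
    have e2 := eval_zero_coeff_zero u g f hg (by rw [mul_comm]; exact hfg) hg0
    have hdm : (gen u).det = (-1) ^ n * (f.coeff 0 * g.coeff 0) := by
      rw [Matrix.det_eq_sign_charpoly_coeff, ← hfg, Polynomial.mul_coeff_zero, Fintype.card_fin]
    have hne : f.coeff 0 * g.coeff 0 ≠ 0 := by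
      intro h; rw [h, mul_zero] at hdm; exact hdet0 hdm
    have hfne : f.coeff 0 ≠ 0 := left_ne_zero_of_mul hne
    have hgne : g.coeff 0 ≠ 0 := right_ne_zero_of_mul hne
    have hdeg : (f.coeff 0 * g.coeff 0).totalDegree ≤ n := by
      have h1 : f.coeff 0 * g.coeff 0 = MvPolynomial.C ((-1 : k) ^ n) * (gen u).det := by
        rw [hdm, ← mul_assoc, map_pow, map_neg, map_one, ← mul_pow]
        simp
      rw [h1]
      refine (MvPolynomial.totalDegree_mul _ _).trans ?_
      rw [MvPolynomial.totalDegree_C, zero_add]
      exact totalDegree_det_gen_le u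
    rw [MvPolynomial.totalDegree_mul_of_isDomain hfne hgne] at hdeg
    have hgpos : 0 < (g.coeff 0).totalDegree := by
      rw [Nat.pos_iff_ne_zero]
      intro h
      rw [MvPolynomial.totalDegree_eq_zero_iff_eq_C] at h
      rw [h, MvPolynomial.eval_C] at e2
      rw [e2, map_zero] at h
      exact hgne h
    have hlt : (f.coeff 0).totalDegree < Fintype.card (Fin n) := by
      rw [Fintype.card_fin]; omega
    have hCW := char_dvd_card_solutions p hlt
    have hpp : 1 < p := by
      have := (CharP.char_is_prime k p)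
      exact this.one_lt
    -- there is a second zero
    have hcard : 1 < Fintype.card {x : Fin n → k // MvPolynomial.eval x (f.coeff 0) = 0} := by
      have hpos : 0 < Fintype.card {x : Fin n → k // MvPolynomial.eval x (f.coeff 0) = 0} :=
        Fintype.card_pos_iff.2 ⟨⟨0, e1⟩⟩
      exact lt_of_lt_of_le hpp (Nat.le_of_dvd hpos hCW)
    obtain ⟨⟨x, hx⟩, hx0⟩ := Fintype.exists_ne_of_one_lt_card hcard ⟨0, e1⟩
    have hx0' : x ≠ 0 := fun h => hx0 (Subtype.ext h)
    apply hdet x hx0'
    rw [← eval_det_gen, hdm, map_mul, map_mul, hx]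
    simp

end Cfsg.Agent.ClassificationK.SpreadCW
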