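import Mathlib
import Cfsg.Agent.ClassificationK.SpreadCW

/-!
Commutativity of a spread set of matrices closed under the Jordan triple product.
-/

set_option autoImplicit false

namespace Cfsg.Agent.ClassificationK.SpreadComm

open MvPolynomial Polynomial Matrix Cfsg.Agent.ClassificationK.SpreadCW

section Jordan

variable {F E : Type*} [Field F] [Ring E] [Algebra F E] {ι : Type*}

/-- closure under the triple product extends from generators to the span -/
theorem triple_mem_span (u : ι → E)
    (h3 : ∀ i j l, u i * u j * u l + u l * u j * u i ∈ Submodule.span F (Set.range u))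
    (h2 : ∀ i j, u i * u j * u i ∈ Submodule.span F (Set.range u)) :
    ∀ y ∈ Submodule.span F (Set.range u), ∀ z ∈ Submodule.span F (Set.range u),
      y * z * y ∈ Submodule.span F (Set.range u) := by
  have s1 : ∀ i l, ∀ z ∈ Submodule.span F (Set.range u),
      u i * z * u l + u l * z * u i ∈ Submodule.span F (Set.range u) := by
    intro i l z hz
    induction hz using Submodule.span_induction with
    | mem x hx => obtain ⟨j, rfl⟩ := hx; exact h3 i j l
    | zero => simp
    | add x y _ _ hx hy =>
      have : u i * (x + y) * u l + u l * (x + y) * u i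
          = (u i * x * u l + u l * x * u i) + (u i * y * u l + u l * y * u i) := by noncomm_ring
      rw [this]; exact Submodule.add_mem _ hx hy
    | smul a x _ hx =>
      have : u i * (a • x) * u l + u l * (a • x) * u i = a • (u i * x * u l + u l * x * u i) := by
        simp [smul_add]
      rw [this]; exact Submodule.smul_mem _ _ hx
  have s2 : ∀ l, ∀ y ∈ Submodule.span F (Set.range u), ∀ z ∈ Submodule.span F (Set.range u),
      y * z * u l + u l * z * y ∈ Submodule.span F (Set.range u) := by
    intro l y hy z hz
    induction hy using Submodule.span_induction with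
    | mem x hx => obtain ⟨j, rfl⟩ := hx; exact s1 j l z hz
    | zero => simp
    | add x y _ _ hx hy =>
      have : (x + y) * z * u l + u l * z * (x + y)
          = (x * z * u l + u l * z * x) + (y * z * u l + u l * z * y) := by noncomm_ring
      rw [this]; exact Submodule.add_mem _ hx hy
    | smul a x _ hx =>
      have : (a • x) * z * u l + u l * z * (a • x) = a • (x * z * u l + u l * z * x) := by
        simp [smul_add]
      rw [this]; exact Submodule.smul_mem _ _ hx
  have s3 : ∀ y ∈ Submodule.span F (Set.range u), ∀ y' ∈ Submodule.span F (Set.range u),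
      ∀ z ∈ Submodule.span F (Set.range u),
      y * z * y' + y' * z * y ∈ Submodule.span F (Set.range u) := by
    intro y hy y' hy' z hz
    induction hy' using Submodule.span_induction with
    | mem x hx => obtain ⟨j, rfl⟩ := hx; exact s2 j y hy z hz
    | zero => simp
    | add x x' _ _ hx hx' =>
      have : y * z * (x + x') + (x + x') * z * y
          = (y * z * x + x * z * y) + (y * z * x' + x' * z * y) := by noncomm_ring
      rw [this]; exact Submodule.add_mem _ hx hx'
    | smul a x _ hx =>
      have : y * z * (a • x) + (a • x) * z * y = a • (y * z * x + x * z * y) := by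
        simp [smul_add]
      rw [this]; exact Submodule.smul_mem _ _ hx
  have s4 : ∀ i, ∀ z ∈ Submodule.span F (Set.range u),
      u i * z * u i ∈ Submodule.span F (Set.range u) := by
    intro i z hz
    induction hz using Submodule.span_induction with
    | mem x hx => obtain ⟨j, rfl⟩ := hx; exact h2 i j
    | zero => simp
    | add x y _ _ hx hy =>
      have : u i * (x + y) * u i = u i * x * u i + u i * y * u i := by noncomm_ring
      rw [this]; exact Submodule.add_mem _ hx hy
    | smul a x _ hx =>
      have : u i * (a • x) * u i = a • (u i * x * u i) := by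
        simp [mul_smul_comm, smul_mul_assoc]
      rw [this]; exact Submodule.smul_mem _ _ hx
  intro y hy z hz
  induction hy using Submodule.span_induction with
  | mem x hx => obtain ⟨j, rfl⟩ := hx; exact s4 j z hz
  | zero => simp
  | add x y hxm hym hx hy =>
    have : (x + y) * z * (x + y) = (x * z * x + y * z * y) + (x * z * y + y * z * x) := by noncomm_ring
    rw [this]; exact Submodule.add_mem _ (Submodule.add_mem _ hx hy) (s3 x hxm y hym z hz)
  | smul a x _ hx =>
    have : (a • x) * z * (a • x) = a • a • (x * z * x) := by
      simp [mul_smul_comm, smul_mul_assoc]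
    rw [this]; exact Submodule.smul_mem _ _ (Submodule.smul_mem _ _ hx)

end Jordan

variable {k : Type*} [Field k] [Finite k] {n : ℕ}

/-- A linear space of `n × n` matrices over a finite field, of dimension `n`, containing the identity, all of whose
non-zero elements are invertible and closed under `a, b ↦ a b a`, is commutative. -/
theorem commute_of_spread (hn : 0 < n) (u : Fin n → Matrix (Fin n) (Fin n) k)
    (hdet : ∀ x : Fin n → k, x ≠ 0 → (∑ i, x i • u i).det ≠ 0)
    (hone : (1 : Matrix (Fin n) (Fin n) k) ∈ Submodule.span k (Set.range u))
    (htri : ∀ a ∈ Submodule.span k (Set.range u), ∀ b ∈ Submodule.span k (Set.range u),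
      a * b * a ∈ Submodule.span k (Set.range u)) (i j : Fin n) : u i * u j = u j * u i := by
  classical
  let R := MvPolynomial (Fin n) k
  let R' := FractionRing R
  let φ : k →+* R' := (algebraMap R R').comp MvPolynomial.C
  let u' : Fin n → Matrix (Fin n) (Fin n) R' := fun i => (u i).map φ
  let S' : Submodule R' (Matrix (Fin n) (Fin n) R') := Submodule.span R' (Set.range u')
  have hφ : Function.Injective φ := φ.injective
  -- the image of the span
  have himg : ∀ a ∈ Submodule.span k (Set.range u), a.map φ ∈ S' := by
    intro a ha
    induction ha using Submodule.span_induction with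
    | mem x hx => obtain ⟨j, rfl⟩ := hx; exact Submodule.subset_span ⟨j, rfl⟩
    | zero =>
      have : (0 : Matrix (Fin n) (Fin n) k).map φ = 0 := by ext a b; simp
      rw [this]; exact Submodule.zero_mem _
    | add x y _ _ hx hy =>
      have : (x + y).map φ = x.map φ + y.map φ := by ext a b; simp
      rw [this]; exact Submodule.add_mem _ hx hy
    | smul c x _ hx =>
      have : (c • x).map φ = φ c • x.map φ := by ext a b; simp
      rw [this]; exact Submodule.smul_mem _ _ hx
  have hmem : ∀ i, u i ∈ Submodule.span k (Set.range u) := fun i => Submodule.subset_span ⟨i, rfl⟩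
  have h3 : ∀ i j l, u' i * u' j * u' l + u' l * u' j * u' i ∈ S' := by
    intro i j l
    have h := himg (u i * u j * u l + u l * u j * u i) (by
      have e : u i * u j * u l + u l * u j * u i
          = (u i + u l) * u j * (u i + u l) - u i * u j * u i - u l * u j * u l := by noncomm_ring
      rw [e]
      refine Submodule.sub_mem _ (Submodule.sub_mem _ ?_ ?_) ?_
      · exact htri _ (Submodule.add_mem _ (hmem i) (hmem l)) _ (hmem j)
      · exact htri _ (hmem i) _ (hmem j)
      · exact htri _ (hmem l) _ (hmem j))
    have e2 : (u i * u j * u l + u l * u j * u i).map φ = u' i * u' j * u' l + u' l * u' j * u' i := by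
      have := map_add (φ.mapMatrix (m := Fin n)) (u i * u j * u l) (u l * u j * u i)
      rw [map_mul, map_mul, map_mul, map_mul] at this
      exact this
    rw [e2] at h; exact h
  have h2 : ∀ i j, u' i * u' j * u' i ∈ S' := by
    intro i j
    have h := himg (u i * u j * u i) (htri _ (hmem i) _ (hmem j))
    have e2 : (u i * u j * u i).map φ = u' i * u' j * u' i := by
      have h1 := map_mul (φ.mapMatrix (m := Fin n)) (u i * u j) (u i)
      have h2 := map_mul (φ.mapMatrix (m := Fin n)) (u i) (u j)
      rw [h2] at h1
      exact h1
    rw [e2] at h; exact h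
  have htri' := triple_mem_span (F := R') u' h3 h2
  have hone' : (1 : Matrix (Fin n) (Fin n) R') ∈ S' := by
    have h := himg 1 hone
    have e : (1 : Matrix (Fin n) (Fin n) k).map φ = 1 := Matrix.map_one φ (map_zero φ) (map_one φ)
    rw [e] at h; exact h
  -- the generic element
  let N : Matrix (Fin n) (Fin n) R' := (gen u).map (algebraMap R R')
  have hN : N = ∑ i, algebraMap R R' (MvPolynomial.X i) • u' i := by
    ext a b
    change algebraMap R R' (gen u a b) = _
    rw [gen_apply, map_sum, Matrix.sum_apply]
    refine Finset.sum_congr rfl fun i _ => ?_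
    rw [map_mul]; rfl
  have hNS : N ∈ S' := by
    rw [hN]
    exact Submodule.sum_mem _ fun i _ => Submodule.smul_mem _ _ (Submodule.subset_span ⟨i, rfl⟩)
  have hpow : ∀ m : ℕ, N ^ m ∈ S' := by
    intro m
    induction m using Nat.strong_induction_on with
    | _ m ih =>
      match m, ih with
      | 0, _ => simpa using hone'
      | 1, _ => simpa using hNS
      | m + 2, ih =>
        have e : N ^ (m + 2) = N * N ^ m * N := by
          rw [pow_succ, pow_succ']
        rw [e]
        exact htri' _ hNS _ (ih m (by omega))
  -- minimal polynomial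
  have hirr : Irreducible ((gen u).charpoly.map (algebraMap R R')) :=
    ((Matrix.charpoly_monic (gen u)).irreducible_iff_irreducible_map_fraction_map).1
      (charpoly_gen_irreducible hn u hdet)
  have hcp : (gen u).charpoly.map (algebraMap R R') = N.charpoly := (Matrix.charpoly_map _ _).symm
  rw [hcp] at hirr
  have : Nonempty (Fin n) := ⟨⟨0, hn⟩⟩
  have hmin : N.charpoly = minpoly R' N :=
    minpoly.eq_of_irreducible_of_monic hirr (Matrix.aeval_self_charpoly N) (Matrix.charpoly_monic N)
  have hdeg : (minpoly R' N).natDegree = n := by
    rw [← hmin, Matrix.charpoly_natDegree_eq_dim, Fintype.card_fin]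
  have hli : LinearIndependent R' fun i : Fin (minpoly R' N).natDegree => N ^ (i : ℕ) :=
    linearIndependent_pow N
  -- the powers of N span S'
  have : FiniteDimensional R' S' := inferInstance
  let P : Fin (minpoly R' N).natDegree → S' := fun i => ⟨N ^ (i : ℕ), hpow i⟩
  have hliP : LinearIndependent R' P := by
    apply LinearIndependent.of_comp S'.subtype
    exact hli
  have hfr : Module.finrank R' S' ≤ n := by
    have := finrank_range_le_card (R := R') u'
    rw [Fintype.card_fin] at this
    exact this
  have hfr2 : n ≤ Module.finrank R' S' := by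
    have := hliP.fintype_card_le_finrank
    rw [Fintype.card_fin, hdeg] at this
    exact this
  have hspan : Submodule.span R' (Set.range P) = ⊤ := by
    apply hliP.span_eq_top_of_card_eq_finrank'
    rw [Fintype.card_fin, hdeg]; omega
  have hadj : ∀ y ∈ S', y ∈ Algebra.adjoin R' {N} := by
    intro y hy
    have h1 : (⟨y, hy⟩ : S') ∈ Submodule.span R' (Set.range P) := by rw [hspan]; trivial
    have h2 : y ∈ (Submodule.span R' (Set.range P)).map S'.subtype := ⟨⟨y, hy⟩, h1, rfl⟩
    rw [Submodule.map_span, ← Set.range_comp] at h2
    have h3 : Submodule.span R' (Set.range (S'.subtype ∘ P)) ≤ Subalgebra.toSubmodule (Algebra.adjoin R' {N}) := by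
      rw [Submodule.span_le]
      rintro _ ⟨i, rfl⟩
      exact Subalgebra.pow_mem _ (Algebra.subset_adjoin (Set.mem_singleton N)) _
    exact h3 h2
  have hcomm : ∀ y ∈ Algebra.adjoin R' {N}, ∀ z ∈ Algebra.adjoin R' {N}, y * z = z * y := by
    intro y hy z hz
    have := Algebra.isMulCommutative_adjoin R' (s := {N}) (by
      intro a ha b hb; rw [Set.mem_singleton_iff.1 ha, Set.mem_singleton_iff.1 hb])
    exact congrArg Subtype.val (this.is_comm.comm ⟨y, hy⟩ ⟨z, hz⟩)
  have hfin : u' i * u' j = u' j * u' i :=
    hcomm _ (hadj _ (Submodule.subset_span ⟨i, rfl⟩)) _ (hadj _ (Submodule.subset_span ⟨j, rfl⟩))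
  have e1 : (u i * u j).map φ = u' i * u' j := map_mul (φ.mapMatrix (m := Fin n)) (u i) (u j)
  have e2 : (u j * u i).map φ = u' j * u' i := map_mul (φ.mapMatrix (m := Fin n)) (u j) (u i)
  rw [← e1, ← e2] at hfin
  exact Matrix.map_injective hφ hfin

end Cfsg.Agent.ClassificationK.SpreadComm
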