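import Mathlib
import Cfsg.Agent.ClassificationK.SpreadComm

/-!
A finite additive subgroup of `End(A)`, `A` an elementary abelian 2-group, of order `|A|`, containing the identity
and closed (with a companion subgroup) under inversion, is the field of multiplications for a suitable
identification of `A` with a finite field.
-/

set_option autoImplicit false

namespace Cfsg.Agent.ClassificationK.SpreadField

open Cfsg.Agent.ClassificationK.SpreadComm

section Hua

variable {E : Type*} [Ring E] [Nontrivial E]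

theorem le_of_inv (K L : AddSubgroup E) (h1 : 1 ∈ K)
    (hKL : ∀ k ∈ K, k ≠ 0 → ∃ l ∈ L, k * l = 1 ∧ l * k = 1)
    (hLK : ∀ l ∈ L, l ≠ 0 → ∃ k ∈ K, k * l = 1 ∧ l * k = 1) : L ≤ K := by
  intro b hb
  by_cases hb0 : b = 0
  · rw [hb0]; exact K.zero_mem
  by_cases hb1 : b = 1
  · rw [hb1]; exact h1
  have h1L : (1 : E) ∈ L := by
    obtain ⟨l, hl, h, _⟩ := hKL 1 h1 one_ne_zero
    rw [one_mul] at h
    rw [← h]; exact hl
  obtain ⟨c', hc'K, hc'b, hbc'⟩ := hLK b hb hb0
  have hc0 : c' - 1 ≠ 0 := by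
    intro h
    have h' : c' = 1 := sub_eq_zero.1 h
    rw [h', one_mul] at hc'b
    exact hb1 hc'b
  obtain ⟨d, hdL, hcd, hdc⟩ := hKL (c' - 1) (K.sub_mem hc'K h1) hc0
  have e1 : (1 + d) * (1 - b) = 1 := by
    have : (1 : E) - b = (c' - 1) * b := by rw [sub_mul, hc'b, one_mul]
    rw [this, ← mul_assoc, add_mul, one_mul, hdc, sub_add_cancel, hc'b]
  have e2 : (1 - b) * (1 + d) = 1 := by
    have : (1 : E) - b = b * (c' - 1) := by rw [mul_sub, hbc', mul_one]
    rw [this, mul_assoc, mul_add, mul_one, hcd, sub_add_cancel, hbc']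
  have hne : 1 + d ≠ 0 := by
    intro h; rw [h, zero_mul] at e1; exact zero_ne_one e1
  obtain ⟨e, heK, he1, he2⟩ := hLK (1 + d) (L.add_mem h1L hdL) hne
  have he : e = 1 - b := by
    calc e = e * ((1 + d) * (1 - b)) := by rw [e1, mul_one]
      _ = 1 - b := by rw [← mul_assoc, he1, one_mul]
  have hfin : b = 1 - (1 - b) := by abel
  rw [hfin, ← he]
  exact K.sub_mem h1 heK

theorem eq_of_inv (K L : AddSubgroup E) (h1 : 1 ∈ K)
    (hKL : ∀ k ∈ K, k ≠ 0 → ∃ l ∈ L, k * l = 1 ∧ l * k = 1)
    (hLK : ∀ l ∈ L, l ≠ 0 → ∃ k ∈ K, k * l = 1 ∧ l * k = 1) : L = K := by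
  have h1L : (1 : E) ∈ L := by
    obtain ⟨l, hl, h, _⟩ := hKL 1 h1 one_ne_zero
    rw [one_mul] at h
    rw [← h]; exact hl
  refine le_antisymm (le_of_inv K L h1 hKL hLK) (le_of_inv L K h1L ?_ ?_)
  · intro l hl hl0
    obtain ⟨k, hk, h, h'⟩ := hLK l hl hl0
    exact ⟨k, hk, h', h⟩
  · intro k hk hk0
    obtain ⟨l, hl, h, h'⟩ := hKL k hk hk0
    exact ⟨l, hl, h', h⟩

/-- Hua's identity -/
theorem triple_mem (K : AddSubgroup E)
    (hinv : ∀ k ∈ K, k ≠ 0 → ∃ l ∈ K, k * l = 1 ∧ l * k = 1) {a b : E} (ha : a ∈ K) (hb : b ∈ K) :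
    a * b * a ∈ K := by
  by_cases ha0 : a = 0
  · rw [ha0]; simp
  by_cases hb0 : b = 0
  · rw [hb0]; simp
  obtain ⟨a', ha'K, haa', ha'a⟩ := hinv a ha ha0
  obtain ⟨b', hb'K, hbb', hb'b⟩ := hinv b hb hb0
  by_cases hab : b' - a = 0
  · have : b' = a := sub_eq_zero.1 hab
    rw [← this, hb'b, one_mul]; exact hb'K
  obtain ⟨d, hdK, hcd, hdc⟩ := hinv (b' - a) (K.sub_mem hb'K ha) hab
  have e1 : (a' + d) * (a - a * b * a) = 1 := by
    have h1 : a - a * b * a = (b' - a) * (b * a) := by
      rw [sub_mul, ← mul_assoc b' b a, hb'b, one_mul, ← mul_assoc a b a]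
    have h2 : d * (a - a * b * a) = b * a := by rw [h1, ← mul_assoc, hdc, one_mul]
    rw [add_mul, h2, mul_sub, ha'a, ← mul_assoc, ← mul_assoc, ha'a, one_mul, sub_add_cancel]
  have e2 : (a - a * b * a) * (a' + d) = 1 := by
    have h1 : a - a * b * a = (a * b) * (b' - a) := by
      rw [mul_sub, mul_assoc a b b', hbb', mul_one]
    have h2 : (a - a * b * a) * d = a * b := by rw [h1, mul_assoc, hcd, mul_one]
    rw [mul_add, h2, sub_mul, haa', mul_assoc (a * b) a a', haa', mul_one, sub_add_cancel]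
  have hne : a' + d ≠ 0 := by
    intro h; rw [h, zero_mul] at e1; exact zero_ne_one e1
  obtain ⟨e, heK, he1, he2⟩ := hinv (a' + d) (K.add_mem ha'K hdK) hne
  have he : e = a - a * b * a := by
    calc e = e * ((a' + d) * (a - a * b * a)) := by rw [e1, mul_one]
      _ = a - a * b * a := by rw [← mul_assoc, he2, one_mul]
  have hfin : a * b * a = a - (a - a * b * a) := by abel
  rw [hfin, ← he]
  exact K.sub_mem ha heK

end Hua

section Matrix

variable {n : ℕ}

/-- commutativity, matrix form, for submodules -/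
theorem comm_submodule (hn : 0 < n) (S : Submodule (ZMod 2) (Matrix (Fin n) (Fin n) (ZMod 2)))
    (hcard : Nat.card S = 2 ^ n) (h1 : 1 ∈ S)
    (hdet : ∀ x ∈ S, x ≠ 0 → x.det ≠ 0)
    (htri : ∀ a ∈ S, ∀ b ∈ S, a * b * a ∈ S) {x y : Matrix (Fin n) (Fin n) (ZMod 2)}
    (hx : x ∈ S) (hy : y ∈ S) : x * y = y * x := by
  have : Fact (Nat.Prime 2) := ⟨Nat.prime_two⟩
  have hfr : Module.finrank (ZMod 2) S = n := by
    have h := Module.natCard_eq_pow_finrank (K := ZMod 2) (V := S)
    rw [hcard, Nat.card_zmod] at h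
    exact (Nat.pow_right_injective (le_refl 2) h).symm
  let b := Module.finBasisOfFinrankEq (ZMod 2) S hfr
  let u : Fin n → Matrix (Fin n) (Fin n) (ZMod 2) := fun i => (b i : Matrix (Fin n) (Fin n) (ZMod 2))
  have hspan : Submodule.span (ZMod 2) (Set.range u) = S := by
    have h := congrArg (Submodule.map S.subtype) b.span_eq
    rw [Submodule.map_span, ← Set.range_comp, Submodule.map_top, Submodule.range_subtype] at h
    exact h
  have hu : ∀ i j, u i * u j = u j * u i := by
    refine commute_of_spread hn u ?_ ?_ ?_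
    · intro x hx
      have h1 : (∑ i, x i • u i) = ((∑ i, x i • b i : S) : Matrix (Fin n) (Fin n) (ZMod 2)) := by
        simp [u]
      rw [h1]
      refine hdet _ (Subtype.mem _) ?_
      intro h2
      apply hx
      have h3 : (∑ i, x i • b i : S) = 0 := Subtype.ext h2
      funext i
      exact (Fintype.linearIndependent_iff.1 b.linearIndependent) x h3 i
    · rw [hspan]; exact h1
    · rw [hspan]; exact htri
  rw [← hspan] at hx hy
  induction hx using Submodule.span_induction with
  | mem x hx =>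
    obtain ⟨i, rfl⟩ := hx
    induction hy using Submodule.span_induction with
    | mem y hy => obtain ⟨j, rfl⟩ := hy; exact hu i j
    | zero => simp
    | add y z _ _ h h' => rw [mul_add, add_mul, h, h']
    | smul c y _ h => rw [mul_smul_comm, smul_mul_assoc, h]
  | zero => simp
  | add x z _ _ h h' => rw [mul_add, add_mul, h, h']
  | smul c x _ h => rw [mul_smul_comm, smul_mul_assoc, h]

end Matrix

/-- a bare copy of `Fin m` without algebraic instances -/
def Carrier (m : ℕ) : Type := Fin m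

instance carrierFintype (m : ℕ) : Fintype (Carrier m) := inferInstanceAs (Fintype (Fin m))

theorem nontrivial_end (A : Type*) [AddCommGroup A] [Nontrivial A] : Nontrivial (AddMonoid.End A) := by
  obtain ⟨a, ha⟩ := exists_ne (0 : A)
  refine ⟨⟨1, 0, fun h => ha ?_⟩⟩
  have := DFunLike.congr_fun h a
  exact this

/-- commutativity for endomorphisms of an elementary abelian 2-group -/
theorem comm_end {A : Type*} [AddCommGroup A] [Finite A] [Nontrivial A] (h2 : ∀ a : A, a + a = 0)
    (K : AddSubgroup (AddMonoid.End A)) (hcard : Nat.card K = Nat.card A) (h1 : 1 ∈ K)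
    (hinv : ∀ k ∈ K, k ≠ 0 → ∃ l ∈ K, k * l = 1 ∧ l * k = 1) {x y : AddMonoid.End A}
    (hx : x ∈ K) (hy : y ∈ K) : x * y = y * x := by
  classical
  have := nontrivial_end A
  have : Fact (Nat.Prime 2) := ⟨Nat.prime_two⟩
  let : Module (ZMod 2) A := AddCommGroup.zmodModule (fun a => by rw [two_nsmul]; exact h2 a)
  have : Module.Finite (ZMod 2) A := Module.Finite.of_finite
  let n := Module.finrank (ZMod 2) A
  have hn : 0 < n := Module.finrank_pos
  let b : Module.Basis (Fin n) (ZMod 2) A := Module.finBasis (ZMod 2) A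
  let Φ : AddMonoid.End A →+* Matrix (Fin n) (Fin n) (ZMod 2) :=
    { toFun := fun k => LinearMap.toMatrix b b (AddMonoidHom.toZModLinearMap 2 k)
      map_one' := by
        have : (AddMonoidHom.toZModLinearMap 2 (1 : AddMonoid.End A)) = LinearMap.id := by ext; rfl
        rw [this, LinearMap.toMatrix_id]
      map_mul' := fun f g => by
        have : (AddMonoidHom.toZModLinearMap 2 (f * g : AddMonoid.End A))
            = (AddMonoidHom.toZModLinearMap 2 f).comp (AddMonoidHom.toZModLinearMap 2 g) := by ext; rfl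
        rw [this, LinearMap.toMatrix_comp b b b]
      map_zero' := by
        have : (AddMonoidHom.toZModLinearMap 2 (0 : AddMonoid.End A)) = 0 := by ext; rfl
        rw [this, map_zero]
      map_add' := fun f g => by
        have : (AddMonoidHom.toZModLinearMap 2 (f + g : AddMonoid.End A))
            = (AddMonoidHom.toZModLinearMap 2 f) + (AddMonoidHom.toZModLinearMap 2 g) := by ext; rfl
        rw [this, map_add] }
  have hΦ : Function.Injective Φ := by
    intro f g h
    have h' := (LinearMap.toMatrix b b).injective h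
    exact AddMonoidHom.toZModLinearMap_injective 2 h'
  let S : Submodule (ZMod 2) (Matrix (Fin n) (Fin n) (ZMod 2)) :=
    AddSubgroup.toZModSubmodule 2 (K.map Φ.toAddMonoidHom)
  have hmemS : ∀ m, m ∈ S ↔ ∃ k ∈ K, Φ k = m := by
    intro m
    exact Iff.rfl
  have hcardA : Nat.card A = 2 ^ n := by
    have h := Module.natCard_eq_pow_finrank (K := ZMod 2) (V := A)
    rw [Nat.card_zmod] at h
    exact h
  have hcS : Nat.card S = 2 ^ n := by
    rw [← hcardA, ← hcard]
    symm
    refine Nat.card_congr (Equiv.ofBijective (fun k : K => (⟨Φ k, ⟨k, k.2, rfl⟩⟩ : S)) ⟨?_, ?_⟩)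
    · intro k k' h
      exact Subtype.ext (hΦ (congrArg Subtype.val h))
    · rintro ⟨m, hm⟩
      obtain ⟨k, hk, rfl⟩ := (hmemS m).1 hm
      exact ⟨⟨k, hk⟩, rfl⟩
  have h := comm_submodule hn S hcS ((hmemS 1).2 ⟨1, h1, map_one Φ⟩) ?_ ?_
    ((hmemS _).2 ⟨x, hx, rfl⟩) ((hmemS _).2 ⟨y, hy, rfl⟩)
  · rw [← map_mul, ← map_mul] at h
    exact hΦ h
  · intro m hm hm0 hdet
    obtain ⟨k, hk, rfl⟩ := (hmemS m).1 hm
    have hk0 : k ≠ 0 := by
      intro h; rw [h, map_zero] at hm0; exact hm0 rfl
    obtain ⟨l, _, hkl, _⟩ := hinv k hk hk0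
    have h := congrArg Φ hkl
    rw [map_mul, map_one] at h
    have h' := congrArg Matrix.det h
    rw [Matrix.det_mul, hdet, zero_mul, Matrix.det_one] at h'
    exact zero_ne_one h'
  · intro a ha c hc
    obtain ⟨k, hk, rfl⟩ := (hmemS a).1 ha
    obtain ⟨l, hl, rfl⟩ := (hmemS c).1 hc
    exact (hmemS _).2 ⟨k * l * k, triple_mem K hinv hk hl, by rw [map_mul, map_mul]⟩

/-- **Main result.** -/
theorem exists_field {A : Type*} [AddCommGroup A] [Finite A] [Nontrivial A] (h2 : ∀ a : A, a + a = 0)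
    (K L : AddSubgroup (AddMonoid.End A)) (hcard : Nat.card K = Nat.card A) (h1 : 1 ∈ K)
    (hKL : ∀ k ∈ K, k ≠ 0 → ∃ l ∈ L, k * l = 1 ∧ l * k = 1)
    (hLK : ∀ l ∈ L, l ≠ 0 → ∃ k ∈ K, k * l = 1 ∧ l * k = 1) :
    ∃ (F : Type) (_ : Field F) (_ : Fintype F), Fintype.card F = Nat.card A ∧ ∃ e : A ≃+ F,
      (∀ k : AddMonoid.End A, k ∈ K ↔ ∃ c : F, ∀ a, e (k a) = c * e a) ∧
      (∀ l : AddMonoid.End A, l ∈ L ↔ ∃ c : F, ∀ a, e (l a) = c * e a) := by
  classical
  have := nontrivial_end A
  have hLeq : L = K := eq_of_inv K L h1 hKL hLK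
  subst hLeq
  have hinv := hKL
  have hE2 : ∀ f : AddMonoid.End A, f + f = 0 := fun f => by
    ext a
    exact h2 (f a)
  have hcomm : ∀ x ∈ L, ∀ y ∈ L, x * y = y * x := fun x hx y hy =>
    comm_end h2 L hcard h1 hinv hx hy
  have hfinE : Finite (AddMonoid.End A) := by
    apply Finite.of_injective (fun f : AddMonoid.End A => (f : A → A))
    intro f g h
    exact AddMonoidHom.ext (fun a => congrFun h a)
  have hsqinj : ∀ x ∈ L, ∀ y ∈ L, x * x = y * y → x = y := by
    intro x hx y hy h
    by_contra hne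
    have hs : x - y ≠ 0 := sub_ne_zero.2 hne
    obtain ⟨z, _, hz, _⟩ := hinv (x - y) (L.sub_mem hx hy) hs
    have h3 : (x - y) * (x - y) = 0 := by
      have h4 : (x - y) * (x - y) = (x * x - y * y) - (x * y + y * x) + (y * y + y * y) := by
        noncomm_ring
      rw [h4, h, hcomm x hx y hy, hE2, hE2, sub_self, sub_zero, add_zero]
    have h5 : (x - y) * ((x - y) * z) = 0 := by rw [← mul_assoc, h3, zero_mul]
    rw [hz, mul_one] at h5
    exact hs h5
  have hsq : ∀ x ∈ L, x * x ∈ L := fun x hx => by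
    have := triple_mem L hinv hx h1
    rwa [mul_one] at this
  have hsurj : ∀ x ∈ L, ∃ y ∈ L, y * y = x := by
    intro x hx
    have hinj : Function.Injective (fun z : L => (⟨(z : AddMonoid.End A) * z, hsq _ z.2⟩ : L)) := by
      intro z w h
      exact Subtype.ext (hsqinj _ z.2 _ w.2 (congrArg Subtype.val h))
    obtain ⟨⟨y, hy⟩, h⟩ := (Finite.injective_iff_surjective.1 hinj) ⟨x, hx⟩
    exact ⟨y, hy, congrArg Subtype.val h⟩
  have hmul : ∀ x ∈ L, ∀ y ∈ L, x * y ∈ L := by
    intro x hx y hy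
    obtain ⟨z, hz, rfl⟩ := hsurj x hx
    have := triple_mem L hinv hz hy
    rwa [mul_assoc, hcomm y hy z hz, ← mul_assoc] at this
  let S : Subring (AddMonoid.End A) :=
    { carrier := L
      mul_mem' := fun {x y} hx hy => hmul x hx y hy
      one_mem' := h1
      add_mem' := fun {x y} hx hy => L.add_mem hx hy
      zero_mem' := L.zero_mem
      neg_mem' := fun {x} hx => L.neg_mem hx }
  have hSL : ∀ x, x ∈ S ↔ x ∈ L := fun x => Iff.rfl
  have hSf : IsField S :=
    { exists_pair_ne := ⟨0, 1, zero_ne_one⟩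
      mul_comm := fun x y => Subtype.ext (hcomm _ x.2 _ y.2)
      mul_inv_cancel := fun {x} hx => by
        have hx' : (x : AddMonoid.End A) ≠ 0 := fun h => hx (Subtype.ext h)
        obtain ⟨l, hl, h, _⟩ := hinv x x.2 hx'
        exact ⟨⟨l, hl⟩, Subtype.ext h⟩ }
  let fS : Field S := hSf.toField
  have hfinS : Finite S := inferInstance
  let ε : Carrier (Nat.card S) ≃ S := (Finite.equivFin S).symm
  let fF : Field (Carrier (Nat.card S)) := ε.field
  let ρ : Carrier (Nat.card S) ≃+* S := ε.ringEquiv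
  have hcS : Nat.card S = Nat.card A := hcard
  obtain ⟨v, hv⟩ := exists_ne (0 : A)
  -- evaluation at v
  let ev : S →+ A :=
    { toFun := fun s => (s : AddMonoid.End A) v
      map_zero' := rfl
      map_add' := fun s t => rfl }
  have hev : Function.Injective ev := by
    rw [injective_iff_map_eq_zero]
    intro s hs
    by_contra hs0
    have hs' : (s : AddMonoid.End A) ≠ 0 := fun h => hs0 (Subtype.ext h)
    obtain ⟨l, _, _, hl⟩ := hinv s s.2 hs'
    have h3 : (l * (s : AddMonoid.End A)) v = v := by rw [hl]; rfl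
    have h4 : (l * (s : AddMonoid.End A)) v = l ((s : AddMonoid.End A) v) := rfl
    have h5 : (s : AddMonoid.End A) v = 0 := hs
    rw [h4, h5, map_zero] at h3
    exact hv h3.symm
  have hbij : Function.Bijective ev := by
    refine (Nat.bijective_iff_injective_and_card ev).2 ⟨hev, hcS⟩
  let evE : S ≃+ A := AddEquiv.ofBijective ev hbij
  refine ⟨Carrier (Nat.card S), fF, carrierFintype _, ?_, evE.symm.trans ρ.toAddEquiv.symm, ?_, ?_⟩
  · exact (Fintype.card_fin _).trans hcS
  all_goals
    intro k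
    constructor
    · intro hk
      refine ⟨ρ.symm ⟨k, hk⟩, fun a => ?_⟩
      obtain ⟨s, rfl⟩ := evE.surjective a
      have h3 : k (evE s) = evE ((⟨k, hk⟩ : S) * s) := rfl
      rw [h3]
      change ρ.symm (evE.symm (evE _)) = ρ.symm ⟨k, hk⟩ * ρ.symm (evE.symm (evE s))
      rw [AddEquiv.symm_apply_apply, AddEquiv.symm_apply_apply, map_mul]
    · rintro ⟨c, hc⟩
      have h3 : k = (ρ c : AddMonoid.End A) := by
        refine AddMonoidHom.ext fun a => ?_
        obtain ⟨s, rfl⟩ := evE.surjective a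
        have h4 := hc (evE s)
        change ρ.symm (evE.symm (k (evE s))) = c * ρ.symm (evE.symm (evE s)) at h4
        rw [AddEquiv.symm_apply_apply] at h4
        have h5 := congrArg ρ h4
        rw [map_mul, RingEquiv.apply_symm_apply, RingEquiv.apply_symm_apply] at h5
        have h6 := congrArg evE h5
        rw [AddEquiv.apply_symm_apply] at h6
        exact h6
      rw [h3]
      exact (ρ c).2

end Cfsg.Agent.ClassificationK.SpreadField
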