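import Mathlib
import Cfsg.Prelude.Def_CaseTheorems
import Cfsg.Agent.Lib.Cores
import Cfsg.Agent.Lib.SylowNormalInf
import Cfsg.Agent.TwoFusion.QuatCover
import Cfsg.Agent.TwoFusion.QuatSolvable

/-!
# Two strongly closed subgroups whose normal closures commute

`inf_eq`: if `D₁, D₂ ≤ P` are strongly closed with `D₁ ∩ D₂ = 1`, their normal closures commute, `O(K) = 1` and
`C_P(D₂) ≤ D₁ D₂`, `C_P(D₁) ≤ D₁ D₂`, then the normal closures `N₁, N₂` satisfy `N₁ ∩ N₂ = 1`, `N_i ∩ P = D_i`.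
-/

set_option autoImplicit false

namespace Cfsg.Agent.ClassificationK.GTwoFactorGen

open Subgroup Cfsg.Agent.Lib.SylowNormalInf

/-- if `N` is generated by conjugates of `D`, strongly closed in the Sylow subgroup `T` with `T / D` abelian, then
`Z(N) ∩ T ≤ D`. -/
theorem mem_of_central {N : Type*} [Group N] [Finite N] {p : ℕ} [Fact p.Prime] (T : Sylow p N) (D : Subgroup N)
    (hcl : ∀ d ∈ D, ∀ g, g * d * g⁻¹ ∈ (T : Subgroup N) → g * d * g⁻¹ ∈ D)
    (hT : ∀ x ∈ (T : Subgroup N), ∀ y ∈ (T : Subgroup N), x * y * x⁻¹ * y⁻¹ ∈ D)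
    (hgen : Subgroup.normalClosure (D : Set N) = ⊤) {x : N} (hx : x ∈ (T : Subgroup N))
    (hxc : x ∈ Subgroup.center N) : x ∈ D := by
  classical
  have := Fintype.ofFinite N
  set D' : Subgroup (T : Subgroup N) := D.subgroupOf (T : Subgroup N) with hD'
  have hDn : D'.Normal := by
    refine ⟨fun d hd g => ?_⟩
    exact hcl _ hd _ (SetLike.coe_mem (g * d * g⁻¹))
  let hcomm : CommGroup ((T : Subgroup N) ⧸ D') :=
    { (inferInstance : Group ((T : Subgroup N) ⧸ D')) with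
      mul_comm := by
        intro u v
        induction u using QuotientGroup.induction_on with
        | H u =>
        induction v using QuotientGroup.induction_on with
        | H v =>
        rw [← QuotientGroup.mk_mul, ← QuotientGroup.mk_mul, QuotientGroup.eq]
        change (((u * v)⁻¹ * (v * u) : (T : Subgroup N)) : N) ∈ D
        have h1 := hT (v : N)⁻¹ (inv_mem v.2) (u : N)⁻¹ (inv_mem u.2)
        push_cast
        have : ((u : N) * v)⁻¹ * (v * u) = (v : N)⁻¹ * (u : N)⁻¹ * ((v : N)⁻¹)⁻¹ * ((u : N)⁻¹)⁻¹ := by group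
        rw [this]
        exact h1 }
  let π : (T : Subgroup N) →* ((T : Subgroup N) ⧸ D') := QuotientGroup.mk' D'
  have hπ : ∀ y : (T : Subgroup N), (y : N) ∈ D → π y = 1 := fun y hy =>
    (QuotientGroup.eq_one_iff y).2 hy
  set V : N →* ((T : Subgroup N) ⧸ D') := MonoidHom.transfer π with hV
  have h1 : D ≤ V.ker := by
    intro d hd
    rw [MonoidHom.mem_ker, hV, MonoidHom.transfer_eq_prod_quotient_orbitRel_zpowers_quot]
    refine Finset.prod_eq_one fun q _ => hπ _ ?_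
    have h2 := hcl (d ^ Function.minimalPeriod (d • ·) q.out) (pow_mem hd _) (q.out.out⁻¹)
    rw [inv_inv] at h2
    exact h2 (QuotientGroup.out_conj_pow_minimalPeriod_mem (T : Subgroup N) d q.out)
  have h2 : V.ker = ⊤ := by
    rw [eq_top_iff, ← hgen]
    exact Subgroup.normalClosure_le_normal h1
  have h3 : V x = π ⟨x, hx⟩ ^ (T : Subgroup N).index :=
    TwoFusion.QuatCover.transfer_of_mem_center π x hxc hx
  have h4 : V x = 1 := by
    have : x ∈ V.ker := by rw [h2]; exact Subgroup.mem_top x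
    exact this
  have h5 : π ⟨x, hx⟩ ^ (T : Subgroup N).index = 1 := by rw [← h3, h4]
  have h6 : orderOf (π ⟨x, hx⟩) ∣ (T : Subgroup N).index := orderOf_dvd_of_pow_eq_one h5
  have h7 : ¬ p ∣ (T : Subgroup N).index := T.not_dvd_index
  have h8 : IsPGroup p ((T : Subgroup N) ⧸ D') := T.isPGroup'.to_quotient D'
  obtain ⟨k, hk⟩ := h8 (π ⟨x, hx⟩)
  have h9 : orderOf (π ⟨x, hx⟩) = 1 := by
    have h10 : orderOf (π ⟨x, hx⟩) ∣ p ^ k := orderOf_dvd_of_pow_eq_one hk
    obtain ⟨j, -, hj⟩ := (Nat.dvd_prime_pow (Fact.out : p.Prime)).1 h10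
    rcases Nat.eq_zero_or_pos j with h0 | h0
    · rw [hj, h0, pow_zero]
    · exfalso
      apply h7
      refine Dvd.dvd.trans ?_ h6
      rw [hj]
      exact dvd_pow_self p h0.ne'
  have h10 : π ⟨x, hx⟩ = 1 := orderOf_eq_one_iff.1 h9
  exact (QuotientGroup.eq_one_iff (⟨x, hx⟩ : (T : Subgroup N))).1 h10

/-- the Sylow subgroup `P ∩ N` of the normal subgroup `N` -/
noncomputable def sylowInf {G : Type*} [Group G] [Finite G] {p : ℕ} [Fact p.Prime] (P : Sylow p G) (N : Subgroup G)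
    [N.Normal] : Sylow p N :=
  (isPGroup_subgroupOf P N).toSylow (not_dvd_relIndex P N)

theorem coe_sylowInf {G : Type*} [Group G] [Finite G] {p : ℕ} [Fact p.Prime] (P : Sylow p G) (N : Subgroup G)
    [N.Normal] : (sylowInf P N : Subgroup N) = (P : Subgroup G).subgroupOf N := rfl

variable {K : Type*} [Group K] [Finite K]

/-- A strongly closed subgroup generates its normal closure by conjugates inside the normal closure. -/
theorem normalClosure_subgroupOf (P : Sylow 2 K) (D : Subgroup K) (hDP : D ≤ (P : Subgroup K))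
    (hcl : ∀ d ∈ D, ∀ g, g * d * g⁻¹ ∈ (P : Subgroup K) → g * d * g⁻¹ ∈ D) :
    Subgroup.normalClosure ((D.subgroupOf (normalClosure (D : Set K)) : Subgroup _) :
      Set (normalClosure (D : Set K))) = ⊤ := by
  set N : Subgroup K := normalClosure (D : Set K) with hN
  have hDN : D ≤ N := Subgroup.le_normalClosure
  rw [eq_top_iff]
  intro x _
  -- it is enough to show that `N` is contained in the image
  set M : Subgroup N := Subgroup.normalClosure ((D.subgroupOf N : Subgroup _) : Set N) with hM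
  have h1 : N ≤ M.map N.subtype := by
    refine (Subgroup.closure_le (M.map N.subtype)).2 ?_
    intro y hy
    obtain ⟨d, hd, hdy⟩ := Group.mem_conjugatesOfSet_iff.1 hy
    obtain ⟨g, rfl⟩ := isConj_iff.1 hdy
    have hg : g ∈ Subgroup.normalizer (((P : Subgroup K) ⊓ N : Subgroup K) : Set K) ⊔ N := by
      rw [normalizer_inf_sup_eq_top]; exact Subgroup.mem_top g
    rw [sup_comm] at hg
    obtain ⟨n, hn, m, hm, rfl⟩ := Subgroup.mem_sup_of_normal_left.1 hg
    have h2 : m * d * m⁻¹ ∈ (P : Subgroup K) ⊓ N :=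
      (Subgroup.mem_normalizer_iff.1 hm d).1 ⟨hDP hd, hDN hd⟩
    have h3 : m * d * m⁻¹ ∈ D := hcl d hd m h2.1
    have h4 : (⟨m * d * m⁻¹, h2.2⟩ : N) ∈ M :=
      Subgroup.subset_normalClosure (show (⟨m * d * m⁻¹, h2.2⟩ : N) ∈ D.subgroupOf N from h3)
    have h5 : (⟨n, hn⟩ : N) * ⟨m * d * m⁻¹, h2.2⟩ * (⟨n, hn⟩ : N)⁻¹ ∈ M :=
      (Subgroup.normalClosure_normal).conj_mem _ h4 _
    refine ⟨_, h5, ?_⟩
    simp only [Subgroup.subtype_apply, Subgroup.coe_mul, Subgroup.coe_inv]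
    group
  obtain ⟨y, hy, hyx⟩ := h1 x.2
  have : y = x := Subtype.ext hyx
  rw [← this]
  exact hy

/-- one half of `inf_eq` -/
theorem inf_le_aux (P : Sylow 2 K) (D₁ D₂ : Subgroup K) (h₁ : D₁ ≤ (P : Subgroup K)) (h₂ : D₂ ≤ (P : Subgroup K))
    (hdis : D₁ ⊓ D₂ = ⊥)
    (hcl₁ : ∀ d ∈ D₁, ∀ g, g * d * g⁻¹ ∈ (P : Subgroup K) → g * d * g⁻¹ ∈ D₁)
    (hcomm : ∀ x ∈ normalClosure (D₁ : Set K), ∀ y ∈ normalClosure (D₂ : Set K), x * y = y * x)
    (hC : ∀ x ∈ (P : Subgroup K), (∀ y ∈ D₂, x * y = y * x) → ∃ u ∈ D₁, ∃ v ∈ D₂, x = u * v) :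
    ∀ x ∈ normalClosure (D₁ : Set K), x ∈ (P : Subgroup K) → x ∈ D₁ := by
  set N₁ : Subgroup K := normalClosure (D₁ : Set K) with hN₁
  set N₂ : Subgroup K := normalClosure (D₂ : Set K) with hN₂
  have hD₁ : D₁ ≤ N₁ := Subgroup.le_normalClosure
  have hD₂ : D₂ ≤ N₂ := Subgroup.le_normalClosure
  have hdec : ∀ x ∈ N₁, x ∈ (P : Subgroup K) → ∃ u ∈ D₁, ∃ v ∈ D₂, x = u * v ∧ v ∈ N₁ := by
    intro x hx hxP
    obtain ⟨u, hu, v, hv, rfl⟩ := hC x hxP fun y hy => hcomm x hx y (hD₂ hy)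
    refine ⟨u, hu, v, hv, rfl, ?_⟩
    have := N₁.mul_mem (N₁.inv_mem (hD₁ hu)) hx
    rwa [inv_mul_cancel_left] at this
  -- elements of `D₂ ∩ N₁` are central in `N₁`
  have hcen : ∀ v ∈ D₂, ∀ hv : v ∈ N₁, (⟨v, hv⟩ : N₁) ∈ Subgroup.center N₁ := by
    intro v hv hvN
    rw [Subgroup.mem_center_iff]
    intro g
    exact Subtype.ext (hcomm g g.2 v (hD₂ hv))
  have key : ∀ v ∈ D₂, ∀ hv : v ∈ N₁, v = 1 := by
    intro v hv hvN
    have h1 : (⟨v, hvN⟩ : N₁) ∈ D₁.subgroupOf N₁ := by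
      refine mem_of_central (sylowInf P N₁) (D₁.subgroupOf N₁) ?_ ?_
        (normalClosure_subgroupOf P D₁ h₁ hcl₁) (x := ⟨v, hvN⟩) ?_ (hcen v hv hvN)
      · intro d hd g hg
        exact hcl₁ d hd g hg
      · rintro ⟨x, hx⟩ hxP ⟨y, hy⟩ hyP
        obtain ⟨u, hu, v, hv, rfl, hvN⟩ := hdec x hx hxP
        obtain ⟨u', hu', v', hv', rfl, hvN'⟩ := hdec y hy hyP
        change u * v * (u' * v') * (u * v)⁻¹ * (u' * v')⁻¹ ∈ D₁
        have e1 : v' * v = v * v' := (hcomm _ hvN' v (hD₂ hv))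
        have e3 : v * u' = u' * v := (hcomm _ (hD₁ hu') v (hD₂ hv)).symm
        have e4 : v' * u = u * v' := (hcomm _ (hD₁ hu) v' (hD₂ hv')).symm
        have e5 : u * v * (u' * v') = u * u' * (v * v') := by
          rw [mul_assoc u v, ← mul_assoc v u', e3]; simp only [mul_assoc]
        have e6 : u' * v' * (u * v) = u' * u * (v * v') := by
          rw [mul_assoc u' v', ← mul_assoc v' u, e4, ← e1]; simp only [mul_assoc]
        have : u * v * (u' * v') * (u * v)⁻¹ * (u' * v')⁻¹ = u * u' * u⁻¹ * u'⁻¹ := by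
          calc u * v * (u' * v') * (u * v)⁻¹ * (u' * v')⁻¹
              = (u * v * (u' * v')) * (u' * v' * (u * v))⁻¹ := by group
            _ = u * u' * u⁻¹ * u'⁻¹ := by rw [e5, e6]; group
        rw [this]
        exact mul_mem (mul_mem (mul_mem hu hu') (inv_mem hu)) (inv_mem hu')
      · exact h₂ hv
    have h2 : v ∈ D₁ ⊓ D₂ := ⟨h1, hv⟩
    rw [hdis, Subgroup.mem_bot] at h2
    exact h2
  intro x hx hxP
  obtain ⟨u, hu, v, hv, rfl, hvN⟩ := hdec x hx hxP
  rw [key v hv hvN, mul_one]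
  exact hu

/-- the normal closures meet trivially -/
theorem inf_eq_bot (P : Sylow 2 K) (hO : Cfsg.oddCore K = ⊥) (N₁ N₂ D₁ D₂ : Subgroup K) [N₁.Normal] [N₂.Normal]
    (h₁ : ∀ x ∈ N₁, x ∈ (P : Subgroup K) → x ∈ D₁) (h₂ : ∀ x ∈ N₂, x ∈ (P : Subgroup K) → x ∈ D₂)
    (hdis : D₁ ⊓ D₂ = ⊥) : N₁ ⊓ N₂ = ⊥ := by
  have hP : (P : Subgroup K) ⊓ (N₁ ⊓ N₂) = ⊥ := by
    rw [eq_bot_iff]
    rintro x ⟨hx, hx₁, hx₂⟩
    rw [← hdis]
    exact ⟨h₁ x hx₁ hx, h₂ x hx₂ hx⟩
  have h3 := card_inf_mul_relIndex (P : Subgroup K) (N₁ ⊓ N₂)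
  rw [hP, Subgroup.card_bot, one_mul] at h3
  have h4 := not_dvd_relIndex P (N₁ ⊓ N₂)
  rw [h3] at h4
  rw [eq_bot_iff, ← hO]
  refine Cfsg.Agent.Lib.Cores.le_pPrimeCore inferInstance ?_
  exact ((Nat.Prime.coprime_iff_not_dvd Nat.prime_two).mpr h4).symm

omit [Finite K] in
theorem conj_eq {N₁ N₂ : Subgroup K} (hN₁ : N₁.Normal) (hN₂ : N₂.Normal) (hinf : N₁ ⊓ N₂ = ⊥) {g x y x' y' : K}
    (hx : x ∈ N₁) (hy : y ∈ N₂) (hx' : x' ∈ N₁) (hy' : y' ∈ N₂) (h : g * (x * y) * g⁻¹ = x' * y') :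
    g * x * g⁻¹ = x' ∧ g * y * g⁻¹ = y' := by
  have h1 : g * x * g⁻¹ ∈ N₁ := hN₁.conj_mem _ hx g
  have h2 : g * y * g⁻¹ ∈ N₂ := hN₂.conj_mem _ hy g
  have h3 : g * x * g⁻¹ * (g * y * g⁻¹) = x' * y' := by rw [← h]; group
  have h4 : x'⁻¹ * (g * x * g⁻¹) = y' * (g * y * g⁻¹)⁻¹ := by
    rw [inv_mul_eq_iff_eq_mul, ← mul_assoc, eq_mul_inv_iff_mul_eq]
    exact h3
  have h5 : x'⁻¹ * (g * x * g⁻¹) ∈ N₁ ⊓ N₂ :=
    ⟨N₁.mul_mem (N₁.inv_mem hx') h1, by rw [h4]; exact N₂.mul_mem hy' (N₂.inv_mem h2)⟩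
  rw [hinf, Subgroup.mem_bot] at h5
  have h6 : g * x * g⁻¹ = x' := (inv_mul_eq_one.1 h5).symm
  refine ⟨h6, ?_⟩
  rw [h6] at h3
  exact mul_left_cancel h3

/-- A group generated by the conjugates of a Sylow 2-subgroup generated by involutions, of order divisible by 4,
all of whose involutions are conjugate, is perfect. -/
theorem commutator_eq_top {N : Type*} [Group N] [Finite N] (T : Sylow 2 N)
    (hgen : Subgroup.normalClosure ((T : Subgroup N) : Set N) = ⊤) (hcard : 4 ∣ Nat.card (T : Subgroup N))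
    (hinv : ∀ x ∈ (T : Subgroup N), ∀ y ∈ (T : Subgroup N), x ^ 2 = 1 → x ≠ 1 → y ^ 2 = 1 → y ≠ 1 → IsConj x y)
    (hT : (T : Subgroup N) ≤ Subgroup.closure {x : N | x ∈ (T : Subgroup N) ∧ x ^ 2 = 1}) :
    commutator N = ⊤ := by
  by_contra hne
  have hcn : (commutator N).Normal := inferInstance
  set A := N ⧸ commutator N with hA
  let π : N →* A := QuotientGroup.mk' (commutator N)
  have hπs : Function.Surjective π := QuotientGroup.mk'_surjective _
  have hab : ∀ x y : A, x * y = y * x := by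
    intro x y
    obtain ⟨x, rfl⟩ := hπs x
    obtain ⟨y, rfl⟩ := hπs y
    rw [← map_mul, ← map_mul]
    refine (QuotientGroup.eq).2 ?_
    have h1 := Subgroup.commutator_mem_commutator (Subgroup.mem_top y⁻¹) (Subgroup.mem_top x⁻¹)
    have : (x * y)⁻¹ * (y * x) = y⁻¹ * x⁻¹ * y⁻¹⁻¹ * x⁻¹⁻¹ := by group
    rw [this]
    exact h1
  have hTA : (T : Subgroup N).map π = ⊤ := by
    have h1 : (⊤ : Subgroup N) ≤ ((T : Subgroup N).map π).comap π := by
      rw [← hgen]
      have hn : (((T : Subgroup N).map π).comap π).Normal := by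
        refine ⟨fun x hx g => ?_⟩
        rw [Subgroup.mem_comap] at hx ⊢
        rw [map_mul, map_mul, hab (π g), map_inv, mul_inv_cancel_right]
        exact hx
      exact Subgroup.normalClosure_le_normal (fun x hx => ⟨x, hx, rfl⟩)
    rw [eq_top_iff]
    intro a _
    obtain ⟨x, rfl⟩ := hπs a
    exact h1 (Subgroup.mem_top x)
  have hAp : IsPGroup 2 A := by
    have h1 : IsPGroup 2 ((T : Subgroup N).map π) := T.isPGroup'.map π
    rw [hTA] at h1
    exact h1.of_equiv Subgroup.topEquiv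
  have hA1 : 1 < Nat.card A := by
    have h1 : Nat.card A = (commutator N).index := rfl
    rw [h1]
    have h2 : (commutator N).index ≠ 0 := Subgroup.index_ne_zero_of_finite
    have h3 : (commutator N).index ≠ 1 := fun h => hne (Subgroup.index_eq_one.1 h)
    omega
  obtain ⟨M₀, hM₀⟩ := Cfsg.Agent.TwoFusion.QuatSolvable.exists_index_two hAp hA1
  set M : Subgroup N := M₀.comap π with hM
  have hMidx : M.index = 2 := by
    rw [hM, Subgroup.index_comap_of_surjective _ hπs, hM₀]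
  have hMn : M.Normal := Subgroup.normal_of_index_eq_two hMidx
  -- an involution of `T` in `M`
  have h1 : 2 ∣ Nat.card ((T : Subgroup N) ⊓ M : Subgroup N) := by
    have h2 := card_inf_mul_relIndex M (T : Subgroup N)
    have h3 : M.relIndex (T : Subgroup N) ∣ 2 := by
      have h4 := Subgroup.relIndex_dvd_index_of_normal M (T : Subgroup N)
      rwa [hMidx] at h4
    rw [inf_comm]
    rcases (Nat.dvd_prime Nat.prime_two).1 h3 with h4 | h4
    · rw [h4, mul_one] at h2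
      rw [h2]
      exact Dvd.dvd.trans (by norm_num) hcard
    · rw [h4] at h2
      rw [← h2] at hcard
      omega
  obtain ⟨i, hi⟩ := exists_prime_orderOf_dvd_card' (G := ((T : Subgroup N) ⊓ M : Subgroup N)) 2 h1
  have hi2 : (i : N) ^ 2 = 1 := by
    have := pow_orderOf_eq_one (i : N)
    rwa [Subgroup.orderOf_coe, hi] at this
  have hi1 : (i : N) ≠ 1 := by
    intro h
    have : orderOf (i : N) = 2 := by rw [Subgroup.orderOf_coe, hi]
    rw [h, orderOf_one] at this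
    omega
  have hTM : (T : Subgroup N) ≤ M := by
    refine hT.trans ?_
    rw [Subgroup.closure_le]
    rintro x ⟨hx, hx2⟩
    by_cases hx1 : x = 1
    · rw [hx1]; exact one_mem _
    · obtain ⟨g, hg⟩ := isConj_iff.1 (hinv i i.2.1 x hx hi2 hi1 hx2 hx1)
      rw [← hg]
      exact hMn.conj_mem _ i.2.2 g
  have hMtop : M = ⊤ := by
    rw [eq_top_iff, ← hgen]
    exact Subgroup.normalClosure_le_normal hTM
  rw [hMtop, Subgroup.index_top] at hMidx
  omega

/-- an element of odd order acting nontrivially on a four-group permutes the involutions transitively -/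
theorem klein_three {N : Type*} [Group N] (T : Subgroup N) (hT : Nat.card T = 4)
    {g : N} (hg : ∀ x ∈ T, g * x * g⁻¹ ∈ T) (ho : Odd (orderOf g))
    {x₀ : N} (hx₀ : x₀ ∈ T) (hx₀g : g * x₀ * g⁻¹ ≠ x₀) {x y : N} (hx : x ∈ T) (hy : y ∈ T) (hx1 : x ≠ 1)
    (hy1 : y ≠ 1) : IsConj x y := by
  classical
  have hfin : Finite T := Nat.finite_of_card_ne_zero (by rw [hT]; norm_num)
  have := Fintype.ofFinite T
  have hxs : g * x₀ * g⁻¹ ∈ T := hg _ hx₀
  set x₁ := g * x₀ * g⁻¹ with hx₁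
  have hxs2 : g * x₁ * g⁻¹ ∈ T := hg _ hxs
  set x₂ := g * x₁ * g⁻¹ with hx₂
  have hne0 : x₀ ≠ 1 := by
    intro h
    apply hx₀g
    rw [hx₁, h]; group
  have hne1 : x₁ ≠ 1 := by
    intro h
    apply hne0
    have : x₀ = g⁻¹ * x₁ * g := by rw [hx₁]; group
    rw [this, h]; group
  have hne2 : x₂ ≠ 1 := by
    intro h
    apply hne1
    have : x₁ = g⁻¹ * x₂ * g := by rw [hx₂]; group
    rw [this, h]; group
  have h21 : x₂ ≠ x₁ := by
    intro h
    apply hx₀g
    have e : g * x₁ * g⁻¹ = g * x₀ * g⁻¹ := h.trans hx₁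
    have : x₁ = x₀ := by
      calc x₁ = g⁻¹ * (g * x₁ * g⁻¹) * g := by group
        _ = g⁻¹ * (g * x₀ * g⁻¹) * g := by rw [e]
        _ = x₀ := by group
    exact this
  have h20 : x₂ ≠ x₀ := by
    intro h
    apply hx₀g
    have hc : Commute (g ^ 2) x₀ := by
      change g ^ 2 * x₀ = x₀ * g ^ 2
      have : g ^ 2 * x₀ * (g ^ 2)⁻¹ = x₀ := by
        calc g ^ 2 * x₀ * (g ^ 2)⁻¹ = g * (g * x₀ * g⁻¹) * g⁻¹ := by rw [sq, mul_inv_rev]; simp only [mul_assoc]
          _ = x₀ := h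
      exact mul_inv_eq_iff_eq_mul.1 this
    obtain ⟨n, hn⟩ := ho
    have h5 : (g ^ 2) ^ (n + 1) = g := by
      rw [← pow_mul, show 2 * (n + 1) = orderOf g + 1 by omega, pow_succ, pow_orderOf_eq_one, one_mul]
    have h6 : Commute g x₀ := by
      rw [← h5]; exact hc.pow_left _
    rw [hx₁, h6.eq, mul_inv_cancel_right]
  -- the elements of `T`
  have hall : ∀ w ∈ T, w = 1 ∨ w = x₀ ∨ w = x₁ ∨ w = x₂ := by
    intro w hw
    by_contra hcon
    push Not at hcon
    obtain ⟨hw0, hw1, hw2, hw3⟩ := hcon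
    have h5 : ({1, ⟨x₀, hx₀⟩, ⟨x₁, hxs⟩, ⟨x₂, hxs2⟩, ⟨w, hw⟩} : Finset T).card = 5 := by
      rw [Finset.card_insert_of_notMem, Finset.card_insert_of_notMem, Finset.card_insert_of_notMem,
        Finset.card_insert_of_notMem, Finset.card_singleton]
      · simpa [Subtype.ext_iff] using Ne.symm hw3
      · simp only [Finset.mem_insert, Finset.mem_singleton, Subtype.mk.injEq, not_or]
        exact ⟨Ne.symm h21, Ne.symm hw2⟩
      · simp only [Finset.mem_insert, Finset.mem_singleton, Subtype.mk.injEq, not_or]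
        exact ⟨Ne.symm hx₀g, Ne.symm h20, Ne.symm hw1⟩
      · simp only [Finset.mem_insert, Finset.mem_singleton, Subtype.ext_iff, not_or, Subgroup.coe_one]
        exact ⟨Ne.symm hne0, Ne.symm hne1, Ne.symm hne2, Ne.symm hw0⟩
    have h6 := Finset.card_le_univ ({1, ⟨x₀, hx₀⟩, ⟨x₁, hxs⟩, ⟨x₂, hxs2⟩, ⟨w, hw⟩} : Finset T)
    rw [h5, ← Nat.card_eq_fintype_card, hT] at h6
    omega
  have hc01 : IsConj x₀ x₁ := isConj_iff.2 ⟨g, rfl⟩
  have hc12 : IsConj x₁ x₂ := isConj_iff.2 ⟨g, rfl⟩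
  have key : ∀ w ∈ T, w ≠ 1 → IsConj x₀ w := by
    intro w hw hw1
    rcases hall w hw with h | h | h | h
    · exact absurd h hw1
    · rw [h]
    · rw [h]; exact hc01
    · rw [h]; exact hc01.trans hc12
  exact (key x hx hx1).symm.trans (key y hy hy1)

/-- A core-free group with Sylow 2-subgroup a four-group: normal Sylow subgroup or one class of involutions. -/
theorem klein_case {N : Type*} [Group N] [Finite N] (hO : Cfsg.oddCore N = ⊥) (T : Sylow 2 N)
    (hT : Nat.card (T : Subgroup N) = 4)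
    (hT2 : ∀ x ∈ (T : Subgroup N), ∀ y ∈ (T : Subgroup N), x * y = y * x) :
    (T : Subgroup N) = ⊤ ∨
      (∀ x ∈ (T : Subgroup N), ∀ y ∈ (T : Subgroup N), x ≠ 1 → y ≠ 1 → IsConj x y) := by
  by_cases hB : Subgroup.normalizer ((T : Subgroup N) : Set N) ≤ Subgroup.centralizer ((T : Subgroup N) : Set N)
  · left
    have h1 := MonoidHom.ker_transferSylow_isComplement' T hB
    have h2 := MonoidHom.not_dvd_card_ker_transferSylow T hB
    have h3 : (MonoidHom.transferSylow T hB).ker = ⊥ := by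
      rw [eq_bot_iff, ← hO]
      refine Cfsg.Agent.Lib.Cores.le_pPrimeCore inferInstance ?_
      exact ((Nat.Prime.coprime_iff_not_dvd Nat.prime_two).mpr h2).symm
    rw [h3] at h1
    exact Subgroup.isComplement'_bot_left.1 h1
  · right
    intro x hx y hy hx1 hy1
    obtain ⟨g, hg, hgC⟩ := SetLike.not_le_iff_exists.1 hB
    -- replace `g` by an element of odd order
    obtain ⟨k, b, hb, hgo⟩ := Nat.exists_eq_two_pow_mul_odd (orderOf_pos g).ne'
    have hTC : (T : Subgroup N) ≤ Subgroup.centralizer ((T : Subgroup N) : Set N) := by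
      intro x hx
      rw [Subgroup.mem_centralizer_iff]
      intro y hy
      exact hT2 y hy x hx
    have hgb : g ^ b ∈ (T : Subgroup N) := by
      have h1 : IsPGroup 2 (Subgroup.zpowers (g ^ b)) := by
        refine IsPGroup.of_card (n := k) ?_
        rw [Nat.card_zpowers, orderOf_pow' g hb.pos.ne', hgo, Nat.gcd_mul_left_left,
          Nat.mul_div_cancel _ hb.pos]
      have h2 : g ^ b ∈ Subgroup.zpowers (g ^ b) ⊓ Subgroup.normalizer (T : Set N) :=
        ⟨Subgroup.mem_zpowers _, pow_mem hg b⟩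
      rw [h1.inf_normalizer_sylow] at h2
      exact h2.2
    have hodd : Odd (orderOf (g ^ 2 ^ k)) := by
      rw [orderOf_pow' g (by positivity), hgo, Nat.gcd_mul_right_left, Nat.mul_div_cancel_left _ (by positivity)]
      exact hb
    have hgk : g ^ 2 ^ k ∉ Subgroup.centralizer ((T : Subgroup N) : Set N) := by
      intro h
      apply hgC
      have hco : Nat.gcd b (2 ^ k) = 1 := Nat.Coprime.pow_right k (Nat.coprime_two_right.2 hb)
      have h1 : g = (g ^ b) ^ (Nat.gcdA b (2 ^ k)) * (g ^ 2 ^ k) ^ (Nat.gcdB b (2 ^ k)) := by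
        rw [← zpow_natCast g b, ← zpow_natCast g (2 ^ k), ← zpow_mul, ← zpow_mul, ← zpow_add,
          ← Nat.gcd_eq_gcd_ab, hco, Nat.cast_one, zpow_one]
      rw [h1]
      exact mul_mem (zpow_mem (hTC hgb) _) (zpow_mem h _)
    have hgN : g ^ 2 ^ k ∈ Subgroup.normalizer ((T : Subgroup N) : Set N) := pow_mem hg _
    have hmem : ∀ w ∈ (T : Subgroup N), g ^ 2 ^ k * w * (g ^ 2 ^ k)⁻¹ ∈ (T : Subgroup N) := fun w hw =>
      (Subgroup.mem_normalizer_iff.1 hgN w).1 hw
    rw [Subgroup.mem_centralizer_iff] at hgk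
    push Not at hgk
    obtain ⟨x₀, hx₀, hx₀g⟩ := hgk
    refine klein_three (T : Subgroup N) hT hmem hodd hx₀ ?_ hx hy hx1 hy1
    intro h
    apply hx₀g
    exact (mul_inv_eq_iff_eq_mul.1 h).symm

end Cfsg.Agent.ClassificationK.GTwoFactorGen
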