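import Mathlib
import Cfsg.Prelude.Def_TwoFusion
import Cfsg.Agent.ClassificationK.GTwoFactorBasic
import Cfsg.Agent.ClassificationK.GTwoFactorGen

/-!
# The two factors: normal closures of the strongly closed quaternion subgroups modulo `⟨t⟩`
-/

set_option autoImplicit false

namespace Cfsg.Agent.ClassificationK.GTwoFactor

open QuaternionGroup Subgroup Cfsg.Agent.ClassificationK.GTwoConf Cfsg.Agent.ClassificationK.GTwoFactorBasic
open Cfsg.Agent.ClassificationK.GTwoFactorBasic.Conf Cfsg.Agent.ClassificationK.GTwoFactorGen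
open Cfsg.Agent.Lib.SylowNormalInf

universe u

section defs

variable {X : Type u} [Group X] {k : ℕ}

/-- the image of the factor in `X/⟨t⟩` -/
def DK (φ : QuaternionGroup (2 ^ k) →* X) (t : X) [hn : (zpowers t).Normal] : Subgroup (X ⧸ zpowers t) :=
  φ.range.map (QuotientGroup.mk' (zpowers t))

/-- its normal closure -/
def NK (φ : QuaternionGroup (2 ^ k) →* X) (t : X) [hn : (zpowers t).Normal] : Subgroup (X ⧸ zpowers t) :=
  Subgroup.normalClosure (DK φ t : Set (X ⧸ zpowers t))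

instance (φ : QuaternionGroup (2 ^ k) →* X) (t : X) [hn : (zpowers t).Normal] : (NK φ t).Normal :=
  Subgroup.normalClosure_normal

theorem DK_le_NK (φ : QuaternionGroup (2 ^ k) →* X) (t : X) [hn : (zpowers t).Normal] : DK φ t ≤ NK φ t :=
  Subgroup.le_normalClosure

end defs

variable {X : Type u} [Group X] [Finite X] {k : ℕ} {P : Sylow 2 X} {s : X} {φ ψ : QuaternionGroup (2 ^ k) →* X}
  (h : Conf k P s φ ψ) {t : X} (ht : Conf.t φ = t) [hn : (zpowers t).Normal]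

include h ht

theorem DK_le : DK φ t ≤ (PK P t : Subgroup (X ⧸ zpowers t)) := by
  rintro _ ⟨x, hx, rfl⟩
  exact (mem_PK h ht).2 (range_le h hx)

omit h in
theorem mem_DK {g : X} : QuotientGroup.mk' (zpowers t) g ∈ DK φ t ↔ g ∈ φ.range := by
  subst ht
  exact mem_map_iff t_mem_range

theorem DK_closed : ∀ d ∈ DK φ t, ∀ g, g * d * g⁻¹ ∈ (PK P t : Subgroup (X ⧸ zpowers t)) →
    g * d * g⁻¹ ∈ DK φ t := by
  rintro _ ⟨_, ⟨x, rfl⟩, rfl⟩ g hg
  obtain ⟨g, rfl⟩ := QuotientGroup.mk'_surjective (zpowers t) g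
  rw [← map_inv, ← map_mul, ← map_mul] at hg ⊢
  rw [mem_PK h ht] at hg
  rw [mem_DK ht]
  exact h.closed₁ g x hg

theorem DK_inf : DK φ t ⊓ DK ψ t = ⊥ := by
  rw [eq_bot_iff]
  rintro _ ⟨⟨_, ⟨x, rfl⟩, rfl⟩, hy⟩
  have ht' : Conf.t ψ = t := (t_symm h).trans ht
  have hy' : QuotientGroup.mk' (zpowers t) (φ x) ∈ DK ψ t := hy
  rw [mem_DK ht'] at hy'
  obtain ⟨y, hy⟩ := hy'
  rw [Subgroup.mem_bot, mk_phi_eq_one h ht]
  exact h.inf₁ x y hy.symm

theorem DK_cent : ∀ x ∈ (PK P t : Subgroup (X ⧸ zpowers t)), (∀ y ∈ DK ψ t, x * y = y * x) →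
    ∃ u ∈ DK φ t, ∃ v ∈ DK ψ t, x = u * v := by
  intro x hx hc
  obtain ⟨g, rfl⟩ := QuotientGroup.mk'_surjective (zpowers t) x
  rw [mem_PK h ht] at hx
  have h1 := hc (QuotientGroup.mk' (zpowers t) (ψ (xa 0))) ⟨_, ⟨_, rfl⟩, rfl⟩
  rw [← map_mul, ← map_mul, mk_eq_iff h ht] at h1
  have h2 : g * ψ (xa 0) * g⁻¹ = ψ (xa 0) ∨ g * ψ (xa 0) * g⁻¹ = Conf.t φ * ψ (xa 0) := by
    rcases h1 with h1 | h1
    · left
      rw [h1, mul_inv_cancel_right]
    · right
      rw [h1, ht]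
      group
  obtain ⟨u, v, rfl⟩ := exists_of_comm h hx h2
  exact ⟨_, ⟨_, ⟨u, rfl⟩, rfl⟩, _, ⟨_, ⟨v, rfl⟩, rfl⟩, map_mul _ _ _⟩

/-- involutions of the image come from elements of order 4 -/
theorem DK_inv {x : X ⧸ zpowers t} (hx : x ∈ DK φ t) (hx2 : x ^ 2 = 1) (hx1 : x ≠ 1) :
    ∃ u, u ^ 2 = a ((2 ^ k : ℕ) : ZMod (2 * 2 ^ k)) ∧ x = QuotientGroup.mk' (zpowers t) (φ u) := by
  have := neZero k
  obtain ⟨_, ⟨u, rfl⟩, rfl⟩ := hx
  refine ⟨u, ?_, rfl⟩
  rw [← map_pow, ← map_pow, mk_phi_eq_one h ht] at hx2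
  rcases hx2 with h1 | h1
  · exact absurd ((mk_phi_eq_one h ht).2 (sq_one h1)) hx1
  · exact h1

section closed

variable (hC1 : ∀ (G : Type u) [Group G] [Finite G] (P : Sylow 2 G) (A B : Subgroup G), A ⊓ B = ⊥ →
    Cfsg.IsStronglyClosed A (P : Subgroup G) → Cfsg.IsStronglyClosed B (P : Subgroup G) →
    ⁅normalClosure (A : Set G), normalClosure (B : Set G)⁆ ≤ Cfsg.oddCore G)

include hC1

theorem NK_comm : ∀ x ∈ NK φ t, ∀ y ∈ NK ψ t, x * y = y * x := by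
  have ht' : Conf.t ψ = t := (t_symm h).trans ht
  have h1 := hC1 (X ⧸ zpowers t) (PK P t) (DK φ t) (DK ψ t) (DK_inf h ht)
    ⟨DK_le h ht, DK_closed h ht⟩ ⟨DK_le h.symm ht', DK_closed h.symm ht'⟩
  rw [oddCore_quotient h ht, le_bot_iff] at h1
  intro x hx y hy
  have h2 := Subgroup.commutator_mem_commutator hx hy
  have h3 : ⁅NK φ t, NK ψ t⁆ = ⊥ := h1
  rw [h3, Subgroup.mem_bot] at h2
  exact commutatorElement_eq_one_iff_mul_comm.1 h2

theorem NK_inf_PK : ∀ x ∈ NK φ t, x ∈ (PK P t : Subgroup (X ⧸ zpowers t)) → x ∈ DK φ t := by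
  have ht' : Conf.t ψ = t := (t_symm h).trans ht
  exact inf_le_aux (PK P t) (DK φ t) (DK ψ t) (DK_le h ht) (DK_le h.symm ht') (DK_inf h ht) (DK_closed h ht)
    (NK_comm h ht hC1) (DK_cent h ht)

theorem NK_inf_NK : NK φ t ⊓ NK ψ t = ⊥ := by
  have ht' : Conf.t ψ = t := (t_symm h).trans ht
  exact inf_eq_bot (PK P t) (oddCore_quotient h ht) (NK φ t) (NK ψ t) (DK φ t) (DK ψ t) (NK_inf_PK h ht hC1)
    (NK_inf_PK h.symm ht' hC1) (DK_inf h ht)

/-- all involutions of the image are conjugate in `X / ⟨t⟩`, centralizing a given involution of the other factor -/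
theorem exists_conj {x x' : X ⧸ zpowers t} (hx : x ∈ DK φ t) (hx2 : x ^ 2 = 1) (hx1 : x ≠ 1)
    (hx' : x' ∈ DK φ t) (hx2' : x' ^ 2 = 1) (hx1' : x' ≠ 1) :
    ∃ g : X ⧸ zpowers t, g * x * g⁻¹ = x' ∧
      g * QuotientGroup.mk' (zpowers t) (ψ (xa 0)) * g⁻¹ = QuotientGroup.mk' (zpowers t) (ψ (xa 0)) := by
  obtain ⟨u, hu, rfl⟩ := DK_inv h ht hx hx2 hx1
  obtain ⟨u', hu', rfl⟩ := DK_inv h ht hx' hx2' hx1'
  obtain ⟨g, hg⟩ := h.inv u (xa 0) u' (xa 0) hu (xa_sq 0) hu' (xa_sq 0)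
  refine ⟨QuotientGroup.mk' (zpowers t) g, ?_⟩
  have h1 := congrArg (QuotientGroup.mk' (zpowers t)) hg
  rw [map_mul, map_mul, map_mul, map_mul, map_inv] at h1
  have h2 : QuotientGroup.mk' (zpowers t) (ψ (xa 0)) ∈ NK ψ t := DK_le_NK ψ t ⟨_, ⟨_, rfl⟩, rfl⟩
  exact conj_eq (inferInstance : (NK φ t).Normal) (inferInstance : (NK ψ t).Normal) (NK_inf_NK h ht hC1)
    (DK_le_NK φ t hx) h2 (DK_le_NK φ t hx') h2 h1

theorem coe_sylowInf_NK : ((sylowInf (PK P t) (NK φ t) : Sylow 2 (NK φ t)) : Subgroup (NK φ t)) =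
    (DK φ t).subgroupOf (NK φ t) := by
  ext x
  constructor
  · intro hx
    exact NK_inf_PK h ht hC1 x x.2 hx
  · intro hx
    exact DK_le h ht hx

theorem PK_inf_NK : (PK P t : Subgroup (X ⧸ zpowers t)) ⊓ NK φ t = DK φ t :=
  le_antisymm (fun x hx => NK_inf_PK h ht hC1 x hx.2 hx.1) (le_inf (DK_le h ht) (DK_le_NK φ t))

end closed

theorem ker_comp : ((QuotientGroup.mk' (zpowers t)).comp φ).ker =
    zpowers (a ((2 ^ k : ℕ) : ZMod (2 * 2 ^ k)) : QuaternionGroup (2 ^ k)) := by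
  have := neZero k
  ext x
  rw [MonoidHom.mem_ker, MonoidHom.comp_apply, mk_phi_eq_one h ht]
  constructor
  · rintro (rfl | rfl)
    · exact one_mem _
    · exact Subgroup.mem_zpowers _
  · exact TwoFusion.QuatCover.mem_zpowers_of_orderOf_two (orderOf_eq_prime an_sq an_ne_one)

theorem card_DK : Nat.card (DK φ t) = 2 * 2 ^ k := by
  have := neZero k
  have h1 : DK φ t = ((QuotientGroup.mk' (zpowers t)).comp φ).range := by
    rw [DK, MonoidHom.range_comp]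
  have h2 := Subgroup.card_mul_index ((QuotientGroup.mk' (zpowers t)).comp φ).ker
  rw [Subgroup.index_ker, ← h1, ker_comp h ht, Nat.card_zpowers,
    orderOf_eq_prime (p := 2) an_sq an_ne_one, Nat.card_eq_fintype_card (α := QuaternionGroup (2 ^ k)),
    QuaternionGroup.card] at h2
  omega

/-- the image is generated by involutions -/
theorem DK_le_closure : DK φ t ≤ Subgroup.closure {x | x ∈ DK φ t ∧ x ^ 2 = 1} := by
  have := neZero k
  have hxa : ∀ i, QuotientGroup.mk' (zpowers t) (φ (xa i)) ∈ Subgroup.closure {x | x ∈ DK φ t ∧ x ^ 2 = 1} := by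
    intro i
    refine Subgroup.subset_closure ⟨⟨_, ⟨_, rfl⟩, rfl⟩, ?_⟩
    rw [← map_pow, ← map_pow, mk_phi_eq_one h ht]
    exact Or.inr (xa_sq i)
  rintro _ ⟨_, ⟨x, rfl⟩, rfl⟩
  rcases x with i | i
  · have h1 : (a i : QuaternionGroup (2 ^ k)) = xa 0 * xa (i - ((2 ^ k : ℕ) : ZMod (2 * 2 ^ k))) := by
      rw [xa_mul_xa]
      congr 1
      ring
    rw [h1, map_mul, map_mul]
    exact mul_mem (hxa _) (hxa _)
  · exact hxa i

/-- for `k = 1` the image is abelian -/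
theorem DK_comm (hk : k = 1) : ∀ x ∈ DK φ t, ∀ y ∈ DK φ t, x * y = y * x := by
  have := neZero k
  subst hk
  have h4 : ∀ i : ZMod (2 * 2 ^ 1), i + i = 0 ∨ i + i = ((2 ^ 1 : ℕ) : ZMod (2 * 2 ^ 1)) := by
    intro i
    refine GTwoModel.two_half (2 ^ 1) (i + i) ?_
    have h5 : ((2 * 2 ^ 1 : ℕ) : ZMod (2 * 2 ^ 1)) = 0 := ZMod.natCast_self _
    push_cast at h5
    linear_combination i * h5
  have hn2 := n_add_n (n := 2 ^ 1)
  rintro _ ⟨_, ⟨x, rfl⟩, rfl⟩ _ ⟨_, ⟨y, rfl⟩, rfl⟩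
  rw [← map_mul, ← map_mul, ← map_mul, ← map_mul, ← mul_inv_eq_one, ← map_inv, ← map_mul, ← map_inv, ← map_mul,
    mk_phi_eq_one h ht]
  have key : x * y = y * x ∨ x * y = a ((2 ^ 1 : ℕ) : ZMod (2 * 2 ^ 1)) * (y * x) := by
    rcases x with i | i <;> rcases y with j | j
    · left; rw [a_mul_a, a_mul_a, add_comm]
    · rw [a_mul_xa, xa_mul_a, a_mul_xa]
      rcases h4 i with h5 | h5
      · left; congr 1; linear_combination -h5
      · right; congr 1; linear_combination -h5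
    · rw [a_mul_xa, xa_mul_a, a_mul_xa]
      rcases h4 j with h5 | h5
      · left; congr 1; linear_combination h5
      · right; congr 1; linear_combination h5 + hn2
    · rw [xa_mul_xa, xa_mul_xa, a_mul_a]
      rcases h4 (j - i) with h5 | h5
      · left; congr 1; linear_combination h5
      · right; congr 1; linear_combination h5
  rcases key with h5 | h5
  · left; rw [h5, mul_inv_cancel]
  · right; rw [h5, mul_inv_cancel_right]

section closed

variable (hC1 : ∀ (G : Type u) [Group G] [Finite G] (P : Sylow 2 G) (A B : Subgroup G), A ⊓ B = ⊥ →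
    Cfsg.IsStronglyClosed A (P : Subgroup G) → Cfsg.IsStronglyClosed B (P : Subgroup G) →
    ⁅normalClosure (A : Set G), normalClosure (B : Set G)⁆ ≤ Cfsg.oddCore G)

include hC1

/-- `k ≥ 2`: every involution of the image is conjugate to the central one inside the normal closure -/
theorem exists_conj_NK (hk : 2 ≤ k) {x : X ⧸ zpowers t} (hx : x ∈ DK φ t) (hx2 : x ^ 2 = 1) (hx1 : x ≠ 1) :
    ∃ n ∈ NK φ t, n * QuotientGroup.mk' (zpowers t) (φ (a ((2 ^ (k - 1) : ℕ) : ZMod (2 * 2 ^ k)))) * n⁻¹ = x := by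
  have := neZero k
  set ζ := QuotientGroup.mk' (zpowers t) (φ (a ((2 ^ (k - 1) : ℕ) : ZMod (2 * 2 ^ k)))) with hζ
  have hζD : ζ ∈ DK φ t := ⟨_, ⟨_, rfl⟩, rfl⟩
  have hζ2 : ζ ^ 2 = 1 := by
    rw [hζ, ← map_pow, ← map_pow, mk_phi_eq_one h ht, quarter_sq h.hk]
    exact Or.inr rfl
  have hζ1 : ζ ≠ 1 := by
    rw [hζ, Ne, mk_phi_eq_one h ht]
    have h1 := quarter_sq h.hk
    rintro (h2 | h2)
    · rw [h2, one_pow] at h1
      exact an_ne_one h1.symm
    · rw [h2, an_sq] at h1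
      exact an_ne_one h1.symm
  obtain ⟨g, hg, -⟩ := exists_conj h ht hC1 hζD hζ2 hζ1 hx hx2 hx1
  have hgt : g ∈ Subgroup.normalizer (((PK P t : Subgroup (X ⧸ zpowers t)) ⊓ NK φ t : Subgroup _) :
      Set (X ⧸ zpowers t)) ⊔ NK φ t := by
    rw [normalizer_inf_sup_eq_top]; exact Subgroup.mem_top g
  rw [sup_comm] at hgt
  obtain ⟨n, hn', m, hm, rfl⟩ := Subgroup.mem_sup_of_normal_left.1 hgt
  rw [PK_inf_NK h ht hC1] at hm
  refine ⟨n, hn', ?_⟩
  -- `m ζ m⁻¹ = ζ`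
  have hcen : ∀ d ∈ DK φ t, ζ * d = d * ζ := by
    rintro _ ⟨_, ⟨y, rfl⟩, rfl⟩
    rw [hζ, ← map_mul, ← map_mul, ← map_mul, ← map_mul, ← mul_inv_eq_one, ← map_inv, ← map_inv, ← map_mul,
      ← map_mul, mk_phi_eq_one h ht]
    rcases y with i | i
    · left
      rw [a_mul_a, a_mul_a, add_comm, mul_inv_cancel]
    · right
      rw [a_mul_xa, xa_mul_a, mul_inv_eq_iff_eq_mul, a_mul_xa]
      congr 1
      linear_combination -(quarter h.hk)
  have h2 : m * ζ * m⁻¹ ∈ DK φ t := (Subgroup.mem_normalizer_iff.1 hm ζ).1 hζD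
  have h3 : ∀ d ∈ DK φ t, (m * ζ * m⁻¹) * d = d * (m * ζ * m⁻¹) := by
    intro d hd
    have h4 : m⁻¹ * d * m ∈ DK φ t := by
      have h5 := (Subgroup.mem_normalizer_iff.1 (inv_mem hm) d).1 hd
      rwa [inv_inv] at h5
    have h5 := hcen _ h4
    calc (m * ζ * m⁻¹) * d = m * (ζ * (m⁻¹ * d * m)) * m⁻¹ := by group
      _ = m * ((m⁻¹ * d * m) * ζ) * m⁻¹ := by rw [h5]
      _ = d * (m * ζ * m⁻¹) := by group
  have h4 : m * ζ * m⁻¹ ≠ 1 := by
    intro h5
    apply hζ1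
    calc ζ = m⁻¹ * (m * ζ * m⁻¹) * m := by group
      _ = 1 := by rw [h5]; group
  obtain ⟨_, ⟨u, rfl⟩, hu⟩ := h2
  have h5 : ∀ y, u * y = y * u ∨ u * y = a ((2 ^ k : ℕ) : ZMod (2 * 2 ^ k)) * (y * u) := by
    intro y
    have h6 := h3 (QuotientGroup.mk' (zpowers t) (φ y)) ⟨_, ⟨_, rfl⟩, rfl⟩
    rw [← hu, ← map_mul, ← map_mul, ← map_mul, ← map_mul, ← mul_inv_eq_one, ← map_inv, ← map_inv, ← map_mul,
      ← map_mul, mk_phi_eq_one h ht, mul_inv_eq_one, mul_inv_eq_iff_eq_mul] at h6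
    exact h6
  have h6 : m * ζ * m⁻¹ = ζ := by
    rw [← hu]
    rw [← hu, Ne, mk_phi_eq_one h ht] at h4
    rcases center_mod hk u (h5 (a 1)) (h5 (xa 0)) with h7 | h7 | h7 | h7
    · exact absurd (Or.inl h7) h4
    · exact absurd (Or.inr h7) h4
    · rw [h7]
    · rw [h7, hζ, map_mul, map_mul, (mk_phi_eq_one h ht).2 (Or.inr rfl), one_mul]
  calc n * ζ * n⁻¹ = n * (m * ζ * m⁻¹) * n⁻¹ := by rw [h6]
    _ = (n * m) * ζ * (n * m)⁻¹ := by group
    _ = x := hg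

/-- the normal closure is perfect, or `k = 1` and the image is normal -/
theorem NK_perfect : commutator (NK φ t) = ⊤ ∨ (k = 1 ∧ NK φ t = DK φ t) := by
  have := neZero k
  set T := sylowInf (PK P t) (NK φ t) with hT
  have hTD := coe_sylowInf_NK h ht hC1
  rw [← hT] at hTD
  have hmem : ∀ x : NK φ t, x ∈ (T : Subgroup (NK φ t)) ↔ (x : X ⧸ zpowers t) ∈ DK φ t := by
    intro x
    rw [hTD]
    rfl
  have hgen : Subgroup.normalClosure ((T : Subgroup (NK φ t)) : Set (NK φ t)) = ⊤ := by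
    rw [hTD]
    exact normalClosure_subgroupOf (PK P t) (DK φ t) (DK_le h ht) (DK_closed h ht)
  have hcard : Nat.card (T : Subgroup (NK φ t)) = 2 * 2 ^ k := by
    rw [hTD, ← card_DK h ht]
    exact Nat.card_congr (Subgroup.subgroupOfEquivOfLe (DK_le_NK φ t)).toEquiv
  have hTc : (T : Subgroup (NK φ t)) ≤ Subgroup.closure {x : NK φ t | x ∈ (T : Subgroup (NK φ t)) ∧ x ^ 2 = 1} := by
    rw [← Subgroup.map_le_map_iff_of_injective (NK φ t).subtype_injective, MonoidHom.map_closure]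
    rw [hTD, Subgroup.map_subgroupOf_eq_of_le (DK_le_NK φ t)]
    refine (DK_le_closure h ht).trans (Subgroup.closure_mono ?_)
    rintro x ⟨hx, hx2⟩
    exact ⟨⟨x, DK_le_NK φ t hx⟩, ⟨hx, Subtype.ext hx2⟩, rfl⟩
  have hfin : (∀ x ∈ (T : Subgroup (NK φ t)), ∀ y ∈ (T : Subgroup (NK φ t)), x ^ 2 = 1 → x ≠ 1 → y ^ 2 = 1 →
      y ≠ 1 → IsConj x y) → commutator (NK φ t) = ⊤ := by
    intro h1
    refine commutator_eq_top T hgen ?_ h1 hTc
    rw [hcard]
    have hk := h.hk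
    obtain ⟨j, rfl⟩ := Nat.exists_eq_add_of_le' hk
    exact ⟨2 ^ j, by rw [pow_succ]; ring⟩
  by_cases hk : k = 1
  · have hO : Cfsg.oddCore (NK φ t) = ⊥ := by
      have h1 := Cfsg.Agent.Lib.Cores.map_subtype_pPrimeCore (G := X ⧸ zpowers t) 2 (N := NK φ t) inferInstance
      have h2 : (Cfsg.pPrimeCore 2 (X ⧸ zpowers t)) = ⊥ := oddCore_quotient h ht
      rw [h2, inf_bot_eq] at h1
      exact (Subgroup.map_eq_bot_iff_of_injective _ (NK φ t).subtype_injective).mp h1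
    rcases klein_case hO T (by rw [hcard, hk]; norm_num) (by
      intro x hx y hy
      exact Subtype.ext (DK_comm h ht hk x ((hmem x).1 hx) y ((hmem y).1 hy))) with h1 | h1
    · right
      refine ⟨hk, le_antisymm ?_ (DK_le_NK φ t)⟩
      intro x hx
      have h2 : (⟨x, hx⟩ : NK φ t) ∈ (T : Subgroup (NK φ t)) := by rw [h1]; exact Subgroup.mem_top _
      exact (hmem _).1 h2
    · left
      exact hfin fun x hx y hy _ hx1 _ hy1 => h1 x hx y hy hx1 hy1
  · left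
    have hk2 : 2 ≤ k := by
      have := h.hk
      omega
    apply hfin
    have hζN : QuotientGroup.mk' (zpowers t) (φ (a ((2 ^ (k - 1) : ℕ) : ZMod (2 * 2 ^ k)))) ∈ NK φ t :=
      DK_le_NK φ t ⟨_, ⟨_, rfl⟩, rfl⟩
    have key : ∀ x ∈ (T : Subgroup (NK φ t)), x ^ 2 = 1 → x ≠ 1 → IsConj (⟨_, hζN⟩ : NK φ t) x := by
      intro x hx hx2 hx1
      obtain ⟨n, hn', hnx⟩ := exists_conj_NK h ht hC1 hk2 ((hmem x).1 hx) (congrArg Subtype.val hx2)
        (fun h1 => hx1 (Subtype.ext h1))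
      exact isConj_iff.2 ⟨⟨n, hn'⟩, Subtype.ext hnx⟩
    intro x hx y hy hx2 hx1 hy2 hy1
    exact (key x hx hx2 hx1).symm.trans (key y hy hy2 hy1)

end closed

end Cfsg.Agent.ClassificationK.GTwoFactor

/-! ### the preimages in `X` -/

namespace Cfsg.Agent.ClassificationK.GTwoFactor

open QuaternionGroup Subgroup Cfsg.Agent.ClassificationK.GTwoConf Cfsg.Agent.ClassificationK.GTwoFactorBasic
open Cfsg.Agent.ClassificationK.GTwoFactorBasic.Conf Cfsg.Agent.ClassificationK.GTwoFactorGen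

universe u

/-- the preimage of the normal closure -/
def LK {X : Type u} [Group X] {k : ℕ} (φ : QuaternionGroup (2 ^ k) →* X) (t : X) [hn : (zpowers t).Normal] :
    Subgroup X :=
  (NK φ t).comap (QuotientGroup.mk' (zpowers t))

instance {X : Type u} [Group X] {k : ℕ} (φ : QuaternionGroup (2 ^ k) →* X) (t : X) [hn : (zpowers t).Normal] :
    (LK φ t).Normal := Subgroup.Normal.comap inferInstance _

theorem range_le_LK {X : Type u} [Group X] {k : ℕ} (φ : QuaternionGroup (2 ^ k) →* X) (t : X)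
    [hn : (zpowers t).Normal] : φ.range ≤ LK φ t := fun x hx => DK_le_NK φ t ⟨x, hx, rfl⟩

variable {X : Type u} [Group X] [Finite X] {k : ℕ} {P : Sylow 2 X} {s : X} {φ ψ : QuaternionGroup (2 ^ k) →* X}
  (h : Conf k P s φ ψ) {t : X} (ht : Conf.t φ = t) [hn : (zpowers t).Normal]
  (hC1 : ∀ (G : Type u) [Group G] [Finite G] (P : Sylow 2 G) (A B : Subgroup G), A ⊓ B = ⊥ →
    Cfsg.IsStronglyClosed A (P : Subgroup G) → Cfsg.IsStronglyClosed B (P : Subgroup G) →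
    ⁅normalClosure (A : Set G), normalClosure (B : Set G)⁆ ≤ Cfsg.oddCore G)

include h ht hC1

theorem LK_inf_P : ∀ x ∈ LK φ t, x ∈ (P : Subgroup X) → x ∈ φ.range := by
  intro x hx hxP
  rw [← mem_DK ht]
  exact NK_inf_PK h ht hC1 _ hx ((mem_PK h ht).2 hxP)

theorem LK_comm : ⁅LK φ t, LK ψ t⁆ ≤ zpowers t := by
  rw [Subgroup.commutator_le]
  intro x hx y hy
  have h1 := NK_comm h ht hC1 _ hx _ hy
  rw [← map_mul, ← map_mul, mk_eq_iff h ht] at h1
  rw [commutatorElement_def]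
  rcases h1 with h2 | h2
  · rw [h2]
    have : y * x * x⁻¹ * y⁻¹ = 1 := by group
    rw [this]
    exact one_mem _
  · rw [h2]
    have : t * (y * x) * x⁻¹ * y⁻¹ = t := by group
    rw [this]
    exact Subgroup.mem_zpowers t

theorem LK_perfect : commutator (LK φ t) = ⊤ ∨ (k = 1 ∧ LK φ t = φ.range) := by
  rcases NK_perfect h ht hC1 with h1 | ⟨hk, h1⟩
  · left
    have h2 : ⁅NK φ t, NK φ t⁆ = NK φ t := by
      rw [← Subgroup.map_subtype_commutator, h1, ← MonoidHom.range_eq_map, Subgroup.range_subtype]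
    have htL : t ∈ ⁅LK φ t, LK φ t⁆ := by
      have e2 := Subgroup.commutator_mem_commutator (range_le_LK φ t (⟨xa 0, rfl⟩ : φ (xa 0) ∈ φ.range))
        (range_le_LK φ t (⟨a ((2 ^ (k - 1) : ℕ) : ZMod (2 * 2 ^ k)), rfl⟩ :
          φ (a ((2 ^ (k - 1) : ℕ) : ZMod (2 * 2 ^ k))) ∈ φ.range))
      rw [commutatorElement_def] at e2
      have e3 : t = φ (xa 0) * φ (a ((2 ^ (k - 1) : ℕ) : ZMod (2 * 2 ^ k))) * (φ (xa 0))⁻¹ *
          (φ (a ((2 ^ (k - 1) : ℕ) : ZMod (2 * 2 ^ k))))⁻¹ := by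
        rw [← map_inv, ← map_inv, ← map_mul, ← map_mul, ← map_mul, ← an_eq_commutator h.hk]
        exact ht.symm
      exact e3 ▸ e2
    have h3 : (LK φ t).map (QuotientGroup.mk' (zpowers t)) = NK φ t :=
      Subgroup.map_comap_eq_self_of_surjective (QuotientGroup.mk'_surjective _) _
    have h4 : LK φ t ≤ ⁅LK φ t, LK φ t⁆ := by
      intro x hx
      rw [← mem_map_iff (t := t) htL, Subgroup.map_commutator, h3, h2]
      exact hx
    have h5 : ⁅LK φ t, LK φ t⁆ = LK φ t := le_antisymm (Subgroup.commutator_le_self _) h4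
    apply Subgroup.map_injective (LK φ t).subtype_injective
    rw [Subgroup.map_subtype_commutator, h5, ← MonoidHom.range_eq_map, Subgroup.range_subtype]
  · right
    refine ⟨hk, le_antisymm ?_ (range_le_LK φ t)⟩
    intro x hx
    rw [← mem_DK ht, ← h1]
    exact hx

end Cfsg.Agent.ClassificationK.GTwoFactor
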