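import Mathlib
import Cfsg.Agent.ClassificationK.GTwoFactor
import Cfsg.Agent.ClassificationK.GTwoConfBasic
import Cfsg.Agent.TwoFusion.SLTwoFacts

/-!
# Type `G₂(q)`: the two factors `SL(2, q₁)`, `SL(2, q₂)` of `C(t)/O(C(t))`
-/

set_option autoImplicit false

namespace Cfsg.Agent.ClassificationK.GTwoAfter

open QuaternionGroup Subgroup Cfsg.Agent.ClassificationK.GTwoConf
open Cfsg.Agent.ClassificationK.GTwoFactor

universe u

/-- a subgroup `SL(2, F)`, `F` of odd order, commuting with `M` modulo a central subgroup of order 2 commutes with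
`M`. -/
theorem commutator_eq_bot {X : Type*} [Group X] (t : X) (ht : t ∈ Subgroup.center X) (ht2 : orderOf t = 2)
    (L M : Subgroup X) (hLM : ⁅L, M⁆ ≤ Subgroup.zpowers t) {F : Type*} [Field F] [Fintype F]
    (hF : Odd (Fintype.card F)) (e : ↥L ≃* Matrix.SpecialLinearGroup (Fin 2) F) : ⁅L, M⁆ = ⊥ := by
  rw [eq_bot_iff, Subgroup.commutator_le]
  intro x hx b hb
  rw [Subgroup.mem_bot, commutatorElement_def]
  have hmem : ∀ a : L, (a : X) * b * (a : X)⁻¹ * b⁻¹ ∈ Subgroup.zpowers t := by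
    intro a
    have h1 := hLM (Subgroup.commutator_mem_commutator a.2 hb)
    rwa [commutatorElement_def] at h1
  have hzle : Subgroup.zpowers t ≤ Subgroup.center X := by rw [Subgroup.zpowers_le]; exact ht
  let θ : L →* Subgroup.zpowers t :=
    { toFun := fun a => ⟨(a : X) * b * (a : X)⁻¹ * b⁻¹, hmem a⟩
      map_one' := by
        apply Subtype.ext
        simp
      map_mul' := by
        intro a a'
        apply Subtype.ext
        change ((a * a' : L) : X) * b * ((a * a' : L) : X)⁻¹ * b⁻¹ =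
          ((a : X) * b * (a : X)⁻¹ * b⁻¹) * ((a' : X) * b * (a' : X)⁻¹ * b⁻¹)
        have h1 := Subgroup.mem_center_iff.mp (hzle (hmem a')) ((a : X))
        calc ((a * a' : L) : X) * b * ((a * a' : L) : X)⁻¹ * b⁻¹
            = (a : X) * ((a' : X) * b * (a' : X)⁻¹ * b⁻¹) * (b * (a : X)⁻¹ * b⁻¹) := by
              rw [Subgroup.coe_mul]; group
          _ = ((a' : X) * b * (a' : X)⁻¹ * b⁻¹) * (a : X) * (b * (a : X)⁻¹ * b⁻¹) := by rw [h1]
          _ = ((a' : X) * b * (a' : X)⁻¹ * b⁻¹) * ((a : X) * b * (a : X)⁻¹ * b⁻¹) := by group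
          _ = ((a : X) * b * (a : X)⁻¹ * b⁻¹) * ((a' : X) * b * (a' : X)⁻¹ * b⁻¹) :=
            (Subgroup.mem_center_iff.mp (hzle (hmem a')) _).symm }
  have hP : IsPGroup 2 (Subgroup.zpowers t) :=
    IsPGroup.of_card (n := 1) (by rw [Nat.card_zpowers, ht2]; rfl)
  have h1 := Cfsg.Agent.TwoFusion.SLTwoFacts.hom_eq_one hF hP (θ.comp e.symm.toMonoidHom) (e ⟨x, hx⟩)
  have h2 : θ ⟨x, hx⟩ = 1 := by simpa using h1
  exact congrArg Subtype.val h2

/-- The goal. -/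
def Goal (X : Type u) [Group X] : Prop :=
  ∃ L₁ L₂ : Subgroup X, L₁.Normal ∧ L₂.Normal ∧
    (∃ (F₁ : Type) (_ : Field F₁) (_ : Fintype F₁), Odd (Fintype.card F₁) ∧
      Nonempty (↥L₁ ≃* Matrix.SpecialLinearGroup (Fin 2) F₁)) ∧
    (∃ (F₂ : Type) (_ : Field F₂) (_ : Fintype F₂), Odd (Fintype.card F₂) ∧
      Nonempty (↥L₂ ≃* Matrix.SpecialLinearGroup (Fin 2) F₂)) ∧
    ⁅L₁, L₂⁆ = ⊥ ∧ L₁ ⊔ L₂ = commutator X

theorem Goal.symm {X : Type u} [Group X] (hX : ∃ L₁ L₂ : Subgroup X, L₁.Normal ∧ L₂.Normal ∧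
    (∃ (F₁ : Type) (_ : Field F₁) (_ : Fintype F₁), Odd (Fintype.card F₁) ∧
      Nonempty (↥L₁ ≃* Matrix.SpecialLinearGroup (Fin 2) F₁)) ∧
    (∃ (F₂ : Type) (_ : Field F₂) (_ : Fintype F₂), Odd (Fintype.card F₂) ∧
      Nonempty (↥L₂ ≃* Matrix.SpecialLinearGroup (Fin 2) F₂)) ∧
    ⁅L₁, L₂⁆ = ⊥ ∧ L₁ ⊔ L₂ = commutator X) : Goal X := by
  obtain ⟨L₁, L₂, h1, h2, h3, h4, h5, h6⟩ := hX
  exact ⟨L₂, L₁, h2, h1, h4, h3, by rw [Subgroup.commutator_comm, h5], by rw [sup_comm, h6]⟩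

variable {X : Type u} [Group X] [Finite X] {k : ℕ} {P : Sylow 2 X} {s : X} {φ ψ : QuaternionGroup (2 ^ k) →* X}

/-- final step: two normal subgroups with all properties except commutativity and the commutator subgroup -/
theorem goal_of (h : Conf k P s φ ψ) (L M : Subgroup X) (hLn : L.Normal) (hMn : M.Normal)
    (hL : φ.range ≤ L) (hM : ψ.range ≤ M) (hLM : ⁅L, M⁆ ≤ Subgroup.zpowers (Conf.t φ))
    (hLF : ∃ (F₁ : Type) (_ : Field F₁) (_ : Fintype F₁), Odd (Fintype.card F₁) ∧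
      Nonempty (↥L ≃* Matrix.SpecialLinearGroup (Fin 2) F₁))
    (hMF : ∃ (F₂ : Type) (_ : Field F₂) (_ : Fintype F₂), Odd (Fintype.card F₂) ∧
      Nonempty (↥M ≃* Matrix.SpecialLinearGroup (Fin 2) F₂))
    (hLc : L ≤ commutator X) (hMc : M ≤ commutator X) : Goal X := by
  obtain ⟨F₁, i₁, j₁, ho₁, ⟨e₁⟩⟩ := id hLF
  obtain ⟨F₂, i₂, j₂, ho₂, ⟨e₂⟩⟩ := id hMF
  have h1 : ⁅L, M⁆ = ⊥ := commutator_eq_bot (Conf.t φ) (GTwoFactorBasic.Conf.t_center h)
    (GTwoFactorBasic.Conf.orderOf_t h) L M hLM ho₁ e₁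
  exact ⟨L, M, hLn, hMn, hLF, hMF, h1,
    le_antisymm (sup_le hLc hMc) (GTwoConfBasic.commutator_le h L M hL hM h1 e₁ e₂)⟩

omit [Finite X] in
theorem le_commutator_of_perfect (L : Subgroup X) (hL : commutator L = ⊤) : L ≤ commutator X := by
  have h2 : ⁅L, L⁆ = L := by
    rw [← Subgroup.map_subtype_commutator, hL, ← MonoidHom.range_eq_map, Subgroup.range_subtype]
  calc L = ⁅L, L⁆ := h2.symm
    _ ≤ ⁅(⊤ : Subgroup X), ⊤⁆ := Subgroup.commutator_mono le_top le_top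
    _ = commutator X := (commutator_def X).symm

/-- the main theorem after fusion, given the commutator half of Goldschmidt's product theorem, the recognition of a
perfect factor and the case `k = 1` of a normal quaternion factor -/
theorem main_of
    (hC1 : ∀ (G : Type u) [Group G] [Finite G] (P : Sylow 2 G) (A B : Subgroup G), A ⊓ B = ⊥ →
      Cfsg.IsStronglyClosed A (P : Subgroup G) → Cfsg.IsStronglyClosed B (P : Subgroup G) →
      ⁅normalClosure (A : Set G), normalClosure (B : Set G)⁆ ≤ Cfsg.oddCore G)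
    (hSL : ∀ (φ ψ : QuaternionGroup (2 ^ k) →* X), Conf k P s φ ψ → ∀ (L : Subgroup X) [L.Normal],
      φ.range ≤ L → L ⊓ (P : Subgroup X) ≤ φ.range → commutator L = ⊤ →
      ∃ (F : Type) (_ : Field F) (_ : Fintype F), Odd (Fintype.card F) ∧ 3 < Fintype.card F ∧
        Nonempty (L ≃* Matrix.SpecialLinearGroup (Fin 2) F))
    (hCen : ∀ (φ ψ : QuaternionGroup (2 ^ k) →* X), Conf k P s φ ψ → k = 1 → φ.range.Normal →
      ∀ (M : Subgroup X) [M.Normal], ψ.range ≤ M → M ⊓ (P : Subgroup X) ≤ ψ.range →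
      (∀ x, ∀ y ∈ M, φ x * y = y * φ x) →
      (M = ψ.range ∨ ∃ (F : Type) (_ : Field F) (_ : Fintype F), Odd (Fintype.card F) ∧
        Nonempty (M ≃* Matrix.SpecialLinearGroup (Fin 2) F)) →
      φ.range ≤ centralizer (M : Set X) ∧ centralizer (M : Set X) ⊓ (P : Subgroup X) ≤ φ.range ∧
        Nonempty (centralizer (M : Set X) ≃* Matrix.SpecialLinearGroup (Fin 2) (ZMod 3)) ∧
        centralizer (M : Set X) ≤ commutator X)
    (h : Conf k P s φ ψ) : Goal X := by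
  have hn : (zpowers (Conf.t φ)).Normal := GTwoFactorBasic.Conf.normal_t h
  have ht : Conf.t φ = Conf.t φ := rfl
  have ht' : Conf.t ψ = Conf.t φ := GTwoFactorBasic.Conf.t_symm h
  have h3 : Fact (Nat.Prime 3) := ⟨Nat.prime_three⟩
  have hc3 : Odd (Fintype.card (ZMod 3)) := by rw [ZMod.card 3]; decide
  have hL0 : φ.range ≤ LK φ (Conf.t φ) := range_le_LK φ (Conf.t φ)
  have hM0 : ψ.range ≤ LK ψ (Conf.t φ) := range_le_LK ψ (Conf.t φ)
  have hLP : LK φ (Conf.t φ) ⊓ (P : Subgroup X) ≤ φ.range := fun x hx => LK_inf_P h ht hC1 x hx.1 hx.2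
  have hMP : LK ψ (Conf.t φ) ⊓ (P : Subgroup X) ≤ ψ.range := fun x hx => LK_inf_P h.symm ht' hC1 x hx.1 hx.2
  have hLM : ⁅LK φ (Conf.t φ), LK ψ (Conf.t φ)⁆ ≤ zpowers (Conf.t φ) := LK_comm h ht hC1
  have hML : ⁅LK ψ (Conf.t φ), LK φ (Conf.t φ)⁆ ≤ zpowers (Conf.t φ) := by
    rw [Subgroup.commutator_comm]; exact hLM
  have htc := GTwoFactorBasic.Conf.t_center h
  have hto := GTwoFactorBasic.Conf.orderOf_t h
  rcases LK_perfect h ht hC1 with hL | ⟨hk, hL⟩ <;> rcases LK_perfect h.symm ht' hC1 with hM | ⟨hk', hM⟩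
  · -- both factors perfect
    obtain ⟨F₁, i₁, j₁, ho₁, -, e₁⟩ := hSL φ ψ h _ hL0 hLP hL
    obtain ⟨F₂, i₂, j₂, ho₂, -, e₂⟩ := hSL ψ φ h.symm _ hM0 hMP hM
    exact goal_of h _ _ inferInstance inferInstance hL0 hM0 hLM ⟨F₁, i₁, j₁, ho₁, e₁⟩ ⟨F₂, i₂, j₂, ho₂, e₂⟩
      (le_commutator_of_perfect _ hL) (le_commutator_of_perfect _ hM)
  · -- the second factor solvable
    obtain ⟨F₁, i₁, j₁, ho₁, -, e₁⟩ := hSL φ ψ h _ hL0 hLP hL
    have hψn : ψ.range.Normal := by rw [← hM]; infer_instance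
    have hcomm : ⁅LK φ (Conf.t φ), LK ψ (Conf.t φ)⁆ = ⊥ := by
      obtain ⟨e₁⟩ := e₁
      exact commutator_eq_bot _ htc hto _ _ hLM ho₁ e₁
    have hc : ∀ x, ∀ y ∈ LK φ (Conf.t φ), ψ x * y = y * ψ x := by
      intro x y hy
      have h1 := Subgroup.commutator_mem_commutator hy (hM0 ⟨x, rfl⟩)
      rw [hcomm, Subgroup.mem_bot] at h1
      exact (commutatorElement_eq_one_iff_mul_comm.1 h1).symm
    obtain ⟨h1, -, h2, h4⟩ := hCen ψ φ h.symm hk' hψn (LK φ (Conf.t φ)) hL0 hLP hc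
      (Or.inr ⟨F₁, i₁, j₁, ho₁, e₁⟩)
    refine goal_of h (LK φ (Conf.t φ)) (centralizer (LK φ (Conf.t φ) : Set X)) inferInstance inferInstance
      hL0 h1 ?_ ⟨F₁, i₁, j₁, ho₁, e₁⟩ ⟨ZMod 3, inferInstance, inferInstance, hc3, h2⟩
      (le_commutator_of_perfect _ hL) h4
    rw [Subgroup.commutator_le]
    intro x hx y hy
    have h5 : x * y = y * x := (Subgroup.mem_centralizer_iff.1 hy x hx)
    rw [commutatorElement_def, h5]
    have : y * x * x⁻¹ * y⁻¹ = 1 := by group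
    rw [this]
    exact one_mem _
  · -- the first factor solvable
    obtain ⟨F₂, i₂, j₂, ho₂, -, e₂⟩ := hSL ψ φ h.symm _ hM0 hMP hM
    have hφn : φ.range.Normal := by rw [← hL]; infer_instance
    have hcomm : ⁅LK ψ (Conf.t φ), LK φ (Conf.t φ)⁆ = ⊥ := by
      obtain ⟨e₂⟩ := e₂
      exact commutator_eq_bot _ htc hto _ _ hML ho₂ e₂
    have hc : ∀ x, ∀ y ∈ LK ψ (Conf.t φ), φ x * y = y * φ x := by
      intro x y hy
      have h1 := Subgroup.commutator_mem_commutator hy (hL0 ⟨x, rfl⟩)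
      rw [hcomm, Subgroup.mem_bot] at h1
      exact (commutatorElement_eq_one_iff_mul_comm.1 h1).symm
    obtain ⟨h1, -, h2, h4⟩ := hCen φ ψ h hk hφn (LK ψ (Conf.t φ)) hM0 hMP hc
      (Or.inr ⟨F₂, i₂, j₂, ho₂, e₂⟩)
    refine goal_of h (centralizer (LK ψ (Conf.t φ) : Set X)) (LK ψ (Conf.t φ)) inferInstance inferInstance
      h1 hM0 ?_ ⟨ZMod 3, inferInstance, inferInstance, hc3, h2⟩ ⟨F₂, i₂, j₂, ho₂, e₂⟩
      h4 (le_commutator_of_perfect _ hM)
    rw [Subgroup.commutator_le]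
    intro y hy x hx
    have h5 : x * y = y * x := (Subgroup.mem_centralizer_iff.1 hy x hx)
    rw [commutatorElement_def, ← h5]
    have : x * y * y⁻¹ * x⁻¹ = 1 := by group
    rw [this]
    exact one_mem _
  · -- both factors solvable
    have hφn : φ.range.Normal := by rw [← hL]; infer_instance
    have hψn : ψ.range.Normal := by rw [← hM]; infer_instance
    have hc : ∀ x, ∀ y ∈ ψ.range, φ x * y = y * φ x := by
      rintro x _ ⟨y, rfl⟩
      exact h.comm x y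
    have hc' : ∀ x, ∀ y ∈ φ.range, ψ x * y = y * ψ x := by
      rintro x _ ⟨y, rfl⟩
      exact (h.comm y x).symm
    obtain ⟨h1, h1', h2, h4⟩ := hCen φ ψ h hk hφn ψ.range le_rfl inf_le_left hc (Or.inl rfl)
    obtain ⟨h5, h5', h6, h7⟩ := hCen ψ φ h.symm hk hψn φ.range le_rfl inf_le_left hc' (Or.inl rfl)
    refine goal_of h (centralizer (ψ.range : Set X)) (centralizer (φ.range : Set X)) inferInstance inferInstance
      h1 h5 ?_ ⟨ZMod 3, inferInstance, inferInstance, hc3, h2⟩ ⟨ZMod 3, inferInstance, inferInstance, hc3, h6⟩ h4 h7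
    have h8 : ∀ x ∈ centralizer (ψ.range : Set X) ⊓ centralizer (φ.range : Set X), x = 1 ∨ x = Conf.t φ := by
      refine GTwoFactorBasic.Conf.eq_one_or_eq_t_of_inf h ht _ ?_
      intro x hx hxP
      have h9 : x ∈ φ.range := h1' ⟨hx.1, hxP⟩
      have h10 : x ∈ ψ.range := h5' ⟨hx.2, hxP⟩
      obtain ⟨u, rfl⟩ := h9
      obtain ⟨v, hv⟩ := h10
      rcases h.inf₁ u v hv.symm with h11 | h11
      · left; rw [h11, map_one]
      · right; rw [h11]; rfl
    have h9 : ⁅centralizer (ψ.range : Set X), centralizer (φ.range : Set X)⁆ ≤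
        centralizer (ψ.range : Set X) ⊓ centralizer (φ.range : Set X) :=
      le_inf (Subgroup.commutator_le_left _ _) (Subgroup.commutator_le_right _ _)
    intro x hx
    exact (GTwoFactorBasic.Conf.mem_zpowers_t h).2 (h8 x (h9 hx))

end Cfsg.Agent.ClassificationK.GTwoAfter
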