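import Mathlib

/-!
Conjugating a `p`-subgroup of the centralizer of `x` into a given Sylow `p`-subgroup while moving `x` to a
conjugate `y` whose centralizer in the Sylow subgroup is a Sylow subgroup of the full centralizer.
-/

set_option autoImplicit false

namespace Cfsg.Agent.ClassificationK.SylowConj

open Subgroup

/-- In a finite group, two `p`-subgroups `A`, `B` with `B` of maximal order among `p`-subgroups: `A` is conjugate
into `B`. -/
theorem exists_conj_le_of_max {C : Type*} [Group C] [Finite C] {p : ℕ} [Fact p.Prime] (A B : Subgroup C)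
    (hA : IsPGroup p A) (hB : IsPGroup p B) (hmax : ∀ R : Subgroup C, IsPGroup p R → Nat.card R ≤ Nat.card B) :
    ∃ c : C, ∀ a ∈ A, c * a * c⁻¹ ∈ B := by
  obtain ⟨P₁, hP₁⟩ := hB.exists_le_sylow
  obtain ⟨P₂, hP₂⟩ := hA.exists_le_sylow
  have hBP : B = (P₁ : Subgroup C) := by
    refine Subgroup.eq_of_le_of_card_ge hP₁ ?_
    exact hmax _ P₁.isPGroup'
  obtain ⟨c, hc⟩ := MulAction.exists_smul_eq C P₂ P₁
  refine ⟨c, fun a ha => ?_⟩
  rw [hBP]
  have h1 : a ∈ (P₂ : Subgroup C) := hP₂ ha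
  rw [← hc, Sylow.coe_subgroup_smul]
  exact ⟨a, h1, rfl⟩

theorem exists_conj_centralizer {G : Type*} [Group G] [Finite G] {p : ℕ} [Fact p.Prime] (S : Subgroup G)
    (hS : IsPGroup p S) {x y : G} (hxy : IsConj x y)
    (hmax : ∀ R : Subgroup G, IsPGroup p R → R ≤ centralizer {y} → Nat.card R ≤ Nat.card ↥(S ⊓ centralizer {y}))
    (Q : Subgroup G) (hQ : IsPGroup p Q) (hQx : Q ≤ centralizer {x}) :
    ∃ g : G, g * x * g⁻¹ = y ∧ ∀ q ∈ Q, g * q * g⁻¹ ∈ S := by
  obtain ⟨g₀, hg₀⟩ := isConj_iff.1 hxy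
  set C : Subgroup G := centralizer {y} with hC
  have hA0 : Q.map (MulAut.conj g₀).toMonoidHom ≤ C := by
    rintro _ ⟨q, hq, rfl⟩
    have h1 : q ∈ centralizer {x} := hQx hq
    rw [mem_centralizer_singleton_iff] at h1
    rw [hC, mem_centralizer_singleton_iff]
    rw [← hg₀]
    simp only [MulEquiv.coe_toMonoidHom, MulAut.conj_apply]
    calc g₀ * q * g₀⁻¹ * (g₀ * x * g₀⁻¹) = g₀ * (q * x) * g₀⁻¹ := by group
      _ = g₀ * (x * q) * g₀⁻¹ := by rw [h1]
      _ = g₀ * x * g₀⁻¹ * (g₀ * q * g₀⁻¹) := by group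
  have hA : IsPGroup p ((Q.map (MulAut.conj g₀).toMonoidHom).subgroupOf C) :=
    (hQ.map _).comap_subtype
  have hB : IsPGroup p ((S ⊓ C).subgroupOf C) := (hS.to_le inf_le_left).comap_subtype
  obtain ⟨c, hc⟩ := exists_conj_le_of_max _ _ hA hB (fun R hR => by
    have h1 := hmax (R.map C.subtype) (hR.map _) (map_subtype_le R)
    rw [Nat.card_congr (Subgroup.equivMapOfInjective R C.subtype C.subtype_injective).toEquiv.symm] at h1
    refine h1.trans (le_of_eq ?_)
    exact (Nat.card_congr (subgroupOfEquivOfLe (inf_le_right : S ⊓ C ≤ C)).toEquiv).symm)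
  refine ⟨c * g₀, ?_, fun q hq => ?_⟩
  · have h1 : (c : G) ∈ centralizer {y} := c.2
    rw [mem_centralizer_singleton_iff] at h1
    calc c * g₀ * x * (c * g₀)⁻¹ = c * (g₀ * x * g₀⁻¹) * (c : G)⁻¹ := by group
      _ = c * y * (c : G)⁻¹ := by rw [hg₀]
      _ = y := by rw [h1, mul_inv_cancel_right]
  · have h1 : g₀ * q * g₀⁻¹ ∈ C := hA0 ⟨q, hq, rfl⟩
    have h2 := hc ⟨g₀ * q * g₀⁻¹, h1⟩ (mem_subgroupOf.2 ⟨q, hq, rfl⟩)
    have h3 := (mem_subgroupOf.1 h2).1
    have h4 : c * g₀ * q * (c * g₀)⁻¹ = c * (g₀ * q * g₀⁻¹) * (c : G)⁻¹ := by group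
    rw [h4]
    exact h3

/-- version for a Sylow subgroup and `y` centralized by it. -/
theorem exists_conj_of_central {G : Type*} [Group G] [Finite G] {p : ℕ} [Fact p.Prime] (S : Sylow p G)
    {x y : G} (hxy : IsConj x y) (hy : (S : Subgroup G) ≤ centralizer {y})
    (Q : Subgroup G) (hQ : IsPGroup p Q) (hQx : Q ≤ centralizer {x}) :
    ∃ g : G, g * x * g⁻¹ = y ∧ ∀ q ∈ Q, g * q * g⁻¹ ∈ (S : Subgroup G) := by
  refine exists_conj_centralizer (S : Subgroup G) S.isPGroup' hxy (fun R hR _ => ?_) Q hQ hQx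
  rw [inf_eq_left.2 hy]
  obtain ⟨P, hP⟩ := hR.exists_le_sylow
  calc Nat.card R ≤ Nat.card (P : Subgroup G) := Nat.card_le_card_of_injective _ (Subgroup.inclusion_injective hP)
    _ = Nat.card (S : Subgroup G) := by
      rw [Sylow.card_eq_multiplicity, Sylow.card_eq_multiplicity]

end Cfsg.Agent.ClassificationK.SylowConj
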