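import Cfsg.Agent.ClassificationK.GTwoModel
import Cfsg.Agent.ClassificationK.SylowConj
import Cfsg.Agent.S0111
import Cfsg.Agent.S1241

/-!
Fusion of involutions in a finite group without normal subgroups of index 2 whose Sylow 2-subgroup is the
model group `T (2 l)`.
-/

set_option autoImplicit false

namespace Cfsg.Agent.ClassificationK.GTwoFusion

open Cfsg.Agent.ClassificationK.GTwoModel Cfsg.Agent.ClassificationK.GTwoModel.T
open Cfsg.Agent.ClassificationK.SylowConj

variable {G : Type*} [Group G] [Finite G] {l : ℕ}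

theorem transfer_step (S : Sylow 2 G) (f : T (2 * l) →* G) (hf : Function.Injective f)
    (hr : f.range = (S : Subgroup G)) (hG : ∀ M : Subgroup G, M.Normal → M.index ≠ 2)
    (α β γ : ZMod 2) (x : T (2 * l)) (hx : x * x = 1) (hlx : lam l α β γ x ≠ 1) :
    ∃ y, y * y = 1 ∧ y ≠ 1 ∧ lam l α β γ y = 1 ∧ IsConj (f x) (f y) := by
  have hx1 : x ≠ 1 := by
    rintro rfl
    exact hlx (map_one _)
  have hrange : (lam l α β γ).range = ⊤ := by
    have h1 : Nat.card (Multiplicative (ZMod 2)) = 2 := by
      rw [Nat.card_congr Multiplicative.toAdd, Nat.card_zmod]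
    have h2 : (lam l α β γ).range ≠ ⊥ := by
      intro h
      have h3 : lam l α β γ x ∈ (lam l α β γ).range := ⟨x, rfl⟩
      rw [h, Subgroup.mem_bot] at h3
      exact hlx h3
    have h4 : Nat.card (lam l α β γ).range ∣ 2 := by
      have := Subgroup.card_subgroup_dvd_card (lam l α β γ).range
      rwa [h1] at this
    rcases (Nat.dvd_prime Nat.prime_two).1 h4 with h5 | h5
    · exact absurd (Subgroup.card_eq_one.1 h5) h2
    · exact Subgroup.eq_top_of_card_eq _ (by rw [h5, h1])
  have hidx : ((lam l α β γ).ker.map f).relIndex (S : Subgroup G) = 2 := by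
    rw [← hr, MonoidHom.range_eq_map, Subgroup.relIndex_map_map_of_injective _ _ hf,
      Subgroup.relIndex_top_right, Subgroup.index_ker, hrange, Subgroup.card_top,
      Nat.card_congr Multiplicative.toAdd, Nat.card_zmod]
  have hle : (lam l α β γ).ker.map f ≤ (S : Subgroup G) := by
    rw [← hr, MonoidHom.range_eq_map]
    exact Subgroup.map_mono le_top
  have hxo : orderOf (f x) = 2 := by
    rw [orderOf_injective f hf]
    exact orderOf_eq_prime (by rw [pow_two, hx]) hx1
  rcases Cfsg.Agent.S0111.result S ((lam l α β γ).ker.map f) hle hidx (f x) hxo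
    (by rw [← hr]; exact ⟨x, rfl⟩)
    (by
      rintro ⟨y, hy, hyx⟩
      rw [hf hyx] at hy
      exact hlx hy) with ⟨M, hM, hM2, -⟩ | ⟨g, y, hy, hgy⟩
  · exact absurd hM2 (hG M hM)
  · have hconj : IsConj (f x) (f y) := isConj_iff.2 ⟨g, hgy.symm⟩
    refine ⟨y, ?_, ?_, hy, hconj⟩
    · apply hf
      rw [map_mul, map_one, hgy]
      calc g * f x * g⁻¹ * (g * f x * g⁻¹) = g * (f x * f x) * g⁻¹ := by group
        _ = 1 := by rw [← map_mul, hx, map_one, mul_one, mul_inv_cancel]
    · rintro rfl
      rw [map_one, isConj_one_left] at hconj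
      exact hx1 (hf (by rw [hconj, map_one]))


/-! ### computations in the model -/

theorem z_central (x : T (2 * l)) : z l * x = x * z l := by
  obtain ⟨i, j, e, d⟩ := x
  have h := half_add_half l
  have h' : -(l : ZMod (2 * l)) = l := by linear_combination -h
  cases e <;> cases d <;>
    simp only [z, mul_mk, sg_true, sg_false, cond_true, cond_false, Bool.xor_false, Bool.xor_true,
      Bool.not_false, neg_mul, one_mul, h'] <;>
    congr 1 <;> ring

theorem pow_A (i j : ZMod (2 * l)) (k : ℕ) :
    (⟨i, j, false, false⟩ : T (2 * l)) ^ k = ⟨k * i, k * j, false, false⟩ := by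
  induction k with
  | zero => rw [pow_zero, one_def]; congr 1 <;> simp
  | succ k ih =>
    rw [pow_succ, ih, mul_mk]
    simp only [sg_false, cond_false, Bool.xor_false]
    congr 1 <;> push_cast <;> ring

theorem sq_swap (i j : ZMod (2 * l)) :
    (⟨i, j, false, true⟩ : T (2 * l)) ^ 2 = ⟨i + j, i + j, false, false⟩ := by
  rw [pow_two, mul_mk]
  simp only [sg_false, cond_true, Bool.xor_false, Bool.xor_true, Bool.not_true]
  congr 1 <;> ring

theorem sq_inv (i j : ZMod (2 * l)) :
    (⟨i, j, true, false⟩ : T (2 * l)) ^ 2 = 1 := by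
  rw [pow_two, mul_mk, one_def]
  simp only [sg_true, cond_false, Bool.xor_false, Bool.xor_true, Bool.not_true]
  congr 1 <;> ring

theorem sq_swapInv (i j : ZMod (2 * l)) :
    (⟨i, j, true, true⟩ : T (2 * l)) ^ 2 = ⟨i - j, -(i - j), false, false⟩ := by
  rw [pow_two, mul_mk]
  simp only [sg_true, cond_true, Bool.xor_true, Bool.not_true]
  congr 1 <;> ring


theorem z_mul_conj [NeZero l] (hl : par l (l : ZMod (2 * l)) = 0) (p : T (2 * l)) (hp : p * p = 1)
    (hp1 : p ≠ 1) : p = z l ∨ p = a' l ∨ p = b' l ∨ IsConj (z l * p) p := by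
  obtain ⟨i, j, e, d⟩ := p
  rw [mul_mk, one_def, T.mk.injEq] at hp
  obtain ⟨h1, h2, -, -⟩ := hp
  cases e <;> cases d
  · simp only [sg_false, cond_false, one_mul] at h1 h2
    rcases two_half l i h1 with rfl | rfl <;> rcases two_half l j h2 with rfl | rfl
    · exact absurd rfl hp1
    · exact Or.inr (Or.inr (Or.inl rfl))
    · exact Or.inr (Or.inl rfl)
    · exact Or.inl rfl
  · simp only [sg_false, cond_true, one_mul] at h1 h2
    have hj : j = -i := eq_neg_of_add_eq_zero_right h1
    subst hj
    refine Or.inr (Or.inr (Or.inr ?_))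
    have h := half_add_half l
    have h3 : z l * ⟨i, -i, false, true⟩ = (⟨l + i, -(l + i), false, true⟩ : T (2 * l)) := by
      rw [z, mul_mk]
      simp only [sg_false, cond_false, one_mul, Bool.xor_true, Bool.not_false, Bool.xor_false]
      congr 1
      linear_combination h
    rw [h3]
    exact isConj_swapElt _ _
  · refine Or.inr (Or.inr (Or.inr ?_))
    rw [z, mul_mk]
    simp only [sg_false, cond_false, one_mul, Bool.xor_true, Bool.not_false, Bool.xor_false]
    exact isConj_inv_of_par _ _ _ _ (by rw [map_add, hl, zero_add]) (by rw [map_add, hl, zero_add])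
  · simp only [sg_true, cond_true] at h1 h2
    have hj : j = i := by linear_combination -h1
    subst hj
    refine Or.inr (Or.inr (Or.inr ?_))
    rw [z, mul_mk]
    simp only [sg_false, cond_false, one_mul, Bool.xor_true, Bool.not_false]
    exact isConj_swapInvElt _ _

theorem a'_sq : a' l * a' l = 1 := by
  rw [a', mul_mk, one_def]
  simp only [sg_false, cond_false, one_mul, Bool.xor_false, add_zero, half_add_half]

theorem b'_sq : b' l * b' l = 1 := by
  rw [b', mul_mk, one_def]
  simp only [sg_false, cond_false, one_mul, Bool.xor_false, add_zero, half_add_half]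

theorem a'_mul_b' : a' l * b' l = z l := by
  rw [a', b', z, mul_mk]
  simp only [sg_false, cond_false, one_mul, Bool.xor_false, add_zero, zero_add]

theorem b'_mul_a' : b' l * a' l = z l := by
  rw [a', b', z, mul_mk]
  simp only [sg_false, cond_false, one_mul, Bool.xor_false, add_zero, zero_add]

theorem a'_ne_one [NeZero l] : a' l ≠ 1 := by
  rw [a', one_def]
  intro h
  exact half_ne_zero l (T.mk.injEq .. ▸ h).1

theorem b'_ne_one [NeZero l] : b' l ≠ 1 := by
  rw [b', one_def]
  intro h
  exact half_ne_zero l (T.mk.injEq .. ▸ h).2.1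

theorem a'_ne_b' [NeZero l] : a' l ≠ b' l := by
  rw [a', b']
  intro h
  exact half_ne_zero l (T.mk.injEq .. ▸ h).1

theorem z_ne_one [NeZero l] : z l ≠ 1 := by
  rw [z, one_def]
  intro h
  exact half_ne_zero l (T.mk.injEq .. ▸ h).1

omit [Finite G] in
theorem sq_of_conj (f : T (2 * l) →* G) (hf : Function.Injective f) {c p : T (2 * l)} {g : G}
    (hp : f p = g * f c * g⁻¹) (hc : c * c = 1) : p * p = 1 := by
  apply hf
  rw [map_mul, map_one, hp]
  calc g * f c * g⁻¹ * (g * f c * g⁻¹) = g * (f c * f c) * g⁻¹ := by group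
    _ = 1 := by rw [← map_mul, hc, map_one, mul_one, mul_inv_cancel]

omit [Finite G] in
theorem ne_one_of_conj (f : T (2 * l) →* G) (hf : Function.Injective f) {c p : T (2 * l)} {g : G}
    (hp : f p = g * f c * g⁻¹) (hc : c ≠ 1) : p ≠ 1 := by
  rintro rfl
  rw [map_one] at hp
  apply hc
  apply hf
  rw [map_one]
  calc f c = g⁻¹ * (g * f c * g⁻¹) * g := by group
    _ = 1 := by rw [← hp]; group

/-! ### `z` not conjugate to `a'` -/

theorem s_not_conj_z [NeZero l] (hl : par l (l : ZMod (2 * l)) = 0) (S : Sylow 2 G) (f : T (2 * l) →* G)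
    (hf : Function.Injective f) (hr : f.range = (S : Subgroup G)) (hza : ¬ IsConj (f (z l)) (f (a' l))) :
    ¬ IsConj (f (s l)) (f (z l)) := by
  intro hsz
  have hzb : ¬ IsConj (f (z l)) (f (b' l)) := fun h =>
    hza (h.trans (f.map_isConj (isConj_a'_b' l)).symm)
  have hSz : (S : Subgroup G) ≤ Subgroup.centralizer {f (z l)} := by
    rw [← hr]
    rintro _ ⟨x, rfl⟩
    rw [Subgroup.mem_centralizer_singleton_iff, ← map_mul, ← map_mul, z_central]
  have hQ : IsPGroup 2 ((Subgroup.centralizer {s l}).map f) :=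
    S.isPGroup'.to_le (by rw [← hr, MonoidHom.range_eq_map]; exact Subgroup.map_mono le_top)
  obtain ⟨g, hg, hgS⟩ := exists_conj_of_central S hsz hSz ((Subgroup.centralizer {s l}).map f) hQ (by
    rintro _ ⟨x, hx, rfl⟩
    rw [SetLike.mem_coe, Subgroup.mem_centralizer_singleton_iff] at hx
    rw [Subgroup.mem_centralizer_singleton_iff, ← map_mul, ← map_mul, hx])
  have hll : -(l : ZMod (2 * l)) = l := by linear_combination -(half_add_half l)
  have key : ∀ c : T (2 * l), c * c = 1 → c ≠ 1 → c * s l = s l * c → IsConj (s l * c) (s l) →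
      ¬ IsConj (f (z l)) (f c) → ∃ p, f p = g * f c * g⁻¹ ∧ (p = a' l ∨ p = b' l) := by
    intro c hc hc1 hcs hsc hzc
    have h1 : g * f c * g⁻¹ ∈ f.range := by
      rw [hr]
      exact hgS _ ⟨c, by rw [SetLike.mem_coe, Subgroup.mem_centralizer_singleton_iff]; exact hcs, rfl⟩
    obtain ⟨p, hp⟩ := h1
    refine ⟨p, hp, ?_⟩
    have hcp : IsConj (f c) (f p) := isConj_iff.2 ⟨g, hp.symm⟩
    rcases z_mul_conj hl p (sq_of_conj f hf hp hc) (ne_one_of_conj f hf hp hc1) with h | h | h | h
    · subst h
      exact absurd hcp.symm hzc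
    · exact Or.inl h
    · exact Or.inr h
    · exfalso
      apply hzc
      have h2 : f (z l * p) = g * f (s l * c) * g⁻¹ := by
        rw [map_mul, ← hg, hp, map_mul]
        group
      have h3 : IsConj (f (s l * c)) (f (z l * p)) := isConj_iff.2 ⟨g, h2.symm⟩
      exact ((((hsz.symm.trans (f.map_isConj hsc.symm)).trans h3).trans (f.map_isConj h)).trans hcp.symm)
  obtain ⟨p, hp, hpc⟩ := key (a' l) a'_sq a'_ne_one
    (by
      rw [a', s, mul_mk, mul_mk]
      simp only [sg_false, sg_true, cond_false, one_mul, Bool.xor_false, add_zero, mul_zero,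
        neg_mul, hll, Bool.xor_true, Bool.not_false, add_comm])
    (by
      rw [s, a', mul_mk]
      simp only [sg_true, cond_false, Bool.xor_false]
      refine isConj_inv_of_par _ _ _ _ ?_ ?_
      · rw [map_add, neg_mul, one_mul, hll, hl, add_zero]
      · rw [mul_zero, add_zero])
    hza
  obtain ⟨p', hp', hpc'⟩ := key (b' l) b'_sq b'_ne_one
    (by
      rw [b', s, mul_mk, mul_mk]
      simp only [sg_false, sg_true, cond_false, one_mul, Bool.xor_false, add_zero, mul_zero,
        neg_mul, hll, Bool.xor_true, Bool.not_false, add_comm])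
    (by
      rw [s, b', mul_mk]
      simp only [sg_true, cond_false, Bool.xor_false]
      refine isConj_inv_of_par _ _ _ _ ?_ ?_
      · rw [mul_zero, add_zero]
      · rw [map_add, neg_mul, one_mul, hll, hl, add_zero])
    hzb
  have hne : p ≠ p' := by
    rintro rfl
    rw [hp] at hp'
    have h1 : f (a' l) = f (b' l) := by
      have := congrArg (fun x => g⁻¹ * x * g) hp'
      calc f (a' l) = g⁻¹ * (g * f (a' l) * g⁻¹) * g := by group
        _ = g⁻¹ * (g * f (b' l) * g⁻¹) * g := this
        _ = f (b' l) := by group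
    exact a'_ne_b' (hf h1)
  have hpp : p * p' = z l := by
    rcases hpc with rfl | rfl <;> rcases hpc' with rfl | rfl
    · exact absurd rfl hne
    · exact a'_mul_b'
    · exact b'_mul_a'
    · exact absurd rfl hne
  have h5 : f (z l) = g * f (z l) * g⁻¹ := by
    calc f (z l) = f p * f p' := by rw [← map_mul, hpp]
      _ = g * (f (a' l) * f (b' l)) * g⁻¹ := by rw [hp, hp']; group
      _ = g * f (z l) * g⁻¹ := by rw [← map_mul, a'_mul_b']
  rw [← hg] at h5
  have h6 : f (s l) = f (z l) := by
    have h7 := congrArg (fun x => g⁻¹ * x * g) h5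
    calc f (s l) = g⁻¹ * (g * f (s l) * g⁻¹) * g := by group
      _ = g⁻¹ * (g * (g * f (s l) * g⁻¹) * g⁻¹) * g := h7
      _ = g * f (s l) * g⁻¹ := by group
      _ = f (z l) := hg
  have h8 := hf h6
  rw [s, z, T.mk.injEq] at h8
  exact absurd h8.2.2.1 (by decide)


/-- the element of maximal order used for the transfer -/
def x0 (l : ℕ) : T (2 * l) := ⟨1, 0, false, true⟩

theorem x0_sq : (x0 l) ^ 2 = ⟨1, 1, false, false⟩ := by
  rw [x0, sq_swap]
  simp only [add_zero]

theorem x0_pow_even (c : ℕ) : (x0 l) ^ (c + c) = ⟨c, c, false, false⟩ := by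
  rw [← two_mul, pow_mul, x0_sq, pow_A]
  simp only [mul_one]

theorem half_ne_zero' [NeZero l] (i j : ZMod (2 * l)) (e d : Bool) (h : (⟨l, i, e, d⟩ : T (2 * l)) = ⟨0, j, e, d⟩) :
    False := half_ne_zero l (T.mk.injEq .. ▸ h).1

/-- Case II is impossible in a group `G = G'`. -/
theorem z_conj_a' [NeZero l] (hl : par l (l : ZMod (2 * l)) = 0) (S : Sylow 2 G) (f : T (2 * l) →* G)
    (hf : Function.Injective f) (hr : f.range = (S : Subgroup G)) (hG : commutator G = ⊤) :
    IsConj (f (z l)) (f (a' l)) := by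
  by_contra hza
  have hzb : ¬ IsConj (f (z l)) (f (b' l)) := fun h =>
    hza (h.trans (f.map_isConj (isConj_a'_b' l)).symm)
  have hzs := s_not_conj_z hl S f hf hr hza
  have hA : ∀ x y : T (2 * l), IsConj (f x) (f y) → ∀ k : ℕ, IsConj (f (x ^ k)) (f (y ^ k)) := by
    intro x y hxy k
    rw [map_pow, map_pow]
    exact hxy.pow k
  have hinj1 : ∀ x : T (2 * l), IsConj (f x) (f 1) → x = 1 := by
    intro x hx
    rw [map_one, isConj_one_left] at hx
    exact hf (by rw [hx, map_one])
  have h2cases : ∀ y : ZMod 2, y = 0 ∨ y = 1 := by decide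
  have h20 : (2 : ZMod 2) = 0 := by decide
  -- the key computation
  have hkey : ∀ (m : ℕ) (y : T (2 * l)), IsConj (f (x0 l ^ m)) (f y) →
      lam l 1 0 0 y = lam l 1 0 0 (x0 l ^ m) := by
    intro m y hy
    obtain ⟨i, j, e, d⟩ := y
    have hlx : lam l 1 0 0 (x0 l ^ m) = Multiplicative.ofAdd (m : ZMod 2) := by
      rw [map_pow]
      have : lam l 1 0 0 (x0 l) = Multiplicative.ofAdd (1 : ZMod 2) := by
        change Multiplicative.ofAdd _ = _
        congr 1
        simp [x0]
      rw [this, ← ofAdd_nsmul]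
      congr 1
      simp
    rw [hlx]
    change Multiplicative.ofAdd _ = _
    congr 1
    simp only [one_mul, zero_mul, add_zero]
    rcases Nat.even_or_odd m with ⟨c, hc⟩ | ⟨c, hc⟩
    · -- m even
      have hm0 : (m : ZMod 2) = 0 := by
        rw [hc]; push_cast
        linear_combination (c : ZMod 2) * h20
      rw [hm0]
      by_contra hne
      have hne1 : par l i + par l j = 1 := (h2cases _).resolve_left hne
      subst hc
      rw [x0_pow_even] at hy
      cases e <;> cases d
      · -- (0,0)
        have h1 := hA _ _ hy l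
        rw [pow_A, pow_A] at h1
        have h2 : (l : ZMod (2 * l)) * (c : ZMod (2 * l)) = 0 ∨ (l : ZMod (2 * l)) * (c : ZMod (2 * l)) = l := by
          rcases par_cases l (c : ZMod (2 * l)) with h | h
          · exact Or.inl (half_mul_of_par_zero l _ h)
          · exact Or.inr (half_mul_of_par_one l _ h)
        have h3 : (⟨l * i, l * j, false, false⟩ : T (2 * l)) = a' l ∨
            (⟨l * i, l * j, false, false⟩ : T (2 * l)) = b' l := by
          rcases par_cases l i with hi | hi <;> rcases par_cases l j with hj | hj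
          · rw [hi, hj] at hne1; exact absurd hne1 (by decide)
          · right; rw [half_mul_of_par_zero l _ hi, half_mul_of_par_one l _ hj]; rfl
          · left; rw [half_mul_of_par_zero l _ hj, half_mul_of_par_one l _ hi]; rfl
          · rw [hi, hj] at hne1; exact absurd hne1 (by decide)
        rcases h2 with h2 | h2
        · rw [h2] at h1
          have h4 := hinj1 _ h1.symm
          rcases h3 with h3 | h3
          · rw [h3] at h4; exact a'_ne_one h4
          · rw [h3] at h4; exact b'_ne_one h4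
        · rw [h2] at h1
          rcases h3 with h3 | h3
          · rw [h3] at h1; exact hza h1
          · rw [h3] at h1; exact hzb h1
      · -- (0,1)
        have h1 := hA _ _ hy (2 * l)
        rw [pow_A, pow_mul, sq_swap, pow_A] at h1
        have h2 : ((2 * l : ℕ) : ZMod (2 * l)) = 0 := ZMod.natCast_self _
        rw [h2, zero_mul, half_mul_of_par_one l _ (by rw [map_add]; exact hne1)] at h1
        exact half_ne_zero' _ _ _ _ (hinj1 _ h1.symm)
      · -- (1,0)
        have h1 := hA _ _ hy 2
        rw [sq_inv, pow_A] at h1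
        have h2 := hinj1 _ h1
        rw [one_def, T.mk.injEq] at h2
        have h3 : (c : ZMod (2 * l)) + (c : ZMod (2 * l)) = 0 := by
          have := h2.1
          push_cast at this
          linear_combination this
        have hs : IsConj (⟨i, j, true, false⟩ : T (2 * l)) (s l) := by
          rcases par_cases l i with hi | hi <;> rcases par_cases l j with hj | hj
          · rw [hi, hj] at hne1; exact absurd hne1 (by decide)
          · exact (isConj_inv_swap _ _).trans
              (isConj_inv_of_par _ _ _ _ (by rw [hj, map_one]) (by rw [hi, map_zero]))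
          · exact isConj_inv_of_par _ _ _ _ (by rw [hi, map_one]) (by rw [hj, map_zero])
          · rw [hi, hj] at hne1; exact absurd hne1 (by decide)
        rcases two_half l _ h3 with h4 | h4
        · rw [h4] at hy
          have h5 := hinj1 _ hy.symm
          rw [one_def, T.mk.injEq] at h5
          exact absurd h5.2.2.1 (by decide)
        · rw [h4] at hy
          exact hzs ((f.map_isConj hs).symm.trans hy.symm)
      · -- (1,1)
        have h1 := hA _ _ hy (2 * l)
        rw [pow_A, pow_mul, sq_swapInv, pow_A] at h1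
        have h2 : ((2 * l : ℕ) : ZMod (2 * l)) = 0 := ZMod.natCast_self _
        have h3 : par l (i - j) = 1 := by
          rw [map_sub, ← hne1]
          linear_combination (-par l j) * h20
        rw [h2, zero_mul, half_mul_of_par_one l _ h3] at h1
        exact half_ne_zero' _ _ _ _ (hinj1 _ h1.symm)
    · -- m odd
      have hm0 : (m : ZMod 2) = 1 := by
        rw [hc]; push_cast
        linear_combination (c : ZMod 2) * h20
      rw [hm0]
      by_contra hne
      have hne1 : par l i + par l j = 0 := (h2cases _).resolve_right hne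
      have h1 := hA _ _ hy (2 * l)
      have h2 : (x0 l ^ m) ^ (2 * l) = z l := by
        rw [pow_right_comm, pow_mul, x0_sq, pow_A, pow_A, z, hc, mul_one]
        have h3 : ((2 * c + 1 : ℕ) : ZMod (2 * l)) * (l : ZMod (2 * l)) = l := by
          push_cast
          linear_combination (c : ZMod (2 * l)) * half_add_half l
        rw [h3]
      have h4 : (⟨i, j, e, d⟩ : T (2 * l)) ^ (2 * l) = 1 := by
        have hz : ((2 * l : ℕ) : ZMod (2 * l)) = 0 := ZMod.natCast_self _
        cases e <;> cases d
        · rw [pow_A, hz, zero_mul, zero_mul]; rfl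
        · rw [pow_mul, sq_swap, pow_A, half_mul_of_par_zero l _ (by rw [map_add]; exact hne1)]; rfl
        · rw [pow_mul, sq_inv, one_pow]
        · rw [pow_mul, sq_swapInv, pow_A, mul_neg, half_mul_of_par_zero l _ (by
            rw [map_sub, ← hne1]
            linear_combination (-par l j) * h20), neg_zero]; rfl
      rw [h2, h4] at h1
      exact z_ne_one (hinj1 _ h1)
  -- transfer
  have hrange : ∀ x, f x ∈ (S : Subgroup G) := fun x => by rw [← hr]; exact ⟨x, rfl⟩
  have hfx : ∀ (m : ℕ) (y : T (2 * l)), IsConj (f (x0 l ^ m)) (f y) →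
      f y * (f (x0 l ^ m))⁻¹ ∈ (lam l 1 0 0).ker.map f := by
    intro m y hy
    rw [← map_inv, ← map_mul]
    refine ⟨_, ?_, rfl⟩
    rw [SetLike.mem_coe, MonoidHom.mem_ker, map_mul, map_inv, hkey m y hy, mul_inv_cancel]
  have hnc := Cfsg.Agent.S1241.result (p := 2) (S : Subgroup G) ((lam l 1 0 0).ker.map f)
    (by rw [← hr, MonoidHom.range_eq_map]; exact Subgroup.map_mono le_top)
    (by
      refine ⟨?_⟩
      rintro ⟨n, hn⟩ hn2 ⟨g, hg⟩
      rw [Subgroup.mem_subgroupOf] at hn2 ⊢
      obtain ⟨x, hx, hxn⟩ := hn2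
      have hg' := hg
      rw [← hr] at hg'
      obtain ⟨y, hy⟩ := hg'
      refine ⟨y * x * y⁻¹, ?_, ?_⟩
      · rw [SetLike.mem_coe] at hx ⊢
        exact (lam l 1 0 0).normal_ker.conj_mem _ hx _
      · rw [map_mul, map_mul, map_inv, hy, hxn]; rfl)
    (by
      intro x hx y hy
      rw [← hr] at hx hy
      obtain ⟨x, rfl⟩ := hx
      obtain ⟨y, rfl⟩ := hy
      refine ⟨x * y * x⁻¹ * y⁻¹, ?_, by simp only [map_mul, map_inv]⟩
      rw [SetLike.mem_coe, MonoidHom.mem_ker, map_mul, map_mul, map_mul, map_inv, map_inv,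
        mul_comm (lam l 1 0 0 x), mul_inv_cancel_right, mul_inv_cancel])
    (by
      have := S.not_dvd_index
      exact (Nat.Prime.coprime_iff_not_dvd Nat.prime_two).2 this)
    (f (x0 l)) (hrange _)
    (by
      rintro ⟨y, hy, hyx⟩
      rw [hf hyx, SetLike.mem_coe, MonoidHom.mem_ker, lam_eq_one_iff] at hy
      simp [x0] at hy)
    (by
      obtain ⟨k, hk⟩ := IsPGroup.iff_orderOf.1 S.isPGroup' ⟨f (x0 l), hrange _⟩
      exact ⟨k, by rw [← hk, Subgroup.orderOf_mk]⟩)
    (by
      intro m a ha
      -- replace the integer by a natural number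
      obtain ⟨k, hk⟩ : ∃ k : ℕ, f (x0 l) ^ m = f (x0 l ^ k) := by
        have h1 : f (x0 l) ^ m ∈ Subgroup.zpowers (f (x0 l)) := ⟨m, rfl⟩
        rw [← mem_powers_iff_mem_zpowers] at h1
        obtain ⟨k, hk⟩ := h1
        exact ⟨k, by rw [map_pow]; exact hk.symm⟩
      rw [hk] at ha ⊢
      have ha' := ha
      rw [← hr] at ha'
      obtain ⟨y, hy⟩ := ha'
      rw [← hy]
      exact hfx k y (isConj_iff.2 ⟨a, hy.symm⟩))
  rw [hG] at hnc
  exact hnc (Subgroup.mem_top _)


/-! ### Case I -/

theorem lam_t (α β γ : ZMod 2) : lam l α β γ (t l) = Multiplicative.ofAdd β := by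
  change Multiplicative.ofAdd _ = _
  congr 1
  simp [t]

theorem lam_r (α β γ : ZMod 2) : lam l α β γ (r l) = Multiplicative.ofAdd β := by
  change Multiplicative.ofAdd _ = _
  congr 1
  simp only [r, map_one, bit_true, bit_false]
  have h20 : (1 + 1 : ZMod 2) = 0 := by decide
  rw [h20]
  ring

theorem lam_s (α β γ : ZMod 2) : lam l α β γ (s l) = Multiplicative.ofAdd (α + β) := by
  change Multiplicative.ofAdd _ = _
  congr 1
  simp [s]

theorem lam_u (α β γ : ZMod 2) : lam l α β γ (u l) = Multiplicative.ofAdd γ := by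
  change Multiplicative.ofAdd _ = _
  congr 1
  simp [u]

theorem lam_w (α β γ : ZMod 2) : lam l α β γ (w l) = Multiplicative.ofAdd (β + γ) := by
  change Multiplicative.ofAdd _ = _
  congr 1
  simp [w]

theorem lam_conj (α β γ : ZMod 2) {x y : T (2 * l)} (h : IsConj x y) : lam l α β γ x = lam l α β γ y := by
  obtain ⟨g, rfl⟩ := isConj_iff.1 h
  rw [map_mul, map_mul, map_inv, mul_comm (lam l α β γ g), mul_inv_cancel_right]

theorem t_sq : t l * t l = 1 := by rw [← pow_two, t, sq_inv]
theorem r_sq : r l * r l = 1 := by rw [← pow_two, r, sq_inv]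
theorem s_sq : s l * s l = 1 := by rw [← pow_two, s, sq_inv]
theorem u_sq : u l * u l = 1 := by rw [← pow_two, u, sq_swap, one_def, add_zero]
theorem w_sq : w l * w l = 1 := by rw [← pow_two, w, sq_swapInv, one_def, sub_zero, neg_zero]

theorem ofAdd_one_ne : (Multiplicative.ofAdd (1 : ZMod 2)) ≠ 1 := by decide

/-- result of the three transfers in Case I -/
theorem caseI [NeZero l] (S : Sylow 2 G) (f : T (2 * l) →* G) (hf : Function.Injective f)
    (hr : f.range = (S : Subgroup G)) (hG : ∀ M : Subgroup G, M.Normal → M.index ≠ 2)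
    (hza : IsConj (f (z l)) (f (a' l))) :
    (∀ y : T (2 * l), y * y = 1 → y ≠ 1 → IsConj (f y) (f (z l)) ∨ IsConj (f y) (f (u l))) ∧
    (IsConj (f (u l)) (f (z l)) ∨ IsConj (f (u l)) (f (w l))) ∧
    (IsConj (f (u l)) (f (z l)) ∨ IsConj (f (u l)) (f (t l)) ∨ IsConj (f (u l)) (f (r l))) := by
  have hzb : IsConj (f (z l)) (f (b' l)) := hza.trans (f.map_isConj (isConj_a'_b' l))
  have h01 : (Multiplicative.ofAdd (0 : ZMod 2)) = 1 := rfl
  have A2 : ∀ x : T (2 * l), x * x = 1 → lam l 0 1 0 x ≠ 1 →
      IsConj (f x) (f (z l)) ∨ IsConj (f x) (f (u l)) := by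
    intro x hx hlx
    obtain ⟨y, hy, hy1, hly, hxy⟩ := transfer_step S f hf hr hG 0 1 0 x hx hlx
    rcases inv_cases l y hy hy1 with h | h | h | h | h | h | h | h
    · subst h; exact Or.inl hxy
    · subst h; exact Or.inl (hxy.trans hza.symm)
    · subst h; exact Or.inl (hxy.trans hzb.symm)
    · rw [lam_conj _ _ _ h, lam_t] at hly; exact absurd hly ofAdd_one_ne
    · rw [lam_conj _ _ _ h, lam_r] at hly; exact absurd hly ofAdd_one_ne
    · rw [lam_conj _ _ _ h, lam_s] at hly; exact absurd hly (by decide)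
    · exact Or.inr (hxy.trans (f.map_isConj h))
    · rw [lam_conj _ _ _ h, lam_w] at hly; exact absurd hly (by decide)
  refine ⟨?_, ?_, ?_⟩
  · intro y hy hy1
    rcases inv_cases l y hy hy1 with h | h | h | h | h | h | h | h
    · subst h; exact Or.inl (IsConj.refl _)
    · subst h; exact Or.inl hza.symm
    · subst h; exact Or.inl hzb.symm
    · exact A2 y hy (by rw [lam_conj _ _ _ h, lam_t]; exact ofAdd_one_ne)
    · exact A2 y hy (by rw [lam_conj _ _ _ h, lam_r]; exact ofAdd_one_ne)
    · exact A2 y hy (by rw [lam_conj _ _ _ h, lam_s]; decide)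
    · exact Or.inr (f.map_isConj h)
    · exact A2 y hy (by rw [lam_conj _ _ _ h, lam_w]; decide)
  · obtain ⟨y, hy, hy1, hly, hxy⟩ := transfer_step S f hf hr hG 0 1 1 (u l) u_sq
      (by rw [lam_u]; exact ofAdd_one_ne)
    rcases inv_cases l y hy hy1 with h | h | h | h | h | h | h | h
    · subst h; exact Or.inl hxy
    · subst h; exact Or.inl (hxy.trans hza.symm)
    · subst h; exact Or.inl (hxy.trans hzb.symm)
    · rw [lam_conj _ _ _ h, lam_t] at hly; exact absurd hly ofAdd_one_ne
    · rw [lam_conj _ _ _ h, lam_r] at hly; exact absurd hly ofAdd_one_ne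
    · rw [lam_conj _ _ _ h, lam_s] at hly; exact absurd hly (by decide)
    · rw [lam_conj _ _ _ h, lam_u] at hly; exact absurd hly ofAdd_one_ne
    · exact Or.inr (hxy.trans (f.map_isConj h))
  · obtain ⟨y, hy, hy1, hly, hxy⟩ := transfer_step S f hf hr hG 1 0 1 (u l) u_sq
      (by rw [lam_u]; exact ofAdd_one_ne)
    rcases inv_cases l y hy hy1 with h | h | h | h | h | h | h | h
    · subst h; exact Or.inl hxy
    · subst h; exact Or.inl (hxy.trans hza.symm)
    · subst h; exact Or.inl (hxy.trans hzb.symm)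
    · exact Or.inr (Or.inl (hxy.trans (f.map_isConj h)))
    · exact Or.inr (Or.inr (hxy.trans (f.map_isConj h)))
    · rw [lam_conj _ _ _ h, lam_s] at hly; exact absurd hly (by decide)
    · rw [lam_conj _ _ _ h, lam_u] at hly; exact absurd hly ofAdd_one_ne
    · rw [lam_conj _ _ _ h, lam_w] at hly; exact absurd hly (by decide)

/-! ### centralizers in the model -/

theorem eq_of_double_eq [NeZero l] (x x' : ZMod (2 * l)) (h : x + x = x' + x')
    (hv : decide (x.val < l) = decide (x'.val < l)) : x = x' := by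
  have hl : 0 < l := Nat.pos_of_ne_zero (NeZero.ne l)
  have : NeZero (2 * l) := ⟨by omega⟩
  rcases two_half l (x - x') (by linear_combination h) with h1 | h1
  · exact sub_eq_zero.1 h1
  · exfalso
    have h2 : x = x' + l := by linear_combination h1
    have h3 : x.val = (x'.val + l) % (2 * l) := by
      rw [h2, ZMod.val_add, ZMod.val_natCast, Nat.mod_eq_of_lt (show l < 2 * l by omega)]
    have h4 : x'.val < 2 * l := ZMod.val_lt x'
    rw [decide_eq_decide] at hv
    rcases lt_or_ge x'.val l with h5 | h5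
    · rw [Nat.mod_eq_of_lt (by omega)] at h3
      have := hv.2 h5
      omega
    · rw [Nat.mod_eq_sub_mod (by omega), Nat.mod_eq_of_lt (by omega)] at h3
      have := hv.1 (by omega)
      omega

theorem card_cen_inv [NeZero l] (p q : ZMod (2 * l)) :
    Nat.card (Subgroup.centralizer {(⟨p, q, true, false⟩ : T (2 * l))}) ≤ 16 := by
  let φ : Subgroup.centralizer {(⟨p, q, true, false⟩ : T (2 * l))} → (Bool × Bool) × (Bool × Bool) :=
    fun x => ((x.1.e, x.1.d), (decide (x.1.i.val < l), decide (x.1.j.val < l)))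
  have hφ : Function.Injective φ := by
    rintro ⟨⟨i, j, e, d⟩, hx⟩ ⟨⟨i', j', e', d'⟩, hx'⟩ h
    simp only [φ, Prod.mk.injEq] at h
    obtain ⟨⟨rfl, rfl⟩, h3, h4⟩ := h
    rw [Subgroup.mem_centralizer_singleton_iff, mul_mk, mul_mk, T.mk.injEq] at hx hx'
    obtain ⟨a1, a2, -, -⟩ := hx
    obtain ⟨b1, b2, -, -⟩ := hx'
    have h5 : i + i = i' + i' := by
      cases e <;> cases d <;> simp only [sg_true, sg_false, cond_true, cond_false, neg_mul, one_mul] at a1 b1 <;>
        linear_combination a1 - b1
    have h6 : j + j = j' + j' := by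
      cases e <;> cases d <;> simp only [sg_true, sg_false, cond_true, cond_false, neg_mul, one_mul] at a2 b2 <;>
        linear_combination a2 - b2
    have h7 := eq_of_double_eq i i' h5 h3
    have h8 := eq_of_double_eq j j' h6 h4
    subst h7 h8
    rfl
  calc Nat.card _ ≤ Nat.card ((Bool × Bool) × (Bool × Bool)) := Nat.card_le_card_of_injective φ hφ
    _ = 16 := by rw [Nat.card_eq_fintype_card]; rfl

end Cfsg.Agent.ClassificationK.GTwoFusion
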