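import Cfsg.Agent.ClassificationK.GTwoFusion

/-!
Second part of the fusion analysis: for `4 ∣ l` there is one class of involutions.
-/

set_option autoImplicit false

namespace Cfsg.Agent.ClassificationK.GTwoFusionB

open Cfsg.Agent.ClassificationK.GTwoModel Cfsg.Agent.ClassificationK.GTwoModel.T
open Cfsg.Agent.ClassificationK.SylowConj Cfsg.Agent.ClassificationK.GTwoFusion

variable {G : Type*} [Group G] [Finite G] {l : ℕ}

theorem mem_cen_u (x : T (2 * l)) : x ∈ Subgroup.centralizer {u l} ↔ x.i = x.j := by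
  obtain ⟨i, j, e, d⟩ := x
  rw [Subgroup.mem_centralizer_singleton_iff, u, mul_mk, mul_mk, T.mk.injEq]
  cases e <;> cases d <;>
    simp only [sg_true, sg_false, cond_true, cond_false, mul_zero, add_zero, zero_add, one_mul,
      Bool.xor_false, Bool.xor_true, Bool.not_false, Bool.not_true, and_true, eq_comm, and_self]

theorem mem_cen_w (x : T (2 * l)) : x ∈ Subgroup.centralizer {w l} ↔ x.i = - x.j := by
  obtain ⟨i, j, e, d⟩ := x
  rw [Subgroup.mem_centralizer_singleton_iff, w, mul_mk, mul_mk, T.mk.injEq]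
  cases e <;> cases d <;>
    simp only [sg_true, sg_false, cond_true, cond_false, mul_zero, add_zero, zero_add, one_mul, neg_mul,
      Bool.xor_false, Bool.xor_true, Bool.not_false, Bool.not_true, and_true] <;>
    exact ⟨fun h => h.1, fun h => ⟨h, by rw [h, neg_neg]⟩⟩

theorem card_cen_u [NeZero l] : Nat.card (Subgroup.centralizer {u l}) = 8 * l := by
  have hl : 0 < l := Nat.pos_of_ne_zero (NeZero.ne l)
  let φ : Subgroup.centralizer {u l} ≃ ZMod (2 * l) × (Bool × Bool) :=
    { toFun := fun x => (x.1.i, (x.1.e, x.1.d))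
      invFun := fun y => ⟨⟨y.1, y.1, y.2.1, y.2.2⟩, (mem_cen_u _).2 rfl⟩
      left_inv := by
        rintro ⟨⟨i, j, e, d⟩, hx⟩
        rw [mem_cen_u] at hx
        simp only at hx
        subst hx
        rfl
      right_inv := fun _ => rfl }
  rw [Nat.card_congr φ, Nat.card_prod, Nat.card_zmod]
  have : Nat.card (Bool × Bool) = 4 := by rw [Nat.card_eq_fintype_card]; rfl
  rw [this]; ring

theorem card_cen_w [NeZero l] : Nat.card (Subgroup.centralizer {w l}) = 8 * l := by
  have hl : 0 < l := Nat.pos_of_ne_zero (NeZero.ne l)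
  let φ : Subgroup.centralizer {w l} ≃ ZMod (2 * l) × (Bool × Bool) :=
    { toFun := fun x => (x.1.i, (x.1.e, x.1.d))
      invFun := fun y => ⟨⟨y.1, -y.1, y.2.1, y.2.2⟩, (mem_cen_w _).2 (neg_neg _).symm⟩
      left_inv := by
        rintro ⟨⟨i, j, e, d⟩, hx⟩
        rw [mem_cen_w] at hx
        simp only at hx
        subst hx
        simp only [neg_neg]
      right_inv := fun _ => rfl }
  rw [Nat.card_congr φ, Nat.card_prod, Nat.card_zmod]
  have : Nat.card (Bool × Bool) = 4 := by rw [Nat.card_eq_fintype_card]; rfl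
  rw [this]; ring

theorem card_cen_conj {H : Type*} [Group H] {x y : H} (h : IsConj x y) :
    Nat.card (Subgroup.centralizer {x}) = Nat.card (Subgroup.centralizer {y}) := by
  obtain ⟨g, rfl⟩ := isConj_iff.1 h
  refine Nat.card_congr
    { toFun := fun a => ⟨g * a.1 * g⁻¹, ?_⟩
      invFun := fun b => ⟨g⁻¹ * b.1 * g, ?_⟩
      left_inv := fun a => Subtype.ext (by simp only; group)
      right_inv := fun b => Subtype.ext (by simp only; group) }
  · have := a.2
    rw [Subgroup.mem_centralizer_singleton_iff] at this ⊢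
    calc g * a.1 * g⁻¹ * (g * x * g⁻¹) = g * (a.1 * x) * g⁻¹ := by group
      _ = g * (x * a.1) * g⁻¹ := by rw [this]
      _ = _ := by group
  · have := b.2
    rw [Subgroup.mem_centralizer_singleton_iff] at this ⊢
    calc g⁻¹ * b.1 * g * x = g⁻¹ * (b.1 * (g * x * g⁻¹)) * g := by group
      _ = g⁻¹ * ((g * x * g⁻¹) * b.1) * g := by rw [this]
      _ = _ := by group


theorem card_le_of_centralizing [NeZero l] (hl2 : 2 ≤ l) (S : Sylow 2 G) (f : T (2 * l) →* G)
    (hf : Function.Injective f) (hr : f.range = (S : Subgroup G))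
    (hza : IsConj (f (z l)) (f (a' l))) (huz : ¬ IsConj (f (u l)) (f (z l)))
    (R : Subgroup G) (hR : IsPGroup 2 R) (hRu : R ≤ Subgroup.centralizer {f (u l)}) :
    Nat.card R ≤ 8 * l := by
  have hzb : IsConj (f (z l)) (f (b' l)) := hza.trans (f.map_isConj (isConj_a'_b' l))
  have hZ : IsPGroup 2 (Subgroup.zpowers (f (u l))) := by
    refine S.isPGroup'.to_le ?_
    rw [Subgroup.zpowers_le, ← hr]
    exact ⟨_, rfl⟩
  have hR' : IsPGroup 2 (R ⊔ Subgroup.zpowers (f (u l)) : Subgroup G) := by
    refine IsPGroup.to_sup_of_normal_right' hR hZ ?_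
    intro x hx
    have hx' := hRu hx
    rw [Subgroup.mem_centralizer_singleton_iff] at hx'
    rw [Subgroup.mem_normalizer_iff]
    intro h
    have hc : Commute x (f (u l)) := hx'
    constructor
    · rintro ⟨k, rfl⟩
      refine ⟨k, ?_⟩
      simp only
      rw [(hc.zpow_right k).eq, mul_inv_cancel_right]
    · rintro ⟨k, hk⟩
      simp only at hk
      refine ⟨k, ?_⟩
      simp only
      have h1 : h = x⁻¹ * (f (u l)) ^ k * x := by rw [hk]; group
      rw [h1, (hc.inv_left.zpow_right k).eq, inv_mul_cancel_right]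
  obtain ⟨P, hP⟩ := hR'.exists_le_sylow
  obtain ⟨g, hg⟩ := MulAction.exists_smul_eq G P S
  have hgP : ∀ x ∈ (P : Subgroup G), ∃ y, f y = g * x * g⁻¹ := by
    intro x hx
    have h1 : g * x * g⁻¹ ∈ (S : Subgroup G) := by
      rw [← hg, Sylow.coe_subgroup_smul]
      exact ⟨x, hx, rfl⟩
    rw [← hr] at h1
    exact h1
  obtain ⟨y, hy⟩ := hgP (f (u l)) (hP (Subgroup.mem_sup_right (Subgroup.mem_zpowers _)))
  have huy : IsConj (f (u l)) (f y) := isConj_iff.2 ⟨g, hy.symm⟩
  have hu1 : u l ≠ 1 := by
    intro h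
    rw [u, one_def, T.mk.injEq] at h
    exact absurd h.2.2.2 (by decide)
  have hyy := sq_of_conj f hf hy u_sq
  have hy1 := ne_one_of_conj f hf hy hu1
  have hRc : Nat.card R ≤ Nat.card (Subgroup.centralizer {y}) := by
    have hex : ∀ x : R, ∃ y', f y' = g * x * g⁻¹ := fun x =>
      hgP x (hP (Subgroup.mem_sup_left x.2))
    choose ψ hψ using hex
    refine Nat.card_le_card_of_injective (fun x : R => (⟨ψ x, ?_⟩ : Subgroup.centralizer {y})) ?_
    · rw [Subgroup.mem_centralizer_singleton_iff]
      apply hf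
      rw [map_mul, map_mul, hψ, hy]
      have := hRu x.2
      rw [Subgroup.mem_centralizer_singleton_iff] at this
      calc g * x * g⁻¹ * (g * f (u l) * g⁻¹) = g * (x * f (u l)) * g⁻¹ := by group
        _ = g * (f (u l) * x) * g⁻¹ := by rw [this]
        _ = _ := by group
    · intro x x' hxx
      simp only [Subtype.mk.injEq] at hxx
      have h1 := congrArg f hxx
      rw [hψ, hψ] at h1
      exact Subtype.ext (by simpa using h1)
  refine hRc.trans ?_
  rcases inv_cases l y hyy hy1 with h | h | h | h | h | h | h | h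
  · subst h; exact absurd huy huz
  · subst h; exact absurd (huy.trans hza.symm) huz
  · subst h; exact absurd (huy.trans hzb.symm) huz
  · rw [card_cen_conj h]; exact (card_cen_inv _ _).trans (by omega)
  · rw [card_cen_conj h]; exact (card_cen_inv _ _).trans (by omega)
  · rw [card_cen_conj h]; exact (card_cen_inv _ _).trans (by omega)
  · rw [card_cen_conj h, card_cen_u]
  · rw [card_cen_conj h, card_cen_w]

theorem hmax_u [NeZero l] (hl2 : 2 ≤ l) (S : Sylow 2 G) (f : T (2 * l) →* G)
    (hf : Function.Injective f) (hr : f.range = (S : Subgroup G))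
    (hza : IsConj (f (z l)) (f (a' l))) (huz : ¬ IsConj (f (u l)) (f (z l)))
    (R : Subgroup G) (hR : IsPGroup 2 R) (hRu : R ≤ Subgroup.centralizer {f (u l)}) :
    Nat.card R ≤ Nat.card ↥((S : Subgroup G) ⊓ Subgroup.centralizer {f (u l)}) := by
  refine (card_le_of_centralizing hl2 S f hf hr hza huz R hR hRu).trans ?_
  rw [← card_cen_u (l := l)]
  refine Nat.card_le_card_of_injective
    (fun x : Subgroup.centralizer {u l} => (⟨f x, ?_, ?_⟩ : ↥((S : Subgroup G) ⊓ Subgroup.centralizer {f (u l)}))) ?_
  · rw [← hr]; exact ⟨_, rfl⟩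
  · have := x.2
    rw [Subgroup.mem_centralizer_singleton_iff] at this
    change f x ∈ Subgroup.centralizer {f (u l)}
    rw [Subgroup.mem_centralizer_singleton_iff, ← map_mul, ← map_mul, this]
  · intro x x' h
    exact Subtype.ext (hf (Subtype.mk.inj h))

theorem diag_mul (i j : ZMod (2 * l)) (e d e' d' : Bool) :
    (⟨i, i, e, d⟩ : T (2 * l)) * ⟨j, j, e', d'⟩ =
      ⟨i + sg (2 * l) e * j, i + sg (2 * l) e * j, e ^^ e', d ^^ d'⟩ := by
  rw [mul_mk, Bool.cond_self]

/-- the contradiction for `4 ∣ l` -/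
theorem no_two_classes [NeZero l] (hl4 : 4 ∣ l) (S : Sylow 2 G) (f : T (2 * l) →* G)
    (hf : Function.Injective f) (hr : f.range = (S : Subgroup G))
    (hza : IsConj (f (z l)) (f (a' l))) (huz : ¬ IsConj (f (u l)) (f (z l)))
    (hut : IsConj (f (u l)) (f (t l))) (huw : IsConj (f (u l)) (f (w l))) : False := by
  have hlpos : 0 < l := Nat.pos_of_ne_zero (NeZero.ne l)
  have hl2 : 2 ≤ l := by
    obtain ⟨c, rfl⟩ := hl4
    omega
  have hQ : IsPGroup 2 ((Subgroup.centralizer {t l}).map f) :=
    S.isPGroup'.to_le (by rw [← hr, MonoidHom.range_eq_map]; exact Subgroup.map_mono le_top)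
  obtain ⟨g, hg, hgS⟩ := exists_conj_centralizer (S : Subgroup G) S.isPGroup' hut.symm
    (hmax_u hl2 S f hf hr hza huz) ((Subgroup.centralizer {t l}).map f) hQ (by
    rintro _ ⟨x, hx, rfl⟩
    rw [SetLike.mem_coe, Subgroup.mem_centralizer_singleton_iff] at hx
    rw [Subgroup.mem_centralizer_singleton_iff, ← map_mul, ← map_mul, hx])
  have hex : ∀ c : T (2 * l), c * t l = t l * c → ∃ p, f p = g * f c * g⁻¹ ∧ p.i = p.j := by
    intro c hc
    have h1 : g * f c * g⁻¹ ∈ (S : Subgroup G) :=
      hgS _ ⟨c, by rw [SetLike.mem_coe, Subgroup.mem_centralizer_singleton_iff]; exact hc, rfl⟩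
    rw [← hr] at h1
    obtain ⟨p, hp⟩ := h1
    refine ⟨p, hp, ?_⟩
    rw [← mem_cen_u, Subgroup.mem_centralizer_singleton_iff]
    apply hf
    rw [map_mul, map_mul, hp, ← hg]
    calc g * f c * g⁻¹ * (g * f (t l) * g⁻¹) = g * (f c * f (t l)) * g⁻¹ := by group
      _ = g * (f (t l) * f c) * g⁻¹ := by rw [← map_mul, hc, map_mul]
      _ = _ := by group
  have hll : -(l : ZMod (2 * l)) = l := by linear_combination -(half_add_half l)
  obtain ⟨p, hp, hpc⟩ := hex (a' l) (by
    rw [a', t, mul_mk, mul_mk]
    simp only [sg_false, sg_true, cond_false, one_mul, Bool.xor_false, add_zero, mul_zero,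
        neg_mul, hll, Bool.xor_true, Bool.not_false, add_comm])
  obtain ⟨q, hq, hqc⟩ := hex (u l) (by
    rw [u, t, mul_mk, mul_mk]
    simp only [cond_true, cond_false, mul_zero, add_zero, Bool.xor_false, Bool.xor_true, Bool.not_false])
  have hpp := sq_of_conj f hf hp a'_sq
  have hqq := sq_of_conj f hf hq u_sq
  -- the commutator of `p` and `q`
  have hcomm : p * q * p * q ≠ 1 := by
    intro h
    have h1 : f (p * q * p * q) = g * f (a' l * u l * a' l * u l) * g⁻¹ := by
      simp only [map_mul, hp, hq]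
      group
    have h2 : a' l * u l * a' l * u l = z l := by
      rw [a', u, mul_mk, mul_mk, mul_mk, z]
      simp
    rw [h, map_one, h2] at h1
    have h3 : f (z l) = 1 := by
      calc f (z l) = g⁻¹ * (g * f (z l) * g⁻¹) * g := by group
        _ = 1 := by rw [← h1]; group
    exact z_ne_one (hf (by rw [h3, map_one]))
  obtain ⟨i, i', e, d⟩ := p
  obtain ⟨j, j', e', d'⟩ := q
  simp only at hpc hqc
  subst hpc hqc
  -- conjugacy facts
  have hpz : IsConj (f ⟨i, i, e, d⟩) (f (z l)) := (isConj_iff.2 ⟨g, hp.symm⟩ : IsConj _ _).symm.trans hza.symm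
  have hqu : IsConj (f (u l)) (f ⟨j, j, e', d'⟩) := isConj_iff.2 ⟨g, hq.symm⟩
  have huq : IsConj (f (u l)) (f (u l * ⟨j, j, e', d'⟩)) := by
    refine huw.trans ?_
    have h1 : f (u l * ⟨j, j, e', d'⟩) = g * f (t l * u l) * g⁻¹ := by
      rw [map_mul, map_mul, hq, ← hg]
      group
    have h2 : t l * u l = w l := by
      rw [t, u, mul_mk, w]
      simp only [mul_zero, cond_false, add_zero, Bool.xor_false, Bool.xor_true, Bool.not_false]
    rw [h1, h2]
    exact isConj_iff.2 ⟨g, rfl⟩
  have hE : e = true ∧ e' = true := by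
    rw [diag_mul, one_def, T.mk.injEq] at hpp hqq
    obtain ⟨h1, -, -, -⟩ := hpp
    obtain ⟨h2, -, -, -⟩ := hqq
    rw [diag_mul, diag_mul, diag_mul, one_def] at hcomm
    cases e <;> cases e'
    · exfalso
      apply hcomm
      simp only [sg_false, one_mul] at h1 h2
      have h5 : i + sg (2 * l) false * j + sg (2 * l) (false ^^ false) * i +
          sg (2 * l) (false ^^ false ^^ false) * j = 0 := by
        simp only [Bool.xor_false, sg_false, one_mul]
        linear_combination h1 + h2
      rw [h5]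
      cases d <;> cases d' <;> rfl
    · exfalso
      apply hcomm
      have h5 : i + sg (2 * l) false * j + sg (2 * l) (false ^^ true) * i +
          sg (2 * l) (false ^^ true ^^ false) * j = 0 := by
        simp only [Bool.xor_true, Bool.xor_false, Bool.not_false, sg_false, sg_true, one_mul]
        ring
      rw [h5]
      cases d <;> cases d' <;> rfl
    · exfalso
      apply hcomm
      have h5 : i + sg (2 * l) true * j + sg (2 * l) (true ^^ false) * i +
          sg (2 * l) (true ^^ false ^^ true) * j = 0 := by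
        simp only [Bool.xor_true, Bool.xor_false, Bool.not_true, sg_false, sg_true, one_mul]
        ring
      rw [h5]
      cases d <;> cases d' <;> rfl
    · exact ⟨rfl, rfl⟩
  obtain ⟨rfl, rfl⟩ := hE
  have hcomm2 : (i - j) + (i - j) = (l : ZMod (2 * l)) := by
    have h1 : f (⟨i, i, true, d⟩ * ⟨j, j, true, d'⟩ * ⟨i, i, true, d⟩ * ⟨j, j, true, d'⟩) =
        g * f (z l) * g⁻¹ := by
      have h2 : a' l * u l * a' l * u l = z l := by
        rw [a', u, mul_mk, mul_mk, mul_mk, z]
        simp
      rw [← h2]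
      simp only [map_mul, hp, hq]
      group
    have h3 : (⟨i, i, true, d⟩ : T (2 * l)) * ⟨j, j, true, d'⟩ * ⟨i, i, true, d⟩ * ⟨j, j, true, d'⟩ =
        ⟨(i - j) + (i - j), (i - j) + (i - j), false, false⟩ := by
      rw [diag_mul, diag_mul, diag_mul]
      have h5 : i + sg (2 * l) true * j + sg (2 * l) (true ^^ true) * i +
          sg (2 * l) (true ^^ true ^^ true) * j = (i - j) + (i - j) := by
        simp only [Bool.xor_true, Bool.not_true, Bool.not_false, sg_false, sg_true, one_mul]
        ring
      rw [h5]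
      cases d <;> cases d' <;> rfl
    rw [h3] at h1
    have h6 := sq_of_conj f hf h1 (by rw [z, mul_mk, one_def]; simp [half_add_half])
    have h7 := ne_one_of_conj f hf h1 z_ne_one
    rw [mul_mk, one_def, T.mk.injEq] at h6
    simp only [sg_false, cond_false, one_mul] at h6
    rcases two_half l _ h6.1 with h8 | h8
    · rw [h8] at h7
      exact absurd rfl h7
    · exact h8
  -- parities
  have hd : d = false := by
    cases d
    · rfl
    · exfalso
      apply huz
      refine huw.trans ((f.map_isConj ?_).trans hpz)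
      exact isConj_swapInvElt _ _
  subst hd
  have hi : par l i = 1 := by
    rcases par_cases l i with h | h
    · exfalso
      apply huz
      refine hut.trans ((f.map_isConj ?_).trans hpz)
      exact isConj_inv_of_par _ _ _ _ (by rw [h, map_zero]) (by rw [h, map_zero])
    · exact h
  have hrz : IsConj (f (r l)) (f (z l)) := by
    refine IsConj.trans (f.map_isConj ?_) hpz
    exact isConj_inv_of_par _ _ _ _ (by rw [hi, map_one]) (by rw [hi, map_one])
  have hj : par l j = 0 := by
    rcases par_cases l j with h | h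
    · exact h
    · exfalso
      have h1 : IsConj (⟨j, j, true, false⟩ : T (2 * l)) (r l) :=
        isConj_inv_of_par _ _ _ _ (by rw [h, map_one]) (by rw [h, map_one])
      cases d'
      · exact huz ((hqu.trans (f.map_isConj h1)).trans hrz)
      · apply huz
        have h2 : u l * ⟨j, j, true, true⟩ = ⟨j, j, true, false⟩ := by
          rw [u, mul_mk]
          simp only [sg_false, cond_true, one_mul, zero_add, Bool.xor_true, Bool.not_false, Bool.not_true]
        rw [h2] at huq
        exact (huq.trans (f.map_isConj h1)).trans hrz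
  -- contradiction modulo 4
  obtain ⟨y, hy⟩ := exists_half l (i - j - 1) (by rw [map_sub, map_sub, hi, hj, map_one]; decide)
  apply half_ne_zero l
  obtain ⟨c, rfl⟩ := hl4
  have hz : ((2 * (4 * c) : ℕ) : ZMod (2 * (4 * c))) = 0 := ZMod.natCast_self _
  push_cast at hz hcomm2 ⊢
  linear_combination (2 * (c : ZMod (2 * (4 * c)))) * hcomm2 - 4 * (c : ZMod (2 * (4 * c))) * hy +
    ((c : ZMod (2 * (4 * c))) - y) * hz


/-- the automorphism of the model exchanging `t` and `r` -/
def tau (l : ℕ) : T (2 * l) →* T (2 * l) where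
  toFun x := ⟨x.i + (cond x.e 1 0), x.j + (cond x.e 1 0), x.e, x.d⟩
  map_one' := by
    rw [one_def]
    simp only [cond_false, add_zero]
  map_mul' := by
    rintro ⟨i, j, e, d⟩ ⟨i', j', e', d'⟩
    cases e <;> cases d <;> cases e' <;> cases d' <;>
      simp only [mul_mk, sg_true, sg_false, cond_true, cond_false, Bool.xor_false, Bool.xor_true,
          Bool.not_true, Bool.not_false] <;>
      congr 1 <;> ring

theorem tau_inj : Function.Injective (tau l) := by
  rintro ⟨i, j, e, d⟩ ⟨i', j', e', d'⟩ h
  simp only [tau, MonoidHom.coe_mk, OneHom.coe_mk, T.mk.injEq] at h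
  obtain ⟨h1, h2, rfl, rfl⟩ := h
  rw [add_left_inj] at h1 h2
  rw [h1, h2]

theorem tau_surj : Function.Surjective (tau l) := by
  rintro ⟨i, j, e, d⟩
  refine ⟨⟨i - cond e 1 0, j - cond e 1 0, e, d⟩, ?_⟩
  simp only [tau, MonoidHom.coe_mk, OneHom.coe_mk, sub_add_cancel]

/-- the main result on the model: two cases -/
theorem main [NeZero l] (hl2 : 2 ∣ l) (S : Sylow 2 G) (f : T (2 * l) →* G)
    (hf : Function.Injective f) (hr : f.range = (S : Subgroup G)) (hG : commutator G = ⊤)
    (hG2 : ∀ M : Subgroup G, M.Normal → M.index ≠ 2) :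
    (∀ y : T (2 * l), y * y = 1 → y ≠ 1 → IsConj (f y) (f (z l))) ∨
    (¬ 4 ∣ l ∧ ¬ IsConj (f (u l)) (f (z l)) ∧
      ∀ y : T (2 * l), y * y = 1 → y ≠ 1 → IsConj (f y) (f (z l)) ∨ IsConj (f y) (f (u l))) := by
  have hl : par l (l : ZMod (2 * l)) = 0 := by
    rw [par_natCast, ZMod.natCast_eq_zero_iff]
    exact hl2
  have hza := z_conj_a' hl S f hf hr hG
  obtain ⟨h1, h2, h3⟩ := caseI S f hf hr hG2 hza
  by_cases huz : IsConj (f (u l)) (f (z l))
  · left
    intro y hy hy1
    rcases h1 y hy hy1 with h | h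
    · exact h
    · exact h.trans huz
  · right
    refine ⟨fun hl4 => ?_, huz, h1⟩
    have huw := h2.resolve_left huz
    rcases h3.resolve_left huz with hut | hur
    · exact no_two_classes hl4 S f hf hr hza huz hut huw
    · have hzt : tau l (z l) = z l := by
        simp only [tau, z, MonoidHom.coe_mk, OneHom.coe_mk, cond_false, add_zero]
      have hat : tau l (a' l) = a' l := by
        simp only [tau, a', MonoidHom.coe_mk, OneHom.coe_mk, cond_false, add_zero]
      have hutau : tau l (u l) = u l := by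
        simp only [tau, u, MonoidHom.coe_mk, OneHom.coe_mk, cond_false, add_zero]
      have httau : tau l (t l) = r l := by
        simp only [tau, t, r, MonoidHom.coe_mk, OneHom.coe_mk, cond_true, zero_add]
      have hwtau : IsConj (tau l (w l)) (w l) := by
        simp only [tau, w, MonoidHom.coe_mk, OneHom.coe_mk, cond_true, zero_add]
        exact isConj_swapInvElt _ _
      refine no_two_classes hl4 S (f.comp (tau l)) (hf.comp tau_inj) ?_ ?_ ?_ ?_ ?_
      · rw [MonoidHom.range_comp, MonoidHom.range_eq_top.2 tau_surj, ← MonoidHom.range_eq_map, hr]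
      · simp only [MonoidHom.comp_apply, hzt, hat]; exact hza
      · simp only [MonoidHom.comp_apply, hzt, hutau]; exact huz
      · simp only [MonoidHom.comp_apply, hutau, httau]; exact hur
      · simp only [MonoidHom.comp_apply, hutau]; exact huw.trans (f.map_isConj hwtau).symm

end Cfsg.Agent.ClassificationK.GTwoFusionB
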