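import Cfsg.Agent.ClassificationK.GTwoAfter
import Cfsg.Agent.ClassificationK.GTwoSLTwo
import Cfsg.Agent.ClassificationK.GTwoCenterCase
import Cfsg.Agent.S1250

/-!
Assembly of the "after fusion" part, given Goldschmidt's product theorem (S1171) and the Gorenstein–Walter theorem
(S0483).
-/

set_option autoImplicit false

namespace Cfsg.Agent.ClassificationK.GTwoMain

open Cfsg.Agent.ClassificationK.GTwoConf
open Subgroup

universe u

/-- the commutator half of Goldschmidt's product theorem, without hypothesis on the core -/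
theorem commutator_le_oddCore
    (h1171 : ∀ (G : Type u) [Group G] [Finite G], Cfsg.oddCore G = ⊥ → ∀ (P : Sylow 2 G) (S₁ S₂ : Subgroup G),
      (∀ a ∈ S₁, ∀ b ∈ S₂, a * b = b * a) → S₁ ⊓ S₂ = ⊥ → Cfsg.IsStronglyClosed S₁ (P : Subgroup G) →
      Cfsg.IsStronglyClosed S₂ (P : Subgroup G) →
      ⁅normalClosure (S₁ : Set G), normalClosure (S₂ : Set G)⁆ = ⊥)
    (G : Type u) [Group G] [Finite G] (P : Sylow 2 G) (A B : Subgroup G) (hAB : A ⊓ B = ⊥)
    (hA : Cfsg.IsStronglyClosed A (P : Subgroup G)) (hB : Cfsg.IsStronglyClosed B (P : Subgroup G)) :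
    ⁅normalClosure (A : Set G), normalClosure (B : Set G)⁆ ≤ Cfsg.oddCore G := by
  have hN : (Cfsg.oddCore G).Normal := Cfsg.Agent.Lib.Cores.pPrimeCore_normal 2
  set π : G →* G ⧸ Cfsg.oddCore G := QuotientGroup.mk' (Cfsg.oddCore G) with hπ
  have hπs : Function.Surjective π := QuotientGroup.mk'_surjective _
  have hcomm : ∀ a ∈ A, ∀ b ∈ B, a * b = b * a := by
    intro a ha b hb
    have h1 : a * b * a⁻¹ * b⁻¹ ∈ A := by
      have h2 : b * a⁻¹ * b⁻¹ ∈ A := hA.2 a⁻¹ (inv_mem ha) b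
        (mul_mem (mul_mem (hB.1 hb) (inv_mem (hA.1 ha))) (inv_mem (hB.1 hb)))
      have h3 : a * b * a⁻¹ * b⁻¹ = a * (b * a⁻¹ * b⁻¹) := by group
      rw [h3]
      exact mul_mem ha h2
    have h2 : a * b * a⁻¹ * b⁻¹ ∈ B := by
      have h3 : a * b * a⁻¹ ∈ B := hB.2 b hb a (mul_mem (mul_mem (hA.1 ha) (hB.1 hb)) (inv_mem (hA.1 ha)))
      exact mul_mem h3 (inv_mem hb)
    have h3 : a * b * a⁻¹ * b⁻¹ ∈ A ⊓ B := ⟨h1, h2⟩
    rw [hAB, mem_bot] at h3
    calc a * b = (a * b * a⁻¹ * b⁻¹) * (b * a) := by group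
      _ = b * a := by rw [h3, one_mul]
  set P' : Sylow 2 (G ⧸ Cfsg.oddCore G) := Sylow.mapSurjective hπs P with hP'
  have hP'c : (P' : Subgroup (G ⧸ Cfsg.oddCore G)) = (P : Subgroup G).map π := Sylow.coe_mapSurjective hπs P
  have hA' : Cfsg.IsStronglyClosed (A.map π) (P' : Subgroup (G ⧸ Cfsg.oddCore G)) := by
    rw [hP'c]; exact Cfsg.Agent.S1250.result P A hA _
  have hB' : Cfsg.IsStronglyClosed (B.map π) (P' : Subgroup (G ⧸ Cfsg.oddCore G)) := by
    rw [hP'c]; exact Cfsg.Agent.S1250.result P B hB _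
  have hodd : ∀ x ∈ (P : Subgroup G), x ∈ Cfsg.oddCore G → x = 1 := by
    intro x hx hx'
    have h1 : (Nat.card (Cfsg.oddCore G)).Coprime 2 := Cfsg.Agent.Lib.Cores.pPrimeCore_coprime 2
    have h2 : orderOf x ∣ Nat.card (Cfsg.oddCore G) := by
      have := orderOf_dvd_natCard (⟨x, hx'⟩ : Cfsg.oddCore G)
      rwa [← orderOf_coe] at this
    obtain ⟨k, hk⟩ := IsPGroup.iff_orderOf.1 P.isPGroup' ⟨x, hx⟩
    rw [← orderOf_coe] at hk
    change orderOf x = 2 ^ k at hk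
    rw [hk] at h2
    have h3 : Nat.Coprime (2 ^ k) (Nat.card (Cfsg.oddCore G)) := Nat.Coprime.pow_left _ h1.symm
    have h4 : 2 ^ k = 1 := Nat.eq_one_of_dvd_coprimes h3 dvd_rfl h2
    rw [h4] at hk
    exact orderOf_eq_one_iff.1 hk
  have hinf : A.map π ⊓ B.map π = ⊥ := by
    rw [eq_bot_iff]
    rintro _ ⟨⟨a, ha, rfl⟩, ⟨b, hb, hab⟩⟩
    have h1 : a⁻¹ * b ∈ Cfsg.oddCore G := by
      rw [← QuotientGroup.eq_one_iff (N := Cfsg.oddCore G)]
      change π (a⁻¹ * b) = 1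
      rw [map_mul, map_inv, hab, inv_mul_cancel]
    have h2 := hodd _ (mul_mem (inv_mem (hA.1 ha)) (hB.1 hb)) h1
    have h3 : a = b := inv_mul_eq_one.1 h2
    have h4 : a ∈ A ⊓ B := ⟨ha, by rw [h3]; exact hb⟩
    rw [hAB, mem_bot] at h4
    rw [h4, map_one]
    exact one_mem _
  have hcomm' : ∀ a ∈ A.map π, ∀ b ∈ B.map π, a * b = b * a := by
    rintro _ ⟨a, ha, rfl⟩ _ ⟨b, hb, rfl⟩
    rw [← map_mul, hcomm a ha b hb, map_mul]
  have h1 := h1171 (G ⧸ Cfsg.oddCore G) (Cfsg.Agent.Lib.Cores.pPrimeCore_quotient_pPrimeCore 2) P'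
    (A.map π) (B.map π) hcomm' hinf hA' hB'
  have hmapn : ∀ K : Subgroup G, normalClosure ((K.map π : Subgroup (G ⧸ Cfsg.oddCore G)) : Set (G ⧸ Cfsg.oddCore G)) =
      (normalClosure (K : Set G)).map π := by
    intro K
    rw [Subgroup.map_normalClosure _ _ hπs, Subgroup.coe_map]
  rw [hmapn, hmapn, ← map_commutator] at h1
  have h2 := (Subgroup.map_eq_bot_iff _).1 h1
  rwa [hπ, QuotientGroup.ker_mk'] at h2

/-- the main theorem after fusion -/
theorem main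
    (h1171 : ∀ (G : Type u) [Group G] [Finite G], Cfsg.oddCore G = ⊥ → ∀ (P : Sylow 2 G) (S₁ S₂ : Subgroup G),
      (∀ a ∈ S₁, ∀ b ∈ S₂, a * b = b * a) → S₁ ⊓ S₂ = ⊥ → Cfsg.IsStronglyClosed S₁ (P : Subgroup G) →
      Cfsg.IsStronglyClosed S₂ (P : Subgroup G) →
      ⁅normalClosure (S₁ : Set G), normalClosure (S₂ : Set G)⁆ = ⊥)
    (hGW : ∀ (X : Type u) [Group X] [Finite X] [Group.IsPerfect X]
      (S : Sylow 2 X) (n : ℕ), 2 ≤ n → Nonempty ((S : Subgroup X) ≃* DihedralGroup n) →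
      (∃ (F : Type) (_ : Field F) (_ : Fintype F), Odd (Fintype.card F) ∧ 3 < Fintype.card F ∧
        Nonempty (X ⧸ Cfsg.oddCore X ≃* Matrix.ProjectiveSpecialLinearGroup (Fin 2) F)) ∨
      Nonempty (X ⧸ Cfsg.oddCore X ≃* alternatingGroup (Fin 7)))
    {X : Type u} [Group X] [Finite X] {k : ℕ} {P : Sylow 2 X} {s : X} {φ ψ : QuaternionGroup (2 ^ k) →* X}
    (h : Conf k P s φ ψ) : GTwoAfter.Goal X := by
  refine GTwoAfter.main_of (commutator_le_oddCore h1171) ?_ ?_ h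
  · intro φ ψ h L _ h1 h2 h3
    exact GTwoSLTwo.exists_sl_two hGW h L h1 h2 h3
  · intro φ ψ h hk hn M _ h1 h2 hc hM
    subst hk
    exact GTwoCenterCase.center_case h hn M h1 h2 hc hM

end Cfsg.Agent.ClassificationK.GTwoMain
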