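import Cfsg.Agent.ClassificationK.GTwoModel

/-!
The two commuting generalized quaternion subgroups `Q₁`, `Q₂` of the model group `T (2 l)` of type `G₂(q)`, and the
local lemma: an automorphism of odd order of a subgroup `R` containing the two elements `c₁`, `c₂` of order 4
preserves `R ∩ Q₁` and `R ∩ Q₂`.
-/

set_option autoImplicit false

namespace Cfsg.Agent.ClassificationK.GTwoQuat

open Cfsg.Agent.ClassificationK.GTwoModel Cfsg.Agent.ClassificationK.GTwoModel.T

variable {l : ℕ}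

/-- the first quaternion factor: `(i, i)` and `(i + l, i) t u` -/
def Q1 (l : ℕ) : Subgroup (T (2 * l)) where
  carrier := {p | p.e = p.d ∧ p.i = p.j + cond p.e (l : ZMod (2 * l)) 0}
  one_mem' := by
    rw [one_def]
    exact ⟨rfl, by simp⟩
  mul_mem' := by
    rintro ⟨i, j, e, d⟩ ⟨i', j', e', d'⟩ ⟨h1, h2⟩ ⟨h3, h4⟩
    simp only at h1 h2 h3 h4
    subst h1; subst h3; subst h2; subst h4
    have h := half_add_half l
    rw [mul_mk]
    cases e <;> cases e' <;> refine ⟨rfl, ?_⟩ <;>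
      simp only [sg_true, sg_false, cond_true, cond_false, Bool.xor_false, Bool.xor_true,
        Bool.not_true, Bool.not_false] <;>
      first
        | ring1
        | linear_combination h
  inv_mem' := by
    rintro ⟨i, j, e, d⟩ ⟨h1, h2⟩
    simp only at h1 h2
    subst h1; subst h2
    have h := half_add_half l
    rw [inv_mk]
    cases e <;> refine ⟨rfl, ?_⟩ <;>
      simp only [sg_true, sg_false, cond_true, cond_false] <;>
      first
        | ring1
        | linear_combination h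
        | linear_combination (-1 : ZMod (2 * l)) * h

/-- the second quaternion factor: `(i, -i)` and `(i + l, -i) u` -/
def Q2 (l : ℕ) : Subgroup (T (2 * l)) where
  carrier := {p | p.e = false ∧ p.i = -p.j + cond p.d (l : ZMod (2 * l)) 0}
  one_mem' := by
    rw [one_def]
    exact ⟨rfl, by simp⟩
  mul_mem' := by
    rintro ⟨i, j, e, d⟩ ⟨i', j', e', d'⟩ ⟨h1, h2⟩ ⟨h3, h4⟩
    simp only at h1 h2 h3 h4
    subst h1; subst h3; subst h2; subst h4
    have h := half_add_half l
    rw [mul_mk]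
    cases d <;> cases d' <;> refine ⟨rfl, ?_⟩ <;>
      simp only [sg_false, cond_true, cond_false, Bool.xor_false, Bool.xor_true,
        Bool.not_true, Bool.not_false] <;>
      first
        | ring1
        | linear_combination h
  inv_mem' := by
    rintro ⟨i, j, e, d⟩ ⟨h1, h2⟩
    simp only at h1 h2
    subst h1; subst h2
    have h := half_add_half l
    rw [inv_mk]
    cases d <;> refine ⟨rfl, ?_⟩ <;>
      simp only [sg_false, cond_true, cond_false] <;>
      first
        | ring1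
        | linear_combination h
        | linear_combination (-1 : ZMod (2 * l)) * h

theorem mem_Q1 {p : T (2 * l)} :
    p ∈ Q1 l ↔ p.e = p.d ∧ p.i = p.j + cond p.e (l : ZMod (2 * l)) 0 := Iff.rfl

theorem mem_Q2 {p : T (2 * l)} :
    p ∈ Q2 l ↔ p.e = false ∧ p.i = -p.j + cond p.d (l : ZMod (2 * l)) 0 := Iff.rfl

/-- `l / 2` in `ZMod (2 l)` -/
def hh (l : ℕ) : ZMod (2 * l) := ((l / 2 : ℕ) : ZMod (2 * l))

theorem hh_add_hh (hl : 2 ∣ l) : hh l + hh l = (l : ZMod (2 * l)) := by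
  obtain ⟨k, rfl⟩ := hl
  have : 2 * k / 2 = k := by omega
  rw [hh, this, ← Nat.cast_add]
  congr 1
  omega

/-- `(l/2, l/2)`, of order 4, in `Q₁` -/
def c1 (l : ℕ) : T (2 * l) := ⟨hh l, hh l, false, false⟩
/-- `(l/2, -l/2)`, of order 4, in `Q₂` -/
def c2 (l : ℕ) : T (2 * l) := ⟨hh l, -hh l, false, false⟩

theorem c1_mem : c1 l ∈ Q1 l := mem_Q1.2 ⟨rfl, by simp [c1]⟩
theorem c2_mem : c2 l ∈ Q2 l := mem_Q2.2 ⟨rfl, by simp [c2]⟩

theorem c1_sq (hl : 2 ∣ l) : c1 l ^ 2 = z l := by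
  have h := hh_add_hh hl
  rw [pow_two, c1, mul_mk, z]
  simp only [sg_false, cond_false, one_mul, Bool.xor_false]
  rw [h]

theorem neg_half (l : ℕ) : -(l : ZMod (2 * l)) = l := by
  have h := half_add_half l
  linear_combination -h

theorem c2_sq (hl : 2 ∣ l) : c2 l ^ 2 = z l := by
  have h := hh_add_hh hl
  rw [pow_two, c2, mul_mk, z]
  simp only [sg_false, cond_false, one_mul, Bool.xor_false]
  rw [h]
  congr 1
  rw [← neg_half l, ← h]
  ring

theorem c1_mul_c2 (hl : 2 ∣ l) : c1 l * c2 l = a' l := by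
  have h := hh_add_hh hl
  rw [c2, c1, mul_mk, a']
  simp only [sg_false, cond_false, one_mul, Bool.xor_false]
  rw [h, add_neg_cancel]

theorem z_sq : z l ^ 2 = 1 := by
  rw [pow_two, z, mul_mk, one_def]
  simp only [sg_false, cond_false, one_mul, Bool.xor_false, half_add_half]

theorem z_ne [NeZero l] : z l ≠ 1 := by
  rw [z, one_def]
  intro h
  exact half_ne_zero l (T.mk.injEq .. ▸ h).1

theorem z_mem_Q1 : z l ∈ Q1 l := mem_Q1.2 ⟨rfl, by simp [z]⟩
theorem z_mem_Q2 : z l ∈ Q2 l := by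
  refine mem_Q2.2 ⟨rfl, ?_⟩
  simp [z, neg_half]

theorem z_comm (x : T (2 * l)) : z l * x = x * z l := by
  obtain ⟨i, j, e, d⟩ := x
  have h' := neg_half l
  cases e <;> cases d <;>
    simp only [z, mul_mk, sg_true, sg_false, cond_true, cond_false, Bool.xor_false, Bool.xor_true,
      Bool.not_false, neg_mul, one_mul, h'] <;>
    congr 1 <;> ring

theorem sq_mk (i j : ZMod (2 * l)) (e d : Bool) :
    (⟨i, j, e, d⟩ : T (2 * l)) ^ 2 =
      ⟨i + sg _ e * cond d j i, j + sg _ e * cond d i j, false, false⟩ := by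
  rw [pow_two, mul_mk]
  cases e <;> cases d <;> rfl

/-- an element with square `z` is in `Q₁` or `Q₂` -/
theorem mem_of_sq [NeZero l] (hl : 2 ∣ l) {p : T (2 * l)} (hp : p ^ 2 = z l) : p ∈ Q1 l ∨ p ∈ Q2 l := by
  obtain ⟨i, j, e, d⟩ := p
  have h := hh_add_hh hl
  have h2 := half_add_half l
  have key : ∀ i : ZMod (2 * l), i + i = l → i = hh l ∨ i = -hh l := by
    intro i hi
    rcases two_half l (i - hh l) (by linear_combination hi - h) with h1 | h1
    · left; linear_combination h1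
    · right; linear_combination h1 + h + h2
  rw [sq_mk, z, T.mk.injEq] at hp
  obtain ⟨h3, h4, -, -⟩ := hp
  cases e <;> cases d
  · simp only [sg_false, cond_false, one_mul] at h3 h4
    rcases key i h3 with h5 | h5 <;> rcases key j h4 with h6 | h6
    · left; exact mem_Q1.2 ⟨rfl, by simp [h5, h6]⟩
    · right; exact mem_Q2.2 ⟨rfl, by simp [h5, h6]⟩
    · right; exact mem_Q2.2 ⟨rfl, by simp [h5, h6]⟩
    · left; exact mem_Q1.2 ⟨rfl, by simp [h5, h6]⟩
  · right
    simp only [sg_false, cond_true, one_mul] at h3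
    refine mem_Q2.2 ⟨rfl, ?_⟩
    simp only [cond_true]
    linear_combination h3
  · exfalso
    simp only [sg_true, cond_false] at h3
    apply half_ne_zero l
    linear_combination -h3
  · left
    simp only [sg_true, cond_true] at h3
    refine mem_Q1.2 ⟨rfl, ?_⟩
    simp only [cond_true]
    linear_combination h3

theorem eq_of_mem_both [NeZero l] {p : T (2 * l)} (h1 : p ∈ Q1 l) (h2 : p ∈ Q2 l) : p = 1 ∨ p = z l := by
  obtain ⟨i, j, e, d⟩ := p
  obtain ⟨h3, h4⟩ := mem_Q1.1 h1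
  obtain ⟨h5, h6⟩ := mem_Q2.1 h2
  simp only at h3 h4 h5 h6
  subst h5; subst h3
  simp only [cond_false, add_zero] at h4 h6
  subst h4
  rcases two_half l i (by linear_combination h6) with h7 | h7
  · left; subst h7; rfl
  · right; subst h7; rfl

theorem comm_of_mem {p q : T (2 * l)} (h1 : p ∈ Q1 l) (h2 : q ∈ Q2 l) : p * q = q * p := by
  obtain ⟨i, j, e, d⟩ := p
  obtain ⟨i', j', e', d'⟩ := q
  obtain ⟨h3, h4⟩ := mem_Q1.1 h1
  obtain ⟨h5, h6⟩ := mem_Q2.1 h2
  simp only at h3 h4 h5 h6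
  subst h5; subst h3; subst h4; subst h6
  have h := half_add_half l
  rw [mul_mk, mul_mk]
  cases e <;> cases d' <;>
    simp only [sg_true, sg_false, cond_true, cond_false, Bool.xor_false, Bool.xor_true,
        Bool.not_true, Bool.not_false] <;> congr 1 <;>
      first
        | ring1
        | linear_combination h
        | linear_combination (-1 : ZMod (2 * l)) * h

theorem sq_one_Q1 [NeZero l] {p : T (2 * l)} (h1 : p ∈ Q1 l) (h2 : p ^ 2 = 1) : p = 1 ∨ p = z l := by
  obtain ⟨i, j, e, d⟩ := p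
  obtain ⟨h3, h4⟩ := mem_Q1.1 h1
  simp only at h3 h4
  subst h3; subst h4
  rw [sq_mk, one_def, T.mk.injEq] at h2
  obtain ⟨h5, h6, -, -⟩ := h2
  cases e
  · simp only [sg_false, cond_false, one_mul, add_zero] at h5
    rcases two_half l j h5 with rfl | rfl
    · left; simp [one_def]
    · right; simp [z]
  · exfalso
    simp only [sg_true, cond_true] at h5
    apply half_ne_zero l
    linear_combination h5

theorem sq_one_Q2 [NeZero l] {p : T (2 * l)} (h1 : p ∈ Q2 l) (h2 : p ^ 2 = 1) : p = 1 ∨ p = z l := by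
  obtain ⟨i, j, e, d⟩ := p
  obtain ⟨h3, h4⟩ := mem_Q2.1 h1
  simp only at h3 h4
  subst h3; subst h4
  rw [sq_mk, one_def, T.mk.injEq] at h2
  obtain ⟨h5, h6, -, -⟩ := h2
  cases d
  · simp only [sg_false, cond_false, one_mul] at h6
    rcases two_half l j h6 with rfl | rfl
    · left; simp [one_def]
    · right; simp [z, neg_half]
  · exfalso
    simp only [sg_false, cond_true] at h5
    apply half_ne_zero l
    linear_combination h5

theorem sq_of_e [NeZero l] {p : T (2 * l)} (h1 : p ∈ Q1 l) (h2 : p.e = true) : p ^ 2 = z l := by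
  obtain ⟨i, j, e, d⟩ := p
  obtain ⟨h3, h4⟩ := mem_Q1.1 h1
  simp only at h3 h4 h2
  subst h3; subst h4; subst h2
  rw [sq_mk, z]
  have h := neg_half l
  simp only [sg_true, cond_true]
  congr 1
  · ring
  · linear_combination h

theorem sq_of_d [NeZero l] {p : T (2 * l)} (h1 : p ∈ Q2 l) (h2 : p.d = true) : p ^ 2 = z l := by
  obtain ⟨i, j, e, d⟩ := p
  obtain ⟨h3, h4⟩ := mem_Q2.1 h1
  simp only at h3 h4 h2
  subst h3; subst h4; subst h2
  rw [sq_mk, z]
  simp only [sg_false, cond_true]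
  congr 1
  · ring
  · ring

theorem eq_c1_of_sq [NeZero l] (hl : 2 ∣ l) {p : T (2 * l)} (h1 : p ∈ Q1 l) (h2 : p.e = false)
    (h3 : p ^ 2 = z l) : p = c1 l ∨ p = (c1 l)⁻¹ := by
  obtain ⟨i, j, e, d⟩ := p
  obtain ⟨h4, h5⟩ := mem_Q1.1 h1
  simp only at h4 h5 h2
  subst h2; subst h4; subst h5
  have h := hh_add_hh hl
  have h6 := half_add_half l
  rw [sq_mk, z, T.mk.injEq] at h3
  obtain ⟨h7, -, -, -⟩ := h3
  simp only [sg_false, cond_false, one_mul, add_zero] at h7
  rcases two_half l (j - hh l) (by linear_combination h7 - h) with h8 | h8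
  · left
    have : j = hh l := by linear_combination h8
    subst this
    rw [c1, cond_false, add_zero]
  · right
    have : j = -hh l := by linear_combination h8 + h + h6
    subst this
    rw [c1, inv_mk, cond_false, add_zero]
    simp only [sg_false, cond_false]
    congr 1 <;> ring

theorem eq_c2_of_sq [NeZero l] (hl : 2 ∣ l) {p : T (2 * l)} (h1 : p ∈ Q2 l) (h2 : p.d = false)
    (h3 : p ^ 2 = z l) : p = c2 l ∨ p = (c2 l)⁻¹ := by
  obtain ⟨i, j, e, d⟩ := p
  obtain ⟨h4, h5⟩ := mem_Q2.1 h1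
  simp only at h4 h5 h2
  subst h2; subst h4; subst h5
  have h := hh_add_hh hl
  have h6 := half_add_half l
  rw [sq_mk, z, T.mk.injEq] at h3
  obtain ⟨-, h7, -, -⟩ := h3
  simp only [sg_false, cond_false, one_mul, add_zero] at h7
  rcases two_half l (j - hh l) (by linear_combination h7 - h) with h8 | h8
  · right
    have : j = hh l := by linear_combination h8
    subst this
    rw [c2, inv_mk, cond_false, add_zero]
    simp only [sg_false, cond_false]
    congr 1 <;> ring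
  · left
    have : j = -hh l := by linear_combination h8 + h + h6
    subst this
    rw [c2, cond_false, add_zero, neg_neg]

theorem comm_c1_iff [NeZero l] (hl : 2 ∣ l) (p : T (2 * l)) : p * c1 l = c1 l * p ↔ p.e = false := by
  obtain ⟨i, j, e, d⟩ := p
  have h := hh_add_hh hl
  rw [c1, mul_mk, mul_mk, T.mk.injEq]
  cases e <;> cases d <;>
    simp only [sg_true, sg_false, cond_true, cond_false, Bool.xor_false, Bool.xor_true,
      Bool.not_false, and_true, iff_false, iff_true, Bool.true_eq_false, not_and]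
  · exact ⟨by ring, by ring⟩
  · exact ⟨by ring, by ring⟩
  · intro h1
    exfalso
    exact half_ne_zero l (by linear_combination -h - h1)
  · intro h1
    exfalso
    exact half_ne_zero l (by linear_combination -h - h1)

theorem comm_c2_iff [NeZero l] (hl : 2 ∣ l) (p : T (2 * l)) : p * c2 l = c2 l * p ↔ p.e = p.d := by
  obtain ⟨i, j, e, d⟩ := p
  have h := hh_add_hh hl
  rw [c2, mul_mk, mul_mk, T.mk.injEq]
  cases e <;> cases d <;>
    simp only [sg_true, sg_false, cond_true, cond_false, Bool.xor_false, Bool.xor_true,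
      Bool.not_false, and_true, iff_false, iff_true, Bool.true_eq_false,
      Bool.false_eq_true, not_and]
  · exact ⟨by ring, by ring⟩
  · intro h1
    exfalso
    exact half_ne_zero l (by linear_combination -h - h1)
  · intro h1
    exfalso
    exact half_ne_zero l (by linear_combination -h - h1)
  · exact ⟨by ring, by ring⟩

/-- the centralizer of a noncyclic part of `Q₂` is `Q₁` -/
theorem mem_Q1_of_comm [NeZero l] (hl : 2 ∣ l) {p q : T (2 * l)} (hq : q ∈ Q2 l) (hqd : q.d = true)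
    (h1 : p * c2 l = c2 l * p) (h2 : p * q = q * p) : p ∈ Q1 l := by
  rw [comm_c2_iff hl] at h1
  obtain ⟨i, j, e, d⟩ := q
  obtain ⟨a, b, e', d'⟩ := p
  obtain ⟨h4, h5⟩ := mem_Q2.1 hq
  simp only at h4 h5 hqd h1
  subst h4; subst hqd; subst h5; subst h1
  rw [mul_mk, mul_mk, T.mk.injEq] at h2
  obtain ⟨h6, -, -, -⟩ := h2
  refine mem_Q1.2 ⟨rfl, ?_⟩
  cases e' <;> simp only [sg_true, sg_false, cond_true, cond_false] at h6 ⊢
  · linear_combination h6
  · linear_combination h6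

theorem mem_Q2_of_comm [NeZero l] (hl : 2 ∣ l) {p q : T (2 * l)} (hq : q ∈ Q1 l) (hqe : q.e = true)
    (h1 : p * c1 l = c1 l * p) (h2 : p * q = q * p) : p ∈ Q2 l := by
  rw [comm_c1_iff hl] at h1
  obtain ⟨i, j, e, d⟩ := q
  obtain ⟨a, b, e', d'⟩ := p
  obtain ⟨h4, h5⟩ := mem_Q1.1 hq
  simp only at h4 h5 hqe h1
  subst h4; subst hqe; subst h5; subst h1
  rw [mul_mk, mul_mk, T.mk.injEq] at h2
  obtain ⟨h6, -, -, -⟩ := h2
  refine mem_Q2.2 ⟨rfl, ?_⟩
  cases d' <;> simp only [sg_true, sg_false, cond_true, cond_false] at h6 ⊢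
  · linear_combination h6
  · linear_combination h6

/-! ### the local lemma -/

section Loc

variable {R : Subgroup (T (2 * l))}

/-- for elements of square `z`: `(r s)² = 1` and `s ≠ r^{±1}` -/
def D (r s : T (2 * l)) : Prop := (r * s) ^ 2 = 1 ∧ s ≠ r ∧ s ≠ r⁻¹

theorem D_iff_of_Q1 [NeZero l] (hl : 2 ∣ l) {r s : T (2 * l)} (hr : r ^ 2 = z l) (hs : s ^ 2 = z l)
    (h1 : r ∈ Q1 l) : D r s ↔ s ∉ Q1 l := by
  constructor
  · rintro ⟨h2, h3, h4⟩ h5
    rcases sq_one_Q1 (mul_mem h1 h5) h2 with h6 | h6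
    · exact h4 (eq_inv_of_mul_eq_one_right h6)
    · apply h3
      have : r * s = r * r := by rw [h6, ← hr, pow_two]
      exact mul_left_cancel this
  · intro h5
    have h6 : s ∈ Q2 l := (mem_of_sq hl hs).resolve_left h5
    have h7 := comm_of_mem h1 h6
    refine ⟨?_, ?_, ?_⟩
    · have : (r * s) ^ 2 = r ^ 2 * s ^ 2 := Commute.mul_pow h7 2
      rw [this, hr, hs, ← pow_two, z_sq]
    · rintro rfl
      exact h5 h1
    · rintro rfl
      exact h5 (inv_mem h1)

theorem D_iff_of_Q2 [NeZero l] (hl : 2 ∣ l) {r s : T (2 * l)} (hr : r ^ 2 = z l) (hs : s ^ 2 = z l)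
    (h1 : r ∈ Q2 l) : D r s ↔ s ∉ Q2 l := by
  constructor
  · rintro ⟨h2, h3, h4⟩ h5
    rcases sq_one_Q2 (mul_mem h1 h5) h2 with h6 | h6
    · exact h4 (eq_inv_of_mul_eq_one_right h6)
    · apply h3
      have : r * s = r * r := by rw [h6, ← hr, pow_two]
      exact mul_left_cancel this
  · intro h5
    have h6 : s ∈ Q1 l := (mem_of_sq hl hs).resolve_right h5
    have h7 := comm_of_mem h6 h1
    refine ⟨?_, ?_, ?_⟩
    · have : (r * s) ^ 2 = r ^ 2 * s ^ 2 := Commute.mul_pow h7.symm 2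
      rw [this, hr, hs, ← pow_two, z_sq]
    · rintro rfl
      exact h5 h1
    · rintro rfl
      exact h5 (inv_mem h1)

theorem not_mem_Q2_of_mem_Q1 [NeZero l] {r : T (2 * l)} (hr : r ^ 2 = z l) (h1 : r ∈ Q1 l) : r ∉ Q2 l := by
  intro h2
  rcases eq_of_mem_both h1 h2 with rfl | rfl
  · rw [one_pow] at hr
    exact z_ne hr.symm
  · rw [z_sq] at hr
    exact z_ne hr.symm

theorem mem_Q1_iff_not [NeZero l] (hl : 2 ∣ l) {r : T (2 * l)} (hr : r ^ 2 = z l) : r ∈ Q1 l ↔ r ∉ Q2 l :=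
  ⟨not_mem_Q2_of_mem_Q1 hr, fun h => (mem_of_sq hl hr).resolve_right h⟩

theorem D_map (α : R ≃* R) (r s : R) : D (r : T (2 * l)) s ↔ D (α r : T (2 * l)) (α s) := by
  unfold D
  have h1 : ((r : T (2 * l)) * s) ^ 2 = 1 ↔ ((α r : T (2 * l)) * α s) ^ 2 = 1 := by
    have e1 : ((r : T (2 * l)) * s) ^ 2 = (((r * s) ^ 2 : R) : T (2 * l)) := by push_cast; rfl
    have e2 : ((α r : T (2 * l)) * α s) ^ 2 = ((α ((r * s) ^ 2) : R) : T (2 * l)) := by
      rw [map_pow, map_mul]; push_cast; rfl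
    rw [e1, e2, OneMemClass.coe_eq_one, OneMemClass.coe_eq_one, map_eq_one_iff _ α.injective]
  have h2 : (s : T (2 * l)) ≠ r ↔ (α s : T (2 * l)) ≠ α r := by
    rw [Ne, Ne, Subtype.coe_inj, Subtype.coe_inj, α.injective.eq_iff]
  have h3 : (s : T (2 * l)) ≠ (r : T (2 * l))⁻¹ ↔ (α s : T (2 * l)) ≠ (α r : T (2 * l))⁻¹ := by
    have e1 : (r : T (2 * l))⁻¹ = ((r⁻¹ : R) : T (2 * l)) := rfl
    have e2 : (α r : T (2 * l))⁻¹ = ((α r⁻¹ : R) : T (2 * l)) := by rw [map_inv]; rfl
    rw [e1, e2, Ne, Ne, Subtype.coe_inj, Subtype.coe_inj, α.injective.eq_iff]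
  rw [h1, h2, h3]

variable [NeZero l] (hl : 2 ∣ l) (α : R ≃* R) (hα : ∀ r : R, (r : T (2 * l)) = z l → (α r : T (2 * l)) = z l)

omit [NeZero l] in
include hα in
theorem sq_map {r : R} (hr : (r : T (2 * l)) ^ 2 = z l) : (α r : T (2 * l)) ^ 2 = z l := by
  have e : (α r : T (2 * l)) ^ 2 = ((α (r ^ 2) : R) : T (2 * l)) := by
    rw [map_pow]; push_cast; rfl
  rw [e]
  exact hα _ (by push_cast; exact hr)

include hl hα in
/-- `n ∈ Q₁ ↔ (α c₁ ∈ Q₁ ↔ α n ∈ Q₁)` -/
theorem twist (h1 : c1 l ∈ R) {n : R} (hn : (n : T (2 * l)) ^ 2 = z l) :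
    (n : T (2 * l)) ∈ Q1 l ↔ ((α ⟨c1 l, h1⟩ : T (2 * l)) ∈ Q1 l ↔ (α n : T (2 * l)) ∈ Q1 l) := by
  have h2 := D_map α ⟨c1 l, h1⟩ n
  have h3 : D (c1 l) (n : T (2 * l)) ↔ (n : T (2 * l)) ∉ Q1 l := D_iff_of_Q1 hl (c1_sq hl) hn c1_mem
  have h4 : (α ⟨c1 l, h1⟩ : T (2 * l)) ^ 2 = z l := sq_map α hα (c1_sq hl)
  have h5 : (α n : T (2 * l)) ^ 2 = z l := sq_map α hα hn
  have h6 : (n : T (2 * l)) ∈ Q1 l ↔ ¬ D (α ⟨c1 l, h1⟩ : T (2 * l)) (α n) := by
    rw [← h2, h3, not_not]
  rw [h6]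
  by_cases h7 : (α ⟨c1 l, h1⟩ : T (2 * l)) ∈ Q1 l
  · rw [D_iff_of_Q1 hl h4 h5 h7, not_not]
    exact ⟨fun h => ⟨fun _ => h, fun _ => h7⟩, fun h => h.1 h7⟩
  · have h8 : (α ⟨c1 l, h1⟩ : T (2 * l)) ∈ Q2 l := (mem_of_sq hl h4).resolve_left h7
    rw [D_iff_of_Q2 hl h4 h5 h8, not_not]
    constructor
    · intro h
      have : (α n : T (2 * l)) ∉ Q1 l := fun h' => not_mem_Q2_of_mem_Q1 h5 h' h
      exact ⟨fun h' => absurd h' h7, fun h' => absurd h' this⟩
    · intro h
      exact (mem_of_sq hl h5).resolve_left (fun h' => h7 (h.2 h'))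

omit [NeZero l] in
include hα in
theorem pow_z (k : ℕ) : ∀ r : R, (r : T (2 * l)) = z l → (((α ^ k : MulAut R)) r : T (2 * l)) = z l := by
  induction k with
  | zero => intro r hr; simpa using hr
  | succ k ih =>
    intro r hr
    rw [pow_succ, MulAut.mul_apply]
    exact ih _ (hα r hr)

include hl hα in
theorem map_c1_mem {m : ℕ} (hm : Odd m) (hαm : (α : MulAut R) ^ m = 1) (h1 : c1 l ∈ R) :
    (α ⟨c1 l, h1⟩ : T (2 * l)) ∈ Q1 l := by
  by_contra hcon
  have key : ∀ k : ℕ, (((α : MulAut R) ^ k) ⟨c1 l, h1⟩ : T (2 * l)) ∈ Q1 l ↔ Even k := by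
    intro k
    induction k with
    | zero => simp [c1_mem]
    | succ k ih =>
      have h2 : ((((α : MulAut R) ^ k) ⟨c1 l, h1⟩ : R) : T (2 * l)) ^ 2 = z l :=
        sq_map ((α : MulAut R) ^ k) (pow_z α hα k) (c1_sq hl)
      have h3 := twist hl α hα h1 h2
      rw [ih] at h3
      have h4 : ((α : MulAut R) ^ (k + 1)) ⟨c1 l, h1⟩ = α (((α : MulAut R) ^ k) ⟨c1 l, h1⟩) := by
        rw [pow_succ', MulAut.mul_apply]
      rw [h4, Nat.even_add_one, h3]
      constructor
      · intro h5 h6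
        exact hcon (h6.2 h5)
      · intro h5
        by_contra h6
        exact h5 ⟨fun h => absurd h hcon, fun h => absurd h h6⟩
  have h2 := (key m).1 (by rw [hαm]; exact c1_mem)
  exact (Nat.not_even_iff_odd.2 hm) h2

include hl hα in
theorem mem_Q1_iff_of_sq {m : ℕ} (hm : Odd m) (hαm : (α : MulAut R) ^ m = 1) (h1 : c1 l ∈ R) {n : R}
    (hn : (n : T (2 * l)) ^ 2 = z l) : (α n : T (2 * l)) ∈ Q1 l ↔ (n : T (2 * l)) ∈ Q1 l := by
  rw [twist hl α hα h1 hn]
  have := map_c1_mem hl α hα hm hαm h1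
  exact ⟨fun h => ⟨fun _ => h, fun _ => this⟩, fun h => h.1 this⟩

include hl hα in
theorem mem_Q2_iff_of_sq {m : ℕ} (hm : Odd m) (hαm : (α : MulAut R) ^ m = 1) (h1 : c1 l ∈ R) {n : R}
    (hn : (n : T (2 * l)) ^ 2 = z l) : (α n : T (2 * l)) ∈ Q2 l ↔ (n : T (2 * l)) ∈ Q2 l := by
  have h2 := mem_Q1_iff_of_sq hl α hα hm hαm h1 hn
  have h3 := mem_Q1_iff_not hl hn
  have h4 := mem_Q1_iff_not hl (sq_map α hα hn)
  rw [h3, h4] at h2
  exact not_iff_not.1 h2

include hl in
/-- if `α` fixes `c₁` and `c₂` and has odd order then `α = 1`. -/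
theorem eq_one_of_fix (hT : IsPGroup 2 (T (2 * l))) {m : ℕ} (hm : Odd m) (hαm : (α : MulAut R) ^ m = 1)
    (h1 : c1 l ∈ R) (h2 : c2 l ∈ R) (h3 : α ⟨c1 l, h1⟩ = ⟨c1 l, h1⟩) (h4 : α ⟨c2 l, h2⟩ = ⟨c2 l, h2⟩) (r : R) :
    α r = r := by
  -- odd order trick
  have trick : ∀ r h : R, α r = r * h → α h = h → h = 1 := by
    intro r h hr hh
    have key : ∀ k : ℕ, ((α : MulAut R) ^ k) r = r * h ^ k := by
      intro k
      induction k with
      | zero => simp
      | succ k ih =>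
        rw [pow_succ', MulAut.mul_apply, ih, map_mul, map_pow, hh, hr, mul_assoc, ← pow_succ']
    have h5 := key m
    rw [hαm, MulAut.one_apply] at h5
    have h6 : h ^ m = 1 := (mul_eq_left.1 h5.symm)
    have h7 : IsPGroup 2 R := hT.to_subgroup R
    obtain ⟨k, hk⟩ := h7 h
    have h8 : orderOf h ∣ 2 ^ k := orderOf_dvd_of_pow_eq_one hk
    have h9 : orderOf h ∣ m := orderOf_dvd_of_pow_eq_one h6
    have h10 : Nat.Coprime (2 ^ k) m := Nat.Coprime.pow_left _ (Nat.coprime_two_left.2 hm)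
    exact orderOf_eq_one_iff.1 (Nat.eq_one_of_dvd_coprimes h10 h8 h9)
  -- `α` preserves the two bits
  have hc1 : ∀ r : R, (r : T (2 * l)).e = false ↔ (α r : T (2 * l)).e = false := by
    intro r
    rw [← comm_c1_iff hl, ← comm_c1_iff hl]
    have e1 : (r : T (2 * l)) * c1 l = c1 l * r ↔ r * ⟨c1 l, h1⟩ = ⟨c1 l, h1⟩ * r := by
      rw [← Subtype.coe_inj]; rfl
    have e2 : (α r : T (2 * l)) * c1 l = c1 l * α r ↔ α r * ⟨c1 l, h1⟩ = ⟨c1 l, h1⟩ * α r := by
      rw [← Subtype.coe_inj]; rfl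
    rw [e1, e2]
    constructor
    · intro h
      have := congrArg α h
      rwa [map_mul, map_mul, h3] at this
    · intro h
      apply α.injective
      rw [map_mul, map_mul, h3, h]
  have hc2 : ∀ r : R, (r : T (2 * l)).e = (r : T (2 * l)).d ↔ (α r : T (2 * l)).e = (α r : T (2 * l)).d := by
    intro r
    rw [← comm_c2_iff hl, ← comm_c2_iff hl]
    have e1 : (r : T (2 * l)) * c2 l = c2 l * r ↔ r * ⟨c2 l, h2⟩ = ⟨c2 l, h2⟩ * r := by
      rw [← Subtype.coe_inj]; rfl
    have e2 : (α r : T (2 * l)) * c2 l = c2 l * α r ↔ α r * ⟨c2 l, h2⟩ = ⟨c2 l, h2⟩ * α r := by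
      rw [← Subtype.coe_inj]; rfl
    rw [e1, e2]
    constructor
    · intro h
      have := congrArg α h
      rwa [map_mul, map_mul, h4] at this
    · intro h
      apply α.injective
      rw [map_mul, map_mul, h4, h]
  have hbits : ∀ r : R, (α r : T (2 * l)).e = (r : T (2 * l)).e ∧ (α r : T (2 * l)).d = (r : T (2 * l)).d := by
    intro r
    have h5 := hc1 r
    have h6 := hc2 r
    revert h5 h6
    generalize (α r : T (2 * l)).e = a
    generalize (α r : T (2 * l)).d = b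
    generalize (r : T (2 * l)).e = c
    generalize (r : T (2 * l)).d = d
    revert a b c d
    decide
  have hA : ∀ r : R, ((r⁻¹ * α r : R) : T (2 * l)).e = false ∧ ((r⁻¹ * α r : R) : T (2 * l)).d = false := by
    intro r
    obtain ⟨h5, h6⟩ := hbits r
    have e1 : ((r⁻¹ * α r : R) : T (2 * l)).e = xor (r : T (2 * l)).e (α r : T (2 * l)).e := rfl
    have e2 : ((r⁻¹ * α r : R) : T (2 * l)).d = xor (r : T (2 * l)).d (α r : T (2 * l)).d := rfl
    rw [e1, e2, h5, h6]
    simp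
  -- involutions of `A` are fixed
  have hz : ∀ r : R, (r : T (2 * l)) = z l → α r = r := by
    intro r hr
    have : r = (⟨c1 l, h1⟩ : R) ^ 2 := by
      apply Subtype.ext
      rw [hr, ← c1_sq hl]
      rfl
    rw [this, map_pow, h3]
  have ha : ∀ r : R, (r : T (2 * l)) = a' l → α r = r := by
    intro r hr
    have : r = (⟨c1 l, h1⟩ : R) * ⟨c2 l, h2⟩ := by
      apply Subtype.ext
      rw [hr, ← c1_mul_c2 hl]
      rfl
    rw [this, map_mul, h3, h4]
  have hinv : ∀ r : R, (r : T (2 * l)).e = false → (r : T (2 * l)).d = false → r ^ 2 = 1 → α r = r := by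
    intro r he hd hr
    have hr' : (r : T (2 * l)) ^ 2 = 1 := by
      have := congrArg (Subtype.val) hr
      simpa using this
    obtain ⟨⟨i, j, e, d⟩, hrR⟩ := r
    simp only at he hd hr'
    subst he; subst hd
    rw [sq_mk, one_def, T.mk.injEq] at hr'
    obtain ⟨h5, h6, -, -⟩ := hr'
    simp only [sg_false, cond_false, one_mul] at h5 h6
    have hza : z l * a' l = ⟨0, l, false, false⟩ := by
      rw [z, a', mul_mk]
      simp only [sg_false, cond_false, one_mul, Bool.xor_false, half_add_half, add_zero]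
    rcases two_half l i h5 with rfl | rfl <;> rcases two_half l j h6 with rfl | rfl
    · exact map_one α
    · have h7 : z l ∈ R := by rw [← c1_sq hl]; exact pow_mem h1 2
      have h8 : a' l ∈ R := by rw [← c1_mul_c2 hl]; exact mul_mem h1 h2
      have h9 : (⟨⟨0, l, false, false⟩, hrR⟩ : R) = ⟨z l, h7⟩ * ⟨a' l, h8⟩ := by
        apply Subtype.ext
        exact hza.symm
      rw [h9, map_mul, hz _ rfl, ha _ rfl]
    · exact ha _ rfl
    · exact hz _ rfl
  -- all of `A ∩ R` is fixed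
  have hfix : ∀ k : ℕ, ∀ r : R, (r : T (2 * l)).e = false → (r : T (2 * l)).d = false → r ^ (2 ^ k) = 1 →
      α r = r := by
    intro k
    induction k with
    | zero =>
      intro r _ _ hr
      rw [pow_zero, pow_one] at hr
      rw [hr, map_one]
    | succ k ih =>
      intro r he hd hr
      have h5 : α (r ^ 2) = r ^ 2 := by
        refine ih _ ?_ ?_ ?_
        · have : ((r ^ 2 : R) : T (2 * l)) = (r : T (2 * l)) ^ 2 := rfl
          rw [this]
          obtain ⟨⟨i, j, e, d⟩, hrR⟩ := r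
          rw [sq_mk]
        · have : ((r ^ 2 : R) : T (2 * l)) = (r : T (2 * l)) ^ 2 := rfl
          rw [this]
          obtain ⟨⟨i, j, e, d⟩, hrR⟩ := r
          rw [sq_mk]
        · rw [← pow_mul, ← pow_succ', hr]
      obtain ⟨h6, h7⟩ := hA r
      obtain ⟨h8, h9⟩ := hbits r
      have hcomm : Commute r (α r) := by
        apply Subtype.ext
        change (r : T (2 * l)) * (α r : T (2 * l)) = (α r : T (2 * l)) * (r : T (2 * l))
        rw [he] at h8
        rw [hd] at h9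
        generalize (α r : T (2 * l)) = q at h8 h9 ⊢
        generalize (r : T (2 * l)) = p at he hd ⊢
        obtain ⟨i, j, e, d⟩ := p
        obtain ⟨i', j', e', d'⟩ := q
        simp only at he hd h8 h9
        subst he; subst hd; subst h8; subst h9
        rw [mul_mk, mul_mk]
        simp only [sg_false, cond_false, one_mul]
        congr 1 <;> ring
      have h10 : (r⁻¹ * α r) ^ 2 = 1 := by
        rw [(hcomm.inv_left).mul_pow, ← map_pow, h5, inv_pow, inv_mul_cancel]
      have h11 := trick r (r⁻¹ * α r) (by group) (hinv _ h6 h7 h10)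
      exact (inv_mul_eq_one.1 h11).symm
  obtain ⟨h6, h7⟩ := hA r
  have h8 : α (r⁻¹ * α r) = r⁻¹ * α r := by
    have h9 : IsPGroup 2 R := hT.to_subgroup R
    obtain ⟨k, hk⟩ := h9 (r⁻¹ * α r)
    exact hfix k _ h6 h7 hk
  have h11 := trick r (r⁻¹ * α r) (by group) h8
  exact (inv_mul_eq_one.1 h11).symm

omit [NeZero l] in
theorem inv_fix {m : ℕ} (hm : Odd m) (hαm : (α : MulAut R) ^ m = 1) (c : R) (hc : α c = c⁻¹) : α c = c := by
  have key : ∀ k : ℕ, ((α : MulAut R) ^ k) c = if Even k then c else c⁻¹ := by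
    intro k
    induction k with
    | zero => simp
    | succ k ih =>
      rw [pow_succ', MulAut.mul_apply, ih]
      by_cases h : Even k
      · rw [if_pos h, if_neg (by rw [Nat.even_add_one, not_not]; exact h)]
        exact hc
      · rw [if_neg h, if_pos (by rw [Nat.even_add_one]; exact h)]
        rw [map_inv]
        have : α c = c⁻¹ := hc
        rw [this, inv_inv]
  have h5 := key m
  rw [hαm, MulAut.one_apply, if_neg (Nat.not_even_iff_odd.2 hm)] at h5
  rw [hc, ← h5]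

include hl hα in
theorem pres_Q1 (hT : IsPGroup 2 (T (2 * l))) {m : ℕ} (hm : Odd m) (hαm : (α : MulAut R) ^ m = 1)
    (h1 : c1 l ∈ R) (h2 : c2 l ∈ R) (r : R) (hr : (r : T (2 * l)) ∈ Q1 l) : (α r : T (2 * l)) ∈ Q1 l := by
  by_cases hA : ∃ q0 : R, (q0 : T (2 * l)) ∈ Q1 l ∧ (q0 : T (2 * l)).e = true
  · obtain ⟨q0, h3, h4⟩ := hA
    by_cases h5 : (r : T (2 * l)).e = true
    · exact (mem_Q1_iff_of_sq hl α hα hm hαm h1 (sq_of_e hr h5)).2 hr
    · have h6 : ((r * q0 : R) : T (2 * l)) ∈ Q1 l := mul_mem hr h3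
      have h7 : ((r * q0 : R) : T (2 * l)).e = true := by
        have : ((r * q0 : R) : T (2 * l)).e = xor (r : T (2 * l)).e (q0 : T (2 * l)).e := rfl
        rw [this, h4, Bool.not_eq_true] at *
        rw [h5]
        rfl
      have h8 := (mem_Q1_iff_of_sq hl α hα hm hαm h1 (sq_of_e h6 h7)).2 h6
      have h9 := (mem_Q1_iff_of_sq hl α hα hm hαm h1 (sq_of_e h3 h4)).2 h3
      have h10 : (α r : T (2 * l)) = ((α (r * q0) : R) : T (2 * l)) * ((α q0 : R) : T (2 * l))⁻¹ := by
        rw [map_mul]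
        push_cast
        group
      rw [h10]
      exact mul_mem h8 (inv_mem h9)
  by_cases hB : ∃ q0 : R, (q0 : T (2 * l)) ∈ Q2 l ∧ (q0 : T (2 * l)).d = true
  · obtain ⟨q0, h3, h4⟩ := hB
    have hzR : z l ∈ R := by rw [← c1_sq hl]; exact pow_mem h1 2
    have h5 : ∀ n : R, (n : T (2 * l)) ^ 2 = z l → (n : T (2 * l)) ∈ Q2 l → (α r : T (2 * l)) * n = n * α r := by
      intro n hn hn2
      have h6 : ((α.symm n : R) : T (2 * l)) ^ 2 = z l := by
        have h7 : α ((α.symm n) ^ 2) = α ⟨z l, hzR⟩ := by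
          rw [map_pow, MulEquiv.apply_symm_apply]
          apply Subtype.ext
          rw [hα ⟨z l, hzR⟩ rfl]
          exact hn
        have h8 := congrArg Subtype.val (α.injective h7)
        exact h8
      have h9 : ((α.symm n : R) : T (2 * l)) ∈ Q2 l := by
        rw [← mem_Q2_iff_of_sq hl α hα hm hαm h1 h6, MulEquiv.apply_symm_apply]
        exact hn2
      have h10 : r * α.symm n = α.symm n * r := Subtype.ext (comm_of_mem hr h9)
      have h11 := congrArg (fun t => (α t : T (2 * l))) h10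
      simpa using h11
    exact mem_Q1_of_comm hl h3 h4 (h5 ⟨c2 l, h2⟩ (c2_sq hl) c2_mem) (h5 q0 (sq_of_d h3 h4) h3)
  · push Not at hA hB
    have h3 : α ⟨c1 l, h1⟩ = ⟨c1 l, h1⟩ := by
      have h4 := map_c1_mem hl α hα hm hαm h1
      have h5 := hA _ h4
      rw [ne_eq, Bool.not_eq_true] at h5
      rcases eq_c1_of_sq hl h4 h5 (sq_map α hα (c1_sq hl)) with h6 | h6
      · exact Subtype.ext h6
      · exact inv_fix α hm hαm _ (Subtype.ext h6)
    have h4 : α ⟨c2 l, h2⟩ = ⟨c2 l, h2⟩ := by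
      have h4 : (α ⟨c2 l, h2⟩ : T (2 * l)) ∈ Q2 l := (mem_Q2_iff_of_sq hl α hα hm hαm h1 (c2_sq hl)).2 c2_mem
      have h5 := hB _ h4
      rw [ne_eq, Bool.not_eq_true] at h5
      rcases eq_c2_of_sq hl h4 h5 (sq_map α hα (c2_sq hl)) with h6 | h6
      · exact Subtype.ext h6
      · exact inv_fix α hm hαm _ (Subtype.ext h6)
    rw [eq_one_of_fix hl α hT hm hαm h1 h2 h3 h4 r]
    exact hr

include hl hα in
theorem pres_Q2 (hT : IsPGroup 2 (T (2 * l))) {m : ℕ} (hm : Odd m) (hαm : (α : MulAut R) ^ m = 1)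
    (h1 : c1 l ∈ R) (h2 : c2 l ∈ R) (r : R) (hr : (r : T (2 * l)) ∈ Q2 l) : (α r : T (2 * l)) ∈ Q2 l := by
  by_cases hB : ∃ q0 : R, (q0 : T (2 * l)) ∈ Q2 l ∧ (q0 : T (2 * l)).d = true
  · obtain ⟨q0, h3, h4⟩ := hB
    by_cases h5 : (r : T (2 * l)).d = true
    · exact (mem_Q2_iff_of_sq hl α hα hm hαm h1 (sq_of_d hr h5)).2 hr
    · have h6 : ((r * q0 : R) : T (2 * l)) ∈ Q2 l := mul_mem hr h3
      have h7 : ((r * q0 : R) : T (2 * l)).d = true := by
        have : ((r * q0 : R) : T (2 * l)).d = xor (r : T (2 * l)).d (q0 : T (2 * l)).d := rfl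
        rw [this, h4, Bool.not_eq_true] at *
        rw [h5]
        rfl
      have h8 := (mem_Q2_iff_of_sq hl α hα hm hαm h1 (sq_of_d h6 h7)).2 h6
      have h9 := (mem_Q2_iff_of_sq hl α hα hm hαm h1 (sq_of_d h3 h4)).2 h3
      have h10 : (α r : T (2 * l)) = ((α (r * q0) : R) : T (2 * l)) * ((α q0 : R) : T (2 * l))⁻¹ := by
        rw [map_mul]
        push_cast
        group
      rw [h10]
      exact mul_mem h8 (inv_mem h9)
  by_cases hA : ∃ q0 : R, (q0 : T (2 * l)) ∈ Q1 l ∧ (q0 : T (2 * l)).e = true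
  · obtain ⟨q0, h3, h4⟩ := hA
    have hzR : z l ∈ R := by rw [← c1_sq hl]; exact pow_mem h1 2
    have h5 : ∀ n : R, (n : T (2 * l)) ^ 2 = z l → (n : T (2 * l)) ∈ Q1 l → (α r : T (2 * l)) * n = n * α r := by
      intro n hn hn2
      have h6 : ((α.symm n : R) : T (2 * l)) ^ 2 = z l := by
        have h7 : α ((α.symm n) ^ 2) = α ⟨z l, hzR⟩ := by
          rw [map_pow, MulEquiv.apply_symm_apply]
          apply Subtype.ext
          rw [hα ⟨z l, hzR⟩ rfl]
          exact hn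
        have h8 := congrArg Subtype.val (α.injective h7)
        exact h8
      have h9 : ((α.symm n : R) : T (2 * l)) ∈ Q1 l := by
        rw [← mem_Q1_iff_of_sq hl α hα hm hαm h1 h6, MulEquiv.apply_symm_apply]
        exact hn2
      have h10 : r * α.symm n = α.symm n * r := Subtype.ext (comm_of_mem h9 hr).symm
      have h11 := congrArg (fun t => (α t : T (2 * l))) h10
      simpa using h11
    exact mem_Q2_of_comm hl h3 h4 (h5 ⟨c1 l, h1⟩ (c1_sq hl) c1_mem) (h5 q0 (sq_of_e h3 h4) h3)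
  · push Not at hA hB
    have h3 : α ⟨c1 l, h1⟩ = ⟨c1 l, h1⟩ := by
      have h4 := map_c1_mem hl α hα hm hαm h1
      have h5 := hA _ h4
      rw [ne_eq, Bool.not_eq_true] at h5
      rcases eq_c1_of_sq hl h4 h5 (sq_map α hα (c1_sq hl)) with h6 | h6
      · exact Subtype.ext h6
      · exact inv_fix α hm hαm _ (Subtype.ext h6)
    have h4 : α ⟨c2 l, h2⟩ = ⟨c2 l, h2⟩ := by
      have h4 : (α ⟨c2 l, h2⟩ : T (2 * l)) ∈ Q2 l := (mem_Q2_iff_of_sq hl α hα hm hαm h1 (c2_sq hl)).2 c2_mem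
      have h5 := hB _ h4
      rw [ne_eq, Bool.not_eq_true] at h5
      rcases eq_c2_of_sq hl h4 h5 (sq_map α hα (c2_sq hl)) with h6 | h6
      · exact Subtype.ext h6
      · exact inv_fix α hm hαm _ (Subtype.ext h6)
    rw [eq_one_of_fix hl α hT hm hαm h1 h2 h3 h4 r]
    exact hr

end Loc

/-! ### normality of `Q₁`, `Q₂` -/

theorem conj_mem_Q1 (s p : T (2 * l)) (hp : p ∈ Q1 l) : s * p * s⁻¹ ∈ Q1 l := by
  obtain ⟨i, j, e, d⟩ := p
  obtain ⟨a, b, e', d'⟩ := s
  obtain ⟨h3, h4⟩ := mem_Q1.1 hp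
  simp only at h3 h4
  subst h3; subst h4
  have h := half_add_half l
  rw [inv_mk, mul_mk, mul_mk]
  cases e <;> cases e' <;> cases d' <;> refine mem_Q1.2 ⟨rfl, ?_⟩ <;>
    simp only [sg_true, sg_false, cond_true, cond_false, Bool.xor_false, Bool.xor_true,
        Bool.not_true, Bool.not_false] <;>
      first
        | ring1
        | linear_combination h
        | linear_combination (-1 : ZMod (2 * l)) * h

theorem conj_mem_Q2 (s p : T (2 * l)) (hp : p ∈ Q2 l) : s * p * s⁻¹ ∈ Q2 l := by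
  obtain ⟨i, j, e, d⟩ := p
  obtain ⟨a, b, e', d'⟩ := s
  obtain ⟨h3, h4⟩ := mem_Q2.1 hp
  simp only at h3 h4
  subst h3; subst h4
  have h := half_add_half l
  rw [inv_mk, mul_mk, mul_mk]
  cases d <;> cases e' <;> cases d' <;> refine mem_Q2.2 ⟨rfl, ?_⟩ <;>
    simp only [sg_true, sg_false, cond_true, cond_false, Bool.xor_false, Bool.xor_true,
        Bool.not_true, Bool.not_false] <;>
      first
        | ring1
        | linear_combination h
        | linear_combination (-1 : ZMod (2 * l)) * h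

instance : (Q1 l).Normal := ⟨fun p hp s => conj_mem_Q1 s p hp⟩
instance : (Q2 l).Normal := ⟨fun p hp s => conj_mem_Q2 s p hp⟩

end Cfsg.Agent.ClassificationK.GTwoQuat
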