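import Mathlib

/-!
# Large subgroups of symplectic type and exponent four: the conjugate of a central involution

`Data Q z` collects what is used of the pair `Q = F*(C_G(z))`, `z`, when `Q` is a 2-group of symplectic type and
exponent dividing 4.
-/

set_option autoImplicit false

namespace Cfsg.Agent.ClassificationK.LargeSymplectic

open Subgroup

/-- Elementwise description of a large 2-subgroup of symplectic type and exponent four. -/
structure Data {G : Type*} [Group G] (Q : Subgroup G) (z : G) : Prop where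
  sqz : z * z = 1
  norm : ∀ c, c * z = z * c → ∀ x ∈ Q, c * x * c⁻¹ ∈ Q
  cent : ∀ c, (∀ x ∈ Q, x * c * x⁻¹ = c) → c ∈ Q
  mem : z ∈ Q
  com : ∀ x ∈ Q, x * z = z * x
  comm : ∀ x ∈ Q, ∀ y ∈ Q, x * y * x⁻¹ = y ∨ x * y * x⁻¹ = z * y
  sq : ∀ x ∈ Q, x * x = 1 ∨ x * x = z
  cen : ∀ x ∈ Q, (∀ y ∈ Q, y * x * y⁻¹ = x) → x * x = 1 → x = 1 ∨ x = z

theorem Data.map {G : Type*} [Group G] {Q : Subgroup G} {z : G} (D : Data Q z) (φ : G ≃* G) :
    Data (Q.map φ.toMonoidHom) (φ z) where
  sqz := by rw [← map_mul, D.sqz, map_one]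
  norm := by
    rintro c hc _ ⟨x, hx, rfl⟩
    refine ⟨φ.symm c * x * (φ.symm c)⁻¹, D.norm _ ?_ x hx, ?_⟩
    · apply φ.injective
      simpa using hc
    · simp
  cent := by
    intro c hc
    refine ⟨φ.symm c, D.cent _ ?_, by simp⟩
    intro x hx
    apply φ.injective
    have := hc (φ x) ⟨x, hx, rfl⟩
    simpa using this
  mem := ⟨z, D.mem, rfl⟩
  com := by
    rintro _ ⟨x, hx, rfl⟩
    have := congrArg φ (D.com x hx)
    simpa using this
  comm := by
    rintro _ ⟨x, hx, rfl⟩ _ ⟨y, hy, rfl⟩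
    rcases D.comm x hx y hy with h | h
    · left
      have := congrArg φ h
      simpa using this
    · right
      have := congrArg φ h
      simpa using this
  sq := by
    rintro _ ⟨x, hx, rfl⟩
    rcases D.sq x hx with h | h
    · left
      have := congrArg φ h
      simpa using this
    · right
      have := congrArg φ h
      simpa using this
  cen := by
    rintro _ ⟨x, hx, rfl⟩ h1 h2
    have h3 := D.cen x hx (fun y hy => by
      have := h1 (φ y) ⟨y, hy, rfl⟩
      apply φ.injective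
      simpa using this) (by
      apply φ.injective
      simpa using h2)
    rcases h3 with h | h
    · left; simp [h]
    · right; simp [h]

section

variable {G : Type*} [Group G] {Q : Subgroup G} {z : G}

theorem Data.inv (D : Data Q z) : z⁻¹ = z := inv_eq_of_mul_eq_one_left D.sqz

/-- A noncentral involution of `Q` is moved by some element. -/
theorem Data.exists_conj (D : Data Q z) {y : G} (hy : y ∈ Q) (hy2 : y * y = 1) (h1 : y ≠ 1)
    (hz : y ≠ z) : ∃ q ∈ Q, q * y * q⁻¹ = z * y := by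
  by_contra hcon
  push Not at hcon
  rcases D.cen y hy (fun q hq => (D.comm q hq y hy).resolve_right (hcon q hq)) hy2 with h | h
  · exact h1 h
  · exact hz h

/-- If `d` commutes with every element of `Q` commuting with `y`, then `d` or `d * y` is central. -/
theorem Data.central_or (D : Data Q z) {y d : G} (hy : y ∈ Q) (hd : d ∈ Q)
    (h : ∀ u ∈ Q, u * y * u⁻¹ = y → u * d * u⁻¹ = d) :
    (∀ q ∈ Q, q * d * q⁻¹ = d) ∨ (∀ q ∈ Q, q * (d * y) * q⁻¹ = d * y) := by
  by_cases hc : ∀ q ∈ Q, q * d * q⁻¹ = d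
  · exact Or.inl hc
  right
  push Not at hc
  obtain ⟨q, hq, hqd⟩ := hc
  have hqd' : q * d * q⁻¹ = z * d := (D.comm q hq d hd).resolve_left hqd
  have hqy : q * y * q⁻¹ ≠ y := fun h' => hqd (h q hq h')
  have hqy' : q * y * q⁻¹ = z * y := (D.comm q hq y hy).resolve_left hqy
  intro r hr
  have e1 : r * (d * y) * r⁻¹ = (r * d * r⁻¹) * (r * y * r⁻¹) := by group
  rcases D.comm r hr y hy with h1 | h1
  · rw [e1, h r hr h1, h1]
  · have h2 : (r⁻¹ * q) * y * (r⁻¹ * q)⁻¹ = y := by
      calc (r⁻¹ * q) * y * (r⁻¹ * q)⁻¹ = r⁻¹ * (q * y * q⁻¹) * r := by group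
        _ = r⁻¹ * (r * y * r⁻¹) * r := by rw [hqy', h1]
        _ = y := by group
    have h3 := h (r⁻¹ * q) (mul_mem (inv_mem hr) hq) h2
    have h4 : r * d * r⁻¹ = z * d := by
      calc r * d * r⁻¹ = r * ((r⁻¹ * q) * d * (r⁻¹ * q)⁻¹) * r⁻¹ := by rw [h3]
        _ = q * d * q⁻¹ := by group
        _ = z * d := hqd'
    rw [e1, h4, h1]
    calc z * d * (z * y) = z * (d * z) * y := by group
      _ = (z * z) * (d * y) := by rw [D.com d hd]; group
      _ = d * y := by rw [D.sqz, one_mul]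

end

/-- The core of the argument. -/
theorem core {G : Type*} [Group G] {Q₁ Q₂ : Subgroup G} {z t g : G} (D₁ : Data Q₁ t) (D₂ : Data Q₂ z)
    (hQ : ∀ x, x ∈ Q₂ ↔ g⁻¹ * x * g ∈ Q₁) (hg : g * t * g⁻¹ = z) (hzt : z ≠ t) (hzQ : z ∈ Q₁)
    (hno : ∀ x ∈ Q₂, x * t * x⁻¹ ≠ z * t) : t ∈ Q₂ := by
  by_contra htQ
  have hz1 : z ≠ 1 := by
    rintro rfl
    apply hzt
    have : t = 1 := by
      have := mul_inv_eq_one.mp hg
      simpa using this
    rw [this]
  have ti : t⁻¹ = t := D₁.inv
  have zi : z⁻¹ = z := D₂.inv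
  have hzt' : z * t = t * z := D₁.com z hzQ
  -- (i) the intersection
  have hI : ∀ d ∈ Q₁, d ∈ Q₂ → d = 1 ∨ d = z := by
    intro d hd hd2
    have hcen : ∀ e ∈ Q₁, e ∈ Q₂ → (∀ q ∈ Q₁, q * e * q⁻¹ = e) → e = 1 := by
      intro e he he2 hc
      rcases D₁.sq e he with h | h
      · rcases D₁.cen e he hc h with h' | h'
        · exact h'
        · rw [h'] at he2; exact absurd he2 htQ
      · exfalso; apply htQ; rw [← h]; exact mul_mem he2 he2
    have h1 : ∀ u ∈ Q₁, u * z * u⁻¹ = z → u * d * u⁻¹ = d := by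
      intro u hu huz
      rcases D₁.comm u hu d hd with h | h
      · exact h
      · exfalso; apply htQ
        have h2 : u * d * u⁻¹ ∈ Q₂ := D₂.norm u (mul_inv_eq_iff_eq_mul.mp huz) d hd2
        rw [h] at h2
        have := mul_mem h2 (inv_mem hd2)
        simpa using this
    rcases D₁.central_or hzQ hd h1 with h | h
    · exact Or.inl (hcen d hd hd2 h)
    · right
      have := hcen (d * z) (mul_mem hd hzQ) (mul_mem hd2 D₂.mem) h
      rw [eq_inv_of_mul_eq_one_left this, zi]
  -- (*)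
  have hstar : ∀ x ∈ Q₂, (x * t * x⁻¹ = t ∨ x * t * x⁻¹ = z * t) → x * t * x⁻¹ = t :=
    fun x hx h => h.resolve_right (hno x hx)
  -- (ii)
  have hii : ∀ x ∈ Q₂, ∀ a, a = x * t * x⁻¹ * t → a ∈ Q₂ ∧ a * a = 1 ∧ t * a * t = a := by
    intro x hx a ha
    have haQ : a ∈ Q₂ := by
      have h1 : t * x⁻¹ * t⁻¹ ∈ Q₂ := D₂.norm t hzt'.symm _ (inv_mem hx)
      have h2 := mul_mem hx h1
      rw [ti] at h2
      rw [ha]
      simpa [mul_assoc] using h2
    have hta : t * a * t = a⁻¹ := by
      rw [ha]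
      have : (x * t * x⁻¹ * t)⁻¹ = t⁻¹ * x * t⁻¹ * x⁻¹ := by group
      rw [this, ti]
      calc t * (x * t * x⁻¹ * t) * t = t * x * t * x⁻¹ * (t * t) := by group
        _ = t * x * t * x⁻¹ := by rw [D₁.sqz, mul_one]
    rcases D₂.sq a haQ with h | h
    · refine ⟨haQ, h, ?_⟩
      rw [hta]; exact inv_eq_of_mul_eq_one_left h
    · exfalso
      apply hno a⁻¹ (inv_mem haQ)
      have h2 : t * a = a⁻¹ * t := by
        rw [← hta]
        calc t * a = t * a * (t * t) := by rw [D₁.sqz, mul_one]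
          _ = t * a * t * t := by group
      rw [inv_inv, mul_assoc, h2, ← mul_assoc]
      calc a⁻¹ * a⁻¹ * t = (a * a)⁻¹ * t := by group
        _ = z * t := by rw [h, zi]
  -- (iii)
  have hiii : ∀ w ∈ Q₂, t * w * t = w → ∀ u ∈ Q₁, u * z * u⁻¹ = z →
      u * w * u⁻¹ = w ∨ u * w * u⁻¹ = z * w := by
    intro w hw htw u hu huz
    have h1 : u * w * u⁻¹ ∈ Q₂ := D₂.norm u (mul_inv_eq_iff_eq_mul.mp huz) w hw
    have h2 : w * u⁻¹ * w⁻¹ ∈ Q₁ := by
      refine D₁.norm w ?_ _ (inv_mem hu)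
      calc w * t = t * w * t * t := by rw [htw]
        _ = t * w * (t * t) := by group
        _ = t * w := by rw [D₁.sqz, mul_one]
    have h3 := hI (u * w * u⁻¹ * w⁻¹) (by
      have := mul_mem hu h2
      simpa [mul_assoc] using this) (mul_mem h1 (inv_mem hw))
    rcases h3 with h | h
    · left; exact mul_inv_eq_one.mp h
    · right; exact mul_inv_eq_iff_eq_mul.mp h
  -- equality modulo `⟨z⟩`
  obtain ⟨E, hE⟩ : ∃ E : G → G → Prop, ∀ a b, E a b ↔ (a = b ∨ a = z * b) := ⟨_, fun _ _ => Iff.rfl⟩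
  have Erefl : ∀ a, E a a := fun a => (hE _ _).mpr (Or.inl rfl)
  have Esymm : ∀ a b, E a b → E b a := by
    intro a b h
    rcases (hE _ _).mp h with h | h
    · rw [h]; exact Erefl b
    · refine (hE _ _).mpr (Or.inr ?_)
      rw [h, ← mul_assoc, D₂.sqz, one_mul]
  have Etrans : ∀ a b c, E a b → E b c → E a c := by
    intro a b c h1 h2
    rcases (hE _ _).mp h1 with h1 | h1
    · rw [h1]; exact h2
    · rcases (hE _ _).mp h2 with h2 | h2
      · rw [← h2]; exact (hE _ _).mpr (Or.inr h1)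
      · refine (hE _ _).mpr (Or.inl ?_)
        rw [h1, h2, ← mul_assoc, D₂.sqz, one_mul]
  have Eright : ∀ a b c, E a b → E (a * c) (b * c) := by
    intro a b c h
    rcases (hE _ _).mp h with h | h
    · rw [h]; exact Erefl _
    · refine (hE _ _).mpr (Or.inr ?_)
      rw [h, mul_assoc]
  have Eleft : ∀ a b c, c * z = z * c → E a b → E (c * a) (c * b) := by
    intro a b c hc h
    rcases (hE _ _).mp h with h | h
    · rw [h]; exact Erefl _
    · refine (hE _ _).mpr (Or.inr ?_)
      rw [h, ← mul_assoc, hc, mul_assoc]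
  have Ecomm : ∀ a ∈ Q₂, ∀ b ∈ Q₂, E (a * b) (b * a) := by
    intro a ha b hb
    have h1 : E (a * b * a⁻¹) b := (hE _ _).mpr (D₂.comm a ha b hb)
    have := Eright _ _ a h1
    simpa [mul_assoc] using this
  -- (iv)
  have hiv : ∀ x ∈ Q₂, ∀ u ∈ Q₁, u * z * u⁻¹ = z → ∃ b ∈ Q₂, t * b * t = b ∧ u * x * u⁻¹ = b * x := by
    intro x hx u hu huz
    have hut : u⁻¹ * t * u = t := by
      rw [mul_assoc, ← D₁.com u hu]; group
    have hut' : u * t * u⁻¹ = t := by
      rw [D₁.com u hu]; group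
    have huzc : u * z = z * u := mul_inv_eq_iff_eq_mul.mp huz
    have hbQ : x * (u * x⁻¹ * u⁻¹) ∈ Q₂ := mul_mem hx (D₂.norm u huzc _ (inv_mem hx))
    obtain ⟨h1, h2, h3⟩ := hii x⁻¹ (inv_mem hx) _ rfl
    rw [inv_inv] at h1 h2 h3
    have h4 := hiii _ h1 h3 u hu huz
    have hxz : x * z * x⁻¹ = z := by rw [D₂.com x hx]; group
    have h5 : (x * (u * x⁻¹ * u⁻¹)) * t * (x * (u * x⁻¹ * u⁻¹))⁻¹
        = x * (u * (x⁻¹ * t * x * t) * u⁻¹) * x⁻¹ * (x * t * x⁻¹) := by
      calc (x * (u * x⁻¹ * u⁻¹)) * t * (x * (u * x⁻¹ * u⁻¹))⁻¹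
          = x * u * x⁻¹ * (u⁻¹ * t * u) * x * u⁻¹ * x⁻¹ := by group
        _ = x * u * x⁻¹ * t * x * u⁻¹ * x⁻¹ := by rw [hut]
        _ = x * u * (x⁻¹ * t * x) * u⁻¹ * x⁻¹ := by group
        _ = x * u * (x⁻¹ * t * x * (t * t)) * u⁻¹ * x⁻¹ := by rw [D₁.sqz, mul_one]
        _ = x * (u * (x⁻¹ * t * x * t) * u⁻¹) * (u * t * u⁻¹) * x⁻¹ := by group
        _ = x * (u * (x⁻¹ * t * x * t) * u⁻¹) * t * x⁻¹ := by rw [hut']
        _ = x * (u * (x⁻¹ * t * x * t) * u⁻¹) * x⁻¹ * (x * t * x⁻¹) := by group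
    have h6 : (x * (u * x⁻¹ * u⁻¹)) * t * (x * (u * x⁻¹ * u⁻¹))⁻¹ = t := by
      apply hstar _ hbQ
      rcases h4 with h4 | h4
      · left
        rw [h5, h4]
        calc x * (x⁻¹ * t * x * t) * x⁻¹ * (x * t * x⁻¹) = t * x * (t * t) * x⁻¹ := by group
          _ = t := by rw [D₁.sqz]; group
      · right
        rw [h5, h4]
        calc x * (z * (x⁻¹ * t * x * t)) * x⁻¹ * (x * t * x⁻¹)
            = (x * z * x⁻¹) * (t * x * (t * t) * x⁻¹) := by group
          _ = z * t := by rw [D₁.sqz, hxz]; group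
    refine ⟨_, inv_mem hbQ, ?_, by group⟩
    have h7 : t * (x * (u * x⁻¹ * u⁻¹)) = (x * (u * x⁻¹ * u⁻¹)) * t :=
      (mul_inv_eq_iff_eq_mul.mp h6).symm
    have h8 : t * (x * (u * x⁻¹ * u⁻¹))⁻¹ = (x * (u * x⁻¹ * u⁻¹))⁻¹ * t := by
      rw [eq_inv_mul_iff_mul_eq, ← mul_assoc, ← h7]; group
    rw [h8, mul_assoc, D₁.sqz, mul_one]
  -- it is enough to see that `t` acts trivially modulo `⟨z⟩`
  have hfin : ¬ ∀ x ∈ Q₂, E (t * x * t⁻¹) x := by
    intro h
    apply htQ
    apply D₂.cent
    intro x hx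
    apply hstar x hx
    have h1 := (hE _ _).mp (h x⁻¹ (inv_mem hx))
    have h2 : x * t * x⁻¹ = x * (t * x⁻¹ * t⁻¹) * t := by group
    rw [h2]
    rcases h1 with h1 | h1
    · left; rw [h1]; group
    · right; rw [h1]
      calc x * (z * x⁻¹) * t = x * z * x⁻¹ * t := by group
        _ = z * t := by rw [D₂.com x hx]; group
  -- no element of `U` squares to `t`
  have hv1 : ∀ u ∈ Q₁, u * z * u⁻¹ = z → u * u ≠ t := by
    intro u hu huz hut
    apply hfin
    intro x hx
    have huzc : u * z = z * u := mul_inv_eq_iff_eq_mul.mp huz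
    obtain ⟨b, hb, hbt, hbx⟩ := hiv x hx u hu huz
    have h1 : t * x * t⁻¹ = (u * b * u⁻¹) * (b * x) := by
      calc t * x * t⁻¹ = u * (u * x * u⁻¹) * u⁻¹ := by rw [← hut]; group
        _ = u * (b * x) * u⁻¹ := by rw [hbx]
        _ = (u * b * u⁻¹) * (u * x * u⁻¹) := by group
        _ = (u * b * u⁻¹) * (b * x) := by rw [hbx]
    have h2 : E (u * b * u⁻¹) b := (hE _ _).mpr (hiii b hb hbt u hu huz)
    rw [h1]
    refine Etrans _ _ _ (Eright _ _ (b * x) h2) ?_
    rw [← mul_assoc]
    rcases D₂.sq b hb with h | h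
    · rw [h, one_mul]; exact Erefl _
    · rw [h]; exact (hE _ _).mpr (Or.inr rfl)
  -- `U` is commutative
  have hv2 : ∀ u ∈ Q₁, u * z * u⁻¹ = z → ∀ v ∈ Q₁, v * z * v⁻¹ = z → u * v * u⁻¹ ≠ t * v := by
    intro u hu huz v hv hvz huv
    apply hfin
    intro X hX
    have huzc : u * z = z * u := mul_inv_eq_iff_eq_mul.mp huz
    have hvzc : v * z = z * v := mul_inv_eq_iff_eq_mul.mp hvz
    have hc : (v * u)⁻¹ * z = z * (v * u)⁻¹ := by
      rw [inv_mul_eq_iff_eq_mul, ← mul_assoc, mul_assoc v u z, huzc, ← mul_assoc v z u, hvzc]; group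
    have hx : (v * u)⁻¹ * X * (v * u) ∈ Q₂ := by
      have := D₂.norm _ hc X hX
      simpa using this
    set x := (v * u)⁻¹ * X * (v * u) with hxdef
    obtain ⟨b, hb, hbt, hbx⟩ := hiv x hx u hu huz
    obtain ⟨c, hc, hct, hcx⟩ := hiv x hx v hv hvz
    have e1 : X = (v * b * v⁻¹) * (c * x) := by
      rw [← hcx]
      calc X = v * (u * x * u⁻¹) * v⁻¹ := by rw [hxdef]; group
        _ = (v * b * v⁻¹) * (v * x * v⁻¹) := by rw [hbx]; group
    have e2 : t * X * t⁻¹ = (u * c * u⁻¹) * (b * x) := by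
      have huv' : u * v = t * (v * u) := by
        rw [mul_inv_eq_iff_eq_mul] at huv; rw [huv]; group
      rw [← hbx]
      calc t * X * t⁻¹ = (t * (v * u)) * x * (t * (v * u))⁻¹ := by rw [hxdef]; group
        _ = u * (v * x * v⁻¹) * u⁻¹ := by rw [← huv']; group
        _ = (u * c * u⁻¹) * (u * x * u⁻¹) := by rw [hcx]; group
    have h1 : E (t * X * t⁻¹) (c * (b * x)) := by
      rw [e2]; exact Eright _ _ _ ((hE _ _).mpr (hiii c hc hct u hu huz))
    have h2 : E X (b * (c * x)) := by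
      conv_lhs => rw [e1]
      exact Eright _ _ _ ((hE _ _).mpr (hiii b hb hbt v hv hvz))
    refine Etrans _ _ _ h1 (Etrans _ _ _ ?_ (Esymm _ _ h2))
    rw [← mul_assoc c b x, ← mul_assoc b c x]
    exact Eright _ _ _ (Ecomm c hc b hb)
  -- so `U` is the four-group
  have hU : ∀ u ∈ Q₁, u * z * u⁻¹ = z → u = 1 ∨ u = t ∨ u = z ∨ u = t * z := by
    intro u hu huz
    have hu2 : u * u = 1 := (D₁.sq u hu).resolve_right (hv1 u hu huz)
    have h1 : ∀ v ∈ Q₁, v * z * v⁻¹ = z → v * u * v⁻¹ = u := fun v hv hvz =>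
      (D₁.comm v hv u hu).resolve_right (hv2 v hv hvz u hu huz)
    rcases D₁.central_or hzQ hu h1 with h | h
    · rcases D₁.cen u hu h hu2 with h | h
      · exact Or.inl h
      · exact Or.inr (Or.inl h)
    · have h2 : (u * z) * (u * z) = 1 := by
        have huzc : u * z = z * u := mul_inv_eq_iff_eq_mul.mp huz
        calc (u * z) * (u * z) = u * (z * u) * z := by group
          _ = (u * u) * (z * z) := by rw [← huzc]; group
          _ = 1 := by rw [hu2, D₂.sqz, one_mul]
      rcases D₁.cen (u * z) (mul_mem hu hzQ) h h2 with h | h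
      · right; right; left
        rw [eq_inv_of_mul_eq_one_left h, zi]
      · right; right; right
        rw [← h, mul_assoc, D₂.sqz, mul_one]
  -- transport to `Q₂`
  obtain ⟨y, hy⟩ : ∃ y, y = g * z * g⁻¹ := ⟨_, rfl⟩
  have hyQ : y ∈ Q₂ := by
    rw [hQ, hy]
    have : g⁻¹ * (g * z * g⁻¹) * g = z := by group
    rw [this]; exact hzQ
  have hV : ∀ v ∈ Q₂, v * y * v⁻¹ = y → v = 1 ∨ v = z ∨ v = y ∨ v = z * y := by
    intro v hv hvy
    have h1 : (g⁻¹ * v * g) * z * (g⁻¹ * v * g)⁻¹ = z := by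
      calc (g⁻¹ * v * g) * z * (g⁻¹ * v * g)⁻¹ = g⁻¹ * (v * (g * z * g⁻¹) * v⁻¹) * g := by group
        _ = z := by rw [← hy, hvy, hy]; group
    have h2 : v = g * (g⁻¹ * v * g) * g⁻¹ := by group
    rcases hU _ ((hQ v).mp hv) h1 with h | h | h | h
    · left; rw [h2, h]; group
    · right; left; rw [h2, h, hg]
    · right; right; left; rw [h2, h, hy]
    · right; right; right; rw [h2, h, hy, ← hg]; group
  -- final contradiction
  obtain ⟨x, hx, hxt⟩ : ∃ x ∈ Q₂, x * t * x⁻¹ ≠ t := by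
    by_contra hcon
    push Not at hcon
    exact htQ (D₂.cent t hcon)
  obtain ⟨a, ha⟩ : ∃ a, a = x * t * x⁻¹ * t := ⟨_, rfl⟩
  obtain ⟨haQ, haa, hta⟩ := hii x hx a ha
  have hai : a⁻¹ = a := inv_eq_of_mul_eq_one_left haa
  have ha1 : a ≠ 1 := by
    intro h
    apply hxt
    rw [h] at ha
    rw [← inv_inv (x * t * x⁻¹), inv_eq_of_mul_eq_one_right ha.symm, ti]
  have haz : a ≠ z := by
    intro h
    apply hno x hx
    rw [← h, ha, mul_assoc (x * t * x⁻¹) t t, D₁.sqz, mul_one]
  have hax : t * x * t = a * x := by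
    rw [← hai, ha]
    have : (x * t * x⁻¹ * t)⁻¹ = t⁻¹ * x * t⁻¹ * x⁻¹ := by group
    rw [this, ti]; group
  have hxz : x * z = z * x := D₂.com x hx
  have hx2 : t * (x * x) * t = x * x := by
    rcases D₂.sq x hx with h | h
    · rw [h, mul_one, D₁.sqz]
    · rw [h, ← hzt', mul_assoc, D₁.sqz, mul_one]
  have hax2 : a * x = x * a := by
    have h1 : a * x * (a * x) = x * x := by
      rw [← hax, ← hx2]
      calc t * x * t * (t * x * t) = t * x * (t * t) * x * t := by group
        _ = t * (x * x) * t := by rw [D₁.sqz]; group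
    have h2 : a * x * a = x := by
      have : a * x * a * x = x * x := by rw [← h1]; group
      exact mul_right_cancel this
    calc a * x = a * x * (a * a) := by rw [haa, mul_one]
      _ = a * x * a * a := by group
      _ = x * a := by rw [h2]
  -- commuting with `t`
  have hta' : a * t = t * a := by
    calc a * t = t * a * t * t := by rw [hta]
      _ = t * a * (t * t) := by group
      _ = t * a := by rw [D₁.sqz, mul_one]
  have hxt' : ¬ x * t = t * x := fun h => hxt (by rw [h]; group)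
  have hzat : z * a * t = t * (z * a) := by
    rw [mul_assoc, hta', ← mul_assoc, hzt', mul_assoc]
  have haza : a * z = z * a := D₂.com a haQ
  rcases D₂.comm a haQ y hyQ with hay | hay
  · -- `a` commutes with `y`
    have hya : y = a ∨ y = z * a := by
      rcases hV a haQ hay with h | h | h | h
      · exact absurd h ha1
      · exact absurd h haz
      · left; exact h.symm
      · right; rw [h, ← mul_assoc, D₂.sqz, one_mul]
    have hyt : y * t = t * y := by
      rcases hya with h | h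
      · rw [h]; exact hta'
      · rw [h]; exact hzat
    have hxy : x * y * x⁻¹ = y := by
      rw [mul_inv_eq_iff_eq_mul]
      rcases hya with h | h
      · rw [h]; exact hax2.symm
      · rw [h, ← mul_assoc, hxz, mul_assoc, ← hax2, mul_assoc]
    rcases hV x hx hxy with h | h | h | h
    · exact hxt' (by rw [h]; group)
    · exact hxt' (by rw [h]; exact hzt')
    · exact hxt' (by rw [h]; exact hyt)
    · exact hxt' (by rw [h, mul_assoc, hyt, ← mul_assoc, hzt', mul_assoc])
  · have hnay : ¬ a * y = y * a := by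
      intro h
      rw [h] at hay
      apply hz1
      have : y * a * a⁻¹ = y := by group
      rw [this] at hay
      exact (mul_eq_right.mp hay.symm)
    have hzy : y * z = z * y := D₂.com y hyQ
    rcases D₂.comm x hx y hyQ with hxy | hxy
    · rcases hV x hx hxy with h | h | h | h
      · exact hxt' (by rw [h]; group)
      · exact hxt' (by rw [h]; exact hzt')
      · exact hnay (by rw [h] at hax2; exact hax2)
      · apply hnay
        rw [h] at hax2
        have : z * (a * y) = z * (y * a) := by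
          rw [← mul_assoc, ← haza, mul_assoc, hax2, mul_assoc]
        exact mul_left_cancel this
    · have h1 : (x * a) * y * (x * a)⁻¹ = y := by
        calc (x * a) * y * (x * a)⁻¹ = x * (a * y * a⁻¹) * x⁻¹ := by group
          _ = x * z * y * x⁻¹ := by rw [hay]; group
          _ = z * (x * y * x⁻¹) := by rw [hxz]; group
          _ = y := by rw [hxy, ← mul_assoc, D₂.sqz, one_mul]
      have hxaa : x * a * a = x := by rw [mul_assoc, haa, mul_one]
      have hcxa : a * (x * a) = (x * a) * a := by rw [← mul_assoc, hax2]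
      rcases hV (x * a) (mul_mem hx haQ) h1 with h | h | h | h
      · apply hxt'
        rw [h, one_mul] at hxaa
        rw [← hxaa]; exact hta'
      · apply hxt'
        rw [h] at hxaa
        rw [← hxaa]; exact hzat
      · rw [h] at hcxa
        exact hnay hcxa
      · rw [h] at hcxa
        apply hnay
        have : z * (a * y) = z * (y * a) := by
          rw [← mul_assoc, ← haza, mul_assoc, hcxa, mul_assoc]
        exact mul_left_cancel this

/-- The two conclusions. -/
theorem main {G : Type*} [Group G] {Q : Subgroup G} {z g : G} (D : Data Q z)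
    (hne : g * z * g⁻¹ ≠ z) (hin : g * z * g⁻¹ ∈ Q) :
    z ∈ Q.map (MulAut.conj g).toMonoidHom ∧
      ∀ u ∈ Subgroup.closure ({z, g * z * g⁻¹} : Set G), ∀ v ∈ Subgroup.closure ({z, g * z * g⁻¹} : Set G),
        u ≠ 1 → v ≠ 1 → u ≠ v →
          ∃ x ∈ Q ⊔ Q.map (MulAut.conj g).toMonoidHom, x * z * x⁻¹ = u ∧ x * (g * z * g⁻¹) * x⁻¹ = v := by
  obtain ⟨w, hw⟩ : ∃ w, w = g * z * g⁻¹ := ⟨_, rfl⟩
  obtain ⟨P, hP⟩ : ∃ P, P = Q.map (MulAut.conj g).toMonoidHom := ⟨_, rfl⟩
  have DP : Data P w := by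
    have := D.map (MulAut.conj g)
    rw [MulAut.conj_apply] at this
    rw [hP, hw]; exact this
  rw [← hw] at hne hin ⊢
  rw [← hP]
  have hmem : ∀ x, x ∈ P ↔ g⁻¹ * x * g ∈ Q := by
    intro x
    rw [hP]
    constructor
    · rintro ⟨y, hy, rfl⟩
      have : g⁻¹ * ((MulAut.conj g).toMonoidHom y) * g = y := by
        simp [mul_assoc]
      rw [this]; exact hy
    · intro h
      exact ⟨_, h, by simp [mul_assoc]⟩
  have z1 : z ≠ 1 := by
    rintro rfl
    apply hne
    rw [hw]; group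
  have w1 : w ≠ 1 := by
    rintro rfl
    apply z1
    have := mul_inv_eq_one.mp hw.symm
    simpa using this
  have hzw : w * z = z * w := D.com w hin
  obtain ⟨q, hq, hqw⟩ := D.exists_conj hin DP.sqz w1 hne
  have hqz : q * z * q⁻¹ = z := by rw [D.com q hq]; group
  have hzP : z ∈ P := by
    by_cases hex : ∃ x ∈ P, x * z * x⁻¹ = w * z
    · obtain ⟨x, hx, hxz⟩ := hex
      have hxw : x * w * x⁻¹ = w := by rw [DP.com x hx]; group
      -- `q * x * q` swaps `z` and `w`
      have e1 : (q * x * q) * z * (q * x * q)⁻¹ = w := by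
        calc (q * x * q) * z * (q * x * q)⁻¹ = q * (x * (q * z * q⁻¹) * x⁻¹) * q⁻¹ := by group
          _ = q * (w * z) * q⁻¹ := by rw [hqz, hxz]
          _ = (q * w * q⁻¹) * (q * z * q⁻¹) := by group
          _ = w * (z * z) := by rw [hqw, hqz, ← hzw]; group
          _ = w := by rw [D.sqz, mul_one]
      have e2 : (q * x * q) * w * (q * x * q)⁻¹ = z := by
        calc (q * x * q) * w * (q * x * q)⁻¹ = q * (x * (q * w * q⁻¹) * x⁻¹) * q⁻¹ := by group
          _ = q * ((x * z * x⁻¹) * (x * w * x⁻¹)) * q⁻¹ := by rw [hqw]; group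
          _ = q * (z * (w * w)) * q⁻¹ := by rw [hxz, hxw, hzw]; group
          _ = z := by rw [DP.sqz, mul_one, hqz]
      rw [hmem]
      have hc : (g⁻¹ * (q * x * q)) * z = z * (g⁻¹ * (q * x * q)) := by
        rw [← mul_inv_eq_iff_eq_mul]
        calc g⁻¹ * (q * x * q) * z * (g⁻¹ * (q * x * q))⁻¹
            = g⁻¹ * ((q * x * q) * z * (q * x * q)⁻¹) * g := by group
          _ = z := by rw [e1, hw]; group
      have := D.norm _ hc w hin
      have e3 : g⁻¹ * z * g = g⁻¹ * (q * x * q) * w * (g⁻¹ * (q * x * q))⁻¹ := by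
        rw [← e2]; group
      rw [e3]; exact this
    · push Not at hex
      exact core D DP hmem hw.symm hne hin hex
  refine ⟨hzP, ?_⟩
  -- the element of `P`
  obtain ⟨r, hr, hrz⟩ := DP.exists_conj hzP D.sqz z1 (Ne.symm hne)
  have hrw : r * w * r⁻¹ = w := by rw [DP.com r hr]; group
  have hrz' : r * z * r⁻¹ = z * w := by rw [hrz, hzw]
  have hcl : ∀ u ∈ Subgroup.closure ({z, w} : Set G), u = 1 ∨ u = z ∨ u = w ∨ u = z * w := by
    intro u hu
    induction hu using Subgroup.closure_induction with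
    | mem x hx =>
      rcases hx with h | h
      · exact Or.inr (Or.inl h)
      · exact Or.inr (Or.inr (Or.inl h))
    | one => exact Or.inl rfl
    | mul a b _ _ ha hb =>
      rcases ha with rfl | rfl | rfl | rfl <;> rcases hb with rfl | rfl | rfl | rfl
      all_goals first
        | simp only [one_mul, mul_one, true_or, or_true]
        | skip
      · left; exact D.sqz
      · right; right; left; rw [← mul_assoc, D.sqz, one_mul]
      · right; right; right; exact hzw
      · left; exact DP.sqz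
      · right; left; rw [← mul_assoc, hzw, mul_assoc, DP.sqz, mul_one]
      · right; right; left; rw [mul_assoc, hzw, ← mul_assoc, D.sqz, one_mul]
      · right; left; rw [mul_assoc, DP.sqz, mul_one]
      · left
        calc z * w * (z * w) = z * (w * z) * w := by group
          _ = (z * z) * (w * w) := by rw [hzw]; group
          _ = 1 := by rw [D.sqz, DP.sqz, one_mul]
    | inv a _ ha =>
      rcases ha with h | h | h | h
      · left; rw [h, inv_one]
      · right; left; rw [h, D.inv]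
      · right; right; left; rw [h, DP.inv]
      · right; right; right; rw [h, mul_inv_rev, DP.inv, D.inv, hzw]
  have hq' : q ∈ Q ⊔ P := (le_sup_left : Q ≤ Q ⊔ P) hq
  have hr' : r ∈ Q ⊔ P := (le_sup_right : P ≤ Q ⊔ P) hr
  have hqzw : q * (z * w) * q⁻¹ = w := by
    calc q * (z * w) * q⁻¹ = (q * z * q⁻¹) * (q * w * q⁻¹) := by group
      _ = (z * z) * w := by rw [hqz, hqw]; group
      _ = w := by rw [D.sqz, one_mul]
  have hrzw : r * (z * w) * r⁻¹ = z := by
    calc r * (z * w) * r⁻¹ = (r * z * r⁻¹) * (r * w * r⁻¹) := by group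
      _ = z * (w * w) := by rw [hrz', hrw]; group
      _ = z := by rw [DP.sqz, mul_one]
  have hcc : ∀ a b c : G, (a * b) * c * (a * b)⁻¹ = a * (b * c * b⁻¹) * a⁻¹ := by
    intro a b c; group
  intro u hu v hv hu1 hv1 huv
  rcases hcl u hu with h | h | h | h
  · exact absurd h hu1
  · rcases hcl v hv with h' | h' | h' | h'
    · exact absurd h' hv1
    · exact absurd (h.trans h'.symm) huv
    · exact ⟨1, one_mem _, by rw [h]; group, by rw [h']; group⟩
    · exact ⟨q, hq', by rw [h, hqz], by rw [h', hqw]⟩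
  · rcases hcl v hv with h' | h' | h' | h'
    · exact absurd h' hv1
    · exact ⟨q * r * q, mul_mem (mul_mem hq' hr') hq',
        by rw [hcc, hcc, hqz, hrz', hqzw, h], by rw [hcc, hcc, hqw, hrzw, hqz, h']⟩
    · exact absurd (h.trans h'.symm) huv
    · exact ⟨q * r, mul_mem hq' hr', by rw [hcc, hrz', hqzw, h], by rw [hcc, hrw, hqw, h']⟩
  · rcases hcl v hv with h' | h' | h' | h'
    · exact absurd h' hv1
    · exact ⟨r * q, mul_mem hr' hq', by rw [hcc, hqz, hrz', h], by rw [hcc, hqw, hrzw, h']⟩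
    · exact ⟨r, hr', by rw [hrz', h], by rw [hrw, h']⟩
    · exact absurd (h.trans h'.symm) huv

end Cfsg.Agent.ClassificationK.LargeSymplectic
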