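import Cfsg.Agent.ClassificationK.SymplInstD

/-!
# `|V| = 4` or `|V| = 16` (S1758)
-/

set_option autoImplicit false

namespace Cfsg.Agent.ClassificationK.SymplCard

open SymplSetup SymplInst SymplLin SymplLin.Sys

variable {V : Type*} [AddCommGroup V] [Module (ZMod 2) V] [Finite V] (S : Sys V)

omit [Finite V] in
lemma exists_one {x : V} (hx : x ≠ 0) : ∃ w, S.ω w x = 1 := by
  by_contra hcon
  push Not at hcon
  apply hx
  apply S.nondeg
  intro w
  rw [S.sym]
  exact (z2 _).resolve_right (hcon w)

include S in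
theorem card_cases : Nat.card V = 4 ∨ Nat.card V = 16 := by
  obtain ⟨a, ha⟩ := S.nonempty
  have ha0 := ne_zero ha
  obtain ⟨w, hw⟩ := exists_one S ha0
  have haw : S.ω a w = 1 := by rw [S.sym, hw]
  have h4 : 4 ≤ Nat.card V := by
    have hsurj : Function.Surjective (fun x : V => ((S.ω x w, S.ω x a) : ZMod 2 × ZMod 2)) := by
      rintro ⟨s, t⟩
      refine ⟨s • a + t • w, ?_⟩
      simp only [map_add, map_smul, LinearMap.add_apply, LinearMap.smul_apply, smul_eq_mul, S.alt, hw, haw,
        mul_zero, mul_one, add_zero, zero_add]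
    have h1 := Nat.card_le_card_of_surjective _ hsurj
    rw [Nat.card_prod, Nat.card_zmod] at h1
    omega
  have h16 := Sys.card_le S
  by_cases h : Nat.card V = 4
  · exact Or.inl h
  right
  -- projection on the orthogonal of `⟨a, w⟩`
  have hproj : ∀ x : V, ∃ y, S.ω y a = 0 ∧ S.ω y w = 0 ∧ ∃ s t : ZMod 2, x = y + s • a + t • w := by
    intro x
    refine ⟨x + (S.ω x w • a + S.ω x a • w), ?_, ?_, S.ω x w, S.ω x a, ?_⟩
    · simp only [map_add, map_smul, LinearMap.add_apply, LinearMap.smul_apply, smul_eq_mul, S.alt, hw,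
        mul_zero, mul_one, zero_add]
      exact ZModModule.add_self _
    · simp only [map_add, map_smul, LinearMap.add_apply, LinearMap.smul_apply, smul_eq_mul, S.alt, haw,
        mul_zero, mul_one, add_zero]
      exact ZModModule.add_self _
    · have : x + (S.ω x w • a + S.ω x a • w) + S.ω x w • a + S.ω x a • w =
          x + (S.ω x w • a + S.ω x a • w) + (S.ω x w • a + S.ω x a • w) := by abel
      rw [this, add_add_self]
  obtain ⟨v, hv0, hva, hvw⟩ : ∃ v, v ≠ 0 ∧ S.ω v a = 0 ∧ S.ω v w = 0 := by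
    by_contra hcon
    push Not at hcon
    apply h
    have hsurj : Function.Surjective (fun p : ZMod 2 × ZMod 2 => p.1 • a + p.2 • w) := by
      intro x
      obtain ⟨y, hya, hyw, s, t, hst⟩ := hproj x
      have hy0 : y = 0 := by
        by_contra hy
        exact hcon y hy hya hyw
      refine ⟨(s, t), ?_⟩
      rw [hst, hy0, zero_add]
    have h1 := Nat.card_le_card_of_surjective _ hsurj
    rw [Nat.card_prod, Nat.card_zmod] at h1
    omega
  obtain ⟨y0, hy0⟩ := exists_one S hv0
  obtain ⟨y, hya, hyw, s, t, hst⟩ := hproj y0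
  have hyv : S.ω y v = 1 := by
    rw [hst] at hy0
    simp only [map_add, map_smul, LinearMap.add_apply, LinearMap.smul_apply, smul_eq_mul] at hy0
    rw [S.sym a v, S.sym w v, hva, hvw] at hy0
    simpa using hy0
  have hvy : S.ω v y = 1 := by rw [S.sym, hyv]
  have hsurj : Function.Surjective
      (fun x : V => ((S.ω x w, S.ω x a, S.ω x y, S.ω x v) : ZMod 2 × ZMod 2 × ZMod 2 × ZMod 2)) := by
    rintro ⟨s, t, p, q⟩
    refine ⟨s • a + t • w + p • v + q • y, ?_⟩
    simp only [map_add, map_smul, LinearMap.add_apply, LinearMap.smul_apply, smul_eq_mul, S.alt, hw, haw,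
      hva, hvw, hya, hyw, hyv, hvy, mul_zero, mul_one, add_zero, zero_add]
    rw [S.sym a y, S.sym w y, S.sym a v, S.sym w v, hya, hyw, hva, hvw]
    simp
  have h1 := Nat.card_le_card_of_surjective _ hsurj
  rw [Nat.card_prod, Nat.card_prod, Nat.card_prod, Nat.card_zmod] at h1
  omega

theorem card_V {G : Type*} [Group G] [Finite G] {D : Set G} {Q : G → Subgroup G} {u : G → G} {z : G}
    (C : Ctx D Q u z) : Nat.card C.h.V = 4 ∨ Nat.card C.h.V = 16 := card_cases C.sys

end Cfsg.Agent.ClassificationK.SymplCard
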