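import Cfsg.Agent.ClassificationK.SymplClosure

/-!
# Sylow 2-subgroups containing `Q z` centralise `z` (S1758, helper577)
-/

set_option autoImplicit false

namespace Cfsg.Agent.ClassificationK.SymplSetup

variable {G : Type*} [Group G]

/-- A 2-subgroup containing `Q` centralises `z`. -/
theorem Symp.centralizes [Finite G] {Q : Subgroup G} {z u : G} (h : Symp Q z u) {T : Subgroup G}
    (hT : IsPGroup 2 T) (hQT : Q ≤ T) {x : G} (hx : x ∈ T) : x * z = z * x := by
  classical
  have : Fact (Nat.Prime 2) := ⟨Nat.prime_two⟩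
  have hnt : Nontrivial T := by
    refine ⟨⟨⟨z, hQT h.z_mem⟩, 1, ?_⟩⟩
    intro he
    exact h.z_ne (congrArg Subtype.val he)
  have hc : Nontrivial (Subgroup.center T) := hT.center_nontrivial
  obtain ⟨⟨⟨c, hcT⟩, hcc⟩, hc1⟩ := exists_ne (1 : Subgroup.center T)
  have hc1' : c ≠ 1 := by
    rintro rfl
    exact hc1 rfl
  rw [Subgroup.mem_center_iff] at hcc
  have hcomm : ∀ y ∈ T, y * c = c * y := fun y hy => congrArg Subtype.val (hcc ⟨y, hy⟩)
  have h1 := h.self c (hcomm z (hQT h.z_mem)).symm (fun y hy => (hcomm y (hQT hy)).symm)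
  have h2 := hcomm x hx
  rcases h1 with h1 | h1 | h1 | h1
  · exact absurd h1 hc1'
  · rwa [h1] at h2
  · rw [h1] at h2
    rw [← h.u_sq, ← mul_assoc, h2, mul_assoc, h2, mul_assoc]
  · have h3 : c * c = z := by
      rw [h1]
      calc u * z * (u * z) = u * (z * u) * z := by group
        _ = (u * u) * (z * z) := by rw [← h.uz]; group
        _ = z := by rw [h.u_sq, h.z_sq, mul_one]
    rw [← h3, ← mul_assoc, h2, mul_assoc, h2, mul_assoc]

/-- For an involution `t` (or `1`) of `C(z)` there is a Sylow 2-subgroup of `G` containing `Q` and `t`. -/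
theorem Symp.exists_sylow [Finite G] {Q : Subgroup G} {z u : G} (h : Symp Q z u) {K : Subgroup G}
    (hK : IsPGroup 2 K) (hKz : ∀ x ∈ K, x * z = z * x) :
    ∃ T : Sylow 2 G, Q ≤ T ∧ K ≤ T ∧ ∀ x ∈ (T : Subgroup G), x * z = z * x := by
  classical
  have : Fact (Nat.Prime 2) := ⟨Nat.prime_two⟩
  have hn : K ≤ Subgroup.normalizer (Q : Set G) := by
    intro x hx
    rw [Subgroup.mem_normalizer_iff]
    intro y
    have hxz := hKz x hx
    constructor
    · exact h.conj_mem x hxz y
    · intro hy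
      have hx' : x⁻¹ * z = z * x⁻¹ := by
        rw [inv_mul_eq_iff_eq_mul, ← mul_assoc, hxz, mul_assoc, mul_inv_cancel, mul_one]
      have := h.conj_mem x⁻¹ hx' _ hy
      have e : x⁻¹ * (x * y * x⁻¹) * (x⁻¹)⁻¹ = y := by group
      rwa [e] at this
  have hp : IsPGroup 2 (K ⊔ Q : Subgroup G) :=
    IsPGroup.to_sup_of_normal_right' hK h.isPGroup hn
  obtain ⟨T, hT⟩ := hp.exists_le_sylow
  have h1 : Q ≤ T := le_sup_right.trans hT
  exact ⟨T, h1, le_sup_left.trans hT, fun x hx => h.centralizes T.2 h1 hx⟩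

end Cfsg.Agent.ClassificationK.SymplSetup
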