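import Cfsg.Agent.ClassificationK.SymplFront
import Cfsg.Agent.ClassificationK.SymplSylow
import Cfsg.Agent.S0215
import Cfsg.Agent.S1180

/-!
# The cases of `Big` (S1758, helper577)

* `Big.four_extraspecial`: `|R| = 4`, `K ≠ Q` → `Q` extraspecial;
* `Big.symp`: `|R| = 4`, `K = Q ≠ R` → `Symp Q z u`;
* `Big.isPGroup_centralizer`: `K = R` → `C(z)` is a 2-group (so `C(z) = Q`);
* `exists_commuting`: in a finite simple non-abelian group an involution commutes with another conjugate of itself.
-/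

set_option autoImplicit false

namespace Cfsg.Agent.ClassificationK.SymplFront

open Subgroup SymplStructure SymplSetup

/-- By the `Z*`-theorem: an involution of a finite simple non-abelian group commutes with some conjugate `≠ z`. -/
theorem exists_commuting {G : Type*} [Group G] [Finite G] [IsSimpleGroup G] (hG : ¬ IsMulCommutative G)
    {z : G} (hz : orderOf z = 2) : ∃ g : G, g * z * g⁻¹ ≠ z ∧ (g * z * g⁻¹) * z = z * (g * z * g⁻¹) := by
  by_contra hcon
  push Not at hcon
  have hiso : Cfsg.IsIsolatedInvolution z := by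
    refine ⟨hz, fun g hg => ?_⟩
    by_contra hne
    exact hcon g hne hg.eq.symm
  have : Fact (Nat.Prime 2) := ⟨Nat.prime_two⟩
  have hp : IsPGroup 2 (zpowers z) := by
    apply IsPGroup.of_card (n := 1)
    rw [Nat.card_zpowers, hz, pow_one]
  obtain ⟨P, hP⟩ := hp.exists_le_sylow
  have htP : z ∈ P := hP (mem_zpowers z)
  obtain ⟨N, hN, hodd, hcomm⟩ := Cfsg.Agent.S0215.result P z hz htP
    (fun g hg => Cfsg.Agent.S1180.eq_of_conj_mem_isPGroup z hiso (P : Subgroup G) P.2 htP g hg)
  rcases hN.eq_bot_or_eq_top with h | h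
  · have htc : z ∈ center G := by
      rw [mem_center_iff]
      intro g
      have := hcomm g
      rw [h, mem_bot, mul_inv_eq_one, mul_inv_eq_iff_eq_mul] at this
      exact this.symm
    rcases (inferInstance : (center G).Normal).eq_bot_or_eq_top with hc | hc
    · rw [hc, mem_bot] at htc
      rw [htc, orderOf_one] at hz
      omega
    · apply hG
      refine ⟨⟨fun a b => ?_⟩⟩
      have : b ∈ center G := by rw [hc]; trivial
      exact (mem_center_iff.mp this a)
  · rw [h, card_top] at hodd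
    have h2 : 2 ∣ Nat.card G := by
      rw [← hz]; exact orderOf_dvd_natCard z
    exact (Nat.not_even_iff_odd.mpr hodd) (even_iff_two_dvd.mpr h2)

/-- Transport of `IsOfSymplecticType`. -/
theorem symplecticType_of_equiv {A B : Type*} [Group A] [Group B] (e : A ≃* B)
    (h : Cfsg.IsOfSymplecticType A) : Cfsg.IsOfSymplecticType B := by
  refine ⟨h.1.of_equiv e, fun X hX hXc => ?_⟩
  have h1 : (X.comap e.toMonoidHom).Characteristic := by
    rw [Subgroup.characteristic_iff_le_comap]
    intro σ a ha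
    have h2 := (Subgroup.characteristic_iff_le_comap.1 hX) ((e.symm.trans σ).trans e) (show e a ∈ X from ha)
    show e (σ a) ∈ X
    have h3 : ((e.symm.trans σ).trans e) (e a) = e (σ a) := by simp
    have h4 : ((e.symm.trans σ).trans e) (e a) ∈ X := h2
    rwa [h3] at h4
  have h2 : IsMulCommutative (X.comap e.toMonoidHom) := by
    refine ⟨⟨fun a b => Subtype.ext (e.injective ?_)⟩⟩
    have := hXc.is_comm.comm (⟨e a, a.2⟩ : X) ⟨e b, b.2⟩
    have h3 := congrArg Subtype.val this
    show e ((a : A) * b) = e (b * a)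
    rw [map_mul, map_mul]
    exact h3
  have h3 := h.2 _ h1 h2
  have f : (X.comap e.toMonoidHom) ≃* X :=
    { toFun := fun a => ⟨e (a : A), a.2⟩
      invFun := fun b => ⟨e.symm b, by show e (e.symm b) ∈ X; rw [e.apply_symm_apply]; exact b.2⟩
      left_inv := fun a => Subtype.ext (e.symm_apply_apply a)
      right_inv := fun b => Subtype.ext (e.apply_symm_apply b)
      map_mul' := fun a b => Subtype.ext (map_mul e (a : A) (b : A)) }
  exact isCyclic_of_surjective f f.surjective

namespace Big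

variable {G : Type*} [Group G] {Q K R : Subgroup G} {z : G}

theorem exists_gen (h : Big Q K R z) : ∃ c ∈ R, ∀ x ∈ R, ∃ i : ℤ, c ^ i = x := by
  obtain ⟨⟨c, hc⟩, hgen⟩ := h.cyc.exists_generator
  refine ⟨c, hc, fun a ha => ?_⟩
  obtain ⟨k, hk⟩ := mem_zpowers_iff.mp (hgen ⟨a, ha⟩)
  exact ⟨k, congrArg Subtype.val hk⟩

theorem z_inv (h : Big Q K R z) : z⁻¹ = z := inv_eq_of_mul_eq_one_left h.z_sq

theorem ne_mul (h : Big Q K R z) (x : G) : x ≠ x * z := fun h1 => h.z_ne (mul_eq_left.1 h1.symm)

theorem R_eq [Finite G] (h : Big Q K R z) {c : G} (hc : c ∈ R) (hgen : ∀ x ∈ R, ∃ i : ℤ, c ^ i = x) :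
    R = zpowers c ∧ ∃ n, orderOf c = 2 ^ n ∧ Nat.card R = 2 ^ n ∧ 2 ≤ n := by
  have : Fact (Nat.Prime 2) := ⟨Nat.prime_two⟩
  have hRz : R = zpowers c := by
    apply le_antisymm
    · intro y hy
      obtain ⟨i, hi⟩ := hgen y hy
      exact ⟨i, hi⟩
    · rw [zpowers_le]; exact hc
  obtain ⟨n, hn⟩ := (IsPGroup.iff_orderOf.1 h.pgrp) ⟨c, h.KQ (h.RK hc)⟩
  rw [Subgroup.orderOf_mk] at hn
  have hcard : Nat.card R = 2 ^ n := by rw [hRz, Nat.card_zpowers, hn]
  refine ⟨hRz, n, hn, hcard, ?_⟩
  by_contra hlt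
  have h4 := h.card
  rw [hcard] at h4
  have : n = 0 ∨ n = 1 := by omega
  rcases this with rfl | rfl <;> norm_num at h4

/-- An element of order four in `R`. -/
theorem exists_y [Finite G] (h : Big Q K R z) : ∃ y ∈ R, y * y = z := by
  obtain ⟨c, hc, hgen⟩ := h.exists_gen
  obtain ⟨-, n, hn, -, hn2⟩ := h.R_eq hc hgen
  refine ⟨c ^ (2 ^ (n - 2)), R.pow_mem hc _, ?_⟩
  have e : c ^ (2 ^ (n - 2)) * c ^ (2 ^ (n - 2)) = c ^ (2 ^ (n - 1)) := by
    rw [← pow_add, ← two_mul, ← pow_succ']
    congr 2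
    omega
  rw [e]
  have h2 : (c ^ (2 ^ (n - 1))) * (c ^ (2 ^ (n - 1))) = 1 := by
    rw [← pow_add, ← two_mul, ← pow_succ', Nat.sub_add_cancel (by omega), ← hn]
    exact pow_orderOf_eq_one c
  rcases h.uniq _ (R.pow_mem hc _) h2 with h3 | h3
  · exfalso
    have h4 := orderOf_dvd_of_pow_eq_one h3
    rw [hn] at h4
    have := Nat.le_of_dvd (by positivity) h4
    have h5 : 2 ^ (n - 1) < 2 ^ n := Nat.pow_lt_pow_right (by norm_num) (by omega)
    omega
  · exact h3

/-- If `|R| = 4` then `R = {1, z, y, y z}`. -/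
theorem mem_R_four [Finite G] (h : Big Q K R z) (h4 : Nat.card R = 4) {y : G} (hy : y ∈ R) (hyy : y * y = z)
    {x : G} (hx : x ∈ R) : x = 1 ∨ x = z ∨ x = y ∨ x = y * z := by
  classical
  have hyz : y * z = z * y := by rw [← hyy, mul_assoc]
  have hy1 : y ≠ 1 := by rintro rfl; exact h.z_ne (by rw [← hyy, one_mul])
  have hyz' : y ≠ z := by
    intro h1
    rw [h1, h.z_sq] at hyy
    exact h.z_ne hyy.symm
  have hord : orderOf y = 4 := by
    have : orderOf y = 2 ^ 2 := by
      refine orderOf_eq_prime_pow (p := 2) (n := 1) ?_ ?_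
      · rw [pow_one, pow_two, hyy]; exact h.z_ne
      · rw [show (2 : ℕ) ^ (1 + 1) = 2 * 2 from rfl, pow_mul, pow_two y, hyy, pow_two]; exact h.z_sq
    simpa using this
  have hRy : zpowers y = R := by
    apply Subgroup.eq_of_le_of_card_ge
    · rw [zpowers_le]; exact hy
    · rw [h4, Nat.card_zpowers, hord]
  rw [← hRy] at hx
  obtain ⟨n, hn⟩ := mem_powers_iff_mem_zpowers.2 hx
  have hn' : y ^ n = x := hn
  rw [← hn']
  clear hn hn' hx
  induction n with
  | zero => left; rw [pow_zero]
  | succ n ih =>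
    rw [pow_succ']
    rcases ih with h1 | h1 | h1 | h1 <;> rw [h1]
    · right; right; left; rw [mul_one]
    · right; right; right; rfl
    · right; left; exact hyy
    · left; rw [← mul_assoc, hyy, h.z_sq]

/-- `|R| = 4`, `K = Q ≠ R` gives `Symp`. -/
theorem symp [Finite G] (h : Big Q K R z) (h4 : Nat.card R = 4) (hKQ : K = Q) (hKR : K ≠ R) :
    ∃ u, Symp Q z u := by
  obtain ⟨y, hy, hyy⟩ := h.exists_y
  have hR := fun x hx => h.mem_R_four h4 hy hyy (x := x) hx
  have hyz : y * z = z * y := by rw [← hyy, mul_assoc]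
  have hzz := h.z_sq
  refine ⟨y, ⟨h.KQ (h.RK hy), hyy, h.z_ne, h.z_sq, ?_, h.nQ, ?_, ?_, ?_, h.core, ?_⟩⟩
  · intro x hx
    rw [← hKQ] at hx
    exact (h.comm_RK y hy x hx).symm
  · intro x hx
    rw [← hKQ] at hx
    obtain ⟨r, hr, h1⟩ := h.sq x hx
    rw [h1]
    rcases hR r hr with rfl | rfl | rfl | rfl
    · left; rw [mul_one]
    · left; exact hzz
    · right; exact hyy
    · right
      calc y * z * (y * z) = y * (z * y) * z := by group
        _ = (y * y) * (z * z) := by rw [← hyz]; group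
        _ = z := by rw [hyy, hzz, mul_one]
  · intro x hx w hw
    rw [← hKQ] at hx hw
    exact h.comm x hx w hw
  · intro g hg hc
    rw [← hKQ] at hc
    exact hR g (h.selfK g hg hc)
  · by_contra hcon
    push Not at hcon
    apply hKR
    apply le_antisymm _ h.RK
    intro x hx
    apply h.selfK x (h.Qz x (h.KQ hx))
    intro w hw
    exact hcon x (h.KQ hx) w (h.KQ hw)

/-- `|R| = 4`, `K ≠ Q`: `Q` is extraspecial. -/
theorem four_extraspecial [Finite G] (h : Big Q K R z) (h4 : Nat.card R = 4) (hKQ : K ≠ Q) :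
    Cfsg.IsExtraspecial 2 Q := by
  classical
  obtain ⟨y, hy, hyy⟩ := h.exists_y
  have hR := fun x hx => h.mem_R_four h4 hy hyy (x := x) hx
  have hyz : y * z = z * y := by rw [← hyy, mul_assoc]
  have hzz := h.z_sq
  have hyi : y⁻¹ = y * z := by rw [inv_eq_iff_mul_eq_one, ← mul_assoc, hyy, hzz]
  have hy1 : y ≠ 1 := by rintro rfl; exact h.z_ne (by rw [← hyy, one_mul])
  have hyz' : y ≠ z := by
    intro h1
    rw [h1, hzz] at hyy
    exact h.z_ne hyy.symm
  have hQz := h.Qz
  -- elements outside `K` invert `y`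
  have hinv : ∀ q ∈ Q, q ∉ K → q * y * q⁻¹ = y * z := by
    intro q hq hqK
    have h1 := h.nR q (hQz q hq) y hy
    have h2 : (q * y * q⁻¹) * (q * y * q⁻¹) = z := by
      calc (q * y * q⁻¹) * (q * y * q⁻¹) = q * (y * y) * q⁻¹ := by group
        _ = z := by rw [hyy, hQz q hq]; group
    rcases hR _ h1 with h3 | h3 | h3 | h3
    · rw [h3, one_mul] at h2; exact absurd h2.symm h.z_ne
    · rw [h3, hzz] at h2; exact absurd h2.symm h.z_ne
    · exfalso
      apply hqK
      have h5 : y * q = q * y := by rw [mul_inv_eq_iff_eq_mul] at h3; exact h3.symm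
      apply h.mem_K q hq
      intro r hr
      rcases hR r hr with rfl | rfl | rfl | rfl
      · rw [one_mul, mul_one]
      · exact (hQz q hq).symm
      · exact h5
      · rw [mul_assoc, ← hQz q hq, ← mul_assoc, h5, mul_assoc]
    · exact h3
  have hcen : ∀ q ∈ Q, y * q = q * y → q ∈ K := by
    intro q hq h1
    by_contra h2
    have h3 := hinv q hq h2
    rw [← h1, mul_inv_cancel_right] at h3
    exact h.ne_mul y h3
  have sqK : ∀ x ∈ K, x * x = 1 ∨ x * x = z := by
    intro x hx
    obtain ⟨r, hr, h1⟩ := h.sq x hx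
    rw [h1]
    rcases hR r hr with rfl | rfl | rfl | rfl
    · left; rw [mul_one]
    · left; exact hzz
    · right; exact hyy
    · right
      calc y * z * (y * z) = y * (z * y) * z := by group
        _ = (y * y) * (z * z) := by rw [← hyz]; group
        _ = z := by rw [hyy, hzz, mul_one]
  -- commutators with `K`
  have c1 : ∀ q ∈ Q, ∀ x ∈ K, q * x * q⁻¹ = x ∨ q * x * q⁻¹ = x * z := by
    intro q hq x hx
    have h1 := h.comm' q hq x hx
    set r := q * x * q⁻¹ * x⁻¹ with hr
    have h2 : q * x * q⁻¹ = r * x := by rw [hr]; group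
    have hrx := h.comm_RK r h1 x hx
    have h3 : r * r = 1 := by
      have h5 : q * (x * x) * q⁻¹ = x * x := by
        rcases sqK x hx with h6 | h6 <;> rw [h6]
        · group
        · rw [hQz q hq]; group
      have h6 : q * (x * x) * q⁻¹ = (q * x * q⁻¹) * (q * x * q⁻¹) := by group
      rw [h6, h2] at h5
      have h7 : r * x * (r * x) = (r * r) * (x * x) := by
        calc r * x * (r * x) = r * (x * r) * x := by group
          _ = (r * r) * (x * x) := by rw [← hrx]; group
      rw [h7] at h5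
      exact mul_eq_right.1 h5
    rcases h.uniq r h1 h3 with h5 | h5
    · left; rw [h2, h5, one_mul]
    · right; rw [h2, h5, ← hQz x (h.KQ hx)]
  -- squares outside `K`
  have zq : ∀ q ∈ Q, q * z * q⁻¹ = z := by
    intro q hq; rw [hQz q hq]; group
  have hsqK : ∀ q ∈ Q, q * q ∈ K := by
    intro q hq
    by_cases hqK : q ∈ K
    · exact K.mul_mem hqK hqK
    · apply hcen _ (Q.mul_mem hq hq)
      have h1 := hinv q hq hqK
      have h2 : q * q * y * (q * q)⁻¹ = y := by
        calc q * q * y * (q * q)⁻¹ = q * (q * y * q⁻¹) * q⁻¹ := by group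
          _ = q * (y * z) * q⁻¹ := by rw [h1]
          _ = (q * y * q⁻¹) * (q * z * q⁻¹) := by group
          _ = y := by rw [h1, zq q hq, mul_assoc, hzz, mul_one]
      rw [mul_inv_eq_iff_eq_mul] at h2
      exact h2.symm
  have sqQ : ∀ q ∈ Q, q * q = 1 ∨ q * q = z := by
    intro q hq
    by_cases hqK : q ∈ K
    · exact sqK q hqK
    · have h1 : q * q ∈ R := by
        apply h.selfK _ (hQz _ (Q.mul_mem hq hq))
        intro x hx
        have h2 : q * q * x * (q * q)⁻¹ = x := by
          have e : q * q * x * (q * q)⁻¹ = q * (q * x * q⁻¹) * q⁻¹ := by group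
          rw [e]
          rcases c1 q hq x hx with h3 | h3
          · rw [h3, h3]
          · calc q * (q * x * q⁻¹) * q⁻¹ = q * (x * z) * q⁻¹ := by rw [h3]
              _ = (q * x * q⁻¹) * (q * z * q⁻¹) := by group
              _ = x := by rw [h3, zq q hq, mul_assoc, hzz, mul_one]
        rw [mul_inv_eq_iff_eq_mul] at h2
        exact h2
      have key : q * q ≠ y ∧ q * q ≠ y * z := by
        constructor
        · intro h2
          apply hqK
          apply hcen q hq
          rw [← h2]; group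
        · intro h2
          apply hqK
          apply hcen q hq
          have h3 : (y * z) * q = q * (y * z) := by rw [← h2]; group
          have h5 : y = (y * z) * z := by rw [mul_assoc, hzz, mul_one]
          rw [h5, mul_assoc, ← hQz q hq, ← mul_assoc, h3, mul_assoc]
      rcases hR _ h1 with h2 | h2 | h2 | h2
      · exact Or.inl h2
      · exact Or.inr h2
      · exact absurd h2 key.1
      · exact absurd h2 key.2
  obtain ⟨q₀, hq₀, hq₀K⟩ : ∃ q ∈ Q, q ∉ K := by
    by_contra hcon
    push Not at hcon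
    exact hKQ (le_antisymm h.KQ hcon)
  have hyQ : y ∈ Q := h.KQ (h.RK hy)
  have hzQ : z ∈ Q := h.KQ (h.RK h.zR)
  have hcenter : ∀ x : Q, x ∈ center Q ↔ (x : G) = 1 ∨ (x : G) = z := by
    intro x
    rw [mem_center_iff]
    constructor
    · intro hx
      have hx' : ∀ w ∈ Q, w * x = x * w := fun w hw => congrArg Subtype.val (hx ⟨w, hw⟩)
      have h1 : (x : G) ∈ R := h.selfK _ (hQz _ x.2) fun w hw => (hx' w (h.KQ hw)).symm
      rcases hR _ h1 with h2 | h2 | h2 | h2
      · exact Or.inl h2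
      · exact Or.inr h2
      · exfalso
        apply hq₀K
        apply hcen q₀ hq₀
        rw [← h2]; exact (hx' q₀ hq₀).symm
      · exfalso
        apply hq₀K
        apply hcen q₀ hq₀
        have h3 := hx' q₀ hq₀
        rw [h2] at h3
        have h5 : y = (y * z) * z := by rw [mul_assoc, hzz, mul_one]
        rw [h5, mul_assoc, ← hQz q₀ hq₀, ← mul_assoc, ← h3, mul_assoc]
    · intro hx w
      apply Subtype.ext
      show (w : G) * x = x * w
      rcases hx with hx | hx <;> rw [hx]
      · rw [mul_one, one_mul]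
      · exact hQz w w.2
  refine Cfsg.Agent.J2.ExtQuot.isExtraspecial_two h.pgrp ?_ ?_ ⟨⟨q₀, hq₀⟩, ⟨y, hyQ⟩, ?_⟩
  · have hzc : (⟨z, hzQ⟩ : Q) ∈ center Q := (hcenter _).2 (Or.inr rfl)
    rw [Nat.card_eq_two_iff]
    refine ⟨1, ⟨⟨z, hzQ⟩, hzc⟩, ?_, ?_⟩
    · intro he
      apply h.z_ne
      exact (congrArg (fun t : center Q => ((t : Q) : G)) he).symm
    · ext x
      simp only [Set.mem_insert_iff, Set.mem_singleton_iff, Set.mem_univ, iff_true]
      rcases (hcenter _).1 x.2 with hx | hx
      · left; exact Subtype.ext (Subtype.ext hx)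
      · right; exact Subtype.ext (Subtype.ext hx)
  · intro x
    rw [hcenter, pow_two]
    exact sqQ x x.2
  · intro he
    have h1 : q₀ * y = y * q₀ := congrArg Subtype.val he
    exact hq₀K (hcen q₀ hq₀ h1.symm)

/-- If `K = R`, `C(z)` is a 2-group. -/
theorem isPGroup_centralizer [Finite G] (h : Big Q K R z) (hKR : K = R) :
    IsPGroup 2 (centralizer ({z} : Set G)) := by
  classical
  have : Fact (Nat.Prime 2) := ⟨Nat.prime_two⟩
  set C := centralizer ({z} : Set G) with hC
  have memC : ∀ g, g ∈ C ↔ g * z = z * g := fun g => mem_centralizer_singleton_iff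
  have hRC : R ≤ C := fun x hx => (memC x).2 (h.Qz x (h.KQ (h.RK hx)))
  have hRn : (R.subgroupOf C).Normal := by
    constructor
    intro x hx g
    rw [mem_subgroupOf] at hx ⊢
    exact h.nR g ((memC g).1 g.2) x hx
  obtain ⟨c, hc, hgen⟩ := h.exists_gen
  obtain ⟨-, n, hn, hcard, hn2⟩ := h.R_eq hc hgen
  have e : (R.subgroupOf C) ≃* R := subgroupOfEquivOfLe hRC
  have hcyc : IsCyclic (R.subgroupOf C) := by
    have := h.cyc
    exact isCyclic_of_surjective e.symm e.symm.surjective
  have hcard' : Nat.card (R.subgroupOf C) = 2 ^ n := by rw [Nat.card_congr e.toEquiv, hcard]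
  let ρ : C →* MulAut (R.subgroupOf C) := MulAut.conjNormal
  have hker : ρ.ker ≤ R.subgroupOf C := by
    intro g hg
    rw [mem_subgroupOf]
    apply h.selfK g ((memC g).1 g.2)
    intro x hx
    rw [hKR] at hx
    have h1 : ρ g = 1 := hg
    have h2 : ((ρ g ⟨⟨x, hRC hx⟩, hx⟩ : R.subgroupOf C) : C) = ⟨x, hRC hx⟩ := by rw [h1]; rfl
    have h3 : ((ρ g ⟨⟨x, hRC hx⟩, hx⟩ : R.subgroupOf C) : C) = g * ⟨x, hRC hx⟩ * g⁻¹ := rfl
    rw [h3] at h2
    have h4 := congrArg Subtype.val h2
    have h5 : (g : G) * x * (g : G)⁻¹ = x := h4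
    rw [mul_inv_eq_iff_eq_mul] at h5
    exact h5
  have hkp : IsPGroup 2 ρ.ker := by
    have h1 : IsPGroup 2 (R.subgroupOf C) := IsPGroup.of_card hcard'
    exact h1.to_le hker
  have hrange : IsPGroup 2 ρ.range := by
    have h1 : Nat.card (MulAut (R.subgroupOf C)) = 2 ^ (n - 1) := by
      rw [Nat.card_congr (IsCyclic.mulAutMulEquiv (R.subgroupOf C)).toEquiv, hcard', Nat.card_eq_fintype_card,
        ZMod.card_units_eq_totient, Nat.totient_prime_pow Nat.prime_two (by omega)]
      simp
    exact (IsPGroup.of_card h1).to_subgroup _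
  intro g
  obtain ⟨k, hk⟩ := hrange ⟨ρ g, g, rfl⟩
  have h1 : g ^ (2 ^ k) ∈ ρ.ker := by
    rw [MonoidHom.mem_ker, map_pow]
    exact congrArg Subtype.val hk
  obtain ⟨l, hl⟩ := hkp ⟨_, h1⟩
  refine ⟨k + l, ?_⟩
  rw [pow_add, pow_mul]
  exact congrArg Subtype.val hl

end Big

end Cfsg.Agent.ClassificationK.SymplFront
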