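import Cfsg.Agent.ClassificationK.SymplSylow
import Cfsg.Agent.ClassificationK.SymplTransfer

/-!
# Step 1 of S1758: the isolated case (helper577)

`F : Fam D Q u`, `z ∈ D`, no member of `D` other than `z` commutes with `u z`, and some `t ∈ D`, `t ≠ z` commutes with
`z`. Then `G` is not simple (`isolated_false`).
-/

set_option autoImplicit false

namespace Cfsg.Agent.ClassificationK.SymplSetup

variable {G : Type*} [Group G]

namespace Fam

variable {D : Set G} {Q : G → Subgroup G} {u : G → G}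

/-- Type B: `g ∈ C(t)` induces `±1` on `⟨u t⟩`. If `x` commutes with `t` then `x * x` centralises `u t`. -/
theorem sq_comm_u (F : Fam D Q u) {t x : G} (ht : t ∈ D) (hx : x * t = t * x) : x * x * u t = u t * (x * x) := by
  have lt := F.loc t ht
  rcases F.conj_u ht hx with h | h
  · rw [mul_assoc, h, ← mul_assoc, h, mul_assoc]
  · have h2 : x * t * x⁻¹ = t := by rw [hx]; group
    have : x * x * u t * (x * x)⁻¹ = u t := by
      calc x * x * u t * (x * x)⁻¹ = x * (x * u t * x⁻¹) * x⁻¹ := by group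
        _ = x * (u t * t) * x⁻¹ := by rw [h]
        _ = (x * u t * x⁻¹) * (x * t * x⁻¹) := by group
        _ = u t * t * t := by rw [h, h2]
        _ = u t := by rw [mul_assoc, lt.z_sq, mul_one]
    rw [mul_inv_eq_iff_eq_mul] at this
    exact this

/-- Commutators of elements of `C(t)` centralise `u t`. -/
theorem comm_comm_u (F : Fam D Q u) {t x y : G} (ht : t ∈ D) (hx : x * t = t * x) (hy : y * t = t * y) :
    (x⁻¹ * y⁻¹ * x * y) * u t = u t * (x⁻¹ * y⁻¹ * x * y) := by
  have h1 : x⁻¹ * y⁻¹ * x * y = (x⁻¹ * x⁻¹) * ((x * y⁻¹) * (x * y⁻¹)) * (y * y) := by group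
  have hx' : x⁻¹ * t = t * x⁻¹ := by
    rw [inv_mul_eq_iff_eq_mul, ← mul_assoc, hx, mul_assoc, mul_inv_cancel, mul_one]
  have hy' : y⁻¹ * t = t * y⁻¹ := by
    rw [inv_mul_eq_iff_eq_mul, ← mul_assoc, hy, mul_assoc, mul_inv_cancel, mul_one]
  have hxy : x * y⁻¹ * t = t * (x * y⁻¹) := by rw [mul_assoc, hy', ← mul_assoc, hx, mul_assoc]
  have c1 := F.sq_comm_u ht hx'
  have c2 := F.sq_comm_u ht hxy
  have c3 := F.sq_comm_u ht hy
  rw [h1]
  have C1 : Commute (x⁻¹ * x⁻¹) (u t) := c1
  have C2 : Commute ((x * y⁻¹) * (x * y⁻¹)) (u t) := c2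
  have C3 : Commute (y * y) (u t) := c3
  exact ((C1.mul_left C2).mul_left C3).eq

/-- (B) If `t` is of type B with respect to `z`, `C_{Q z}(t)` has exponent two. -/
theorem sq_of_typeB (F : Fam D Q u) {z t x : G} (ht : t ∈ D) (hz : z ∈ D)
    (hB : z * u t * z⁻¹ = u t * t) (hx : x ∈ Q z) (hxt : x * t = t * x) : x * x = 1 := by
  rcases (F.loc z hz).sq x hx with h | h
  · exact h
  · exfalso
    have h1 := F.sq_comm_u ht hxt
    rw [h] at h1
    have h2 : z * u t * z⁻¹ = u t := by rw [h1]; group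
    rw [h2] at hB
    exact (F.loc t ht).z_ne (mul_eq_left.1 hB.symm)

/-- (B) If `t` is of type B with respect to `z`, `C_{Q z}(t)` is abelian. -/
theorem comm_of_typeB (F : Fam D Q u) {z t x y : G} (ht : t ∈ D) (hz : z ∈ D)
    (hB : z * u t * z⁻¹ = u t * t) (hx : x ∈ Q z) (hxt : x * t = t * x) (hy : y ∈ Q z)
    (hyt : y * t = t * y) : x * y = y * x := by
  have lz := F.loc z hz
  rcases lz.comm x hx y hy with h | h
  · exact h
  · exfalso
    have h1 := F.comm_comm_u ht hxt hyt
    have h2 : x⁻¹ * y⁻¹ * x * y = z := by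
      have e : x⁻¹ * y⁻¹ * x * y = (y * x)⁻¹ * (x * y) := by group
      rw [e, h]; group
    rw [h2] at h1
    have h2 : z * u t * z⁻¹ = u t := by rw [h1]; group
    rw [h2] at hB
    exact (F.loc t ht).z_ne (mul_eq_left.1 hB.symm)

end Fam

theorem zmod_two_eq_one : ∀ a : ZMod 2, a ≠ 0 → a = 1 := by decide

theorem zmod_two_one_add : (1 : ZMod 2) + 1 = 0 := by decide

/-- **Step 1.** -/
theorem isolated_false [Finite G] [IsSimpleGroup G] (hG : ¬ IsMulCommutative G) {D : Set G}
    {Q : G → Subgroup G} {u : G → G} (F : Fam D Q u) {z : G}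
    (hz : z ∈ D) (hiso : ∀ a ∈ D, a * u z = u z * a → a = z) {t : G} (ht : t ∈ D) (htz : t * z = z * t)
    (hne : t ≠ z) : False := by
  classical
  have : Fact (Nat.Prime 2) := ⟨Nat.prime_two⟩
  have lz := F.loc z hz
  have lt := F.loc t ht
  set U := u z with hU
  have tt : t * t = 1 := lt.z_sq
  have tinv : t⁻¹ = t := lt.z_inv
  -- only type B
  have typeB : ∀ t ∈ D, t * z = z * t → t ≠ z → t * U * t⁻¹ = U * z ∧ z * u t * z⁻¹ = u t * t := by
    intro t ht htz hne
    rcases F.typeA_or_typeB ht hz hne htz with h | h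
    · exfalso
      exact hne (hiso t ht (F.comm_u_left ht h))
    · exact h
  obtain ⟨hBt, hBz⟩ := typeB t ht htz hne
  have htU : t * U * t = U * z := by rw [tinv] at hBt; exact hBt
  have htQ : t ∉ Q z := by
    intro h
    have h1 := lz.comm_u t h
    rw [h1, mul_assoc, tt, mul_one] at htU
    exact lz.z_ne (mul_eq_left.1 htU.symm)
  have htconj : ∀ q ∈ Q z, t * q * t ∈ Q z := by
    intro q hq
    have := lz.conj_mem t htz q hq
    rwa [tinv] at this
  -- `C_Q(t)` is elementary abelian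
  have Xsq : ∀ x ∈ Q z, x * t = t * x → x * x = 1 := fun x hx hxt => F.sq_of_typeB ht hz hBz hx hxt
  have Xcomm : ∀ x ∈ Q z, x * t = t * x → ∀ y ∈ Q z, y * t = t * y → x * y = y * x :=
    fun x hx hxt y hy hyt => F.comm_of_typeB ht hz hBz hx hxt hy hyt
  have hDQ : ∀ a ∈ D, a ∈ Q z → a = z := fun a ha haQ => hiso a ha (lz.comm_u a haQ)
  -- `(x U) (x U) = z (x x)`
  have sqU : ∀ x ∈ Q z, (x * U) * (x * U) = x * x * z := by
    intro x hx
    calc (x * U) * (x * U) = x * (U * x) * U := by group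
      _ = x * x * (U * U) := by rw [← lz.comm_u x hx]; group
      _ = x * x * z := by rw [lz.u_sq]
  -- elements of `Q` with `q t q t = 1`, `q² = 1`, `t q ∈ D` are `1` or `z`
  have small : ∀ q ∈ Q z, q * q = 1 → t * q * t = q⁻¹ → t * q ∈ D → q = 1 ∨ q = z := by
    intro q hq hqq htq hD
    have hqi : q⁻¹ = q := inv_eq_of_mul_eq_one_left hqq
    rw [hqi] at htq
    have hc : t * (t * q) = (t * q) * t := by
      rw [htq, ← mul_assoc, tt, one_mul]
    by_cases h1 : t = t * q
    · left; exact (mul_eq_left.1 h1.symm)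
    · right
      have h2 := F.mul_mem ht hD h1 hc
      rw [← mul_assoc, tt, one_mul] at h2
      exact hDQ q h2 hq
  -- `k q = t q⁻¹ t q`
  have kmem : ∀ q ∈ Q z, t * q⁻¹ * t * q ∈ Q z := fun q hq => mul_mem (htconj _ (inv_mem hq)) hq
  have kD : ∀ q, t * (t * q⁻¹ * t * q) ∈ D := by
    intro q
    have h1 := F.conj_mem t ht q⁻¹
    have e : t * (t * q⁻¹ * t * q) = q⁻¹ * t * q⁻¹⁻¹ := by
      calc t * (t * q⁻¹ * t * q) = (t * t) * q⁻¹ * t * q := by group
        _ = q⁻¹ * t * q⁻¹⁻¹ := by rw [tt]; group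
    rw [e]; exact h1
  have kinv : ∀ q, t * (t * q⁻¹ * t * q) * t = (t * q⁻¹ * t * q)⁻¹ := by
    intro q
    rw [eq_comm, inv_eq_iff_mul_eq_one]
    calc (t * q⁻¹ * t * q) * (t * (t * q⁻¹ * t * q) * t) = t * q⁻¹ * t * q * (t * t) * q⁻¹ * t * q * t := by group
      _ = 1 := by
        rw [tt, mul_one]
        calc t * q⁻¹ * t * q * q⁻¹ * t * q * t = t * q⁻¹ * (t * t) * q * t := by group
          _ = 1 := by rw [tt]; simp [tt]
  have k1 : ∀ q ∈ Q z, (t * q⁻¹ * t * q) * (t * q⁻¹ * t * q) = 1 →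
      (t * q⁻¹ * t * q = 1 ∨ t * q⁻¹ * t * q = z) := by
    intro q hq h1
    exact small _ (kmem q hq) h1 (kinv q) (kD q)
  -- if `k² = z` and `t` inverts `k` then `k U` commutes with `t`
  have kU : ∀ k ∈ Q z, k * k = z → t * k * t = k⁻¹ → (k * U) * t = t * (k * U) := by
    intro k hk hkk htk
    have h1 : t * (k * U) * t = k * U := by
      calc t * (k * U) * t = (t * k * t) * (t⁻¹ * U * t) := by group
        _ = k⁻¹ * (U * z) := by rw [htk, tinv, htU]
        _ = k⁻¹ * (U * (k * k)) := by rw [hkk]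
        _ = k⁻¹ * ((U * k) * k) := by group
        _ = k⁻¹ * ((k * U) * k) := by rw [lz.comm_u k hk]
        _ = U * k := by group
        _ = k * U := (lz.comm_u k hk).symm
    calc (k * U) * t = (t * t) * (k * U) * t := by rw [tt, one_mul]
      _ = t * (t * (k * U) * t) := by group
      _ = t * (k * U) := by rw [h1]
  -- products of two such elements have square `1`
  have kk : ∀ k ∈ Q z, k * k = z → t * k * t = k⁻¹ → ∀ l ∈ Q z, l * l = z → t * l * t = l⁻¹ →
      (k * l) * (k * l) = 1 ∧ k * l = l * k := by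
    intro k hk hkk htk l hl hll htl
    have h1 := kU k hk hkk htk
    have h2 := kU l hl hll htl
    have hkU : k * U ∈ Q z := mul_mem hk lz.u_mem
    have hlU : l * U ∈ Q z := mul_mem hl lz.u_mem
    have h3 := Xcomm _ hkU h1 _ hlU h2
    have h4 : k * l = l * k := by
      have e1 : k * U * (l * U) = k * l * z := by
        calc k * U * (l * U) = k * (U * l) * U := by group
          _ = k * l * (U * U) := by rw [← lz.comm_u l hl]; group
          _ = k * l * z := by rw [lz.u_sq]
      have e2 : l * U * (k * U) = l * k * z := by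
        calc l * U * (k * U) = l * (U * k) * U := by group
          _ = l * k * (U * U) := by rw [← lz.comm_u k hk]; group
          _ = l * k * z := by rw [lz.u_sq]
      rw [e1, e2] at h3
      exact mul_right_cancel h3
    refine ⟨?_, h4⟩
    calc (k * l) * (k * l) = k * (l * k) * l := by group
      _ = k * (k * l) * l := by rw [h4]
      _ = (k * k) * (l * l) := by group
      _ = 1 := by rw [hkk, hll, lz.z_sq]
  -- some `q₀` with `k(q₀)² = z`
  have hex : ∃ q ∈ Q z, (t * q⁻¹ * t * q) * (t * q⁻¹ * t * q) = z := by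
    by_contra hcon
    push Not at hcon
    apply htQ
    have htC : t ∈ Subgroup.centralizer ({z} : Set G) := Subgroup.mem_centralizer_singleton_iff.2 htz
    apply lz.mem_of_act ⟨t, htC⟩
    ext v
    obtain ⟨q, rfl⟩ := lz.pr_surjective v
    have h1 := k1 q q.2 ((lz.sq _ (kmem q q.2)).resolve_right (hcon q q.2))
    have e : t * (q : G) * t = q * (t * (q : G)⁻¹ * t * q)⁻¹ := by
      calc t * (q : G) * t = q * ((q : G)⁻¹ * (t * q * t)) := by group
        _ = q * ((t * (q : G)⁻¹ * t * q)⁻¹) := by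
          congr 1
          have : (t * (q : G)⁻¹ * t * q)⁻¹ = (q : G)⁻¹ * (t⁻¹ * q * t⁻¹) := by group
          rw [this, tinv]
    show lz.act ⟨t, htC⟩ (lz.pr q) = lz.pr q
    rw [lz.act_pr, lz.pr_eq_pr, lz.conjQ_coe]
    show t * (q : G) * t⁻¹ = _ ∨ _
    rw [tinv, e]
    rcases h1 with h1 | h1 <;> rw [h1]
    · left; group
    · right; left; rw [lz.z_inv]
  obtain ⟨q₀, hq₀, hk₀⟩ := hex
  set k := t * q₀⁻¹ * t * q₀ with hk
  have hkQ : k ∈ Q z := kmem q₀ hq₀
  have htk : t * k * t = k⁻¹ := kinv q₀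
  have kinvz : k⁻¹ = k * z := by
    rw [inv_eq_iff_mul_eq_one, ← mul_assoc, hk₀, lz.z_sq]
  have kz : k * z = z * k := lz.comm_z k hkQ
  -- membership in `N₀ = {1, z, k, k z}`
  let N0 : G → Prop := fun x => x = 1 ∨ x = z ∨ x = k ∨ x = k * z
  have N0_of : ∀ l ∈ Q z, l * l = z → t * l * t = l⁻¹ → (k * l = 1 ∨ k * l = z) → N0 l := by
    intro l hl hll htl h
    rcases h with h | h
    · right; right; right
      rw [← kinvz, eq_inv_iff_mul_eq_one, (kk k hkQ hk₀ htk l hl hll htl).2.symm, h]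
    · right; right; left
      calc l = k⁻¹ * (k * l) := by group
        _ = k * z * z := by rw [h, kinvz]
        _ = k := by rw [mul_assoc, lz.z_sq, mul_one]
  -- all `k(q)` are in `N₀`
  have kN0 : ∀ q ∈ Q z, N0 (t * q⁻¹ * t * q) := by
    intro q hq
    rcases lz.sq _ (kmem q hq) with h1 | h1
    · rcases k1 q hq h1 with h2 | h2
      · exact Or.inl h2
      · exact Or.inr (Or.inl h2)
    · -- `k(q q₀)`
      set l := t * q⁻¹ * t * q with hl
      have hlQ : l ∈ Q z := kmem q hq
      have htl : t * l * t = l⁻¹ := kinv q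
      apply N0_of l hlQ h1 htl
      obtain ⟨h2, h3⟩ := kk k hkQ hk₀ htk l hlQ h1 htl
      -- `k(q q₀) = k * (q₀⁻¹ l q₀)`
      have e : t * (q * q₀)⁻¹ * t * (q * q₀) = k * (q₀⁻¹ * l * q₀) := by
        rw [hk, hl]
        calc t * (q * q₀)⁻¹ * t * (q * q₀) = t * q₀⁻¹ * (q⁻¹ * t * q) * q₀ := by group
          _ = t * q₀⁻¹ * ((t * t) * (q⁻¹ * t * q)) * q₀ := by rw [tt, one_mul]
          _ = t * q₀⁻¹ * t * q₀ * (q₀⁻¹ * (t * q⁻¹ * t * q) * q₀) := by group
      have h4 : q₀⁻¹ * l * q₀ = l ∨ q₀⁻¹ * l * q₀ = l * z := by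
        rcases lz.comm l hlQ q₀ hq₀ with h5 | h5
        · left; rw [mul_assoc, h5]; group
        · right; rw [mul_assoc, h5]; group
      have hklz : k * l * z = z * (k * l) := lz.comm_z _ (mul_mem hkQ hlQ)
      have h5 : t * (q * q₀)⁻¹ * t * (q * q₀) = 1 ∨ t * (q * q₀)⁻¹ * t * (q * q₀) = z := by
        apply k1 _ (mul_mem hq hq₀)
        rw [e]
        rcases h4 with h4 | h4 <;> rw [h4]
        · exact h2
        · calc k * (l * z) * (k * (l * z)) = (k * l) * (z * (k * l)) * z := by group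
            _ = (k * l) * (k * l) * (z * z) := by rw [← hklz]; group
            _ = 1 := by rw [h2, lz.z_sq, one_mul]
      rw [e] at h5
      rcases h4 with h4 | h4 <;> rw [h4] at h5
      · exact h5
      · rw [← mul_assoc] at h5
        rcases h5 with h5 | h5
        · right
          calc k * l = k * l * z * z := by rw [mul_assoc (k * l), lz.z_sq, mul_one]
            _ = z := by rw [h5, one_mul]
        · left
          exact mul_eq_right.1 h5
  -- members of `D` in `t Q`
  have DtQ : ∀ q ∈ Q z, t * q ∈ D → N0 q := by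
    intro q hq hD
    have htq : t * q * t = q⁻¹ := by
      have h1 := (F.loc _ hD).z_sq
      rw [eq_inv_iff_mul_eq_one]
      calc t * q * t * q = t * q * (t * q) := by group
        _ = 1 := h1
    rcases lz.sq q hq with h1 | h1
    · rcases small q hq h1 htq hD with h2 | h2
      · exact Or.inl h2
      · exact Or.inr (Or.inl h2)
    · apply N0_of q hq h1 htq
      obtain ⟨h2, h3⟩ := kk k hkQ hk₀ htk q hq h1 htq
      -- conjugate `t q` by `q₀`
      have h4 : q₀⁻¹ * q * q₀ = q ∨ q₀⁻¹ * q * q₀ = q * z := by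
        rcases lz.comm q hq q₀ hq₀ with h5 | h5
        · left; rw [mul_assoc, h5]; group
        · right; rw [mul_assoc, h5]; group
      have h5 : t * (k * (q₀⁻¹ * q * q₀)) ∈ D := by
        have h6 := F.conj_mem _ hD q₀⁻¹
        have e : t * (k * (q₀⁻¹ * q * q₀)) = q₀⁻¹ * (t * q) * q₀⁻¹⁻¹ := by
          rw [hk]
          calc t * (t * q₀⁻¹ * t * q₀ * (q₀⁻¹ * q * q₀)) = (t * t) * q₀⁻¹ * t * q * q₀ := by group
            _ = q₀⁻¹ * (t * q) * q₀⁻¹⁻¹ := by rw [tt]; group
        rw [e]; exact h6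
      have hkqz : k * q * z = z * (k * q) := lz.comm_z _ (mul_mem hkQ hq)
      have h7 : t * (k * q) * t = (k * q)⁻¹ := by
        calc t * (k * q) * t = (t * k * t) * (t⁻¹ * q * t) := by group
          _ = k⁻¹ * q⁻¹ := by rw [htk, tinv, htq]
          _ = (q * k)⁻¹ := by group
          _ = (k * q)⁻¹ := by rw [h3]
      rcases h4 with h4 | h4 <;> rw [h4] at h5
      · exact small _ (mul_mem hkQ hq) h2 h7 h5
      · have h8 : (k * (q * z)) * (k * (q * z)) = 1 := by
          calc k * (q * z) * (k * (q * z)) = (k * q) * (z * (k * q)) * z := by group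
            _ = (k * q) * (k * q) * (z * z) := by rw [← hkqz]; group
            _ = 1 := by rw [h2, lz.z_sq, one_mul]
        have h9 : t * (k * (q * z)) * t = (k * (q * z))⁻¹ := by
          have hzt : t * z * t = z := by rw [htz, mul_assoc, tt, mul_one]
          calc t * (k * (q * z)) * t = (t * (k * q) * t) * (t⁻¹ * z * t) := by group
            _ = (k * q)⁻¹ * z := by rw [h7, tinv, hzt]
            _ = (z * (k * q))⁻¹ := by rw [mul_inv_rev z, lz.z_inv]
            _ = (k * (q * z))⁻¹ := by rw [← hkqz]; group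
        rcases small _ (mul_mem hkQ (mul_mem hq lz.z_mem)) h8 h9 h5 with h10 | h10
        · right
          calc k * q = k * (q * z) * z := by
                rw [mul_assoc k, mul_assoc q, lz.z_sq, mul_one]
            _ = z := by rw [h10, one_mul]
        · left
          rw [← mul_assoc] at h10
          exact mul_eq_right.1 h10
  -- `N₀` as a subgroup
  have hN0 : ∀ x, N0 x ↔ x ∈ Subgroup.zpowers k := by
    intro x
    constructor
    · have hz' : z ∈ Subgroup.zpowers k := by
        rw [← hk₀]; exact Subgroup.mul_mem _ (Subgroup.mem_zpowers k) (Subgroup.mem_zpowers k)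
      rintro (rfl | rfl | rfl | rfl)
      · exact Subgroup.one_mem _
      · exact hz'
      · exact Subgroup.mem_zpowers k
      · exact Subgroup.mul_mem _ (Subgroup.mem_zpowers k) hz'
    · intro hx
      obtain ⟨n, hn⟩ := mem_powers_iff_mem_zpowers.2 hx
      have hn' : k ^ n = x := hn
      rw [← hn']
      clear hn hn' hx
      induction n with
      | zero => left; rw [pow_zero]
      | succ n ih =>
        rw [pow_succ']
        rcases ih with h | h | h | h <;> rw [h]
        · right; right; left; rw [mul_one]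
        · right; right; right; rfl
        · right; left; exact hk₀
        · left; rw [← mul_assoc, hk₀, lz.z_sq]
  have N0Q : ∀ x, N0 x → x ∈ Q z := by
    rintro x (rfl | rfl | rfl | rfl)
    · exact Subgroup.one_mem _
    · exact lz.z_mem
    · exact hkQ
    · exact Subgroup.mul_mem _ hkQ lz.z_mem
  have N0mul : ∀ x y, N0 x → N0 y → N0 (x * y) := by
    intro x y hx hy
    rw [hN0] at hx hy ⊢
    exact Subgroup.mul_mem _ hx hy
  have N0inv : ∀ x, N0 x → N0 x⁻¹ := by
    intro x hx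
    rw [hN0] at hx ⊢
    exact Subgroup.inv_mem _ hx
  have tzt : t * z * t = z := by rw [htz, mul_assoc, tt, mul_one]
  have N0t : ∀ x, N0 x → N0 (t * x * t) := by
    intro x hx
    have key : ∀ y, t * (k * y) * t = k⁻¹ * (t * y * t) := by
      intro y
      calc t * (k * y) * t = (t * k * t) * (t⁻¹ * y * t) := by group
        _ = _ := by rw [htk, tinv]
    rcases hx with rfl | rfl | rfl | rfl
    · left; rw [mul_one, tt]
    · right; left; exact tzt
    · rw [htk]; exact N0inv _ (Or.inr (Or.inr (Or.inl rfl)))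
    · rw [key, tzt]
      exact N0mul _ _ (N0inv _ (Or.inr (Or.inr (Or.inl rfl)))) (Or.inr (Or.inl rfl))
  have N0q : ∀ q ∈ Q z, ∀ x, N0 x → N0 (q⁻¹ * x * q) := by
    intro q hq x hx
    rcases lz.comm x (N0Q x hx) q hq with h | h
    · have : q⁻¹ * x * q = x := by rw [mul_assoc, h]; group
      rwa [this]
    · have : q⁻¹ * x * q = x * z := by rw [mul_assoc, h]; group
      rw [this]
      exact N0mul _ _ hx (Or.inr (Or.inl rfl))
  -- `[Q, t] ⊆ N₀`
  have A1 : ∀ q ∈ Q z, N0 (q⁻¹ * (t * q * t)) := by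
    intro q hq
    have h1 := N0inv _ (kN0 q hq)
    have e : (t * q⁻¹ * t * q)⁻¹ = q⁻¹ * (t⁻¹ * q * t⁻¹) := by group
    rw [e, tinv] at h1
    exact h1
  -- `t q t = q c`
  have tqt : ∀ q ∈ Q z, ∃ c, N0 c ∧ t * q * t = q * c := fun q hq =>
    ⟨_, A1 q hq, by group⟩
  -- the action on `V`
  have htC : t ∈ Subgroup.centralizer ({z} : Set G) := Subgroup.mem_centralizer_singleton_iff.2 htz
  let τ : Subgroup.centralizer ({z} : Set G) := ⟨t, htC⟩
  have hτ : ∀ q : Q z, ((lz.conjQ τ q : Q z) : G) = t * q * t := by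
    intro q
    show t * (q : G) * t⁻¹ = _
    rw [tinv]
  -- `k` is not in `⟨u⟩`
  have hkU1 : k ≠ U ∧ k ≠ U * z := by
    have hsq : (t * q₀ * t) * (t * q₀ * t) = q₀ * q₀ := by
      calc (t * q₀ * t) * (t * q₀ * t) = t * q₀ * (t * t) * q₀ * t := by group
        _ = t * (q₀ * q₀) * t := by rw [tt]; group
        _ = q₀ * q₀ := by
          rcases lz.sq q₀ hq₀ with h | h <;> rw [h]
          · rw [mul_one, tt]
          · exact tzt
    have e : t * q₀ * t = q₀ * k⁻¹ := by
      rw [hk]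
      have : (t * q₀⁻¹ * t * q₀)⁻¹ = q₀⁻¹ * (t⁻¹ * q₀ * t⁻¹) := by group
      rw [this, tinv]; group
    have h2 : k * q₀ = q₀ * k → False := by
      intro hc
      rw [e] at hsq
      apply lz.z_ne
      have hc' : k⁻¹ * q₀ = q₀ * k⁻¹ := by
        rw [inv_mul_eq_iff_eq_mul, ← mul_assoc, hc, mul_assoc, mul_inv_cancel, mul_one]
      have h3 : q₀ * k⁻¹ * (q₀ * k⁻¹) = q₀ * q₀ * (k * k)⁻¹ := by
        calc q₀ * k⁻¹ * (q₀ * k⁻¹) = q₀ * (k⁻¹ * q₀) * k⁻¹ := by group
          _ = q₀ * q₀ * (k * k)⁻¹ := by rw [hc']; group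
      rw [h3, hk₀, lz.z_inv] at hsq
      exact mul_eq_left.1 hsq
    constructor
    · intro h
      apply h2
      rw [h]; exact (lz.comm_u q₀ hq₀).symm
    · intro h
      apply h2
      rw [h, mul_assoc, ← lz.comm_z q₀ hq₀, ← mul_assoc, ← lz.comm_u q₀ hq₀, mul_assoc]
  have hk1 : k ≠ 1 := by
    intro h; rw [h, mul_one] at hk₀; exact lz.z_ne hk₀.symm
  have hkz : k ≠ z := by
    intro h; rw [h, lz.z_sq] at hk₀; exact lz.z_ne hk₀.symm
  set c₀ : lz.V := lz.pr ⟨k, hkQ⟩ with hc₀
  have hc₀ne : c₀ ≠ 0 := by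
    intro h
    rcases lz.pr_eq_zero.1 h with h | h | h | h
    · exact hk1 h
    · exact hkz h
    · exact hkU1.1 h
    · exact hkU1.2 h
  have prN0 : ∀ (x : Q z), N0 x → lz.pr x = 0 ∨ lz.pr x = c₀ := by
    rintro x (h | h | h | h)
    · left; exact lz.pr_eq_zero.2 (Or.inl h)
    · left; exact lz.pr_eq_zero.2 (Or.inr (Or.inl h))
    · right
      rw [hc₀, lz.pr_eq_pr]
      exact Or.inl h
    · right
      rw [hc₀, lz.pr_eq_pr]
      exact Or.inr (Or.inl h)
  set v₀ : lz.V := lz.pr ⟨q₀, hq₀⟩ with hv₀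
  have C3 : ∀ v, lz.act τ v = v ∨ lz.act τ v = v + c₀ := by
    intro v
    obtain ⟨q, rfl⟩ := lz.pr_surjective v
    obtain ⟨c, hc, h1⟩ := tqt q q.2
    have hcQ := N0Q c hc
    have h2 : lz.act τ (lz.pr q) = lz.pr q + lz.pr ⟨c, hcQ⟩ := by
      rw [← lz.pr_mul, lz.act_pr]
      congr 1
      apply Subtype.ext
      rw [hτ, h1]; rfl
    rcases prN0 ⟨c, hcQ⟩ hc with h3 | h3
    · left; rw [h2, h3, add_zero]
    · right; rw [h2, h3]
  have C4 : lz.act τ v₀ = v₀ + c₀ := by
    rw [hv₀, hc₀, lz.act_pr, ← lz.pr_mul, lz.pr_eq_pr]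
    right; left
    rw [hτ]
    show t * q₀ * t = q₀ * k * z
    have e : t * q₀ * t = q₀ * k⁻¹ := by
      rw [hk]
      have : (t * q₀⁻¹ * t * q₀)⁻¹ = q₀⁻¹ * (t⁻¹ * q₀ * t⁻¹) := by group
      rw [this, tinv]; group
    rw [e, kinvz]
    exact (mul_assoc _ _ _).symm
  have C5 : lz.act τ c₀ = c₀ := by
    rw [hc₀, lz.act_pr, lz.pr_eq_pr]
    right; left
    rw [hτ]
    show t * k * t = k * z
    rw [htk, kinvz]
  -- fixed vectors are represented in `C_Q(t)`
  have C1 : ∀ v, lz.act τ v = v → ∃ x : Q z, (x : G) * t = t * x ∧ lz.pr x = v := by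
    intro v hv
    obtain ⟨x, hxx, rfl⟩ := lz.exists_pr_eq v
    refine ⟨x, ?_, rfl⟩
    rw [lz.act_pr] at hv
    have h1 : ((lz.conjQ τ x : Q z) : G) * (lz.conjQ τ x : Q z) = 1 := by
      rw [hτ]
      calc (t * (x : G) * t) * (t * x * t) = t * x * (t * t) * x * t := by group
        _ = t * (x * x) * t := by rw [tt]; group
        _ = 1 := by rw [hxx, mul_one, tt]
    rcases lz.eq_or_of_pr_eq h1 hxx hv with h2 | h2
    · rw [hτ] at h2
      calc (x : G) * t = (t * x * t) * t := by rw [h2]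
        _ = t * x := by rw [mul_assoc, tt, mul_one]
    · exfalso
      rw [hτ] at h2
      -- `x U` commutes with `t` and has square `z`
      have h3 : (x * U) * t = t * (x * U) := by
        have h4 : t * (x * U) * t = x * U := by
          calc t * ((x : G) * U) * t = (t * x * t) * (t⁻¹ * U * t) := by group
            _ = x * z * (U * z) := by rw [h2, tinv, htU]
            _ = x * (z * U) * z := by group
            _ = x * U * (z * z) := by rw [← lz.uz]; group
            _ = x * U := by rw [lz.z_sq, mul_one]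
        calc ((x : G) * U) * t = (t * t) * (x * U) * t := by rw [tt, one_mul]
          _ = t * (t * (x * U) * t) := by group
          _ = t * (x * U) := by rw [h4]
      have h5 := Xsq _ (Subgroup.mul_mem _ x.2 lz.u_mem) h3
      rw [sqU x x.2, hxx, one_mul] at h5
      exact lz.z_ne h5
  have C2 : ∀ v w, lz.act τ v = v → lz.act τ w = w → lz.b v w = 0 := by
    intro v w hv hw
    obtain ⟨x, hx, rfl⟩ := C1 v hv
    obtain ⟨y, hy, rfl⟩ := C1 w hw
    rw [lz.b_pr]
    exact Xcomm x x.2 hx y y.2 hy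
  have Cadd : ∀ v w, lz.act τ v = v + c₀ → lz.act τ w = w + c₀ → lz.act τ (v + w) = v + w := by
    intro v w hv hw
    rw [map_add, hv, hw]
    have : v + c₀ + (w + c₀) = v + w + (c₀ + c₀) := by abel
    rw [this, lz.add_self, add_zero]
  have C6 : ∀ v, lz.act τ v = v → lz.b v v₀ = 0 → v = 0 := by
    intro v hv h0
    apply lz.b_nondeg
    intro w
    rcases C3 w with h | h
    · exact C2 v w hv h
    · have h1 := C2 v (w + v₀) hv (Cadd w v₀ h C4)
      rwa [map_add, h0, add_zero] at h1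
  have h01 := zmod_two_eq_one
  have C7 : ∀ v, lz.act τ v = v → v = 0 ∨ v = c₀ := by
    intro v hv
    by_cases h1 : v = 0
    · exact Or.inl h1
    · right
      have h2 : lz.b v v₀ = 1 := h01 _ fun h => h1 (C6 v hv h)
      have h3 : lz.b c₀ v₀ = 1 := h01 _ fun h => hc₀ne (C6 c₀ C5 h)
      have h4 : v + c₀ = 0 := by
        apply C6
        · rw [map_add, hv, C5]
        · rw [map_add, LinearMap.add_apply, h2, h3]; exact zmod_two_one_add
      rw [← sub_eq_zero, sub_eq_add_neg, lz.neg_eq]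
      exact h4
  have Call : ∀ v, v = 0 ∨ v = c₀ ∨ v = v₀ ∨ v = v₀ + c₀ := by
    intro v
    rcases C3 v with h | h
    · rcases C7 v h with h1 | h1
      · exact Or.inl h1
      · exact Or.inr (Or.inl h1)
    · rcases C7 _ (Cadd v v₀ h C4) with h1 | h1
      · right; right; left
        rw [← sub_eq_zero, sub_eq_add_neg, lz.neg_eq]
        exact h1
      · right; right; right
        have : v = v + v₀ + v₀ := by rw [add_assoc, lz.add_self, add_zero]
        rw [this, h1, add_comm]
  -- the Sylow subgroup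
  have hKp : IsPGroup 2 (Subgroup.zpowers t) := by
    apply IsPGroup.of_card (n := 1)
    rw [Nat.card_zpowers, lt.orderOf_z, pow_one]
  obtain ⟨T, hQT, hKT, hTz⟩ := lz.exists_sylow hKp (by
    intro x hx
    obtain ⟨n, rfl⟩ := hx
    exact (Commute.zpow_left (show Commute t z from htz) n).eq)
  have htT : t ∈ (T : Subgroup G) := hKT (Subgroup.mem_zpowers t)
  have memC : ∀ x ∈ (T : Subgroup G), x ∈ Subgroup.centralizer ({z} : Set G) := fun x hx =>
    Subgroup.mem_centralizer_singleton_iff.2 (hTz x hx)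
  -- `T` fixes `c₀`
  have hfix : ∀ s (hs : s ∈ (T : Subgroup G)), lz.act ⟨s, memC s hs⟩ c₀ = c₀ := by
    let ι : (T : Subgroup G) →* Subgroup.centralizer ({z} : Set G) :=
      Subgroup.inclusion (fun x hx => memC x hx)
    let _ : MulAction (T : Subgroup G) lz.V :=
      { smul := fun s v => lz.act (ι s) v
        one_smul := fun v => by
          show lz.act (ι 1) v = v
          rw [map_one, map_one]; rfl
        mul_smul := fun s s' v => by
          show lz.act (ι (s * s')) v = lz.act (ι s) (lz.act (ι s') v)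
          rw [map_mul, map_mul]; rfl }
    have hcard : 2 ∣ Nat.card lz.V := by
      have h1 : addOrderOf c₀ = 2 := by
        apply addOrderOf_eq_prime
        · rw [two_nsmul]; exact lz.add_self c₀
        · exact hc₀ne
      rw [← h1]
      exact addOrderOf_dvd_natCard c₀
    have h0 : (0 : lz.V) ∈ MulAction.fixedPoints (T : Subgroup G) lz.V := by
      intro s
      show lz.act (ι s) 0 = 0
      exact map_zero _
    obtain ⟨f, hf, hf0⟩ := T.2.exists_fixed_point_of_prime_dvd_card_of_fixed_point lz.V hcard h0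
    have hft : lz.act τ f = f := hf ⟨t, htT⟩
    rcases C7 f hft with h1 | h1
    · exact absurd h1.symm hf0
    · intro s hs
      rw [← h1]
      exact hf ⟨s, hs⟩
  have hTQ : ∀ s ∈ (T : Subgroup G), s ∈ Q z ∨ t * s ∈ Q z := by
    intro s hs
    have h1 := hfix s hs
    have triv : ∀ g : Subgroup.centralizer ({z} : Set G), lz.act g c₀ = c₀ → lz.act g v₀ = v₀ →
        (g : G) ∈ Q z := by
      intro g hg1 hg2
      apply lz.mem_of_act
      ext v
      show lz.act g v = v
      rcases Call v with h | h | h | h <;> rw [h]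
      · exact map_zero _
      · exact hg1
      · exact hg2
      · rw [map_add, hg1, hg2]
    have h3 : lz.b c₀ v₀ = 1 := h01 _ fun h => hc₀ne (C6 c₀ C5 h)
    have h4 : lz.b c₀ (lz.act ⟨s, memC s hs⟩ v₀) = 1 := by
      have := lz.b_act ⟨s, memC s hs⟩ c₀ v₀
      rw [h1, h3] at this
      exact this
    rcases Call (lz.act ⟨s, memC s hs⟩ v₀) with h | h | h | h
    · exfalso; rw [h, map_zero] at h4; exact zero_ne_one h4
    · exfalso; rw [h, lz.b_self] at h4; exact zero_ne_one h4
    · left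
      exact triv _ h1 h
    · right
      have h5 : lz.act (τ * ⟨s, memC s hs⟩) v₀ = v₀ := by
        rw [map_mul]
        show lz.act τ (lz.act ⟨s, memC s hs⟩ v₀) = v₀
        rw [h, map_add, C4, C5, add_assoc, lz.add_self, add_zero]
      have h6 : lz.act (τ * ⟨s, memC s hs⟩) c₀ = c₀ := by
        rw [map_mul]
        show lz.act τ (lz.act ⟨s, memC s hs⟩ c₀) = c₀
        rw [h1, C5]
      exact triv _ h6 h5
  -- `[T, T] ⊆ N₀`
  have B1 : ∀ q ∈ Q z, ∀ q' ∈ Q z, N0 (q⁻¹ * q'⁻¹ * q * q') := by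
    intro q hq q' hq'
    have e : q⁻¹ * q'⁻¹ * q * q' = (q' * q)⁻¹ * (q * q') := by group
    rw [e]
    rcases lz.comm q hq q' hq' with h | h <;> rw [h]
    · left; group
    · right; left; group
  have TT1 : ∀ q ∈ Q z, ∀ q' ∈ Q z, N0 (q⁻¹ * (t * q')⁻¹ * q * (t * q')) := by
    intro q hq q' hq'
    obtain ⟨c, hc, h1⟩ := tqt q hq
    have e : q⁻¹ * (t * q')⁻¹ * q * (t * q') = (q⁻¹ * q'⁻¹ * q * q') * (q'⁻¹ * c * q') := by
      calc q⁻¹ * (t * q')⁻¹ * q * (t * q') = q⁻¹ * q'⁻¹ * (t⁻¹ * q * t) * q' := by group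
        _ = q⁻¹ * q'⁻¹ * (q * c) * q' := by rw [tinv, h1]
        _ = _ := by group
    rw [e]
    exact N0mul _ _ (B1 q hq q' hq') (N0q q' hq' c hc)
  have TT2 : ∀ q ∈ Q z, ∀ q' ∈ Q z, N0 ((t * q)⁻¹ * (t * q')⁻¹ * (t * q) * (t * q')) := by
    intro q hq q' hq'
    obtain ⟨c, hc, h1⟩ := tqt (q'⁻¹ * q) (Subgroup.mul_mem _ (Subgroup.inv_mem _ hq') hq)
    have e : (t * q)⁻¹ * (t * q')⁻¹ * (t * q) * (t * q') = (q⁻¹ * q'⁻¹ * q * q') * (q'⁻¹ * c * q') := by
      calc (t * q)⁻¹ * (t * q')⁻¹ * (t * q) * (t * q')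
          = q⁻¹ * (t⁻¹ * (q'⁻¹ * (t⁻¹ * t) * q) * t) * q' := by group
        _ = q⁻¹ * (t * (q'⁻¹ * q) * t) * q' := by rw [inv_mul_cancel, mul_one, tinv]
        _ = q⁻¹ * (q'⁻¹ * q * c) * q' := by rw [h1]
        _ = _ := by group
    rw [e]
    exact N0mul _ _ (B1 q hq q' hq') (N0q q' hq' c hc)
  have TT : ∀ s ∈ (T : Subgroup G), ∀ s' ∈ (T : Subgroup G), N0 (s⁻¹ * s'⁻¹ * s * s') := by
    have ett : ∀ s, s = t * (t * s) := by intro s; rw [← mul_assoc, tt, one_mul]
    intro s hs s' hs'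
    rcases hTQ s hs with h1 | h1 <;> rcases hTQ s' hs' with h2 | h2
    · exact B1 s h1 s' h2
    · rw [ett s']
      exact TT1 s h1 _ h2
    · have h3 := N0inv _ (TT1 s' h2 _ h1)
      rw [← ett s] at h3
      have e : (s'⁻¹ * s⁻¹ * s' * s)⁻¹ = s⁻¹ * s'⁻¹ * s * s' := by group
      rwa [e] at h3
    · rw [ett s, ett s']
      exact TT2 _ h1 _ h2
  -- the subgroup `N`
  have cross : ∀ x, N0 (t * x) → x ∈ Q z → False := by
    intro x hx hxQ
    apply htQ
    have h1 := Subgroup.mul_mem _ (N0Q _ hx) (Subgroup.inv_mem _ hxQ)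
    have e : t * x * x⁻¹ = t := by group
    rwa [e] at h1
  let N : Subgroup G :=
    { carrier := {x | N0 x ∨ N0 (t * x)}
      one_mem' := Or.inl (Or.inl rfl)
      mul_mem' := by
        rintro x y (hx | hx) (hy | hy)
        · exact Or.inl (N0mul _ _ hx hy)
        · right
          have e : t * (x * y) = (t * x * t) * (t⁻¹ * y) := by group
          rw [e, tinv]
          exact N0mul _ _ (N0t x hx) hy
        · right
          rw [← mul_assoc]
          exact N0mul _ _ hx hy
        · left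
          have e : x * y = (t * (t * x) * t) * (t⁻¹ * y) := by
            calc x * y = (t * t) * x * y := by rw [tt, one_mul]
              _ = (t * (t * x) * t) * (t⁻¹ * y) := by group
          rw [e, tinv]
          exact N0mul _ _ (N0t _ hx) hy
      inv_mem' := by
        rintro x (hx | hx)
        · exact Or.inl (N0inv _ hx)
        · right
          have e : t * x⁻¹ = t * (t * x)⁻¹ * t := by
            calc t * x⁻¹ = t * x⁻¹ * (t⁻¹ * t) := by group
              _ = t * (t * x)⁻¹ * t := by group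
          rw [e]
          exact N0t _ (N0inv _ hx) }
  have hNmem : ∀ x, x ∈ N ↔ N0 x ∨ N0 (t * x) := fun x => Iff.rfl
  have tN : t ∈ N := by rw [hNmem]; right; rw [tt]; exact Or.inl rfl
  have hNn : (N.subgroupOf (T : Subgroup G)).Normal := by
    constructor
    intro x hx g
    rw [Subgroup.mem_subgroupOf] at hx ⊢
    have h1 := TT (g : G)⁻¹ (Subgroup.inv_mem _ g.2) (x : G)⁻¹ (Subgroup.inv_mem _ x.2)
    have e : ((g * x * g⁻¹ : (T : Subgroup G)) : G) = ((g : G)⁻¹⁻¹ * (x : G)⁻¹⁻¹ * (g : G)⁻¹ * (x : G)⁻¹) * x := by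
      show (g : G) * x * (g : G)⁻¹ = _
      group
    rw [e]
    exact N.mul_mem (Or.inl h1) hx
  have hUT : U ∈ (T : Subgroup G) := hQT lz.u_mem
  refine SymplTransfer.false_of_transfer_quotient hG (S := (T : Subgroup G)) (N.subgroupOf (T : Subgroup G))
    ?_ ?_ (u := U) ?_ ?_ hUT ?_ ?_
  · intro x y
    rw [Subgroup.mem_subgroupOf]
    exact Or.inl (TT x x.2 y y.2)
  · rw [Nat.odd_iff, ← Nat.not_even_iff, even_iff_two_dvd]
    exact T.not_dvd_index
  · exact F.u_pow_four hz
  · intro h hN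
    rw [Subgroup.mem_subgroupOf] at hN
    rcases (hNmem U).1 hN with h1 | h1
    · rcases h1 with h1 | h1 | h1 | h1
      · exact lz.u_ne h1
      · exact lz.u_ne_z h1
      · exact hkU1.1 h1.symm
      · apply hkU1.2
        rw [h1, mul_assoc, lz.z_sq, mul_one]
    · exact cross U h1 lz.u_mem
  · intro g hg
    rw [Subgroup.mem_subgroupOf]
    -- `g⁻¹ U g` is `U` or `U z`
    have h1 : (g⁻¹ * U * g) * (g⁻¹ * U * g) = g⁻¹ * z * g := by
      calc (g⁻¹ * U * g) * (g⁻¹ * U * g) = g⁻¹ * (U * U) * g := by group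
        _ = _ := by rw [lz.u_sq]
    have h2 : g⁻¹ * z * g ∈ D := by
      have := F.conj_mem z hz g⁻¹
      rwa [inv_inv] at this
    have h3 : g⁻¹ * z * g ∈ Q z := by
      rw [← h1]
      rcases hTQ _ hg with h | h
      · exact Subgroup.mul_mem _ h h
      · have e : (g⁻¹ * U * g) * (g⁻¹ * U * g) =
            (t * (t * (g⁻¹ * U * g)) * t) * (t⁻¹ * (g⁻¹ * U * g)) := by
          calc (g⁻¹ * U * g) * (g⁻¹ * U * g) = (t * t) * (g⁻¹ * U * g) * (g⁻¹ * U * g) := by rw [tt, one_mul]
            _ = _ := by group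
        rw [e, tinv]
        exact Subgroup.mul_mem _ (htconj _ h) h
    have h4 : g⁻¹ * z * g = z := hDQ _ h2 h3
    have h5 : g⁻¹ * z = z * g⁻¹ := by
      calc g⁻¹ * z = (g⁻¹ * z * g) * g⁻¹ := by group
        _ = z * g⁻¹ := by rw [h4]
    have h6 := lz.conj_u h5
    rw [inv_inv] at h6
    show U⁻¹ * (g⁻¹ * U * g) ∈ N
    left
    rcases h6 with h6 | h6 <;> rw [h6]
    · left; group
    · right; left; group
  · intro g hg
    rw [Subgroup.mem_subgroupOf]
    show g⁻¹ * U ^ 2 * g ∈ N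
    rw [pow_two, lz.u_sq] at hg ⊢
    have h2 : g⁻¹ * z * g ∈ D := by
      have := F.conj_mem z hz g⁻¹
      rwa [inv_inv] at this
    rcases hTQ _ hg with h | h
    · rw [hDQ _ h2 h]
      exact Or.inl (Or.inr (Or.inl rfl))
    · right
      apply DtQ _ h
      rw [← mul_assoc, tt, one_mul]
      exact h2

end Cfsg.Agent.ClassificationK.SymplSetup
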