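import Cfsg.Agent.ClassificationK.SymplInstD
import Cfsg.Agent.ClassificationK.SymplBig
import Cfsg.Agent.ClassificationK.SymplIsolated

/-!
# From `Symp Q z u` in a simple group to `Ctx` (S1758, helper577)

`exists_ctx`: Step 1 (`isolated_false`), the Z*-theorem (`exists_commuting`) and Step 2 (`exists_mem_of_typeA`).
-/

set_option autoImplicit false

namespace Cfsg.Agent.ClassificationK.SymplCtx

open SymplSetup SymplFront SymplInst

theorem exists_ctx {G : Type*} [Group G] [Finite G] [IsSimpleGroup G] (hG : ¬ IsMulCommutative G)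
    {Q : Subgroup G} {z u : G} (h : Symp Q z u) :
    ∃ (Qf : G → Subgroup G) (uf : G → G), Ctx {a | ∃ g, g * z * g⁻¹ = a} Qf uf z ∧ Qf z = Q ∧ uf z = u := by
  obtain ⟨Qf, uf, F, hQ, hu⟩ := exists_fam h
  set D : Set G := {a | ∃ g, g * z * g⁻¹ = a} with hD
  have hzD : z ∈ D := ⟨1, by group⟩
  have hzo : orderOf z = 2 := orderOf_eq_prime (by rw [pow_two]; exact h.z_sq) h.z_ne
  obtain ⟨g, hg1, hg2⟩ := exists_commuting hG hzo
  have htD : g * z * g⁻¹ ∈ D := ⟨g, rfl⟩
  obtain ⟨a, ha, hau, haz⟩ : ∃ a ∈ D, a * uf z = uf z * a ∧ a ≠ z := by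
    by_contra hcon
    push Not at hcon
    exact isolated_false hG F hzD (fun a ha hau => hcon a ha hau) htD hg2 hg1
  refine ⟨Qf, uf, ⟨F, hzD, ?_⟩, hQ, hu⟩
  by_cases haQ : a ∈ Qf z
  · exact ⟨a, ha, haQ, haz⟩
  · have hA : uf z * uf a = uf a * uf z := by
      have hazc : a * z = z * a := F.comm_of_comm_u hzD hau
      rcases F.typeA_or_typeB hzD ha haz.symm hazc.symm with h1 | ⟨-, h2⟩
      · exact h1
      · exfalso
        rw [hau, mul_inv_cancel_right] at h2
        exact (F.loc z hzD).z_ne (mul_eq_left.1 h2.symm)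
    exact SymplX.exists_mem_of_typeA F hzD ha hA haQ

end Cfsg.Agent.ClassificationK.SymplCtx
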