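import Cfsg.Agent.ClassificationK.SymplClosure
import Cfsg.Agent.Classification.RTwo.Recog

/-!
# The case `|V| = 4`: the centralizer is `GU(2,3)` (S1758, helper687)

`h : Symp Q z u`, `|h.V| = 4`, `a ∈ Q` an involution, `a ≠ z`, `b ∈ C(z)` with `b² = a` commuting with `u`.
Then `|C(z)| = 96`, `C(z) ≃ GU(2,3)` and all involutions of `C(z)` are in `Q`.
-/

set_option autoImplicit false

namespace Cfsg.Agent.ClassificationK.SymplGU

open Cfsg.Agent.ClassificationK.SymplSetup Cfsg.Agent.Classification.RTwo.Recog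

/-! ### vectors -/

theorem vec_cases {V : Type*} [AddCommGroup V] (h2 : ∀ v : V, v + v = 0) (hV : Nat.card V = 4) {v w : V}
    (hv : v ≠ 0) (hw : w ≠ 0) (hvw : v ≠ w) (s : V) : s = 0 ∨ s = v ∨ s = w ∨ s = v + w := by
  classical
  have : Finite V := Nat.finite_of_card_ne_zero (by rw [hV]; norm_num)
  have : Fintype V := Fintype.ofFinite V
  have hsum : v + w ≠ 0 := by
    intro h
    apply hvw
    calc v = v + (w + w) := by rw [h2, add_zero]
      _ = (v + w) + w := by abel
      _ = w := by rw [h, zero_add]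
  have hc : ({0, v, w, v + w} : Finset V).card = 4 := by
    rw [Finset.card_insert_of_notMem, Finset.card_insert_of_notMem, Finset.card_insert_of_notMem,
      Finset.card_singleton]
    · simp only [Finset.mem_singleton]
      intro h
      exact hv (by simpa using h)
    · simp only [Finset.mem_insert, Finset.mem_singleton, not_or]
      refine ⟨hvw, fun h => hw (by simpa using h)⟩
    · simp only [Finset.mem_insert, Finset.mem_singleton, not_or]
      exact ⟨fun h => hv h.symm, fun h => hw h.symm, fun h => hsum h.symm⟩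
  have hu : ({0, v, w, v + w} : Finset V) = Finset.univ := by
    apply Finset.eq_univ_of_card
    rw [hc, ← Nat.card_eq_fintype_card, hV]
  have := Finset.mem_univ s
  rw [← hu] at this
  simpa using this

/-- linear automorphisms as permutations of the nonzero vectors -/
def toPerm (V : Type*) [AddCommGroup V] [Module (ZMod 2) V] : (V ≃ₗ[ZMod 2] V) →* Equiv.Perm {v : V // v ≠ 0} where
  toFun e :=
    { toFun := fun v => ⟨e v, by simpa using v.2⟩
      invFun := fun v => ⟨e.symm v, by simpa using v.2⟩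
      left_inv := fun v => Subtype.ext (by simp)
      right_inv := fun v => Subtype.ext (by simp) }
  map_one' := by ext v; rfl
  map_mul' e f := by ext v; rfl

theorem toPerm_injective (V : Type*) [AddCommGroup V] [Module (ZMod 2) V] : Function.Injective (toPerm V) := by
  intro e f h
  ext v
  by_cases hv : v = 0
  · rw [hv, map_zero, map_zero]
  · exact congrArg (fun p : Equiv.Perm {v : V // v ≠ 0} => ((p ⟨v, hv⟩ : {v : V // v ≠ 0}) : V)) h

theorem card_equiv_dvd {V : Type*} [AddCommGroup V] [Module (ZMod 2) V] (hV : Nat.card V = 4) :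
    Nat.card (V ≃ₗ[ZMod 2] V) ∣ 6 := by
  classical
  have : Finite V := Nat.finite_of_card_ne_zero (by rw [hV]; norm_num)
  have : Fintype V := Fintype.ofFinite V
  have h1 := Subgroup.card_dvd_of_injective (toPerm V) (toPerm_injective V)
  have h2 : Nat.card {v : V // v ≠ 0} = 3 := by
    have h3 : Fintype.card {x : V | x ≠ 0} = Fintype.card V - 1 := Set.card_ne_eq (0 : V)
    rw [Nat.card_eq_fintype_card] at hV ⊢
    rw [hV] at h3
    convert h3
  rw [Nat.card_perm, h2] at h1
  exact h1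

variable {G : Type*} [Group G]

/-! ### the setting -/

/-- The local situation at `z`. -/
structure Four {Q : Subgroup G} {z u : G} (h : Symp Q z u) (a b : G) : Prop where
  hV : Nat.card h.V = 4
  a_mem : a ∈ Q
  aa : a * a = 1
  a1 : a ≠ 1
  az : a ≠ z
  bb : b * b = a
  bz : b * z = z * b
  bu : b * u = u * b

namespace Four

variable {Q : Subgroup G} {z u a b : G} {h : Symp Q z u}

theorem pr_a_ne (H : Four h a b) : h.pr ⟨a, H.a_mem⟩ ≠ 0 := by
  intro h0
  rcases h.pr_eq_zero.1 h0 with h1 | h1 | h1 | h1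
  · exact H.a1 h1
  · exact H.az h1
  · have h1' : a = u := h1
    have := H.aa
    rw [h1', h.u_sq] at this
    exact h.z_ne this
  · have h1' : a = u * z := h1
    have := H.aa
    apply h.z_ne
    rw [h1'] at this
    calc z = (u * u) * (z * z) := by rw [h.u_sq, h.z_sq, mul_one]
      _ = u * (u * z) * z := by group
      _ = u * (z * u) * z := by rw [h.uz]
      _ = u * z * (u * z) := by group
      _ = 1 := this

theorem b_notMem (H : Four h a b) : b ∉ Q := by
  intro hb
  rcases h.sq b hb with h1 | h1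
  · exact H.a1 (by rw [← H.bb, h1])
  · exact H.az (by rw [← H.bb, h1])

/-- `b` as an element of `C(z)` -/
def cb (H : Four h a b) : Subgroup.centralizer ({z} : Set G) :=
  ⟨b, Subgroup.mem_centralizer_singleton_iff.2 H.bz⟩

theorem act_b_v (H : Four h a b) : h.act H.cb (h.pr ⟨a, H.a_mem⟩) = h.pr ⟨a, H.a_mem⟩ := by
  refine h.act_pr_coe _ _ _ ?_
  show b * a * b⁻¹ = a
  rw [← H.bb]; group

theorem act_b_ne [Finite G] (H : Four h a b) : h.act H.cb ≠ 1 := fun h1 => H.b_notMem (h.mem_of_act _ h1)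

theorem card_range (H : Four h a b) : Nat.card h.act.range ∣ 6 :=
  (Subgroup.card_subgroup_dvd_card _).trans (card_equiv_dvd H.hV)

theorem card_cent [Finite G] (H : Four h a b) :
    Nat.card (Subgroup.centralizer ({z} : Set G)) = 16 * Nat.card h.act.range := by
  have h1 : Nat.card h.act.ker = 16 := by
    have h2 : Nat.card h.act.ker = Nat.card Q := by
      refine Nat.card_congr ⟨fun x => ⟨x.1, h.mem_of_act _ x.2⟩,
        fun x => ⟨⟨x.1, Subgroup.mem_centralizer_singleton_iff.2 (h.comm_z x x.2)⟩, h.act_mem _ x.2⟩,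
        fun x => rfl, fun x => rfl⟩
    rw [h2, h.card_eq, H.hV]
  have h3 := Subgroup.card_mul_index h.act.ker
  rw [Subgroup.index_ker, h1] at h3
  exact h3.symm

theorem three_dvd [Finite G] (H : Four h a b) : 3 ∣ Nat.card h.act.range := by
  by_contra h3
  have h6 := H.card_range
  have h2 : Nat.card h.act.range ∣ 2 := by
    have : (Nat.card h.act.range).Coprime 3 := ((Nat.Prime.coprime_iff_not_dvd Nat.prime_three).2 h3).symm
    exact this.dvd_of_dvd_mul_right h6
  have hle : Subgroup.centralizer ({z} : Set G) ≤ Q := by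
    apply h.core
    · intro x hx
      exact Subgroup.mem_centralizer_singleton_iff.1 hx
    · intro g hg x hx
      have hg' : g ∈ Subgroup.centralizer ({z} : Set G) := Subgroup.mem_centralizer_singleton_iff.2 hg
      exact mul_mem (mul_mem hg' hx) (inv_mem hg')
    · rintro ⟨g, hg⟩
      have h4 : h.act (⟨g, hg⟩ * ⟨g, hg⟩) = 1 := by
        have h5 := pow_card_eq_one' (x := (⟨h.act ⟨g, hg⟩, ⟨_, rfl⟩⟩ : h.act.range))
        have h6 : (⟨h.act ⟨g, hg⟩, ⟨_, rfl⟩⟩ : h.act.range) ^ 2 = 1 :=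
          orderOf_dvd_iff_pow_eq_one.1 ((orderOf_dvd_of_pow_eq_one h5).trans h2)
        have h7 := congrArg Subtype.val h6
        rw [map_mul, ← pow_two]
        exact h7
      have h5 := h.mem_of_act _ h4
      obtain ⟨k, hk⟩ := h.isPGroup ⟨_, h5⟩
      refine ⟨k + 1, ?_⟩
      apply Subtype.ext
      have h6 : (g * g) ^ (2 ^ k) = 1 := congrArg (fun t : Q => (t : G)) hk
      show g ^ (2 ^ (k + 1)) = 1
      rw [pow_succ', pow_mul, pow_two]
      exact h6
  exact H.b_notMem (hle (Subgroup.mem_centralizer_singleton_iff.2 H.bz))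

theorem card_range_eq [Finite G] (H : Four h a b) : Nat.card h.act.range = 6 := by
  have h6 := H.card_range
  have h3 := H.three_dvd
  have h2 : 2 ∣ Nat.card h.act.range := by
    have h4 : (⟨h.act H.cb, ⟨_, rfl⟩⟩ : h.act.range) ^ 2 = 1 := by
      apply Subtype.ext
      show (h.act H.cb) ^ 2 = 1
      rw [← map_pow]
      apply h.act_mem
      rw [Subgroup.coe_pow, pow_two]
      show b * b ∈ Q
      rw [H.bb]; exact H.a_mem
    have h5 : orderOf (⟨h.act H.cb, ⟨_, rfl⟩⟩ : h.act.range) = 2 := by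
      refine orderOf_eq_prime h4 ?_
      intro h6
      exact H.act_b_ne (congrArg Subtype.val h6)
    have h7 := orderOf_dvd_natCard (⟨h.act H.cb, ⟨_, rfl⟩⟩ : h.act.range)
    rw [h5] at h7
    exact h7
  have h23 : 2 * 3 ∣ Nat.card h.act.range := Nat.Coprime.mul_dvd_of_dvd_of_dvd (by norm_num) h2 h3
  exact Nat.dvd_antisymm h6 h23

theorem card_eq [Finite G] (H : Four h a b) : Nat.card (Subgroup.centralizer ({z} : Set G)) = 96 := by
  rw [H.card_cent, H.card_range_eq]

/-- an element of order 3 -/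
theorem exists_t [Finite G] (H : Four h a b) : ∃ t : Subgroup.centralizer ({z} : Set G), orderOf t = 3 := by
  have : Fact (Nat.Prime 3) := ⟨Nat.prime_three⟩
  apply exists_prime_orderOf_dvd_card'
  rw [H.card_eq]; norm_num

theorem not_fix [Finite G] (H : Four h a b) {t : Subgroup.centralizer ({z} : Set G)} (ht : orderOf t = 3)
    {s : h.V} (hs : h.act t s = s) : s = 0 := by
  by_contra hs0
  have ht3 : t ^ 3 = 1 := by rw [← ht]; exact pow_orderOf_eq_one t
  have ht3' : ∀ r, h.act t (h.act t (h.act t r)) = r := by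
    intro r
    have : h.act (t ^ 3) r = r := by rw [ht3, map_one]; rfl
    rw [pow_succ, pow_two, map_mul, map_mul] at this
    exact this
  have ht1 : h.act t ≠ 1 := by
    intro h1
    have h2 := h.mem_of_act _ h1
    have h3 : (t : G) ^ 3 = 1 := by rw [← Subgroup.coe_pow, ht3]; rfl
    have h4 : (t : G) ≠ 1 := by
      intro h5
      have : t = 1 := Subtype.ext h5
      rw [this, orderOf_one] at ht
      norm_num at ht
    rw [pow_succ, pow_two] at h3
    rcases h.sq t h2 with h5 | h5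
    · rw [h5, one_mul] at h3; exact h4 h3
    · rw [h5] at h3
      have h6 : (t : G) = z := (inv_eq_of_mul_eq_one_right h3).symm.trans h.z_inv
      rw [h6, h.z_sq] at h5
      exact h.z_ne h5.symm
  obtain ⟨r, hr⟩ : ∃ r : h.V, h.act t r ≠ r := by
    by_contra hcon
    push Not at hcon
    exact ht1 (by ext r; exact hcon r)
  have hr0 : r ≠ 0 := by rintro rfl; exact hr (map_zero _)
  have hsr : s ≠ r := by rintro rfl; exact hr hs
  have h5 : h.act t r = s + r := by
    rcases vec_cases h.add_self H.hV hs0 hr0 hsr (h.act t r) with h6 | h6 | h6 | h6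
    · exact absurd ((LinearEquiv.map_eq_zero_iff _).1 h6) hr0
    · rw [← hs] at h6
      exact absurd ((h.act t).injective h6).symm hsr
    · exact absurd h6 hr
    · exact h6
  have h6 := ht3' r
  rw [h5, map_add, hs, h5, ← add_assoc, h.add_self, zero_add, h5] at h6
  exact hs0 (by simpa using h6)

end Four

/-- all the data at once -/
structure Gen {Q : Subgroup G} {z u : G} (h : Symp Q z u) (a i j t d : G) : Prop where
  rel : ERel 4 2 i j t d
  iQ : i ∈ Q
  jQ : j ∈ Q
  tz : t * z = z * t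
  dz : d * z = z * d
  tu : t * u = u * t
  du : d * u = u * d
  ii : i * i = z
  dd : d * d = u ∨ d * d = u * z
  pri : ∀ (hi : i ∈ Q) (ha : a ∈ Q), h.pr ⟨i, hi⟩ = h.pr ⟨a, ha⟩

theorem comm_of_symm {z x y : G} (hz : z * z = 1) (hxy : x * y = y * x * z) : y * x = x * y * z := by
  rw [hxy, mul_assoc (y * x), hz, mul_one]

namespace Four

variable {Q : Subgroup G} {z u a b : G} {h : Symp Q z u}

theorem comm_t_u (h : Symp Q z u) {t : G} (htz : t * z = z * t) (ht3 : t ^ 3 = 1) : t * u = u * t := by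
  rcases h.conj_u htz with h1 | h1
  · rw [mul_inv_eq_iff_eq_mul] at h1; exact h1
  · exfalso
    have hz : t * z * t⁻¹ = z := by rw [htz]; group
    have h2 : t * (t * u * t⁻¹) * t⁻¹ = u := by
      rw [h1]
      calc t * (u * z) * t⁻¹ = (t * u * t⁻¹) * (t * z * t⁻¹) := by group
        _ = u := by rw [h1, hz, mul_assoc, h.z_sq, mul_one]
    have h3 : t * (t * (t * u * t⁻¹) * t⁻¹) * t⁻¹ = u := by
      calc t * (t * (t * u * t⁻¹) * t⁻¹) * t⁻¹ = t ^ 3 * u * (t ^ 3)⁻¹ := by
            rw [pow_succ, pow_two]; group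
        _ = u := by rw [ht3]; group
    rw [h2, h1] at h3
    exact h.z_ne (mul_eq_left.1 h3)

theorem exists_gen [Finite G] (H : Four h a b) : ∃ i j t d : G, Gen h a i j t d := by
  obtain ⟨ct, hot⟩ := H.exists_t
  obtain ⟨t, ht⟩ : ∃ t : G, t = ct := ⟨_, rfl⟩
  have htz : t * z = z * t := by rw [ht]; exact Subgroup.mem_centralizer_singleton_iff.1 ct.2
  have hct3 : ct ^ 3 = 1 := by rw [← hot]; exact pow_orderOf_eq_one ct
  have ht3 : t ^ 3 = 1 := by rw [ht, ← Subgroup.coe_pow, hct3]; rfl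
  have htu := comm_t_u h htz ht3
  obtain ⟨v, hv⟩ : ∃ v, v = h.pr ⟨a, H.a_mem⟩ := ⟨_, rfl⟩
  obtain ⟨w, hw⟩ : ∃ w, w = h.act ct v := ⟨_, rfl⟩
  have hv0 : v ≠ 0 := by rw [hv]; exact H.pr_a_ne
  have hw0 : w ≠ 0 := by
    rw [hw]; intro h1
    exact hv0 ((LinearEquiv.map_eq_zero_iff _).1 h1)
  have hvw : v ≠ w := by
    intro h1
    exact hv0 (H.not_fix hot (by rw [← hw]; exact h1.symm))
  have hcases := fun s => vec_cases h.add_self H.hV hv0 hw0 hvw s
  have ht3' : ∀ r, h.act ct (h.act ct (h.act ct r)) = r := by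
    intro r
    have : h.act (ct ^ 3) r = r := by rw [hct3, map_one]; rfl
    rw [pow_succ, pow_two, map_mul, map_mul] at this
    exact this
  have htw : h.act ct w = v + w := by
    have h1 : v + w + h.act ct w = 0 := by
      apply H.not_fix hot
      rw [map_add, map_add, ← hw]
      have : h.act ct (h.act ct w) = v := by
        conv_rhs => rw [← ht3' v]
        rw [hw]
      rw [this]; abel
    have h2 := h.add_self (h.act ct w)
    calc h.act ct w = (v + w + h.act ct w) + h.act ct w := by rw [h1, zero_add]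
      _ = v + w + (h.act ct w + h.act ct w) := by abel
      _ = v + w := by rw [h2, add_zero]
  have hbv : h.act H.cb v = v := by rw [hv]; exact H.act_b_v
  have hbw : h.act H.cb w = v + w := by
    rcases hcases (h.act H.cb w) with h1 | h1 | h1 | h1
    · exact absurd ((LinearEquiv.map_eq_zero_iff _).1 h1) hw0
    · rw [← hbv] at h1
      exact absurd ((h.act H.cb).injective h1).symm hvw
    · exfalso
      apply H.act_b_ne
      ext s
      show h.act H.cb s = s
      rcases hcases s with h2 | h2 | h2 | h2 <;> rw [h2]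
      · exact map_zero _
      · exact hbv
      · exact h1
      · rw [map_add, hbv, h1]
    · exact h1
  have hb2 : ∀ s, h.act H.cb (h.act H.cb s) = s := by
    intro s
    have h1 : h.act (H.cb * H.cb) = 1 := by
      apply h.act_mem
      show b * b ∈ Q
      rw [H.bb]; exact H.a_mem
    have : h.act (H.cb * H.cb) s = s := by rw [h1]; rfl
    rw [map_mul] at this
    exact this
  have hbi : ∀ s, h.act H.cb⁻¹ s = h.act H.cb s := by
    intro s
    apply (h.act H.cb).injective
    rw [hb2, map_inv]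
    exact (h.act H.cb).apply_symm_apply s
  have hvw2 : v + (v + w) = w := by rw [← add_assoc, h.add_self, zero_add]
  have hvw3 : w + (v + w) = v := by
    calc w + (v + w) = v + (w + w) := by abel
      _ = v := by rw [h.add_self, add_zero]
  have hext : ∀ (c : Subgroup.centralizer ({z} : Set G)), h.act c v = v → h.act c w = w → h.act c = 1 := by
    intro c h1 h2
    ext s
    show h.act c s = s
    rcases hcases s with h3 | h3 | h3 | h3 <;> rw [h3]
    · exact map_zero _
    · exact h1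
    · exact h2
    · rw [map_add, h1, h2]
  -- `y`
  obtain ⟨y, hy⟩ : ∃ y, y = b * t * b⁻¹ * t := ⟨_, rfl⟩
  have hyQ : y ∈ Q := by
    have h1 : h.act (H.cb * ct * H.cb⁻¹ * ct) = 1 := by
      apply hext
      · rw [map_mul, map_mul, map_mul]
        show h.act H.cb (h.act ct (h.act H.cb⁻¹ (h.act ct v))) = v
        rw [← hw, hbi, hbw, map_add, ← hw, htw, hvw3, hbv]
      · rw [map_mul, map_mul, map_mul]
        show h.act H.cb (h.act ct (h.act H.cb⁻¹ (h.act ct w))) = w
        rw [htw, hbi, map_add, hbv, hbw, hvw2, htw, map_add, hbv, hbw, hvw2]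
    have h2 := h.mem_of_act _ h1
    have e : ((H.cb * ct * H.cb⁻¹ * ct : Subgroup.centralizer ({z} : Set G)) : G) = y := by
      rw [hy, ht]; rfl
    rwa [e] at h2
  have hby : b * t * b⁻¹ = y * t⁻¹ := by rw [hy]; group
  have htinv : t⁻¹ * z = z * t⁻¹ := (show Commute t z from htz).inv_left.eq
  obtain ⟨x, hx⟩ : ∃ x, x = t⁻¹ * y * t := ⟨_, rfl⟩
  have hxQ : x ∈ Q := by
    have := h.conj_mem t⁻¹ htinv y hyQ
    rw [inv_inv] at this
    rw [hx]; exact this
  have hyx : y * x * (t⁻¹ * x * t) = 1 := by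
    have h1 : (b * t * b⁻¹) ^ 3 = 1 := by
      rw [conj_pow, ht3]; group
    rw [hby] at h1
    have h2 : y * x * (t⁻¹ * x * t) = (y * t⁻¹) ^ 3 * t ^ 3 := by
      rw [hx]
      calc y * (t⁻¹ * y * t) * (t⁻¹ * (t⁻¹ * y * t) * t) = y * t⁻¹ * y * t⁻¹ * y * t * t := by group
        _ = (y * t⁻¹) ^ 3 * t ^ 3 := by rw [pow_succ, pow_two, pow_succ, pow_two]; group
    rw [h2, h1, ht3, one_mul]
  have hxx : x * x = y * y := by
    have : x * x = t⁻¹ * (y * y) * t := by rw [hx]; group
    rw [this]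
    rcases h.sq y hyQ with h1 | h1 <;> rw [h1]
    · group
    · rw [htinv]; group
  have hxb : x * (b * t * b⁻¹) * x⁻¹ = t⁻¹ := by
    have h1 : t⁻¹ * x⁻¹ * t = y * x := by
      have : (t⁻¹ * x * t)⁻¹ = y * x := (eq_inv_of_mul_eq_one_left hyx).symm
      rw [← this]; group
    have h2 : x * (y * y) * x = 1 := by
      have h3 : x * (y * y) = (y * y) * x := by
        rcases h.sq y hyQ with h1 | h1 <;> rw [h1]
        · rw [one_mul, mul_one]
        · exact h.comm_z x hxQ
      rw [h3, mul_assoc, hxx]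
      rcases h.sq y hyQ with h1 | h1 <;> rw [h1]
      · rw [one_mul]
      · exact h.z_sq
    rw [hby]
    calc x * (y * t⁻¹) * x⁻¹ = x * y * (t⁻¹ * x⁻¹ * t) * t⁻¹ := by group
      _ = x * (y * y) * x * t⁻¹ := by rw [h1]; group
      _ = t⁻¹ := by rw [h2, one_mul]
  -- `d`
  obtain ⟨d, hd⟩ : ∃ d, d = x * b := ⟨_, rfl⟩
  have hdt : d * t * d⁻¹ = t⁻¹ := by
    rw [hd]
    calc x * b * t * (x * b)⁻¹ = x * (b * t * b⁻¹) * x⁻¹ := by group
      _ = t⁻¹ := hxb
  have hdz : d * z = z * d := by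
    rw [hd, mul_assoc, H.bz, ← mul_assoc, h.comm_z x hxQ, mul_assoc]
  have hdu : d * u = u * d := by
    rw [hd, mul_assoc, H.bu, ← mul_assoc, h.comm_u x hxQ, mul_assoc]
  obtain ⟨Y, hY⟩ : ∃ Y, Y = b * x * b⁻¹ := ⟨_, rfl⟩
  have hYQ : Y ∈ Q := by rw [hY]; exact h.conj_mem b H.bz x hxQ
  obtain ⟨c, hc⟩ : ∃ c, c = d * d := ⟨_, rfl⟩
  have hcXY : c = x * Y * a := by
    rw [hc, hd, hY, ← H.bb]; group
  have hcQ : c ∈ Q := by rw [hcXY]; exact mul_mem (mul_mem hxQ hYQ) H.a_mem
  have hct : t * c * t⁻¹ = c := by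
    have h1 : c * t * c⁻¹ = t := by
      rw [hc]
      calc d * d * t * (d * d)⁻¹ = d * (d * t * d⁻¹) * d⁻¹ := by group
        _ = d * t⁻¹ * d⁻¹ := by rw [hdt]
        _ = (d * t * d⁻¹)⁻¹ := by group
        _ = t := by rw [hdt, inv_inv]
    have h2 : c * t = t * c := by rwa [mul_inv_eq_iff_eq_mul] at h1
    rw [← h2]; group
  have hprc : h.pr ⟨c, hcQ⟩ = 0 := by
    apply H.not_fix hot
    refine h.act_pr_coe _ _ _ ?_
    show (ct : G) * c * (ct : G)⁻¹ = c
    rw [← ht]; exact hct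
  have hccen := h.pr_eq_zero.1 hprc
  have hcc4 : c = 1 ∨ c = z ∨ c = u ∨ c = u * z := hccen
  have hprY : h.act H.cb (h.pr ⟨x, hxQ⟩) = h.pr ⟨Y, hYQ⟩ := by
    refine h.act_pr_coe _ _ _ ?_
    exact hY.symm
  have hsum : h.pr ⟨x, hxQ⟩ + h.pr ⟨Y, hYQ⟩ + v = 0 := by
    rw [hv, ← h.pr_mul, ← h.pr_mul, ← hprc]
    congr 1
    exact Subtype.ext hcXY.symm
  have hprY' : h.pr ⟨Y, hYQ⟩ = h.pr ⟨x, hxQ⟩ + v := by
    have h1 := h.add_self (h.pr ⟨x, hxQ⟩)
    have h2 := h.add_self v
    calc h.pr ⟨Y, hYQ⟩ = (h.pr ⟨x, hxQ⟩ + h.pr ⟨x, hxQ⟩) + h.pr ⟨Y, hYQ⟩ + (v + v) := by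
          rw [h1, h2]; simp
      _ = (h.pr ⟨x, hxQ⟩ + h.pr ⟨Y, hYQ⟩ + v) + (h.pr ⟨x, hxQ⟩ + v) := by abel
      _ = h.pr ⟨x, hxQ⟩ + v := by rw [hsum, zero_add]
  have hxY : x * Y = Y * x * z := by
    rcases h.comm x hxQ Y hYQ with h1 | h1
    · exfalso
      have h2 : h.b (h.pr ⟨x, hxQ⟩) (h.pr ⟨Y, hYQ⟩) = 0 := (h.b_pr _ _).2 h1
      rw [hprY', map_add, h.b_self, zero_add] at h2
      have hp0 : h.pr ⟨x, hxQ⟩ ≠ 0 := by
        intro h3
        rw [h3] at hprY hprY'
        rw [map_zero] at hprY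
        rw [← hprY, zero_add] at hprY'
        exact hv0 hprY'.symm
      have hpv : v ≠ h.pr ⟨x, hxQ⟩ := by
        intro h3
        rw [← h3] at hprY hprY'
        rw [hbv] at hprY
        rw [← hprY, h.add_self] at hprY'
        exact hv0 hprY'
      apply hv0
      apply h.b_nondeg
      intro s
      rcases vec_cases h.add_self H.hV hv0 hp0 hpv s with h3 | h3 | h3 | h3 <;> rw [h3]
      · exact map_zero _
      · exact h.b_self v
      · rw [h.b_comm]; exact h2
      · rw [map_add, h.b_self, zero_add, h.b_comm]; exact h2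
    · exact h1
  have hYY : Y * Y = x * x := by
    have : Y * Y = b * (x * x) * b⁻¹ := by rw [hY]; group
    rw [this]
    rcases h.sq x hxQ with h1 | h1 <;> rw [h1]
    · group
    · rw [H.bz]; group
  have hccz : c * c = z := by
    have h1 : x * Y = c * a := by
      rw [hcXY, mul_assoc, H.aa, mul_one]
    have h2 : (x * Y) * (x * Y) = z := by
      have h3 : Y * x = x * Y * z := comm_of_symm h.z_sq hxY
      calc (x * Y) * (x * Y) = x * (Y * x) * Y := by group
        _ = x * (x * Y * z) * Y := by rw [h3]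
        _ = (x * x) * (Y * (z * Y)) := by group
        _ = (x * x) * (Y * (Y * z)) := by rw [h.comm_z Y hYQ]
        _ = ((x * x) * (Y * Y)) * z := by group
        _ = z := by
          rw [hYY]
          rcases h.sq x hxQ with h4 | h4 <;> rw [h4]
          · rw [one_mul, one_mul]
          · rw [h.z_sq, one_mul]
    rw [h1] at h2
    have h3 : c * a = a * c := by
      have haz := h.comm_z a H.a_mem
      have hau := h.comm_u a H.a_mem
      rcases hcc4 with h4 | h4 | h4 | h4 <;> rw [h4]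
      · rw [one_mul, mul_one]
      · exact haz.symm
      · exact hau.symm
      · rw [mul_assoc, ← haz, ← mul_assoc, ← hau, mul_assoc]
    calc c * c = c * (a * a) * c := by rw [H.aa, mul_one]
      _ = (c * a) * (a * c) := by group
      _ = (c * a) * (c * a) := by rw [h3]
      _ = z := h2
  have hdd : d * d = u ∨ d * d = u * z := by
    rw [← hc]
    rcases hcc4 with h4 | h4 | h4 | h4
    · exfalso; rw [h4, one_mul] at hccz; exact h.z_ne hccz.symm
    · exfalso; rw [h4, h.z_sq] at hccz; exact h.z_ne hccz.symm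
    · exact Or.inl h4
    · exact Or.inr h4
  have hd4 : d ^ 4 = z := by
    rw [show (4 : ℕ) = 2 * 2 from rfl, pow_mul, pow_two d, pow_two, ← hc, hccz]
  -- `i`
  have hau := h.comm_u a H.a_mem
  obtain ⟨i, hiQ, hii, hpri, hij2⟩ : ∃ i, ∃ hi : i ∈ Q, i * i = z ∧ h.pr ⟨i, hi⟩ = v ∧
      t * (t * i * t⁻¹) * t⁻¹ = i * (t * i * t⁻¹) := by
    obtain ⟨i0, hi0⟩ : ∃ i0, i0 = a * u := ⟨_, rfl⟩
    have hi0Q : i0 ∈ Q := by rw [hi0]; exact mul_mem H.a_mem h.u_mem
    have hi0i : i0 * i0 = z := by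
      rw [hi0]
      calc a * u * (a * u) = a * (u * a) * u := by group
        _ = (a * a) * (u * u) := by rw [← hau]; group
        _ = z := by rw [H.aa, h.u_sq, one_mul]
    have hpri0 : h.pr ⟨i0, hi0Q⟩ = v := by
      rw [hv, h.pr_eq_pr]
      right; right; left
      exact hi0
    obtain ⟨j0, hj0⟩ : ∃ j0, j0 = t * i0 * t⁻¹ := ⟨_, rfl⟩
    have hj0Q : j0 ∈ Q := by rw [hj0]; exact h.conj_mem t htz i0 hi0Q
    obtain ⟨k0, hk0⟩ : ∃ k0, k0 = t * j0 * t⁻¹ := ⟨_, rfl⟩
    have hk0Q : k0 ∈ Q := by rw [hk0]; exact h.conj_mem t htz j0 hj0Q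
    have htzt : t * z * t⁻¹ = z := by rw [htz]; group
    have hj0j : j0 * j0 = z := by
      have : j0 * j0 = t * (i0 * i0) * t⁻¹ := by rw [hj0]; group
      rw [this, hi0i, htzt]
    have hk0k : k0 * k0 = z := by
      have : k0 * k0 = t * (j0 * j0) * t⁻¹ := by rw [hk0]; group
      rw [this, hj0j, htzt]
    have hprj0 : h.pr ⟨j0, hj0Q⟩ = w := by
      rw [hw, ← hpri0]
      refine (h.act_pr_coe _ _ _ ?_).symm
      show (ct : G) * i0 * (ct : G)⁻¹ = j0
      rw [hj0, ht]
    have hprk0 : h.pr ⟨k0, hk0Q⟩ = v + w := by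
      rw [← htw, ← hprj0]
      refine (h.act_pr_coe _ _ _ ?_).symm
      show (ct : G) * j0 * (ct : G)⁻¹ = k0
      rw [hk0, ht]
    have hcomm : i0 * j0 = j0 * i0 * z := by
      rcases h.comm i0 hi0Q j0 hj0Q with h1 | h1
      · exfalso
        have h2 : h.b (h.pr ⟨i0, hi0Q⟩) (h.pr ⟨j0, hj0Q⟩) = 0 := (h.b_pr _ _).2 h1
        rw [hpri0, hprj0] at h2
        apply hv0
        apply h.b_nondeg
        intro s
        rcases hcases s with h3 | h3 | h3 | h3 <;> rw [h3]
        · exact map_zero _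
        · exact h.b_self v
        · exact h2
        · rw [map_add, h.b_self, zero_add]; exact h2
      · exact h1
    have hji : j0 * i0 = i0 * j0 * z := comm_of_symm h.z_sq hcomm
    have hsq : (i0 * j0) * (i0 * j0) = z := by
      calc (i0 * j0) * (i0 * j0) = i0 * (j0 * i0) * j0 := by group
        _ = i0 * (i0 * j0 * z) * j0 := by rw [hji]
        _ = (i0 * i0) * (j0 * (z * j0)) := by group
        _ = (i0 * i0) * (j0 * (j0 * z)) := by rw [h.comm_z j0 hj0Q]
        _ = (i0 * i0) * (j0 * j0) * z := by group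
        _ = z := by rw [hi0i, hj0j, h.z_sq, one_mul]
    have hpr : h.pr (⟨i0, hi0Q⟩ * ⟨j0, hj0Q⟩) = h.pr ⟨k0, hk0Q⟩ := by
      rw [h.pr_mul, hpri0, hprj0, hprk0]
    have hk0u := h.comm_u k0 hk0Q
    have hk0z := h.comm_z k0 hk0Q
    have hc4 : i0 * j0 = k0 ∨ i0 * j0 = k0 * z := by
      rcases h.pr_eq_pr.1 hpr with h1 | h1 | h1 | h1
      · exact Or.inl h1
      · exact Or.inr h1
      · exfalso
        have h1' : i0 * j0 = k0 * u := h1
        rw [h1'] at hsq
        apply h.z_ne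
        calc z = k0 * u * (k0 * u) := hsq.symm
          _ = k0 * (u * k0) * u := by group
          _ = (k0 * k0) * (u * u) := by rw [← hk0u]; group
          _ = 1 := by rw [hk0k, h.u_sq, h.z_sq]
      · exfalso
        have h1' : i0 * j0 = k0 * (u * z) := h1
        rw [h1'] at hsq
        apply h.z_ne
        calc z = k0 * (u * z) * (k0 * (u * z)) := hsq.symm
          _ = k0 * u * (z * k0) * (u * z) := by group
          _ = k0 * (u * k0) * (z * u) * z := by rw [← hk0z]; group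
          _ = (k0 * k0) * (u * u) * (z * z) := by rw [← hk0u, ← h.uz]; group
          _ = 1 := by rw [hk0k, h.u_sq, h.z_sq, one_mul]
    rcases hc4 with h1 | h1
    · refine ⟨i0, hi0Q, hi0i, hpri0, ?_⟩
      rw [← hj0, ← hk0, h1]
    · have hi0z := h.comm_z i0 hi0Q
      refine ⟨i0 * z, mul_mem hi0Q h.z_mem, ?_, ?_, ?_⟩
      · calc i0 * z * (i0 * z) = i0 * (z * i0) * z := by group
          _ = (i0 * i0) * (z * z) := by rw [← hi0z]; group
          _ = z := by rw [hi0i, h.z_sq, mul_one]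
      · rw [← hpri0, h.pr_eq_pr]
        right; left; rfl
      · have e1 : t * (i0 * z) * t⁻¹ = j0 * z := by
          calc t * (i0 * z) * t⁻¹ = (t * i0 * t⁻¹) * (t * z * t⁻¹) := by group
            _ = j0 * z := by rw [htzt, ← hj0]
        have e2 : t * (j0 * z) * t⁻¹ = k0 * z := by
          calc t * (j0 * z) * t⁻¹ = (t * j0 * t⁻¹) * (t * z * t⁻¹) := by group
            _ = k0 * z := by rw [htzt, ← hk0]
        rw [e1, e2, ← h1]
        have hj0z := h.comm_z j0 hj0Q
        calc i0 * j0 = i0 * j0 * (z * z) := by rw [h.z_sq, mul_one]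
          _ = i0 * (j0 * z) * z := by group
          _ = i0 * (z * j0) * z := by rw [hj0z]
          _ = i0 * z * (j0 * z) := by group
  obtain ⟨j, hj⟩ : ∃ j, j = t * i * t⁻¹ := ⟨_, rfl⟩
  rw [← hj] at hij2
  have hjQ : j ∈ Q := by rw [hj]; exact h.conj_mem t htz i hiQ
  have hjj : j * j = z := by
    have : j * j = t * (i * i) * t⁻¹ := by rw [hj]; group
    rw [this, hii, htz]; group
  have hij : i * j = j * i * z := by
    rcases h.comm i hiQ j hjQ with h1 | h1
    · exfalso
      have h2 : h.b (h.pr ⟨i, hiQ⟩) (h.pr ⟨j, hjQ⟩) = 0 := (h.b_pr _ _).2 h1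
      have hprj : h.pr ⟨j, hjQ⟩ = w := by
        rw [hw, ← hpri]
        refine (h.act_pr_coe _ _ _ ?_).symm
        show (ct : G) * i * (ct : G)⁻¹ = j
        rw [hj, ht]
      rw [hpri, hprj] at h2
      apply hv0
      apply h.b_nondeg
      intro s
      rcases hcases s with h3 | h3 | h3 | h3 <;> rw [h3]
      · exact map_zero _
      · exact h.b_self v
      · exact h2
      · rw [map_add, h.b_self, zero_add]; exact h2
    · exact h1
  have hji : j * i = i * j * z := comm_of_symm h.z_sq hij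
  have hiinv : i⁻¹ = i * z := by
    rw [inv_eq_iff_mul_eq_one, ← mul_assoc, hii, h.z_sq]
  have hti2 : t⁻¹ * i * t = i * j := by
    have h1 : t * (i * j) * t⁻¹ = i := by
      calc t * (i * j) * t⁻¹ = (t * i * t⁻¹) * (t * j * t⁻¹) := by group
        _ = j * (i * j) := by rw [← hj, hij2]
        _ = (j * i) * j := by group
        _ = i * j * (z * j) := by rw [hji]; group
        _ = i * (j * j) * z := by rw [← h.comm_z j hjQ]; group
        _ = i := by rw [hjj, mul_assoc, h.z_sq, mul_one]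
    calc t⁻¹ * i * t = t⁻¹ * (t * (i * j) * t⁻¹) * t := by rw [h1]
      _ = i * j := by group
  have hdi : d * i * d⁻¹ = i⁻¹ := by
    have hdiQ : d * i * d⁻¹ ∈ Q := h.conj_mem d hdz i hiQ
    have hsq : (d * i * d⁻¹) * (d * i * d⁻¹) = z := by
      calc (d * i * d⁻¹) * (d * i * d⁻¹) = d * (i * i) * d⁻¹ := by group
        _ = z := by rw [hii, hdz]; group
    have hcd : h.act (⟨x, Subgroup.mem_centralizer_singleton_iff.2 (h.comm_z x hxQ)⟩ * H.cb)
        (h.pr ⟨i, hiQ⟩) = h.pr ⟨i, hiQ⟩ := by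
      rw [map_mul, h.act_mem _ hxQ, hpri]
      exact hbv
    have hpr : h.pr ⟨d * i * d⁻¹, hdiQ⟩ = h.pr ⟨i, hiQ⟩ := by
      rw [← hcd]
      refine (h.act_pr_coe _ _ _ ?_).symm
      show (x * b) * i * (x * b)⁻¹ = d * i * d⁻¹
      rw [hd]
    have hiu := h.comm_u i hiQ
    have hiz := h.comm_z i hiQ
    rcases h.pr_eq_pr.1 hpr with h1 | h1 | h1 | h1
    · exfalso
      have h1' : d * i * d⁻¹ = i := h1
      have h2 : d * j * d⁻¹ = i * j := by
        rw [hj]
        calc d * (t * i * t⁻¹) * d⁻¹ = (d * t * d⁻¹) * (d * i * d⁻¹) * (d * t * d⁻¹)⁻¹ := by group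
          _ = t⁻¹ * i * t := by rw [hdt, h1', inv_inv]
          _ = i * (t * i * t⁻¹) := by rw [hti2, hj]
      have h3 : d * (i * j) * d⁻¹ = z * j := by
        calc d * (i * j) * d⁻¹ = (d * i * d⁻¹) * (d * j * d⁻¹) := by group
          _ = z * j := by rw [h1', h2, ← mul_assoc, hii]
      have h4 : d * (i * j) * d⁻¹ = j := by
        calc d * (i * j) * d⁻¹ = d * (t * j * t⁻¹) * d⁻¹ := by rw [hij2]
          _ = (d * t * d⁻¹) * (d * j * d⁻¹) * (d * t * d⁻¹)⁻¹ := by group
          _ = t⁻¹ * (i * j) * t := by rw [hdt, h2, inv_inv]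
          _ = t⁻¹ * (t * j * t⁻¹) * t := by rw [hij2]
          _ = j := by group
      rw [h4] at h3
      exact h.z_ne (mul_eq_right.1 h3.symm)
    · rw [hiinv]; exact h1
    · exfalso
      have h1' : d * i * d⁻¹ = i * u := h1
      rw [h1'] at hsq
      apply h.z_ne
      calc z = i * u * (i * u) := hsq.symm
        _ = i * (u * i) * u := by group
        _ = (i * i) * (u * u) := by rw [← hiu]; group
        _ = 1 := by rw [hii, h.u_sq, h.z_sq]
    · exfalso
      have h1' : d * i * d⁻¹ = i * (u * z) := h1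
      rw [h1'] at hsq
      apply h.z_ne
      calc z = i * (u * z) * (i * (u * z)) := hsq.symm
        _ = i * u * (z * i) * (u * z) := by group
        _ = i * (u * i) * (z * u) * z := by rw [← hiz]; group
        _ = (i * i) * (u * u) * (z * z) := by rw [← hiu, ← h.uz]; group
        _ = 1 := by rw [hii, h.u_sq, h.z_sq, one_mul]
  refine ⟨i, j, t, d, ?_⟩
  refine
    { rel :=
        { hi := by rw [show (4 : ℕ) = 2 * 2 from rfl, pow_mul, pow_two i, hii, pow_two, h.z_sq]
          hj := by rw [pow_two, pow_two, hjj, hii]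
          hji := by
            rw [hji, hiinv, mul_assoc (i * j), ← (show Commute j z from h.comm_z j hjQ).inv_left.eq]
            group
          hti := hj.symm
          htj := hij2
          ht := ht3
          hdn := by rw [hd4, pow_two, hii]
          hdt := hdt
          hdi := hdi }
      iQ := hiQ
      jQ := hjQ
      tz := htz
      dz := hdz
      tu := htu
      du := hdu
      ii := hii
      dd := hdd
      pri := fun _ _ => by rw [hpri, hv] }

end Four

/-! ### consequences -/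

namespace Gen

variable {Q : Subgroup G} {z u a b i j t d : G} {h : Symp Q z u}

/-- the vectors `v = pr i`, `w = pr j` and the actions of `t`, `d`. -/
theorem exists_vec (g : Gen h a i j t d) (H : Four h a b) :
    ∃ (v w : h.V) (ct cd : Subgroup.centralizer ({z} : Set G)), (ct : G) = t ∧ (cd : G) = d ∧
      v = h.pr ⟨i, g.iQ⟩ ∧ w = h.pr ⟨j, g.jQ⟩ ∧ v ≠ 0 ∧ w ≠ 0 ∧ v ≠ w ∧
      h.act ct v = w ∧ h.act ct w = v + w ∧ h.act cd v = v ∧ h.act cd w = v + w := by
  obtain ⟨ct, hct⟩ : ∃ ct : Subgroup.centralizer ({z} : Set G), (ct : G) = t :=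
    ⟨⟨t, Subgroup.mem_centralizer_singleton_iff.2 g.tz⟩, rfl⟩
  obtain ⟨cd, hcd⟩ : ∃ cd : Subgroup.centralizer ({z} : Set G), (cd : G) = d :=
    ⟨⟨d, Subgroup.mem_centralizer_singleton_iff.2 g.dz⟩, rfl⟩
  have hv0 : h.pr ⟨i, g.iQ⟩ ≠ 0 := by rw [g.pri g.iQ H.a_mem]; exact H.pr_a_ne
  have hiinv : i⁻¹ = i * z := by
    rw [inv_eq_iff_mul_eq_one, ← mul_assoc, g.ii, h.z_sq]
  have htv : h.act ct (h.pr ⟨i, g.iQ⟩) = h.pr ⟨j, g.jQ⟩ := by
    refine h.act_pr_coe _ _ _ ?_
    show (ct : G) * i * (ct : G)⁻¹ = j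
    rw [hct]; exact g.rel.hti
  have htw : h.act ct (h.pr ⟨j, g.jQ⟩) = h.pr ⟨i, g.iQ⟩ + h.pr ⟨j, g.jQ⟩ := by
    rw [← h.pr_mul]
    refine h.act_pr_coe _ _ _ ?_
    show (ct : G) * j * (ct : G)⁻¹ = i * j
    rw [hct]; exact g.rel.htj
  have hdv : h.act cd (h.pr ⟨i, g.iQ⟩) = h.pr ⟨i, g.iQ⟩ := by
    have h1 : h.act cd (h.pr ⟨i, g.iQ⟩) = h.pr ⟨i * z, mul_mem g.iQ h.z_mem⟩ := by
      refine h.act_pr_coe _ _ _ ?_
      show (cd : G) * i * (cd : G)⁻¹ = i * z
      rw [hcd, ← hiinv]; exact g.rel.hdi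
    rw [h1, h.pr_eq_pr]
    right; left; rfl
  have hti2 : t⁻¹ * i * t = i * j := by
    have hjj : j * j = z := by
      have := g.rel.hj
      rw [pow_two, pow_two, g.ii] at this
      exact this
    have hji : j * i = i * j * z := by
      have h1 := g.rel.hji
      rw [mul_inv_eq_iff_eq_mul, hiinv] at h1
      rw [h1, mul_assoc, mul_assoc, h.comm_z j g.jQ]
    have h1 : t * (i * j) * t⁻¹ = i := by
      calc t * (i * j) * t⁻¹ = (t * i * t⁻¹) * (t * j * t⁻¹) := by group
        _ = j * (i * j) := by rw [g.rel.hti, g.rel.htj]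
        _ = (j * i) * j := by group
        _ = i * j * (z * j) := by rw [hji]; group
        _ = i * (j * j) * z := by rw [← h.comm_z j g.jQ]; group
        _ = i := by rw [hjj, mul_assoc, h.z_sq, mul_one]
    calc t⁻¹ * i * t = t⁻¹ * (t * (i * j) * t⁻¹) * t := by rw [h1]
      _ = i * j := by group
  have hdw : h.act cd (h.pr ⟨j, g.jQ⟩) = h.pr ⟨i, g.iQ⟩ + h.pr ⟨j, g.jQ⟩ := by
    have h1 : h.act cd (h.pr ⟨j, g.jQ⟩) = h.pr (⟨i, g.iQ⟩ * ⟨j, g.jQ⟩)⁻¹ := by
      refine h.act_pr_coe _ _ _ ?_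
      show (cd : G) * j * (cd : G)⁻¹ = (i * j)⁻¹
      rw [hcd]
      calc d * j * d⁻¹ = d * (t * i * t⁻¹) * d⁻¹ := by rw [g.rel.hti]
        _ = (d * t * d⁻¹) * (d * i * d⁻¹) * (d * t * d⁻¹)⁻¹ := by group
        _ = (t⁻¹ * i * t)⁻¹ := by rw [g.rel.hdt, g.rel.hdi]; group
        _ = (i * j)⁻¹ := by rw [hti2]
    rw [h1, h.pr_inv, h.pr_mul, h.neg_eq]
  refine ⟨_, _, ct, cd, hct, hcd, rfl, rfl, hv0, ?_, ?_, htv, htw, hdv, hdw⟩
  · intro h1
    rw [← htv] at h1
    exact hv0 ((LinearEquiv.map_eq_zero_iff _).1 h1)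
  · intro h1
    rw [← h1] at htv htw
    rw [htv, h.add_self] at htw
    exact hv0 htw

theorem mem_closure [Finite G] (g : Gen h a i j t d) (H : Four h a b) {x : G} (hx : x * z = z * x) :
    x ∈ Subgroup.closure ({i, j, t, d} : Set G) := by
  obtain ⟨v, w, ct, cd, hct, hcd, hv, hw, hv0, hw0, hvw, htv, htw, hdv, hdw⟩ := g.exists_vec H
  obtain ⟨K, hK⟩ : ∃ K : Subgroup G, K = Subgroup.closure ({i, j, t, d} : Set G) := ⟨_, rfl⟩
  rw [← hK]
  have mi : i ∈ K := by rw [hK]; exact Subgroup.subset_closure (by simp)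
  have mj : j ∈ K := by rw [hK]; exact Subgroup.subset_closure (by simp)
  have mt : t ∈ K := by rw [hK]; exact Subgroup.subset_closure (by simp)
  have md : d ∈ K := by rw [hK]; exact Subgroup.subset_closure (by simp)
  have mz : z ∈ K := by rw [← g.ii]; exact mul_mem mi mi
  have mu : u ∈ K := by
    rcases g.dd with h1 | h1
    · rw [← h1]; exact mul_mem md md
    · have : u = d * d * z := by rw [h1, mul_assoc, h.z_sq, mul_one]
      rw [this]; exact mul_mem (mul_mem md md) mz
  have hcases := fun s => vec_cases h.add_self H.hV hv0 hw0 hvw s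
  have hvw2 : v + (v + w) = w := by rw [← add_assoc, h.add_self, zero_add]
  have hvw3 : w + (v + w) = v := by
    calc w + (v + w) = v + (w + w) := by abel
      _ = v := by rw [h.add_self, add_zero]
  -- `Q ≤ K`
  have hQ : ∀ q ∈ Q, q ∈ K := by
    intro q hq
    have key : ∀ e : Q, (e : G) ∈ K → h.pr ⟨q, hq⟩ = h.pr e → q ∈ K := by
      intro e he h1
      rcases h.pr_eq_pr.1 h1 with h2 | h2 | h2 | h2
      · have h2' : q = e := h2
        rw [h2']; exact he
      · have h2' : q = e * z := h2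
        rw [h2']; exact mul_mem he mz
      · have h2' : q = e * u := h2
        rw [h2']; exact mul_mem he mu
      · have h2' : q = e * (u * z) := h2
        rw [h2']; exact mul_mem he (mul_mem mu mz)
    rcases hcases (h.pr ⟨q, hq⟩) with h1 | h1 | h1 | h1
    · exact key 1 (one_mem _) (by rw [h1, h.pr_one])
    · exact key ⟨i, g.iQ⟩ mi (by rw [h1, hv])
    · exact key ⟨j, g.jQ⟩ mj (by rw [h1, hw])
    · exact key (⟨i, g.iQ⟩ * ⟨j, g.jQ⟩) (mul_mem mi mj) (by rw [h1, hv, hw, h.pr_mul])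
  have hext : ∀ (c : Subgroup.centralizer ({z} : Set G)), h.act c v = v → h.act c w = w → (c : G) ∈ Q := by
    intro c h1 h2
    apply h.mem_of_act
    ext s
    show h.act c s = s
    rcases hcases s with h3 | h3 | h3 | h3 <;> rw [h3]
    · exact map_zero _
    · exact h1
    · exact h2
    · rw [map_add, h1, h2]
  have hkey : ∀ (c : Subgroup.centralizer ({z} : Set G)), h.act c v = v → (c : G) ∈ K := by
    intro c h1
    rcases hcases (h.act c w) with h2 | h2 | h2 | h2
    · exact absurd ((LinearEquiv.map_eq_zero_iff _).1 h2) hw0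
    · rw [← h1] at h2
      exact absurd ((h.act c).injective h2).symm hvw
    · exact hQ _ (hext c h1 h2)
    · have h3 : ((cd * c : Subgroup.centralizer ({z} : Set G)) : G) ∈ Q := by
        apply hext
        · rw [map_mul]
          show h.act cd (h.act c v) = v
          rw [h1, hdv]
        · rw [map_mul]
          show h.act cd (h.act c w) = w
          rw [h2, map_add, hdv, hdw, hvw2]
      have h4 := mul_mem (inv_mem md) (hQ _ h3)
      rw [Subgroup.coe_mul, hcd, inv_mul_cancel_left] at h4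
      exact h4
  obtain ⟨c, hc⟩ : ∃ c : Subgroup.centralizer ({z} : Set G), (c : G) = x :=
    ⟨⟨x, Subgroup.mem_centralizer_singleton_iff.2 hx⟩, rfl⟩
  rw [← hc]
  have hstep : ((ct * c : Subgroup.centralizer ({z} : Set G)) : G) ∈ K → (c : G) ∈ K := by
    intro h1
    have h4 := mul_mem (inv_mem mt) h1
    rw [Subgroup.coe_mul, hct, inv_mul_cancel_left] at h4
    exact h4
  rcases hcases (h.act c v) with h2 | h2 | h2 | h2
  · exact absurd ((LinearEquiv.map_eq_zero_iff _).1 h2) hv0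
  · exact hkey c h2
  · apply hstep
    have h5 : ((ct * (ct * c) : Subgroup.centralizer ({z} : Set G)) : G) ∈ K := by
      apply hkey
      rw [map_mul, map_mul]
      show h.act ct (h.act ct (h.act c v)) = v
      rw [h2, htw, map_add, htv, htw, hvw3]
    have h4 := mul_mem (inv_mem mt) h5
    rw [Subgroup.coe_mul _ ct, hct, inv_mul_cancel_left] at h4
    exact h4
  · apply hstep
    apply hkey
    rw [map_mul]
    show h.act ct (h.act c v) = v
    rw [h2, map_add, htv, htw, hvw3]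

/-- Every nonzero vector is moved to `v = pr i`. -/
theorem exists_move [Finite G] (g : Gen h a i j t d) (H : Four h a b) {r : h.V} (hr : r ≠ 0) :
    ∃ m : Subgroup.centralizer ({z} : Set G), h.act m r = h.pr ⟨i, g.iQ⟩ := by
  obtain ⟨v, w, ct, cd, hct, hcd, hv, hw, hv0, hw0, hvw, htv, htw, hdv, hdw⟩ := g.exists_vec H
  have hvw3 : w + (v + w) = v := by
    calc w + (v + w) = v + (w + w) := by abel
      _ = v := by rw [h.add_self, add_zero]
  rw [← hv]
  rcases vec_cases h.add_self H.hV hv0 hw0 hvw r with h2 | h2 | h2 | h2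
  · exact absurd h2 hr
  · exact ⟨1, by rw [h2, map_one]; rfl⟩
  · refine ⟨ct * ct, ?_⟩
    rw [map_mul]
    show h.act ct (h.act ct r) = v
    rw [h2, htw, map_add, htv, htw, hvw3]
  · refine ⟨ct, ?_⟩
    rw [h2, map_add, htv, htw, hvw3]

/-- The involutions of `C(z)` are in `Q`. -/
theorem mem_of_invol [Finite G] (g : Gen h a i j t d) (H : Four h a b) {x : G} (hx : x * z = z * x)
    (hxx : x * x = 1) : x ∈ Q := by
  by_contra hxQ
  obtain ⟨v, w, ct, cd, hct, hcd, hv, hw, hv0, hw0, hvw, htv, htw, hdv, hdw⟩ := g.exists_vec H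
  have hcases := fun s => vec_cases h.add_self H.hV hv0 hw0 hvw s
  have hvw2 : v + (v + w) = w := by rw [← add_assoc, h.add_self, zero_add]
  obtain ⟨c, hc⟩ : ∃ c : Subgroup.centralizer ({z} : Set G), (c : G) = x :=
    ⟨⟨x, Subgroup.mem_centralizer_singleton_iff.2 hx⟩, rfl⟩
  have hcc : c * c = 1 := Subtype.ext (by rw [Subgroup.coe_mul, hc, hxx]; rfl)
  have hc2 : ∀ s, h.act c (h.act c s) = s := by
    intro s
    have : h.act (c * c) s = s := by rw [hcc, map_one]; rfl
    rw [map_mul] at this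
    exact this
  obtain ⟨r, hr0, hr⟩ : ∃ r, r ≠ 0 ∧ h.act c r = r := by
    by_cases h1 : h.act c v = v
    · exact ⟨v, hv0, h1⟩
    · refine ⟨v + h.act c v, ?_, by rw [map_add, hc2, add_comm]⟩
      intro h2
      apply h1
      calc h.act c v = (v + v) + h.act c v := by rw [h.add_self, zero_add]
        _ = v + (v + h.act c v) := by rw [add_assoc]
        _ = v := by rw [h2, add_zero]
  obtain ⟨m, hm⟩ := g.exists_move H hr0
  rw [← hv] at hm
  obtain ⟨c', hc'⟩ : ∃ c', c' = m * c * m⁻¹ := ⟨_, rfl⟩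
  have hmi : h.act m⁻¹ v = r := by
    rw [← hm, map_inv]
    exact (h.act m).symm_apply_apply r
  have hc'v : h.act c' v = v := by
    rw [hc', map_mul, map_mul]
    show h.act m (h.act c (h.act m⁻¹ v)) = v
    rw [hmi, hr, hm]
  have hc'c' : c' * c' = 1 := by
    rw [hc']
    calc m * c * m⁻¹ * (m * c * m⁻¹) = m * (c * c) * m⁻¹ := by group
      _ = 1 := by rw [hcc]; group
  have hc'Q : (c' : G) ∉ Q := by
    intro h1
    apply hxQ
    have hmz : (m : G)⁻¹ * z = z * (m : G)⁻¹ :=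
      (show Commute (m : G) z from Subgroup.mem_centralizer_singleton_iff.1 m.2).inv_left.eq
    have h2 := h.conj_mem (m : G)⁻¹ hmz _ h1
    have e : (m : G)⁻¹ * (c' : G) * ((m : G)⁻¹)⁻¹ = x := by
      rw [hc', ← hc]
      show (m : G)⁻¹ * ((m : G) * c * (m : G)⁻¹) * ((m : G)⁻¹)⁻¹ = c
      group
    rwa [e] at h2
  have hext : ∀ (c : Subgroup.centralizer ({z} : Set G)), h.act c v = v → h.act c w = w → (c : G) ∈ Q := by
    intro c h1 h2
    apply h.mem_of_act
    ext s
    show h.act c s = s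
    rcases hcases s with h3 | h3 | h3 | h3 <;> rw [h3]
    · exact map_zero _
    · exact h1
    · exact h2
    · rw [map_add, h1, h2]
  have hc'w : h.act c' w = v + w := by
    rcases hcases (h.act c' w) with h2 | h2 | h2 | h2
    · exact absurd ((LinearEquiv.map_eq_zero_iff _).1 h2) hw0
    · rw [← hc'v] at h2
      exact absurd ((h.act c').injective h2).symm hvw
    · exact absurd (hext c' hc'v h2) hc'Q
    · exact h2
  have hqQ : ((cd * c' : Subgroup.centralizer ({z} : Set G)) : G) ∈ Q := by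
    apply hext
    · rw [map_mul]
      show h.act cd (h.act c' v) = v
      rw [hc'v, hdv]
    · rw [map_mul]
      show h.act cd (h.act c' w) = w
      rw [hc'w, map_add, hdv, hdw, hvw2]
  obtain ⟨y, hy⟩ : ∃ y : G, y = c' := ⟨_, rfl⟩
  obtain ⟨q, hq⟩ : ∃ q, q = d * y := ⟨_, rfl⟩
  rw [Subgroup.coe_mul, hcd, ← hy, ← hq] at hqQ
  have hyy : y * y = 1 := by rw [hy, ← Subgroup.coe_mul, hc'c']; rfl
  have hdinv : d⁻¹ * z = z * d⁻¹ := (show Commute d z from g.dz).inv_left.eq
  obtain ⟨p, hp⟩ : ∃ p, p = d⁻¹ * q * d := ⟨_, rfl⟩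
  have hpQ : p ∈ Q := by
    have := h.conj_mem d⁻¹ hdinv q hqQ
    rw [inv_inv] at this
    rw [hp]; exact this
  have hddz : (d * d) * (d * d) = z := by
    rcases g.dd with h1 | h1 <;> rw [h1]
    · exact h.u_sq
    · calc u * z * (u * z) = u * (z * u) * z := by group
        _ = (u * u) * (z * z) := by rw [← h.uz]; group
        _ = z := by rw [h.u_sq, h.z_sq, mul_one]
  have hcen : ∀ e ∈ Q, e * (d * d) = (d * d) * e := by
    intro e he
    rcases g.dd with h1 | h1 <;> rw [h1]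
    · exact h.comm_u e he
    · rw [← mul_assoc, h.comm_u e he, mul_assoc, h.comm_z e he, mul_assoc]
  have hpq : p * q = d * d := by
    have h1 : q = d * y := hq
    have h2 : y = d⁻¹ * q := by rw [hq]; group
    have h3 : d⁻¹ * q * (d⁻¹ * q) = 1 := by rw [← h2]; exact hyy
    have h4 : p * ((d * d)⁻¹ * q) = 1 := by
      rw [hp, ← h3]; group
    have h5 : (d * d)⁻¹ * q = q * (d * d)⁻¹ := by
      rw [inv_mul_eq_iff_eq_mul, ← mul_assoc, ← hcen q hqQ]; group
    rw [h5, ← mul_assoc, mul_inv_eq_one] at h4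
    exact h4
  -- `d d = e e` with `e ∈ Q` is impossible
  have hbad : ∀ e ∈ Q, e * e = d * d → False := by
    intro e he h1
    rw [← h1] at hddz
    rcases h.sq e he with h2 | h2
    · rw [h2, one_mul] at hddz; exact h.z_ne hddz.symm
    · rw [h2, h.z_sq] at hddz; exact h.z_ne hddz.symm
  have hprp : h.act cd (h.pr ⟨p, hpQ⟩) = h.pr ⟨q, hqQ⟩ := by
    refine h.act_pr_coe _ _ _ ?_
    show (cd : G) * p * (cd : G)⁻¹ = q
    rw [hcd, hp]; group
  have hprpq : h.pr ⟨p, hpQ⟩ = h.pr ⟨q, hqQ⟩ := by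
    have h1 : h.pr (⟨p, hpQ⟩ * ⟨q, hqQ⟩) = 0 := by
      rw [h.pr_eq_zero]
      rcases g.dd with h2 | h2
      · right; right; left
        rw [← h2]; exact hpq
      · right; right; right
        rw [← h2]; exact hpq
    rw [h.pr_mul] at h1
    calc h.pr ⟨p, hpQ⟩ = h.pr ⟨p, hpQ⟩ + (h.pr ⟨q, hqQ⟩ + h.pr ⟨q, hqQ⟩) := by rw [h.add_self, add_zero]
      _ = (h.pr ⟨p, hpQ⟩ + h.pr ⟨q, hqQ⟩) + h.pr ⟨q, hqQ⟩ := by rw [add_assoc]
      _ = h.pr ⟨q, hqQ⟩ := by rw [h1, zero_add]
  rw [hprpq] at hprp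
  have hdu := g.du
  have hdz := g.dz
  have hfin : ∀ (f : Q) (e : G), (e = 1 ∨ e = z ∨ e = u ∨ e = u * z) → q = f * e →
      d⁻¹ * (f : G) * d = (f : G)⁻¹ → False := by
    intro f e he hqf hf
    have heQ : e ∈ Q := by
      rcases he with h1 | h1 | h1 | h1 <;> rw [h1]
      · exact one_mem _
      · exact h.z_mem
      · exact h.u_mem
      · exact mul_mem h.u_mem h.z_mem
    have hed : d⁻¹ * e * d = e := by
      have : e * d = d * e := by
        rcases he with h1 | h1 | h1 | h1 <;> rw [h1]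
        · rw [one_mul, mul_one]
        · exact hdz.symm
        · exact hdu.symm
        · rw [mul_assoc, ← hdz, ← mul_assoc, ← hdu, mul_assoc]
      rw [mul_assoc, this]; group
    have hef : e * (f : G) = f * e := by
      rcases he with h1 | h1 | h1 | h1 <;> rw [h1]
      · rw [one_mul, mul_one]
      · exact (h.comm_z f f.2).symm
      · exact (h.comm_u f f.2).symm
      · rw [mul_assoc, ← h.comm_z f f.2, ← mul_assoc, ← h.comm_u f f.2, mul_assoc]
    apply hbad e heQ
    rw [← hpq, hp, hqf]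
    calc e * e = ((f : G)⁻¹ * (f * e)) * e := by group
      _ = (f : G)⁻¹ * (e * f) * e := by rw [hef]
      _ = ((f : G)⁻¹ * e) * (f * e) := by group
      _ = ((d⁻¹ * f * d) * (d⁻¹ * e * d)) * (f * e) := by rw [hf, hed]
      _ = d⁻¹ * (f * e) * d * (f * e) := by group
  rcases hcases (h.pr ⟨q, hqQ⟩) with h1 | h1 | h1 | h1
  · have h2 : q = 1 ∨ q = z ∨ q = u ∨ q = u * z := h.pr_eq_zero.1 h1
    exact hfin 1 q h2 (by rw [Subgroup.coe_one, one_mul]) (by rw [Subgroup.coe_one]; group)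
  · rw [hv] at h1
    have h3 : d⁻¹ * i * d = i⁻¹ := by
      calc d⁻¹ * i * d = (d⁻¹ * i⁻¹ * d)⁻¹ := by group
        _ = (d⁻¹ * (d * i * d⁻¹) * d)⁻¹ := by rw [g.rel.hdi]
        _ = i⁻¹ := by group
    rcases h.pr_eq_pr.1 h1 with h2 | h2 | h2 | h2
    · exact hfin ⟨i, g.iQ⟩ 1 (Or.inl rfl) (by rw [mul_one]; exact h2) h3
    · exact hfin ⟨i, g.iQ⟩ z (Or.inr (Or.inl rfl)) h2 h3
    · exact hfin ⟨i, g.iQ⟩ u (Or.inr (Or.inr (Or.inl rfl))) h2 h3
    · exact hfin ⟨i, g.iQ⟩ (u * z) (Or.inr (Or.inr (Or.inr rfl))) h2 h3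
  · rw [h1, hdw] at hprp
    exact hv0 (by simpa using hprp)
  · rw [h1, map_add, hdv, hdw, hvw2] at hprp
    exact hv0 (by simpa using hprp)

/-- The involutions of `C(z)`. -/
theorem invol [Finite G] (g : Gen h a i j t d) (H : Four h a b) {x : G} (hx : x * z = z * x)
    (hxx : x * x = 1) (hx1 : x ≠ 1) (hxz : x ≠ z) :
    ∃ m : G, m * z = z * m ∧ (m * x * m⁻¹ = a ∨ m * x * m⁻¹ = a * z) := by
  have hxQ := g.mem_of_invol H hx hxx
  have hpr0 : h.pr ⟨x, hxQ⟩ ≠ 0 := by
    intro h1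
    rcases h.pr_eq_zero.1 h1 with h2 | h2 | h2 | h2
    · exact hx1 h2
    · exact hxz h2
    · have h2' : x = u := h2
      rw [h2', h.u_sq] at hxx
      exact h.z_ne hxx
    · have h2' : x = u * z := h2
      apply h.z_ne
      rw [h2'] at hxx
      calc z = (u * u) * (z * z) := by rw [h.u_sq, h.z_sq, mul_one]
        _ = u * (u * z) * z := by group
        _ = u * (z * u) * z := by rw [h.uz]
        _ = u * z * (u * z) := by group
        _ = 1 := hxx
  obtain ⟨m, hm⟩ := g.exists_move H hpr0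
  rw [g.pri g.iQ H.a_mem] at hm
  have hmz : (m : G) * z = z * m := Subgroup.mem_centralizer_singleton_iff.1 m.2
  refine ⟨m, hmz, ?_⟩
  have hyQ : (m : G) * x * (m : G)⁻¹ ∈ Q := h.conj_mem m hmz x hxQ
  have h3 : h.pr ⟨(m : G) * x * (m : G)⁻¹, hyQ⟩ = h.pr ⟨a, H.a_mem⟩ := by
    rw [← hm]
    exact (h.act_pr_coe _ _ _ rfl).symm
  refine h.eq_or_of_pr_eq ?_ H.aa h3
  show (m : G) * x * (m : G)⁻¹ * ((m : G) * x * (m : G)⁻¹) = 1
  calc (m : G) * x * (m : G)⁻¹ * ((m : G) * x * (m : G)⁻¹) = m * (x * x) * (m : G)⁻¹ := by group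
    _ = 1 := by rw [hxx]; group

end Gen

/-- **The centralizer is `GU(2,3)`.** -/
theorem Four.nonempty_equiv [Finite G] {Q : Subgroup G} {z u a b : G} {h : Symp Q z u} (H : Four h a b)
    {K : Type*} [Field K] [Fintype K] (hK : Fintype.card K = 3 ^ 2) :
    Nonempty (Subgroup.centralizer ({z} : Set G) ≃* Cfsg.GU 2 K 3) := by
  obtain ⟨i, j, t, d, g⟩ := H.exists_gen
  have mi : i ∈ Subgroup.centralizer ({z} : Set G) :=
    Subgroup.mem_centralizer_singleton_iff.2 (h.comm_z i g.iQ)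
  have mj : j ∈ Subgroup.centralizer ({z} : Set G) :=
    Subgroup.mem_centralizer_singleton_iff.2 (h.comm_z j g.jQ)
  have mt : t ∈ Subgroup.centralizer ({z} : Set G) := Subgroup.mem_centralizer_singleton_iff.2 g.tz
  have md : d ∈ Subgroup.centralizer ({z} : Set G) := Subgroup.mem_centralizer_singleton_iff.2 g.dz
  refine gu23 (g.rel.subtype _ mi mj mt md) ?_ H.card_eq hK
  rw [eq_top_iff]
  rintro ⟨x, hx⟩ -
  have h1 := g.mem_closure H (Subgroup.mem_centralizer_singleton_iff.1 hx)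
  have h2 : x ∈ (Subgroup.closure ({⟨i, mi⟩, ⟨j, mj⟩, ⟨t, mt⟩, ⟨d, md⟩} :
      Set (Subgroup.centralizer ({z} : Set G)))).map (Subgroup.centralizer ({z} : Set G)).subtype := by
    rw [MonoidHom.map_closure]
    simpa [Set.image_insert_eq] using h1
  obtain ⟨y, hy, hyx⟩ := h2
  have : y = ⟨x, hx⟩ := Subtype.ext hyx
  rwa [← this]

/-! ### in the family -/

section fam

variable {D : Set G} {Q : G → Subgroup G} {u : G → G}

theorem four_of_fam (F : Fam D Q u) {z a : G} (hz : z ∈ D) (ha : a ∈ D) (haz : a ∈ Q z) (hne : a ≠ z)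
    (hV : Nat.card (F.loc z hz).V = 4) : Four (F.loc z hz) a (u a) := by
  have lz := F.loc z hz
  have la := F.loc a ha
  have hza : z ∈ Q a := F.mem_symm hz ha haz
  refine ⟨hV, haz, la.z_sq, la.z_ne, hne, la.u_sq, (la.comm_u z hza).symm, ?_⟩
  rcases F.typeA_or_typeB hz ha hne.symm (lz.comm_z a haz).symm with h1 | ⟨-, h1⟩
  · exact h1.symm
  · exfalso
    rw [lz.comm_u a haz, mul_inv_cancel_right] at h1
    exact lz.z_ne (mul_eq_left.1 h1.symm)

theorem invol_mem [Finite G] (F : Fam D Q u) {z a : G} (hz : z ∈ D) (ha : a ∈ D) (haz : a ∈ Q z) (hne : a ≠ z)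
    (hV : Nat.card (F.loc z hz).V = 4) {s : G} (hs : orderOf s = 2) (hsz : s * z = z * s) : s ∈ D := by
  have H := four_of_fam F hz ha haz hne hV
  obtain ⟨i, j, t, d, g⟩ := H.exists_gen
  by_cases hsz1 : s = z
  · rw [hsz1]; exact hz
  have hss : s * s = 1 := by rw [← pow_two, ← hs]; exact pow_orderOf_eq_one s
  have hs1 : s ≠ 1 := by rintro rfl; rw [orderOf_one] at hs; norm_num at hs
  obtain ⟨m, hm, h1⟩ := g.invol H hsz hss hs1 hsz1
  have hazD : a * z ∈ D := by
    have h2 := F.mem_Q_mul ha hz (Ne.symm hne) (F.mem_symm hz ha haz)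
    exact h2.1
  have hmem : m * s * m⁻¹ ∈ D := by
    rcases h1 with h1 | h1 <;> rw [h1]
    · exact ha
    · exact hazD
  have h2 := F.conj_mem _ hmem m⁻¹
  have e : m⁻¹ * (m * s * m⁻¹) * m⁻¹⁻¹ = s := by group
  rwa [e] at h2

/-- All involutions are in `D`. -/
theorem one_class [Finite G] (F : Fam D Q u) {z a : G} (hz : z ∈ D) (ha : a ∈ D) (haz : a ∈ Q z) (hne : a ≠ z)
    (hV : Nat.card (F.loc z hz).V = 4) {s : G} (hs : orderOf s = 2) : s ∈ D := by
  classical
  have p2 : Fact (Nat.Prime 2) := ⟨Nat.prime_two⟩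
  -- involutions commuting with a member of `D`
  have key : ∀ z' ∈ D, ∀ s, orderOf s = 2 → s * z' = z' * s → s ∈ D := by
    intro z' hz' s hs hsz
    obtain ⟨k, rfl⟩ := F.trans z hz z' hz'
    have h1 : k⁻¹ * s * k ∈ D := by
      refine invol_mem F hz ha haz hne hV ?_ ?_
      · rw [← hs]
        have := (MulAut.conj k⁻¹).orderOf_eq s
        have e : (MulAut.conj k⁻¹) s = k⁻¹ * s * k := by
          rw [MulAut.conj_apply, inv_inv]
        rwa [e] at this
      · calc k⁻¹ * s * k * z = k⁻¹ * (s * (k * z * k⁻¹)) * k := by group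
          _ = k⁻¹ * ((k * z * k⁻¹) * s) * k := by rw [hsz]
          _ = z * (k⁻¹ * s * k) := by group
    have h2 := F.conj_mem _ h1 k
    have e : k * (k⁻¹ * s * k) * k⁻¹ = s := by group
    rwa [e] at h2
  have hpg : ∀ x : G, x ^ 2 = 1 → IsPGroup 2 (Subgroup.zpowers x) := by
    intro x hx
    rintro ⟨_, n, rfl⟩
    refine ⟨1, Subtype.ext ?_⟩
    show (x ^ n) ^ (2 ^ 1) = 1
    rw [pow_one, ← zpow_natCast, ← zpow_mul, mul_comm, zpow_mul, zpow_natCast, hx, one_zpow]
  have hs2 : s ^ 2 = 1 := by rw [← hs]; exact pow_orderOf_eq_one s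
  have hz2 : z ^ 2 = 1 := by rw [pow_two]; exact (F.loc z hz).z_sq
  obtain ⟨P, hP⟩ := (hpg s hs2).exists_le_sylow
  obtain ⟨P0, hP0⟩ := (hpg z hz2).exists_le_sylow
  obtain ⟨k, hk⟩ := MulAction.exists_smul_eq G P0 P
  have hsP : s ∈ (P : Subgroup G) := hP (Subgroup.mem_zpowers s)
  have hzP : k * z * k⁻¹ ∈ (P : Subgroup G) := by
    rw [← hk]
    have : z ∈ (P0 : Subgroup G) := hP0 (Subgroup.mem_zpowers z)
    exact ⟨z, this, rfl⟩
  -- an involution in the centre of `P`
  have hnt : Nontrivial (P : Subgroup G) :=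
    ⟨⟨⟨s, hsP⟩, 1, fun h => by
      have h' : s = 1 := congrArg Subtype.val h
      rw [h', orderOf_one] at hs; norm_num at hs⟩⟩
  have hcn : Nontrivial (Subgroup.center (P : Subgroup G)) := P.2.center_nontrivial
  have h2c : 2 ∣ Nat.card (Subgroup.center (P : Subgroup G)) := by
    obtain ⟨n, hn⟩ := (IsPGroup.iff_card).1 (P.2.to_subgroup (Subgroup.center (P : Subgroup G)))
    rw [hn]
    apply dvd_pow_self
    rintro rfl
    rw [pow_zero] at hn
    have := Finite.one_lt_card_iff_nontrivial.2 hcn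
    omega
  obtain ⟨r, hr⟩ := exists_prime_orderOf_dvd_card' 2 h2c
  have hr2 : orderOf ((r : (P : Subgroup G)) : G) = 2 := by
    rw [Subgroup.orderOf_coe, Subgroup.orderOf_coe, hr]
  have hrc : ∀ x ∈ (P : Subgroup G), ((r : (P : Subgroup G)) : G) * x = x * ((r : (P : Subgroup G)) : G) := by
    intro x hx
    have := Subgroup.mem_center_iff.1 r.2 ⟨x, hx⟩
    exact (congrArg Subtype.val this).symm
  have hrD : ((r : (P : Subgroup G)) : G) ∈ D :=
    key _ (F.conj_mem z hz k) _ hr2 (hrc _ hzP)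
  exact key _ hrD s hs (hrc s hsP).symm

/-- **Step 6** of S1758. -/
theorem main [Finite G] (F : Fam D Q u) {z a : G} (hz : z ∈ D) (ha : a ∈ D) (haz : a ∈ Q z) (hne : a ≠ z)
    (hV : Nat.card (F.loc z hz).V = 4) {K : Type*} [Field K] [Fintype K] (hK : Fintype.card K = 3 ^ 2) :
    Nonempty (Subgroup.centralizer ({z} : Set G) ≃* Cfsg.GU 2 K 3) ∧ ∀ s : G, orderOf s = 2 → IsConj z s := by
  refine ⟨(four_of_fam F hz ha haz hne hV).nonempty_equiv hK, fun s hs => ?_⟩
  obtain ⟨g, hg⟩ := F.trans z hz s (one_class F hz ha haz hne hV hs)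
  exact isConj_iff.2 ⟨g, hg⟩

end fam

end Cfsg.Agent.ClassificationK.SymplGU
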