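import Mathlib
import Cfsg.Agent.Lib.Cores

/-!
# Linear algebra for groups with a large subgroup of symplectic, non extraspecial type (S1758)

Abstract setting: `V` is a symplectic space over the field with two elements, `H` a group of isometries with
`O₂(H) = 1`, `Δ` an `H`-invariant set of nonzero vectors, and for every `a ∈ Δ` there is an involution `t a ∈ H`
with `ω v (t a v) = ω v a`, a totally isotropic subspace `J a` and a normal elementary abelian 2-subgroup `R a`
of the stabiliser of `a`. We show that `V` has order at most `16`.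
-/

set_option autoImplicit false

namespace Cfsg.Agent.ClassificationK.SymplLin

/-- The abstract system (see the module docstring). -/
structure Sys (V : Type*) [AddCommGroup V] [Module (ZMod 2) V] where
  /-- the symplectic form -/
  ω : LinearMap.BilinForm (ZMod 2) V
  alt : ∀ v, ω v v = 0
  nondeg : ∀ v, (∀ x, ω v x = 0) → v = 0
  /-- the group of isometries -/
  H : Subgroup (V ≃ₗ[ZMod 2] V)
  pres : ∀ h ∈ H, ∀ v x, ω (h v) (h x) = ω v x
  O2 : Cfsg.pCore 2 H = ⊥
  /-- the set of singular vectors -/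
  Δ : Set V
  zero_notMem : (0 : V) ∉ Δ
  nonempty : Δ.Nonempty
  Δ_inv : ∀ h ∈ H, ∀ a ∈ Δ, h a ∈ Δ
  closed : ∀ a ∈ Δ, ∀ b ∈ Δ, a ≠ b → ω a b = 0 → a + b ∈ Δ
  /-- the involution attached to a singular vector -/
  t : V → (V ≃ₗ[ZMod 2] V)
  t_conj : ∀ h ∈ H, ∀ a ∈ Δ, h * t a * h⁻¹ = t (h a)
  t_perp : ∀ a ∈ Δ, ∀ v, ω v a = 0 → t a v = v ∨ t a v = v + a
  t_form : ∀ a ∈ Δ, ∀ v, ω v (t a v) = ω v a
  /-- the totally isotropic subspace attached to a singular vector -/
  J : V → Submodule (ZMod 2) V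
  J_mem : ∀ a ∈ Δ, a ∈ J a
  J_iso : ∀ a ∈ Δ, ∀ x ∈ J a, ∀ y ∈ J a, ω x y = 0
  J_fix : ∀ a ∈ Δ, ∀ b ∈ Δ, t a b = b → b ∈ J a
  t_J : ∀ a ∈ Δ, ∀ v ∈ J a, t a v = v
  /-- the normal elementary abelian 2-subgroup of the stabiliser of a singular vector -/
  R : V → Subgroup (V ≃ₗ[ZMod 2] V)
  R_le : ∀ a ∈ Δ, R a ≤ H
  R_fix : ∀ a ∈ Δ, ∀ r ∈ R a, r a = a
  R_conj : ∀ h ∈ H, ∀ a ∈ Δ, ∀ r ∈ R a, h * r * h⁻¹ ∈ R (h a)
  R_sq : ∀ a ∈ Δ, ∀ r ∈ R a, r * r = 1
  R_J : ∀ a ∈ Δ, ∀ r ∈ R a, ∀ v ∈ J a, r v = v ∨ r v = v + a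
  t_mem : ∀ a ∈ Δ, t a ∈ R a
  R_card : ∀ a ∈ Δ, Nat.card V ≤ Nat.card (R a) ^ 2
  /-- the structure attached to a pair `a ⋆ b` -/
  star_mem : ∀ a ∈ Δ, ∀ b ∈ Δ, ω a b = 0 → t a b = a + b → ∀ v ∈ J a, ω v b = 0 → v ≠ 0 → v ∈ Δ
  star_orb : ∀ a ∈ Δ, ∀ b ∈ Δ, ω a b = 0 → t a b = a + b →
    ∀ v ∈ J a, ω v b = 0 → ∃ r ∈ R a, r b = b + v
  star_card : ∀ a ∈ Δ, ∀ b ∈ Δ, ω a b = 0 → t a b = a + b → Nat.card (J a) ^ 2 = Nat.card V
  star_half : ∀ a ∈ Δ, ∀ b ∈ Δ, ω a b = 0 → t a b = a + b → ∃ v ∈ J a, ω v b ≠ 0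
  star_img : ∀ a ∈ Δ, ∀ b ∈ Δ, ω a b = 0 → t a b = a + b → ∀ r ∈ R a, b + r b ∈ J a ∧ ω b (r b) = 0

variable {V : Type*} [AddCommGroup V] [Module (ZMod 2) V] (S : Sys V)

namespace Sys

lemma z2 (x : ZMod 2) : x = 0 ∨ x = 1 := by
  revert x; decide

lemma ne_zero_iff (x : ZMod 2) : x ≠ 0 ↔ x = 1 := by
  revert x; decide

include S in
lemma sym (x y : V) : S.ω x y = S.ω y x := by
  have h := S.alt (x + y)
  simp only [map_add, LinearMap.add_apply, S.alt, zero_add, add_zero] at h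
  have h2 : S.ω x y = - S.ω y x := eq_neg_of_add_eq_zero_right h
  rw [h2, ZModModule.neg_eq_self]

lemma add_self (v : V) : v + v = 0 := ZModModule.add_self v

lemma add_add_self (v w : V) : v + w + w = v := by
  rw [add_assoc, add_self, add_zero]

lemma eq_of_add_eq_zero {v w : V} (h : v + w = 0) : v = w := by
  have := congrArg (· + w) h
  simpa [add_assoc, add_self] using this

variable {S}

lemma H_t {a : V} (ha : a ∈ S.Δ) : S.t a ∈ S.H := S.R_le a ha (S.t_mem a ha)

lemma t_self {a : V} (ha : a ∈ S.Δ) : S.t a a = a := S.R_fix a ha _ (S.t_mem a ha)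

lemma t_sq {a : V} (ha : a ∈ S.Δ) (v : V) : S.t a (S.t a v) = v := by
  have h := S.R_sq a ha _ (S.t_mem a ha)
  have := congrArg (fun f : V ≃ₗ[ZMod 2] V => f v) h
  simpa using this

lemma t_Δ {a b : V} (ha : a ∈ S.Δ) (hb : b ∈ S.Δ) : S.t a b ∈ S.Δ := S.Δ_inv _ (H_t ha) b hb

lemma t_pres {a : V} (ha : a ∈ S.Δ) (v x : V) : S.ω (S.t a v) (S.t a x) = S.ω v x :=
  S.pres _ (H_t ha) v x

lemma ne_zero {a : V} (ha : a ∈ S.Δ) : a ≠ 0 := fun h => S.zero_notMem (h ▸ ha)

/-- `t` is injective on `Δ`. -/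
lemma t_inj {a b : V} (ha : a ∈ S.Δ) (hb : b ∈ S.Δ) (h : S.t a = S.t b) : a = b := by
  apply eq_of_add_eq_zero
  apply S.nondeg
  intro x
  rw [S.sym]
  have h1 := S.t_form a ha x
  have h2 := S.t_form b hb x
  rw [map_add, ← h1, ← h2, h]
  exact ZModModule.add_self _

/-- commuting symmetric relation: if `t a` fixes `b` then `t b` fixes `a`. -/
lemma t_symm {a b : V} (ha : a ∈ S.Δ) (hb : b ∈ S.Δ) (h : S.t a b = b) : S.t b a = a := by
  have h1 := S.t_conj _ (H_t ha) b hb
  rw [h] at h1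
  have h2 := S.t_conj _ (H_t hb) a ha
  have h3 : S.t a * S.t b = S.t b * S.t a := by
    rw [mul_inv_eq_iff_eq_mul] at h1
    exact h1
  have h4 : S.t b * S.t a * (S.t b)⁻¹ = S.t a := by
    rw [← h3, mul_inv_cancel_right]
  rw [h4] at h2
  exact (t_inj ha (t_Δ hb ha) h2).symm

lemma perp_of_fix {a b : V} (ha : a ∈ S.Δ) (h : S.t a b = b) : S.ω a b = 0 := by
  have := S.t_form a ha b
  rw [h, S.alt] at this
  rw [S.sym, ← this]

lemma t_perp' {a v : V} (ha : a ∈ S.Δ) (h : S.ω a v = 0) (h2 : S.t a v ≠ v) : S.t a v = a + v := by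
  rcases S.t_perp a ha v (by rw [S.sym, h]) with h3 | h3
  · exact absurd h3 h2
  · rw [h3, add_comm]

/-- symmetry of the relation `⋆`. -/
lemma star_symm {a b : V} (ha : a ∈ S.Δ) (hb : b ∈ S.Δ) (h0 : S.ω a b = 0) (h : S.t a b = a + b) :
    S.t b a = b + a := by
  apply t_perp' hb (by rw [S.sym, h0])
  intro h1
  have h2 := t_symm hb ha h1
  rw [h2] at h
  exact ne_zero ha (by
    have : a + b + b = b + b := by rw [← h]
    rwa [add_add_self, add_self] at this)

lemma star_ne {a b : V} (ha : a ∈ S.Δ) (h : S.t a b = a + b) : S.t a b ≠ b := by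
  intro h1
  rw [h1] at h
  exact ne_zero ha (by
    have : a + b + b = b + b := by rw [← h]
    rwa [add_add_self, add_self] at this)

/-- a normal subgroup of `H` which is a 2-group is trivial. -/
lemma eq_bot_of_normal (K : Subgroup (V ≃ₗ[ZMod 2] V)) (hK : K ≤ S.H)
    (hn : ∀ h ∈ S.H, ∀ k ∈ K, h * k * h⁻¹ ∈ K) (h2 : IsPGroup 2 K) : K = ⊥ := by
  have hnorm : (K.subgroupOf S.H).Normal := ⟨fun n hn' g => by
    rw [Subgroup.mem_subgroupOf] at hn' ⊢
    exact hn g g.2 n hn'⟩
  have hp : IsPGroup 2 (K.subgroupOf S.H) := h2.of_injective (Subgroup.subgroupOfEquivOfLe hK).toMonoidHom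
    (Subgroup.subgroupOfEquivOfLe hK).injective
  have h := Cfsg.Agent.Lib.Cores.le_pCore hnorm hp
  rw [S.O2, le_bot_iff] at h
  rw [eq_bot_iff]
  intro k hk
  have h5 : (⟨k, hK hk⟩ : S.H) ∈ K.subgroupOf S.H := hk
  rw [h, Subgroup.mem_bot] at h5
  exact congrArg Subtype.val h5

/-- a 2-subgroup normal in a normal subgroup of `H` is trivial. -/
lemma eq_bot_of_normal_normal (K A : Subgroup (V ≃ₗ[ZMod 2] V)) (hK : K ≤ S.H)
    (hn : ∀ h ∈ S.H, ∀ k ∈ K, h * k * h⁻¹ ∈ K) (hA : A ≤ K) (hAn : ∀ k ∈ K, ∀ a ∈ A, k * a * k⁻¹ ∈ A)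
    (h2 : IsPGroup 2 A) : A = ⊥ := by
  have hnorm : (K.subgroupOf S.H).Normal := ⟨fun n hn' g => by
    rw [Subgroup.mem_subgroupOf] at hn' ⊢
    exact hn g g.2 n hn'⟩
  have h := Cfsg.Agent.Lib.Cores.map_subtype_pCore 2 hnorm
  rw [S.O2, inf_bot_eq, Subgroup.map_eq_bot_iff_of_injective _ (Subgroup.subtype_injective _)] at h
  have hn3 : ((A.subgroupOf S.H).subgroupOf (K.subgroupOf S.H)).Normal := ⟨fun n hn' g => by
    rw [Subgroup.mem_subgroupOf, Subgroup.mem_subgroupOf] at hn' ⊢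
    exact hAn _ g.2 _ hn'⟩
  have hp : IsPGroup 2 ((A.subgroupOf S.H).subgroupOf (K.subgroupOf S.H)) := by
    intro x
    obtain ⟨k, hk⟩ := h2 ⟨((x : K.subgroupOf S.H) : S.H), x.2⟩
    refine ⟨k, ?_⟩
    have h3 := congrArg Subtype.val hk
    apply Subtype.ext; apply Subtype.ext; apply Subtype.ext
    simpa using h3
  have h4 := Cfsg.Agent.Lib.Cores.le_pCore hn3 hp
  rw [h, le_bot_iff] at h4
  rw [eq_bot_iff]
  intro k hk
  have h5 : (⟨⟨k, hK (hA hk)⟩, hA hk⟩ : K.subgroupOf S.H) ∈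
    (A.subgroupOf S.H).subgroupOf (K.subgroupOf S.H) := hk
  rw [h4, Subgroup.mem_bot] at h5
  exact congrArg Subtype.val (congrArg Subtype.val h5)

lemma isPGroup_of_sq {G : Type*} [Group G] (A : Subgroup G) (h : ∀ a ∈ A, a * a = 1) : IsPGroup 2 A := by
  intro x
  refine ⟨1, ?_⟩
  apply Subtype.ext
  simpa [pow_two] using h x x.2

lemma R_inf_eq_bot {a : V} (ha : a ∈ S.Δ) (K : Subgroup (V ≃ₗ[ZMod 2] V)) (hK : K ≤ S.H)
    (hn : ∀ h ∈ S.H, ∀ k ∈ K, h * k * h⁻¹ ∈ K) (hfix : ∀ k ∈ K, k a = a) : S.R a ⊓ K = ⊥ := by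
  apply eq_bot_of_normal_normal (S := S) K _ hK hn inf_le_right
  · intro k hk r hr
    refine ⟨?_, hn k (hK hk) r hr.2⟩
    have := S.R_conj k (hK hk) a ha r hr.1
    rwa [hfix k hk] at this
  · exact isPGroup_of_sq _ fun r hr => S.R_sq a ha r hr.1

/-- elements of `Δ` having a partner for `⋆`. -/
def Part (S : Sys V) (a : V) : Prop := ∃ b ∈ S.Δ, S.ω a b = 0 ∧ S.t a b = a + b

/-- elements of `Δ` having no partner for `⋆`. -/
def Solo (S : Sys V) : Set V := {a | a ∈ S.Δ ∧ ¬ S.Part a}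

lemma conj_apply {a v : V} (h : V ≃ₗ[ZMod 2] V) (hh : h ∈ S.H) (ha : a ∈ S.Δ) :
    S.t (h a) (h v) = h (S.t a v) := by
  rw [← S.t_conj h hh a ha]
  simp

lemma Part.map {a : V} (ha : a ∈ S.Δ) (hp : S.Part a) {h : V ≃ₗ[ZMod 2] V} (hh : h ∈ S.H) :
    S.Part (h a) := by
  obtain ⟨b, hb, h0, h1⟩ := hp
  refine ⟨h b, S.Δ_inv h hh b hb, ?_, ?_⟩
  · rw [S.pres h hh, h0]
  · rw [conj_apply h hh ha, h1, map_add]

lemma Solo_inv {a : V} (ha : a ∈ S.Solo) {h : V ≃ₗ[ZMod 2] V} (hh : h ∈ S.H) : h a ∈ S.Solo := by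
  refine ⟨S.Δ_inv h hh a ha.1, fun hp => ha.2 ?_⟩
  have := Part.map (S.Δ_inv h hh a ha.1) hp (h := h⁻¹) (S.H.inv_mem hh)
  simpa using this

lemma solo_fix {a b : V} (ha : a ∈ S.Solo) (hb : b ∈ S.Δ) (h0 : S.ω a b = 0) : S.t a b = b := by
  by_contra h
  exact ha.2 ⟨b, hb, h0, t_perp' ha.1 h0 h⟩

lemma solo_memJ {a b : V} (ha : a ∈ S.Solo) (hb : b ∈ S.Δ) (h0 : S.ω a b = 0) : b ∈ S.J a :=
  S.J_fix a ha.1 b hb (solo_fix ha hb h0)

lemma solo_perp {a b c : V} (ha : a ∈ S.Solo) (hb : b ∈ S.Δ) (hc : c ∈ S.Δ) (h0 : S.ω a b = 0)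
    (h1 : S.ω a c = 0) : S.ω b c = 0 :=
  S.J_iso a ha.1 b (solo_memJ ha hb h0) c (solo_memJ ha hc h1)

/-- two distinct elements of `Δ` without partner are not orthogonal. -/
lemma solo_eq {a a' : V} (ha : a ∈ S.Solo) (ha' : a' ∈ S.Solo) (h0 : S.ω a a' = 0) : a = a' := by
  by_contra hne
  have hyΔ : a + a' ∈ S.Δ := S.closed a ha.1 a' ha'.1 hne h0
  have hy0 : ∀ d ∈ S.Solo, S.ω d (a + a') = 0 := by
    intro d hd
    rw [map_add]
    rcases z2 (S.ω d a) with h | h
    · have h1 : S.ω d a' = 0 := by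
        rw [S.sym] at h
        exact solo_perp ha hd.1 ha'.1 h h0
      rw [h, h1, add_zero]
    · have h1 : S.ω d a' = 1 := by
        rcases z2 (S.ω d a') with h2 | h2
        · rw [S.sym] at h2
          rw [S.sym] at h0
          have := solo_perp ha' hd.1 ha.1 h2 h0
          rw [this] at h
          exact absurd h (by decide)
        · exact h2
      rw [h, h1]; decide
  by_cases hyS : a + a' ∈ S.Solo
  · -- one class: an abelian normal 2-subgroup
    have hperp : ∀ d ∈ S.Solo, ∀ e ∈ S.Solo, S.ω d e = 0 := fun d hd e he =>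
      solo_perp hyS hd.1 he.1 (by rw [S.sym]; exact hy0 d hd) (by rw [S.sym]; exact hy0 e he)
    have hcomm : ∀ d ∈ S.Solo, ∀ e ∈ S.Solo, S.t d * S.t e = S.t e * S.t d := by
      intro d hd e he
      have h1 := S.t_conj _ (H_t hd.1) e he.1
      rw [solo_fix hd he.1 (hperp d hd e he), mul_inv_eq_iff_eq_mul] at h1
      exact h1
    let K : Subgroup (V ≃ₗ[ZMod 2] V) := Subgroup.closure (S.t '' S.Solo)
    have hKH : K ≤ S.H := by
      rw [Subgroup.closure_le]
      rintro _ ⟨d, hd, rfl⟩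
      exact H_t hd.1
    have hK2 : ∀ k ∈ K, k * k = 1 := by
      have hKc : ∀ x ∈ K, ∀ y ∈ K, x * y = y * x := by
        intro x hx y hy
        have := Subgroup.closure_induction₂ (k := S.t '' S.Solo)
          (p := fun x y _ _ => x * y = y * x) ?_ ?_ ?_ ?_ ?_ ?_ ?_ hx hy
        · exact this
        · rintro _ _ ⟨d, hd, rfl⟩ ⟨e, he, rfl⟩
          exact hcomm d hd e he
        · intro x _; simp
        · intro x _; simp
        · intro x y z _ _ _ h1 h2
          rw [mul_assoc, h2, ← mul_assoc, h1, mul_assoc]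
        · intro x y z _ _ _ h1 h2
          rw [← mul_assoc, h1, mul_assoc, h2, mul_assoc]
        · intro x y _ _ h1
          exact (show Commute x y from h1).inv_left
        · intro x y _ _ h1
          exact (show Commute x y from h1).inv_right
      intro k hk
      have hk' := hk
      induction hk' using Subgroup.closure_induction with
      | mem x hx =>
        obtain ⟨d, hd, rfl⟩ := hx
        exact S.R_sq d hd.1 _ (S.t_mem d hd.1)
      | one => simp
      | mul x y hx hy ihx ihy =>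
        have h1 := hKc x hx y hy
        calc x * y * (x * y) = x * (y * x) * y := by group
          _ = x * (x * y) * y := by rw [h1]
          _ = (x * x) * (y * y) := by group
          _ = 1 := by rw [ihx hx, ihy hy, one_mul]
      | inv x hx ihx =>
        have := ihx hx
        rw [← mul_inv_rev, this, inv_one]
    have hKn : ∀ h ∈ S.H, ∀ k ∈ K, h * k * h⁻¹ ∈ K := by
      intro h hh k hk
      induction hk using Subgroup.closure_induction with
      | mem x hx =>
        obtain ⟨d, hd, rfl⟩ := hx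
        rw [S.t_conj h hh d hd.1]
        exact Subgroup.subset_closure ⟨h d, Solo_inv hd hh, rfl⟩
      | one => simpa using K.one_mem
      | mul x y hx hy ihx ihy =>
        have : h * (x * y) * h⁻¹ = (h * x * h⁻¹) * (h * y * h⁻¹) := by group
        rw [this]; exact K.mul_mem ihx ihy
      | inv x hx ihx =>
        have : h * x⁻¹ * h⁻¹ = (h * x * h⁻¹)⁻¹ := by group
        rw [this]; exact K.inv_mem ihx
    have hKbot := eq_bot_of_normal (S := S) K hKH hKn (isPGroup_of_sq K hK2)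
    have hta : S.t a ∈ K := Subgroup.subset_closure ⟨a, ha, rfl⟩
    rw [hKbot, Subgroup.mem_bot] at hta
    apply ne_zero ha.1
    apply S.nondeg
    intro x
    rw [S.sym, ← S.t_form a ha.1 x, hta]
    exact S.alt x
  · -- a partner `d` of `a + a'`
    have hpart : S.Part (a + a') := by
      by_contra h
      exact hyS ⟨hyΔ, h⟩
    obtain ⟨d, hd, hd0, hd1⟩ := hpart
    have hd2 : S.t d (a + a') = d + (a + a') := star_symm hyΔ hd hd0 hd1
    have hda : S.ω d a = 1 := by
      rcases z2 (S.ω d a) with h | h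
      · exfalso
        have h' : S.ω d a' = 0 := by
          have : S.ω d (a + a') = 0 := by rw [S.sym]; exact hd0
          rw [map_add, h, zero_add] at this
          exact this
        rw [S.sym] at h h'
        have h3 : S.t d a = a := t_symm ha.1 hd (solo_fix ha hd h)
        have h4 : S.t d a' = a' := t_symm ha'.1 hd (solo_fix ha' hd h')
        rw [map_add, h3, h4] at hd2
        exact ne_zero hd (by
          have h5 : d + (a + a') = a + a' := hd2.symm
          simpa using h5)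
      · exact h
    have h6 : S.ω (S.t d (a + a')) a = 0 := by
      have h7 : S.ω (S.t d (a + a')) (S.t d (S.t d a)) = S.ω (a + a') (S.t d a) := t_pres hd _ _
      rw [t_sq hd] at h7
      rw [h7, S.sym]
      exact hy0 _ (Solo_inv ha (H_t hd))
    rw [hd2, map_add, LinearMap.add_apply, hda, S.sym, hy0 a ha] at h6
    exact absurd h6 (by decide)

lemma t_ne_one {a : V} (ha : a ∈ S.Δ) : S.t a ≠ 1 := by
  intro h
  apply ne_zero ha
  apply S.nondeg
  intro x
  rw [S.sym, ← S.t_form a ha x, h]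
  exact S.alt x

lemma R_comm {a : V} (ha : a ∈ S.Δ) {r s : V ≃ₗ[ZMod 2] V} (hr : r ∈ S.R a) (hs : s ∈ S.R a) :
    r * s = s * r := by
  have h1 := S.R_sq a ha _ ((S.R a).mul_mem hr hs)
  have h2 := S.R_sq a ha r hr
  have h3 := S.R_sq a ha s hs
  calc r * s = (s * s) * (r * s) * (r * r) := by rw [h2, h3]; group
    _ = s * (s * r) * (s * r) * r := by group
    _ = s * (s * (r * s * (r * s)) * s⁻¹) * r := by group
    _ = s * r := by rw [h1]; group

lemma solo_form {a b : V} (ha : a ∈ S.Solo) (hb : b ∈ S.Solo) (h : a ≠ b) : S.ω a b = 1 :=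
  (z2 _).resolve_left fun h0 => h (solo_eq ha hb h0)

lemma solo_move {a b : V} (ha : a ∈ S.Solo) (hb : b ∈ S.Solo) (h : a ≠ b) : S.t a b ≠ b := by
  intro h1
  have h2 := perp_of_fix ha.1 h1
  rw [solo_form ha hb h] at h2
  exact absurd h2 (by decide)

/-- the pointwise stabiliser of a set which is invariant under `H`, as a subgroup of `H`. -/
def ptStab (S : Sys V) (X : Set V) : Subgroup (V ≃ₗ[ZMod 2] V) where
  carrier := {h | h ∈ S.H ∧ ∀ x ∈ X, h x = x}
  mul_mem' := by
    rintro g h ⟨hg, hg'⟩ ⟨hh, hh'⟩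
    refine ⟨S.H.mul_mem hg hh, fun x hx => ?_⟩
    rw [LinearEquiv.mul_apply, hh' x hx, hg' x hx]
  one_mem' := ⟨S.H.one_mem, fun x _ => rfl⟩
  inv_mem' := by
    rintro g ⟨hg, hg'⟩
    refine ⟨S.H.inv_mem hg, fun x hx => ?_⟩
    have := hg' x hx
    calc g⁻¹ x = g⁻¹ (g x) := by rw [this]
      _ = x := by simp

lemma mem_ptStab {X : Set V} {h : V ≃ₗ[ZMod 2] V} : h ∈ S.ptStab X ↔ h ∈ S.H ∧ ∀ x ∈ X, h x = x :=
  Iff.rfl

lemma ptStab_le (X : Set V) : S.ptStab X ≤ S.H := fun _ h => h.1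

lemma ptStab_normal (X : Set V) (hX : ∀ h ∈ S.H, ∀ x ∈ X, h x ∈ X) :
    ∀ h ∈ S.H, ∀ k ∈ S.ptStab X, h * k * h⁻¹ ∈ S.ptStab X := by
  rintro h hh k ⟨hk, hk'⟩
  refine ⟨S.H.mul_mem (S.H.mul_mem hh hk) (S.H.inv_mem hh), fun x hx => ?_⟩
  rw [LinearEquiv.mul_apply, LinearEquiv.mul_apply, hk' _ (hX _ (S.H.inv_mem hh) x hx)]
  simp

/-- `R a` acts faithfully on any `H`-invariant set containing `a`. -/
lemma R_faithful {a : V} (ha : a ∈ S.Δ) (X : Set V) (haX : a ∈ X) (hX : ∀ h ∈ S.H, ∀ x ∈ X, h x ∈ X)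
    {r : V ≃ₗ[ZMod 2] V} (hr : r ∈ S.R a) (h : ∀ x ∈ X, r x = x) : r = 1 := by
  have h1 := R_inf_eq_bot ha (S.ptStab X) (ptStab_le X) (ptStab_normal X hX)
    (fun k hk => hk.2 a haX)
  have h2 : r ∈ S.R a ⊓ S.ptStab X := ⟨hr, S.R_le a ha hr, h⟩
  rwa [h1, Subgroup.mem_bot] at h2

/-- if `V` has at least 16 elements then every element of `Δ` has a partner. -/
theorem solo_false (h16 : 16 ≤ Nat.card V) {a : V} (ha : a ∈ S.Solo) : False := by
  have hXS : ∀ h ∈ S.H, ∀ x ∈ S.Solo, h x ∈ S.Solo := fun h hh x hx => Solo_inv hx hh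
  -- a second element
  obtain ⟨b, hb, hab⟩ : ∃ b ∈ S.Solo, a ≠ b := by
    by_contra hcon
    push Not at hcon
    have hfix : ∀ h ∈ S.H, h a = a := fun h hh => (hcon _ (Solo_inv ha hh)).symm
    have h1 := R_inf_eq_bot ha.1 S.H le_rfl
      (fun h hh k hk => S.H.mul_mem (S.H.mul_mem hh hk) (S.H.inv_mem hh)) hfix
    have h2 : S.t a ∈ S.R a ⊓ S.H := ⟨S.t_mem a ha.1, H_t ha.1⟩
    rw [h1, Subgroup.mem_bot] at h2
    exact t_ne_one ha.1 h2
  have htin : ∀ {x y : V}, x ∈ S.Solo → y ∈ S.Solo → S.t x y ∈ S.Solo := fun hx hy =>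
    Solo_inv hy (H_t hx.1)
  -- at most two elements with the same difference
  have hpair : ∀ {x y w : V}, x ∈ S.Solo → y ∈ S.Solo → w ∈ S.Solo → x ≠ y → x ≠ w → y ≠ w →
      y + S.t x y = w + S.t x w → S.t x w = y := by
    intro x y w hx hy hw hxy hxw hyw he
    by_contra hne
    have h1 : S.ω y (S.t x w) = 1 := solo_form hy (htin hx hw) (Ne.symm hne)
    have h2 : S.t x w = w + (y + S.t x y) := by rw [he, ← add_assoc, add_self, zero_add]
    rw [h2, map_add, map_add, S.alt, zero_add, S.t_form x hx.1 y, solo_form hy hw hyw,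
      solo_form hy hx hxy.symm] at h1
    exact absurd h1 (by decide)
  have hdiff : ∀ {x y w : V}, x ∈ S.Solo → y ∈ S.Solo → w ∈ S.Solo → x ≠ y → x ≠ w →
      y + S.t x y = w + S.t x w ∨ y + S.t x y = w + S.t x w + x := by
    intro x y w hx hy hw hxy hxw
    have h0 : S.ω (y + w) x = 0 := by
      rw [map_add, LinearMap.add_apply, solo_form hy hx hxy.symm, solo_form hw hx hxw.symm]
      decide
    rcases S.t_perp x hx.1 _ h0 with h | h
    · left
      rw [map_add] at h
      apply eq_of_add_eq_zero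
      have : y + S.t x y + (w + S.t x w) = (y + w) + (S.t x y + S.t x w) := by abel
      rw [this, h, add_self]
    · right
      rw [map_add] at h
      apply eq_of_add_eq_zero
      have : y + S.t x y + (w + S.t x w + x) = (y + w + x) + (S.t x y + S.t x w) := by abel
      rw [this, h, add_self]
  -- three elements outside with no pairing is impossible
  have hfive : ∀ {x y w v : V}, x ∈ S.Solo → y ∈ S.Solo → w ∈ S.Solo → v ∈ S.Solo →
      x ≠ y → x ≠ w → x ≠ v → y ≠ w → S.t x y ≠ w → v = x ∨ v = y ∨ v = S.t x y ∨ v = w ∨ v = S.t x w := by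
    intro x y w v hx hy hw hv hxy hxw hxv hyw hyw'
    by_cases hvy : v = y
    · right; left; exact hvy
    by_cases hvw : v = w
    · right; right; right; left; exact hvw
    rcases hdiff hx hy hw hxy hxw with h1 | h1
    · exfalso
      have := hpair hx hy hw hxy hxw hyw h1
      apply hyw'
      rw [← this, t_sq hx.1]
    rcases hdiff hx hy hv hxy hxv with h2 | h2
    · right; right; left
      have := hpair hx hy hv hxy hxv (Ne.symm hvy) h2
      rw [← this, t_sq hx.1]
    · right; right; right; right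
      have h3 : w + S.t x w = v + S.t x v := by
        have h4 : w + S.t x w + x = v + S.t x v + x := by rw [← h1, ← h2]
        exact add_right_cancel h4
      have := hpair hx hw hv hxw hxv (Ne.symm hvw) h3
      rw [← this, t_sq hx.1]
  -- `R a` has at least four elements
  have hR4 : 4 ≤ Nat.card (S.R a) := by
    have h1 := S.R_card a ha.1
    by_contra hlt
    push Not at hlt
    have : Nat.card (S.R a) ^ 2 ≤ 3 ^ 2 := Nat.pow_le_pow_left (by omega) 2
    omega
  obtain ⟨r, hr, hr1, hrt⟩ : ∃ r ∈ S.R a, r ≠ 1 ∧ r ≠ S.t a := by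
    by_contra hcon
    push Not at hcon
    have hsub : ((S.R a : Set (V ≃ₗ[ZMod 2] V))) ⊆ {1, S.t a} := by
      intro r hr
      by_cases h : r = 1
      · left; exact h
      · right; exact hcon r hr h
    have h1 : Nat.card (S.R a) ≤ 2 := by
      have h2 : Nat.card (S.R a) = (S.R a : Set (V ≃ₗ[ZMod 2] V)).ncard := rfl
      rw [h2]
      calc (S.R a : Set (V ≃ₗ[ZMod 2] V)).ncard ≤ ({1, S.t a} : Set (V ≃ₗ[ZMod 2] V)).ncard :=
            Set.ncard_le_ncard hsub (Set.toFinite _)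
        _ ≤ 2 := by
            refine (Set.ncard_insert_le _ _).trans ?_
            rw [Set.ncard_singleton]
    omega
  have hb' : S.t a b ∈ S.Solo := htin ha hb
  have hb'a : a ≠ S.t a b := by
    intro h
    have h2 := congrArg (S.t a) h
    rw [t_self ha.1, t_sq ha.1] at h2
    exact hab h2
  have hb'b : S.t a b ≠ b := solo_move ha hb hab
  have hcomm : ∀ s ∈ S.R a, ∀ x, s (S.t a x) = S.t a (s x) := by
    intro s hs x
    have := R_comm ha.1 hs (S.t_mem a ha.1)
    exact congrArg (fun f : V ≃ₗ[ZMod 2] V => f x) this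
  -- a third pair
  obtain ⟨c, hc, hca, hcb, hcb'⟩ : ∃ c ∈ S.Solo, a ≠ c ∧ b ≠ c ∧ S.t a b ≠ c := by
    by_contra hcon
    push Not at hcon
    have hall : ∀ x ∈ S.Solo, x = a ∨ x = b ∨ x = S.t a b := by
      intro x hx
      by_cases h1 : a = x
      · left; exact h1.symm
      by_cases h2 : b = x
      · right; left; exact h2.symm
      right; right; exact (hcon x hx h1 h2).symm
    have hfin : ∀ s ∈ S.R a, s b = b → s = 1 := by
      intro s hs hsb
      apply R_faithful ha.1 S.Solo ha hXS hs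
      intro x hx
      rcases hall x hx with h | h | h
      · rw [h]; exact S.R_fix a ha.1 s hs
      · rw [h, hsb]
      · rw [h, hcomm s hs, hsb]
    have hrb : r b = S.t a b := by
      rcases hall _ (Solo_inv hb (S.R_le a ha.1 hr)) with h | h | h
      · exfalso
        have h2 := S.R_fix a ha.1 r hr
        exact hab (r.injective (h2.trans h.symm))
      · exact absurd (hfin r hr h) hr1
      · exact h
    have h3 := hfin (S.t a * r) ((S.R a).mul_mem (S.t_mem a ha.1) hr) (by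
      rw [LinearEquiv.mul_apply, hrb, t_sq ha.1])
    apply hrt
    have h4 := S.R_sq a ha.1 _ (S.t_mem a ha.1)
    calc r = (S.t a)⁻¹ * (S.t a * r) := by group
      _ = S.t a := by rw [h3, mul_one]; exact inv_eq_of_mul_eq_one_left h4
  have hc' : S.t a c ∈ S.Solo := htin ha hc
  have hcc' : S.t a c ≠ c := solo_move ha hc hca
  have hall : ∀ x ∈ S.Solo, x ≠ a → x = b ∨ x = S.t a b ∨ x = c ∨ x = S.t a c := by
    intro x hx hxa
    rcases hfive ha hb hc hx hab hca (Ne.symm hxa) hcb hcb' with h | h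
    · exact absurd h hxa
    · exact h
  have hac' : a ≠ S.t a c := by
    intro h
    have h2 := congrArg (S.t a) h
    rw [t_self ha.1, t_sq ha.1] at h2
    exact hca h2
  have hbc' : b ≠ S.t a c := by
    intro h
    have h2 := congrArg (S.t a) h
    rw [t_sq ha.1] at h2
    exact hcb' h2
  have hb'c' : S.t a b ≠ S.t a c := fun h => hcb ((S.t a).injective h)
  -- `t b a ≠ t a b`
  have key1 : S.t b a ≠ S.t a b := by
    intro h1
    have h2 : S.t b (S.t a b) = a := by rw [← h1, t_sq hb.1]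
    have h3 : S.t b c = S.t a c := by
      have hne : S.t b c ≠ a := fun h => by
        have := congrArg (S.t b) h
        rw [t_sq hb.1, h1] at this
        exact hcb' this.symm
      rcases hall _ (htin hb hc) hne with h | h | h | h
      · exfalso
        have := congrArg (S.t b) h
        rw [t_sq hb.1, t_self hb.1] at this
        exact hcb this.symm
      · exfalso
        have := congrArg (S.t b) h
        rw [t_sq hb.1, h2] at this
        exact hca this.symm
      · exact absurd h (solo_move hb hc hcb)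
      · exact h
    have h4 : S.t b (S.t a c) = c := by rw [← h3, t_sq hb.1]
    have hg : ∀ x, (S.t a * S.t b) x = S.t a (S.t b x) := fun x => rfl
    have hgH : S.t a * S.t b ∈ S.H := S.H.mul_mem (H_t ha.1) (H_t hb.1)
    have hgc : (S.t a * S.t b) c = c := by rw [hg, h3, t_sq ha.1]
    have h5 := conj_apply (S := S) (a := c) (v := S.t a c) (S.t a * S.t b) hgH hc.1
    rw [hgc] at h5
    have h6 : (S.t a * S.t b) (S.t a c) = S.t a c := by rw [hg, h4]
    rw [h6] at h5
    -- `m = t c (t a c)` is fixed by `t a * t b`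
    have hm : S.t c (S.t a c) ∈ S.Solo := htin hc hc'
    by_cases hma : S.t c (S.t a c) = a
    · rw [hma, hg, h1, t_sq ha.1] at h5
      exact hab h5
    rcases hall _ hm hma with h | h | h | h
    · rw [h, hg, t_self hb.1] at h5
      exact hb'b h5.symm
    · rw [h, hg, h2, t_self ha.1] at h5
      exact hb'a h5.symm
    · have := congrArg (S.t c) h
      rw [t_sq hc.1, t_self hc.1] at this
      exact hcc' this
    · exact solo_move hc hc' (Ne.symm hcc') h
  -- choose `d = t b a`, outside `{a, b, t a b}`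
  clear hc' hcc' hall hac' hbc' hb'c' hca hcb hcb' hc c
  obtain ⟨d, hd⟩ : ∃ d, d = S.t b a := ⟨_, rfl⟩
  have hdS : d ∈ S.Solo := hd ▸ htin hb ha
  have had : a ≠ d := by rw [hd]; exact (solo_move hb ha hab.symm).symm
  have hbd : b ≠ d := by
    intro h
    rw [hd] at h
    have := congrArg (S.t b) h
    rw [t_sq hb.1, t_self hb.1] at this
    exact hab this.symm
  have hb'd : S.t a b ≠ d := fun h => key1 (by rw [h, hd])
  have hd' : S.t a d ∈ S.Solo := htin ha hdS
  have hdd' : S.t a d ≠ d := solo_move ha hdS had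
  have hbd' : b ≠ S.t a d := by
    intro h
    have h2 := congrArg (S.t a) h
    rw [t_sq ha.1] at h2
    exact hb'd h2
  have hall : ∀ x ∈ S.Solo, x ≠ a → x = b ∨ x = S.t a b ∨ x = d ∨ x = S.t a d := by
    intro x hx hxa
    rcases hfive ha hb hdS hx hab had (Ne.symm hxa) hbd hb'd with h | h
    · exact absurd h hxa
    · exact h
  have htba : S.t b a = d := hd.symm
  have htbd : S.t b d = a := by rw [hd, t_sq hb.1]
  have hno : ∀ s ∈ S.R a, s b = b → s = 1 := by
    intro s hs hsb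
    apply R_faithful ha.1 S.Solo ha hXS hs
    have hsa := S.R_fix a ha.1 s hs
    have hsd : s d = d := by
      have h := conj_apply (S := S) (a := b) (v := a) s (S.R_le a ha.1 hs) hb.1
      rw [hsb, hsa, htba] at h
      exact h.symm
    intro x hx
    by_cases hxa : x = a
    · rw [hxa, hsa]
    rcases hall x hx hxa with h | h | h | h
    · rw [h, hsb]
    · rw [h, hcomm s hs, hsb]
    · rw [h, hsd]
    · rw [h, hcomm s hs, hsd]
  obtain ⟨s, hs, hsb⟩ : ∃ s ∈ S.R a, s b = d := by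
    have hta2 : S.t a * S.t a = 1 := S.R_sq a ha.1 _ (S.t_mem a ha.1)
    have hra : r b ≠ a := by
      intro h
      exact hab (r.injective ((S.R_fix a ha.1 r hr).trans h.symm))
    rcases hall _ (Solo_inv hb (S.R_le a ha.1 hr)) hra with h | h | h | h
    · exact absurd (hno r hr h) hr1
    · exfalso
      have h3 := hno (S.t a * r) ((S.R a).mul_mem (S.t_mem a ha.1) hr) (by
        rw [LinearEquiv.mul_apply, h, t_sq ha.1])
      apply hrt
      calc r = (S.t a)⁻¹ * (S.t a * r) := by group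
        _ = S.t a := by rw [h3, mul_one]; exact inv_eq_of_mul_eq_one_left hta2
    · exact ⟨r, hr, h⟩
    · exact ⟨S.t a * r, (S.R a).mul_mem (S.t_mem a ha.1) hr, by
        rw [LinearEquiv.mul_apply, h, t_sq ha.1]⟩
  have hsH := S.R_le a ha.1 hs
  have hsa := S.R_fix a ha.1 s hs
  have hss : ∀ x, s (s x) = x := fun x => by
    have := S.R_sq a ha.1 s hs
    exact congrArg (fun f : V ≃ₗ[ZMod 2] V => f x) this
  have hsd : s d = b := by rw [← hsb, hss]
  have htbb' : S.t b (S.t a b) = S.t a d := by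
    have hne : S.t b (S.t a b) ≠ a := fun h => by
      have := congrArg (S.t b) h
      rw [t_sq hb.1, htba] at this
      exact hb'd this
    rcases hall _ (htin hb hb') hne with h | h | h | h
    · exfalso
      have := congrArg (S.t b) h
      rw [t_sq hb.1, t_self hb.1] at this
      exact hb'b this
    · exact absurd h (solo_move hb hb' hb'b.symm)
    · exfalso
      have := congrArg (S.t b) h
      rw [t_sq hb.1, htbd] at this
      exact hb'a this.symm
    · exact h
  have htbd' : S.t b (S.t a d) = S.t a b := by rw [← htbb', t_sq hb.1]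
  -- `t d = s (t b) s⁻¹`
  have htd : ∀ x, S.t d (s x) = s (S.t b x) := by
    intro x
    have := conj_apply (S := S) (a := b) (v := x) s hsH hb.1
    rwa [hsb] at this
  have htda : S.t d a = b := by
    have := htd a
    rw [hsa, htba, hsd] at this
    exact this
  have hsb' : s (S.t a b) = S.t a d := by rw [hcomm s hs, hsb]
  have hsd' : s (S.t a d) = S.t a b := by rw [hcomm s hs, hsd]
  have htdd' : S.t d (S.t a d) = S.t a b := by
    have := htd (S.t a b)
    rw [hsb', htbb', hsd'] at this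
    exact this
  have htdb' : S.t d (S.t a b) = S.t a d := by rw [← htdd', t_sq hdS.1]
  -- `g = t b * t d` fixes `t a b` and `t a d`
  have hgH : S.t b * S.t d ∈ S.H := S.H.mul_mem (H_t hb.1) (H_t hdS.1)
  have hg : ∀ x, (S.t b * S.t d) x = S.t b (S.t d x) := fun x => rfl
  have hgb' : (S.t b * S.t d) (S.t a b) = S.t a b := by rw [hg, htdb', htbd']
  have hgd' : (S.t b * S.t d) (S.t a d) = S.t a d := by rw [hg, htdd', htbb']
  -- `t (t a b) a = t a d`
  have h7 : S.t (S.t a b) a = S.t a d := by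
    have := conj_apply (S := S) (a := b) (v := a) (S.t a) (H_t ha.1) hb.1
    rwa [t_self ha.1, htba] at this
  have h8 : S.t (S.t a b) (S.t a d) = a := by rw [← h7, t_sq hb'.1]
  have h9 := conj_apply (S := S) (a := S.t a b) (v := S.t a d) (S.t b * S.t d) hgH hb'.1
  rw [hgb', hgd', h8, hg, htda, t_self hb.1] at h9
  exact hab h9

end Sys

end Cfsg.Agent.ClassificationK.SymplLin
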