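import Mathlib
import Cfsg.Agent.ClassificationK.SymplLin

/-!
# Linear algebra for S1758, part B: the space has at most 16 elements
-/

set_option autoImplicit false

namespace Cfsg.Agent.ClassificationK.SymplLin

variable {V : Type*} [AddCommGroup V] [Module (ZMod 2) V] {S : Sys V}

namespace Sys

lemma nondegenerate (S : Sys V) : S.ω.Nondegenerate :=
  ⟨fun v hv => S.nondeg v hv, fun v hv => S.nondeg v fun x => by rw [S.sym]; exact hv x⟩

variable [Finite V]

/-- a totally isotropic subspace of order at least `√|V|` is its own orthogonal. -/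
lemma orth_eq (S : Sys V) (T : Submodule (ZMod 2) V) (hT : ∀ x ∈ T, ∀ y ∈ T, S.ω x y = 0)
    (hc : Nat.card V ≤ Nat.card T ^ 2) {v : V} (hv : ∀ x ∈ T, S.ω v x = 0) : v ∈ T := by
  have h1 : T ≤ S.ω.orthogonal T := by
    intro y hy
    rw [LinearMap.BilinForm.mem_orthogonal_iff]
    intro n hn
    exact hT n hn y hy
  have h2 := LinearMap.BilinForm.finrank_orthogonal S.nondegenerate T
  have h3 : Nat.card V = 2 ^ Module.finrank (ZMod 2) V := by
    rw [Module.natCard_eq_pow_finrank (K := ZMod 2), Nat.card_zmod]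
  have h4 : Nat.card T = 2 ^ Module.finrank (ZMod 2) T := by
    rw [Module.natCard_eq_pow_finrank (K := ZMod 2), Nat.card_zmod]
  rw [h3, h4, ← pow_mul] at hc
  have h5 := (Nat.pow_le_pow_iff_right (by norm_num : 1 < 2)).1 hc
  have h6 : T = S.ω.orthogonal T := Submodule.eq_of_le_of_finrank_le h1 (by omega)
  rw [h6, LinearMap.BilinForm.mem_orthogonal_iff]
  intro n hn
  rw [S.sym]
  exact hv n hn

/-- a totally isotropic subspace has order at most `√|V|`. -/
lemma card_iso (S : Sys V) (T : Submodule (ZMod 2) V) (hT : ∀ x ∈ T, ∀ y ∈ T, S.ω x y = 0) :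
    Nat.card T ^ 2 ≤ Nat.card V := by
  have h1 : T ≤ S.ω.orthogonal T := by
    intro y hy
    rw [LinearMap.BilinForm.mem_orthogonal_iff]
    intro n hn
    exact hT n hn y hy
  have h2 := LinearMap.BilinForm.finrank_orthogonal S.nondegenerate T
  have h3 : Nat.card V = 2 ^ Module.finrank (ZMod 2) V := by
    rw [Module.natCard_eq_pow_finrank (K := ZMod 2), Nat.card_zmod]
  have h4 : Nat.card T = 2 ^ Module.finrank (ZMod 2) T := by
    rw [Module.natCard_eq_pow_finrank (K := ZMod 2), Nat.card_zmod]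
  rw [h3, h4, ← pow_mul]
  apply Nat.pow_le_pow_right (by norm_num)
  have h5 := Submodule.finrank_mono h1
  have h6 := Submodule.finrank_le T
  omega

/-- the vectors of `J a` orthogonal to `b`. -/
def I (S : Sys V) (a b : V) : Submodule (ZMod 2) V :=
  S.J a ⊓ LinearMap.ker (S.ω b)

omit [Finite V] in
lemma mem_I {a b v : V} : v ∈ S.I a b ↔ v ∈ S.J a ∧ S.ω v b = 0 := by
  unfold I
  rw [Submodule.mem_inf, LinearMap.mem_ker, S.sym]

lemma card_I {a b : V} (h : ∃ v ∈ S.J a, S.ω v b ≠ 0) : Nat.card (S.J a) = 2 * Nat.card (S.I a b) := by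
  let f : S.J a →ₗ[ZMod 2] ZMod 2 := (S.ω b).comp (S.J a).subtype
  have hf : Function.Surjective f := by
    obtain ⟨v, hv, hv0⟩ := h
    have h1 : f ⟨v, hv⟩ = 1 := by
      have : f ⟨v, hv⟩ = S.ω b v := rfl
      rw [this, S.sym]
      exact (z2 _).resolve_left hv0
    intro x
    rcases z2 x with h | h
    · exact ⟨0, by rw [map_zero, h]⟩
    · exact ⟨⟨v, hv⟩, by rw [h1, h]⟩
  have h1 := Submodule.card_eq_card_quotient_mul_card (LinearMap.ker f)
  have h2 : Nat.card (S.J a ⧸ LinearMap.ker f) = 2 := by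
    rw [Nat.card_congr (f.quotKerEquivOfSurjective hf).toEquiv, Nat.card_zmod]
  have h3 : Nat.card (LinearMap.ker f) = Nat.card (S.I a b) := by
    apply Nat.card_congr
    refine ⟨fun x => ⟨x.1.1, ?_⟩, fun x => ⟨⟨x.1, (mem_I.1 x.2).1⟩, ?_⟩, ?_, ?_⟩
    · rw [mem_I]
      refine ⟨x.1.2, ?_⟩
      have := x.2
      rw [LinearMap.mem_ker] at this
      rw [S.sym]; exact this
    · rw [LinearMap.mem_ker]
      change S.ω b x.1 = 0
      rw [S.sym]; exact (mem_I.1 x.2).2
    · intro x; rfl
    · intro x; rfl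
  rw [h1, h2, h3, mul_comm]

/-- no element of `Δ` is orthogonal to all of `Δ`. -/
theorem not_perp_all (h16 : 16 ≤ Nat.card V) {p : V} (hp : p ∈ S.Δ) (hperp : ∀ d ∈ S.Δ, S.ω p d = 0) :
    False := by
  obtain ⟨c, hc, hpc, htc⟩ : S.Part p := by
    by_contra h
    exact solo_false h16 (a := p) ⟨hp, h⟩
  have htc' := star_symm hp hc hpc htc
  have hcperp : ∀ d ∈ S.Δ, S.ω c d = 0 := by
    intro d hd
    have h1 : S.ω (S.t c p) (S.t c (S.t c d)) = S.ω p (S.t c d) := t_pres hc _ _
    rw [t_sq hc, hperp _ (t_Δ hc hd), htc', map_add, LinearMap.add_apply, hperp d hd, add_zero] at h1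
    exact h1
  let W : Submodule (ZMod 2) V :=
    { carrier := {v | v = 0 ∨ (v ∈ S.Δ ∧ ∀ d ∈ S.Δ, S.ω v d = 0)}
      zero_mem' := Or.inl rfl
      add_mem' := by
        rintro v w (hv | hv) (hw | hw)
        · left; rw [hv, hw, add_zero]
        · rw [hv, zero_add]; exact Or.inr hw
        · rw [hw, add_zero]; exact Or.inr hv
        · by_cases h : v = w
          · left; rw [h, add_self]
          · right
            refine ⟨S.closed v hv.1 w hw.1 h (hv.2 w hw.1), fun d hd => ?_⟩
            rw [map_add, LinearMap.add_apply, hv.2 d hd, hw.2 d hd, add_zero]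
      smul_mem' := by
        intro x v hv
        rcases z2 x with h | h
        · left; rw [h, zero_smul]
        · rw [h, one_smul]; exact hv }
  have hW : ∀ {v}, v ∈ W ↔ (v = 0 ∨ (v ∈ S.Δ ∧ ∀ d ∈ S.Δ, S.ω v d = 0)) := Iff.rfl
  have hWinv : ∀ h ∈ S.H, ∀ v ∈ W, h v ∈ W := by
    intro h hh v hv
    rcases hv with hv | hv
    · rw [hv, map_zero]; exact W.zero_mem
    · right
      refine ⟨S.Δ_inv h hh v hv.1, fun d hd => ?_⟩
      have h1 := S.pres h⁻¹ (S.H.inv_mem hh) (h v) d
      rw [← h1]
      have h2 : h⁻¹ (h v) = v := by simp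
      rw [h2]
      exact hv.2 _ (S.Δ_inv _ (S.H.inv_mem hh) d hd)
  have hWiso : ∀ x ∈ W, ∀ y ∈ W, S.ω x y = 0 := by
    rintro x (hx | hx) y hy
    · rw [hx, map_zero, LinearMap.zero_apply]
    · rcases hy with hy | hy
      · rw [hy, map_zero]
      · exact hx.2 y hy.1
  have hcW : c ∈ W := Or.inr ⟨hc, hcperp⟩
  have hIW : S.I p c ≤ W := by
    intro v hv
    rw [mem_I] at hv
    obtain ⟨r, hr, hrc⟩ := S.star_orb p hp c hc hpc htc v hv.1 hv.2
    have h1 : r c ∈ W := hWinv r (S.R_le p hp hr) c hcW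
    have h2 : v = c + r c := by rw [hrc, ← add_assoc, add_self, zero_add]
    rw [h2]
    exact W.add_mem hcW h1
  have hcI : c ∉ S.I p c := by
    intro h
    rw [mem_I] at h
    exact star_ne hp htc (S.t_J p hp c h.1)
  have hIcard := card_I (S.star_half p hp c hc hpc htc)
  have hJcard := S.star_card p hp c hc hpc htc
  -- `W = I ⊔ ⟨c⟩`
  have hWeq : ∀ v ∈ W, v ∈ S.I p c ∨ v + c ∈ S.I p c := by
    have h1 := S.card_iso W hWiso
    rw [← hJcard] at h1
    have h2 : Nat.card W ≤ 2 * Nat.card (S.I p c) := by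
      rw [← hIcard]
      exact (Nat.pow_le_pow_iff_left (by norm_num : (2:ℕ) ≠ 0)).1 h1
    let X : Set V := (S.I p c : Set V) ∪ ((fun v => v + c) '' (S.I p c : Set V))
    have hXW : X ⊆ (W : Set V) := by
      rintro v (hv | ⟨w, hw, rfl⟩)
      · exact hIW hv
      · exact W.add_mem (hIW hw) hcW
    have hXcard : X.ncard = 2 * Nat.card (S.I p c) := by
      rw [Set.ncard_union_eq, Set.ncard_image_of_injective _ (add_left_injective c)]
      · have : (S.I p c : Set V).ncard = Nat.card (S.I p c) := rfl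
        rw [this, two_mul]
      · rw [Set.disjoint_left]
        rintro v hv ⟨w, hw, rfl⟩
        apply hcI
        have := (S.I p c).add_mem hw hv
        have h3 : w + (w + c) = c := by rw [← add_assoc, add_self, zero_add]
        rwa [h3] at this
    have hXeq : X = (W : Set V) := by
      apply Set.eq_of_subset_of_ncard_le hXW
      rw [hXcard]
      exact h2
    intro v hv
    have : v ∈ X := by rw [hXeq]; exact hv
    rcases this with h | ⟨w, hw, rfl⟩
    · exact Or.inl h
    · right; rw [add_add_self]; exact hw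
  have hWcard : Nat.card V ≤ Nat.card W ^ 2 := by
    rw [← hJcard]
    apply Nat.pow_le_pow_left
    rw [hIcard]
    let X : Set V := (S.I p c : Set V) ∪ ((fun v => v + c) '' (S.I p c : Set V))
    have hXW : X ⊆ (W : Set V) := by
      rintro v (hv | ⟨w, hw, rfl⟩)
      · exact hIW hv
      · exact W.add_mem (hIW hw) hcW
    have hXcard : X.ncard = 2 * Nat.card (S.I p c) := by
      rw [Set.ncard_union_eq, Set.ncard_image_of_injective _ (add_left_injective c)]
      · have : (S.I p c : Set V).ncard = Nat.card (S.I p c) := rfl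
        rw [this, two_mul]
      · rw [Set.disjoint_left]
        rintro v hv ⟨w, hw, rfl⟩
        apply hcI
        have := (S.I p c).add_mem hw hv
        have h3 : w + (w + c) = c := by rw [← add_assoc, add_self, zero_add]
        rwa [h3] at this
    rw [← hXcard]
    exact Set.ncard_le_ncard hXW
  -- a nontrivial element of `R p` fixing `c`
  obtain ⟨r, hr, hr1, hrc⟩ : ∃ r ∈ S.R p, r ≠ 1 ∧ r c = c := by
    by_contra hcon
    push Not at hcon
    have h1 : (S.R p : Set (V ≃ₗ[ZMod 2] V)).ncard ≤ (S.I p c : Set V).ncard := by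
      apply Set.ncard_le_ncard_of_injOn (fun r => c + r c)
      · intro r hr
        have := S.star_img p hp c hc hpc htc r hr
        change _ ∈ S.I p c
        rw [mem_I]
        refine ⟨this.1, ?_⟩
        rw [map_add, LinearMap.add_apply, S.alt, zero_add, S.sym]
        exact this.2
      · intro r hr s hs hrs
        have h2 : r c = s c := add_left_cancel hrs
        by_contra hne
        have h3 : s⁻¹ * r ≠ 1 := by
          intro h
          exact hne (inv_mul_eq_one.1 h).symm
        apply hcon _ ((S.R p).mul_mem ((S.R p).inv_mem hs) hr) h3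
        rw [LinearEquiv.mul_apply, h2]
        simp
    have h2 : Nat.card (S.R p) ≤ Nat.card (S.I p c) := h1
    have h3 := S.R_card p hp
    rw [← hJcard] at h3
    have h4 := (Nat.pow_le_pow_iff_left (by norm_num : (2:ℕ) ≠ 0)).1 h3
    have h5 : 0 < Nat.card (S.I p c) := Nat.card_pos
    omega
  have hrH := S.R_le p hp hr
  have hrI : ∀ v ∈ S.I p c, r v = v := by
    intro v hv
    by_cases hv0 : v = 0
    · rw [hv0, map_zero]
    have hv' := mem_I.1 hv
    have hvΔ : v ∈ S.Δ := S.star_mem p hp c hc hpc htc v hv'.1 hv'.2 hv0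
    rcases S.R_J p hp r hr v hv'.1 with h | h
    · exact h
    · exfalso
      have h1 := conj_apply (S := S) (a := c) (v := v) r hrH hc
      rw [hrc, h, map_add, htc'] at h1
      rcases S.t_perp c hc v hv'.2 with h2 | h2
      · rw [h2, h] at h1
        have h3 : c = 0 := by
          have h4 : v + (c + p) = v + p := h1
          have h5 : c + p = p := add_left_cancel h4
          simpa using h5
        exact ne_zero hc h3
      · rw [h2, map_add, h, hrc] at h1
        have h3 : c = 0 := by
          have h4 : v + c + (c + p) = v + p + c := h1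
          have h5 : v + c + (c + p) = v + p := by
            rw [add_assoc, ← add_assoc c c p, add_self, zero_add]
          rw [h5] at h4
          simpa using h4
        exact ne_zero hc h3
  have hrW : ∀ v ∈ W, r v = v := by
    intro v hv
    rcases hWeq v hv with h | h
    · exact hrI v h
    · have h1 := hrI _ h
      rw [map_add, hrc] at h1
      exact add_right_cancel h1
  -- the pointwise stabiliser of `W` is a 2-group
  have hK : S.ptStab (W : Set V) = ⊥ := by
    apply eq_bot_of_normal (S := S) _ (ptStab_le _) (ptStab_normal _ hWinv)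
    apply isPGroup_of_sq
    intro k hk
    apply LinearEquiv.ext
    intro v
    have h1 : k v + v ∈ W := by
      apply orth_eq S W hWiso hWcard
      intro x hx
      have h2 := S.pres k hk.1 v x
      rw [hk.2 x hx] at h2
      rw [map_add, LinearMap.add_apply, h2, ← two_mul]
      exact mul_eq_zero_of_left (by decide) _
    have h3 := hk.2 _ h1
    rw [map_add] at h3
    change k (k v) = v
    have h4 : k (k v) + k v = v + k v := by rw [h3, add_comm]
    exact add_right_cancel h4
  have h9 : r ∈ S.ptStab (W : Set V) := ⟨hrH, hrW⟩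
  rw [hK, Subgroup.mem_bot] at h9
  exact hr1 h9

/-- the main bound: `V` has at most 16 elements. -/
theorem card_le (S : Sys V) : Nat.card V ≤ 16 := by
  by_contra hlt
  push Not at hlt
  have h16 : 16 ≤ Nat.card V := hlt.le
  obtain ⟨a, ha⟩ := S.nonempty
  obtain ⟨b, hb, hab0, hab⟩ : S.Part a := by
    by_contra h
    exact solo_false h16 (a := a) ⟨ha, h⟩
  have hba := star_symm ha hb hab0 hab
  have hIcard := card_I (S.star_half a ha b hb hab0 hab)
  have hJcard := S.star_card a ha b hb hab0 hab
  have hI2 : 2 < Nat.card (S.I a b) := by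
    by_contra h
    push Not at h
    have h1 : Nat.card (S.J a) ≤ 4 := by omega
    have h2 : Nat.card (S.J a) ^ 2 ≤ 4 ^ 2 := Nat.pow_le_pow_left h1 2
    omega
  have haI : a ∈ S.I a b := mem_I.2 ⟨S.J_mem a ha, hab0⟩
  -- an element of `I a b` fixed by `t b`
  obtain ⟨p, hpI, hp0, hbp⟩ : ∃ p ∈ S.I a b, p ≠ 0 ∧ S.t b p = p := by
    obtain ⟨v, hvI, hv0, hva⟩ : ∃ v ∈ S.I a b, v ≠ 0 ∧ v ≠ a := by
      by_contra hcon
      push Not at hcon
      have h1 : (S.I a b : Set V) ⊆ {0, a} := by
        intro v hv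
        by_cases h : v = 0
        · left; exact h
        · right; exact hcon v hv h
      have h2 : (S.I a b : Set V).ncard ≤ 2 := by
        calc (S.I a b : Set V).ncard ≤ ({0, a} : Set V).ncard :=
              Set.ncard_le_ncard h1 (Set.toFinite _)
          _ ≤ 2 := by
            refine (Set.ncard_insert_le _ _).trans ?_
            rw [Set.ncard_singleton]
      have h3 : Nat.card (S.I a b) ≤ 2 := h2
      omega
    rcases S.t_perp b hb v (mem_I.1 hvI).2 with h | h
    · exact ⟨v, hvI, hv0, h⟩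
    · refine ⟨v + a, (S.I a b).add_mem hvI haI, fun h0 => hva (eq_of_add_eq_zero h0), ?_⟩
      rw [map_add, h, hba]
      have : v + b + (b + a) = v + a + (b + b) := by abel
      rw [this, add_self, add_zero]
  have hpJ := (mem_I.1 hpI).1
  have hpb := (mem_I.1 hpI).2
  have hp : p ∈ S.Δ := S.star_mem a ha b hb hab0 hab p hpJ hpb hp0
  have hap : S.t a p = p := S.t_J a ha p hpJ
  have hpa' : S.t p a = a := t_symm ha hp hap
  have hpb' : S.t p b = b := t_symm hb hp hbp
  have hpp : S.t p p = p := t_self hp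
  have hap0 : S.ω a p = 0 := S.J_iso a ha a (S.J_mem a ha) p hpJ
  have hbp0 : S.ω b p = 0 := by rw [S.sym]; exact hpb
  have hbJ : b ∉ S.J a := fun h => star_ne ha hab (S.t_J a ha b h)
  have hne_ap : a ≠ p := by
    intro h
    rw [← h, hba] at hbp
    have : b + a = a := hbp
    exact ne_zero hb (by simpa using this)
  have hne_bp : b ≠ p := fun h => hbJ (h ▸ hpJ)
  have hne_ab : a ≠ b := fun h => hbJ (h ▸ S.J_mem a ha)
  have hne1 : a + p ≠ b := fun h => hbJ (h ▸ (S.J a).add_mem (S.J_mem a ha) hpJ)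
  apply not_perp_all (S := S) h16 hp
  intro c hc
  by_contra hpc
  have L : ∀ q ∈ S.Δ, S.t p q = q → S.ω q c = 0 → S.t c q = q + c := by
    intro q hq hpq hqc
    rcases S.t_perp c hc q hqc with h | h
    · exfalso
      have h1 : c ∈ S.J q := S.J_fix q hq c hc (t_symm hc hq h)
      have h2 : p ∈ S.J q := S.J_fix q hq p hp (t_symm hp hq hpq)
      exact hpc (S.J_iso q hq p h2 c h1)
    · exact h
  have hpc1 : S.ω p c = 1 := (z2 _).resolve_left hpc
  -- `a'`
  obtain ⟨a', ha', hpa1, hac', haa'⟩ : ∃ a' ∈ S.Δ, S.t p a' = a' ∧ S.ω a' c = 0 ∧ (a' = a ∨ a' = a + p) := by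
    rcases z2 (S.ω a c) with h | h
    · exact ⟨a, ha, hpa', h, Or.inl rfl⟩
    · refine ⟨a + p, S.closed a ha p hp hne_ap hap0, by rw [map_add, hpa', hpp], ?_, Or.inr rfl⟩
      rw [map_add, LinearMap.add_apply, h, hpc1]; decide
  obtain ⟨b', hb', hpb1, hbc', hbb'⟩ : ∃ b' ∈ S.Δ, S.t p b' = b' ∧ S.ω b' c = 0 ∧ (b' = b ∨ b' = b + p) := by
    rcases z2 (S.ω b c) with h | h
    · exact ⟨b, hb, hpb', h, Or.inl rfl⟩
    · refine ⟨b + p, S.closed b hb p hp hne_bp hbp0, by rw [map_add, hpb', hpp], ?_, Or.inr rfl⟩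
      rw [map_add, LinearMap.add_apply, h, hpc1]; decide
  have hpb0 : S.ω p b = 0 := hpb
  have hpp0 : S.ω p p = 0 := S.alt p
  have hab' : S.ω a' b' = 0 := by
    rcases haa' with h | h <;> rcases hbb' with h' | h' <;> rw [h, h'] <;>
      simp only [map_add, LinearMap.add_apply, hab0, hap0, hpb0, hpp0, add_zero]
  have hne' : a' ≠ b' := by
    rcases haa' with h | h <;> rcases hbb' with h' | h' <;> rw [h, h']
    · exact hne_ab
    · intro h2
      apply hne1
      rw [h2, add_add_self]
    · exact hne1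
    · intro h2
      exact hne_ab (add_right_cancel h2)
  have h1 := L a' ha' hpa1 hac'
  have h2 := L b' hb' hpb1 hbc'
  have h3 := L (a' + b') (S.closed a' ha' b' hb' hne' hab') (by rw [map_add, hpa1, hpb1])
    (by rw [map_add, LinearMap.add_apply, hac', hbc', add_zero])
  rw [map_add, h1, h2] at h3
  have h4 : a' + c + (b' + c) = a' + b' := by
    have : a' + c + (b' + c) = a' + b' + (c + c) := by abel
    rw [this, add_self, add_zero]
  rw [h4] at h3
  exact ne_zero hc (by simpa using h3)

end Sys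

end Cfsg.Agent.ClassificationK.SymplLin
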