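import Mathlib
import Cfsg.Agent.ClassificationK.SymplLinB

/-!
# Linear algebra for S1758, part C: the space with 16 elements

A frame `a, b, e, f` of `V`; either all nonzero vectors are in `Δ` or `Δ` is the set of singular vectors of a
quadratic form with 9 nonzero singular vectors.
-/

set_option autoImplicit false

namespace Cfsg.Agent.ClassificationK.SymplLin

variable {V : Type*} [AddCommGroup V] [Module (ZMod 2) V] {S : Sys V}

namespace Sys

/-- a symplectic frame adapted to a pair `a ⋆ b`. -/
structure Frame (S : Sys V) (a b e f : V) : Prop where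
  ha : a ∈ S.Δ
  hb : b ∈ S.Δ
  ab : S.ω a b = 0
  star : S.t a b = a + b
  he : e ∈ S.J a
  hf : f ∈ S.J b
  eb : S.ω e b = 1
  fa : S.ω f a = 1
  ef : S.ω e f = 0

lemma t_J_conj {a v : V} (ha : a ∈ S.Δ) (hv : v ∈ S.J a) : S.t a v = v := S.t_J a ha v hv

lemma exists_partner (h16 : 16 ≤ Nat.card V) {a : V} (ha : a ∈ S.Δ) :
    ∃ b ∈ S.Δ, S.ω a b = 0 ∧ S.t a b = a + b := by
  by_contra h
  exact solo_false h16 (a := a) ⟨ha, h⟩

variable [Finite V]

omit [Finite V] in
lemma exists_frame {a b : V} (ha : a ∈ S.Δ) (hb : b ∈ S.Δ) (hab : S.ω a b = 0) (hs : S.t a b = a + b) :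
    ∃ e f, S.Frame a b e f := by
  obtain ⟨e, he, heb⟩ := S.star_half a ha b hb hab hs
  obtain ⟨f, hf, hfa⟩ := S.star_half b hb a ha (by rw [S.sym, hab]) (star_symm ha hb hab hs)
  have heb1 : S.ω e b = 1 := (z2 _).resolve_left heb
  have hfa1 : S.ω f a = 1 := (z2 _).resolve_left hfa
  rcases z2 (S.ω e f) with h | h
  · exact ⟨e, f, ha, hb, hab, hs, he, hf, heb1, hfa1, h⟩
  · refine ⟨e, f + b, ha, hb, hab, hs, he, (S.J b).add_mem hf (S.J_mem b hb), heb1, ?_, ?_⟩
    · rw [map_add, LinearMap.add_apply, hfa1, S.sym b a, hab, add_zero]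
    · rw [map_add, h, heb1]; decide

namespace Frame

variable {a b e f : V}

omit [Finite V] in
lemma ea (F : S.Frame a b e f) : S.ω e a = 0 := S.J_iso a F.ha e F.he a (S.J_mem a F.ha)

omit [Finite V] in
lemma ae (F : S.Frame a b e f) : S.ω a e = 0 := by rw [S.sym, F.ea]

omit [Finite V] in
lemma fb (F : S.Frame a b e f) : S.ω f b = 0 := S.J_iso b F.hb f F.hf b (S.J_mem b F.hb)

omit [Finite V] in
lemma bf (F : S.Frame a b e f) : S.ω b f = 0 := by rw [S.sym, F.fb]

omit [Finite V] in
lemma ba (F : S.Frame a b e f) : S.ω b a = 0 := by rw [S.sym, F.ab]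

omit [Finite V] in
lemma be (F : S.Frame a b e f) : S.ω b e = 1 := by rw [S.sym, F.eb]

omit [Finite V] in
lemma af (F : S.Frame a b e f) : S.ω a f = 1 := by rw [S.sym, F.fa]

omit [Finite V] in
lemma fe (F : S.Frame a b e f) : S.ω f e = 0 := by rw [S.sym, F.ef]

omit [Finite V] in
lemma card_J (F : S.Frame a b e f) (h16 : Nat.card V = 16) : Nat.card (S.J a) = 4 := by
  have h := S.star_card a F.ha b F.hb F.ab F.star
  rw [h16] at h
  have h2 : Nat.card (S.J a) ^ 2 = 4 ^ 2 := by rw [h]; norm_num
  exact (Nat.pow_left_inj (by norm_num : (2:ℕ) ≠ 0)).1 h2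

omit [Finite V] in
lemma ne_zero_a (F : S.Frame a b e f) : a ≠ 0 := ne_zero F.ha

lemma mem_J (F : S.Frame a b e f) (h16 : Nat.card V = 16) {v : V} (hv : v ∈ S.J a) :
    v = 0 ∨ v = a ∨ v = e ∨ v = e + a := by
  have he0 : e ≠ 0 := by
    intro h
    have := F.eb
    rw [h, map_zero, LinearMap.zero_apply] at this
    exact absurd this (by decide)
  have hea : e ≠ a := by
    intro h
    have := F.eb
    rw [h, F.ab] at this
    exact absurd this (by decide)
  let X : Set V := {0, a, e, e + a}
  have hX : X ⊆ (S.J a : Set V) := by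
    rintro x (h | h | h | h)
    · rw [h]; exact (S.J a).zero_mem
    · rw [h]; exact S.J_mem a F.ha
    · rw [h]; exact F.he
    · rw [h]; exact (S.J a).add_mem F.he (S.J_mem a F.ha)
  have hXc : X.ncard = 4 := by
    have h1 : a ∉ ({e, e + a} : Set V) := by
      rintro (h | h)
      · exact hea h.symm
      · exact he0 (by simpa using h)
    have h2 : (0 : V) ∉ ({a, e, e + a} : Set V) := by
      rintro (h | h | h)
      · exact F.ne_zero_a h.symm
      · exact he0 h.symm
      · exact hea (eq_of_add_eq_zero h.symm)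
    have h3 : e ≠ e + a := by
      intro h
      exact F.ne_zero_a (by simpa using h)
    change ({0, a, e, e + a} : Set V).ncard = 4
    rw [Set.ncard_insert_of_notMem h2, Set.ncard_insert_of_notMem h1, Set.ncard_pair h3]
  have hXeq : X = (S.J a : Set V) := by
    apply Set.eq_of_subset_of_ncard_le hX
    rw [hXc]
    have : (S.J a : Set V).ncard = Nat.card (S.J a) := rfl
    rw [this, F.card_J h16]
  have : v ∈ X := by rw [hXeq]; exact hv
  exact this

/-- a vector orthogonal to the frame is zero. -/
lemma eq_zero (F : S.Frame a b e f) (h16 : Nat.card V = 16) {v : V} (h1 : S.ω v a = 0) (h2 : S.ω v b = 0)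
    (h3 : S.ω v e = 0) (h4 : S.ω v f = 0) : v = 0 := by
  have hJiso := S.J_iso a F.ha
  have hcJ : Nat.card V ≤ Nat.card (S.J a) ^ 2 := by rw [F.card_J h16, h16]; norm_num
  have hv : v ∈ S.J a := by
    apply orth_eq S (S.J a) hJiso hcJ
    intro x hx
    rcases F.mem_J h16 hx with h | h | h | h <;> rw [h]
    · rw [map_zero]
    · exact h1
    · exact h3
    · rw [map_add, h1, h3, add_zero]
  rcases F.mem_J h16 hv with h | h | h | h
  · exact h
  · rw [h, F.af] at h4; exact absurd h4 (by decide)
  · rw [h, F.eb] at h2; exact absurd h2 (by decide)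
  · rw [h, map_add, LinearMap.add_apply, F.eb, F.ab] at h2; exact absurd h2 (by decide)

lemma ext (F : S.Frame a b e f) (h16 : Nat.card V = 16) {v w : V} (h1 : S.ω v a = S.ω w a)
    (h2 : S.ω v b = S.ω w b) (h3 : S.ω v e = S.ω w e) (h4 : S.ω v f = S.ω w f) : v = w := by
  apply eq_of_add_eq_zero
  have key : ∀ x : V, S.ω v x = S.ω w x → S.ω (v + w) x = 0 := by
    intro x hx
    rw [map_add, LinearMap.add_apply, hx]
    exact ZModModule.add_self _
  exact F.eq_zero h16 (key a h1) (key b h2) (key e h3) (key f h4)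

/-- coordinates. -/
lemma decomp (F : S.Frame a b e f) (h16 : Nat.card V = 16) (v : V) :
    v = S.ω v f • a + S.ω v e • b + S.ω v b • e + S.ω v a • f := by
  apply F.ext h16 <;>
  simp only [map_add, map_smul, LinearMap.add_apply, LinearMap.smul_apply, smul_eq_mul, F.ea, F.ae, F.fb, F.bf,
    F.ba, F.be, F.af, F.fe, F.ab, F.eb, F.fa, F.ef, S.alt, mul_zero, mul_one, add_zero, zero_add]

lemma cases16 (F : S.Frame a b e f) (h16 : Nat.card V = 16) (P : V → Prop)
    (h : ∀ x y z w : ZMod 2, P (x • a + y • b + z • e + w • f)) (v : V) : P v := by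
  rw [F.decomp h16 v]
  exact h _ _ _ _

lemma ta_f (F : S.Frame a b e f) (h16 : Nat.card V = 16) : S.t a f = a + e + f := by
  have h1 : S.t a (a + b) = b := by
    rw [map_add, t_self F.ha, F.star, ← add_assoc, add_self, zero_add]
  apply F.ext h16
  · have := t_pres F.ha f a
    rw [t_self F.ha] at this
    rw [this]
    simp only [map_add, LinearMap.add_apply, S.alt, F.ea, F.fa, zero_add]
  · have := t_pres F.ha f (a + b)
    rw [h1] at this
    rw [this]
    simp only [map_add, LinearMap.add_apply, F.ab, F.eb, F.fa, F.fb, zero_add, add_zero]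
  · have := t_pres F.ha f e
    rw [S.t_J a F.ha e F.he] at this
    rw [this]
    simp only [map_add, LinearMap.add_apply, F.ae, F.fe, S.alt, add_zero]
  · have := S.t_form a F.ha f
    rw [S.sym, this]
    simp only [map_add, LinearMap.add_apply, F.fa, F.af, F.ef, S.alt, add_zero]

omit [Finite V] in
/-- the frame with the roles of `a` and `b` exchanged. -/
lemma swap (F : S.Frame a b e f) : S.Frame b a f e :=
  ⟨F.hb, F.ha, F.ba, star_symm F.ha F.hb F.ab F.star, F.hf, F.he, F.fa, F.eb, F.fe⟩

lemma tb_e (F : S.Frame a b e f) (h16 : Nat.card V = 16) : S.t b e = b + f + e := F.swap.ta_f h16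

/-- an element of `H` fixing `a` and `b`. -/
lemma fix_ab (F : S.Frame a b e f) (h16 : Nat.card V = 16) {h : V ≃ₗ[ZMod 2] V} (hh : h ∈ S.H)
    (hha : h a = a) (hhb : h b = b) : h = 1 ∨ (h e = e + a ∧ h f = f + b) := by
  have hp : ∀ v x, S.ω (h v) (h x) = S.ω v x := S.pres h hh
  have hta : ∀ x, S.t a (h x) = h (S.t a x) := by
    intro x
    have := conj_apply (S := S) (a := a) (v := x) h hh F.ha
    rwa [hha] at this
  have htb : ∀ x, S.t b (h x) = h (S.t b x) := by
    intro x
    have := conj_apply (S := S) (a := b) (v := x) h hh F.hb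
    rwa [hhb] at this
  -- h e
  have he1 : S.t a (h e) = h e := by rw [hta, S.t_J a F.ha e F.he]
  have he2 : S.ω (h e) a = 0 := by have := hp e a; rw [hha] at this; rw [this, F.ea]
  have he3 : S.ω (h e) b = 1 := by have := hp e b; rw [hhb] at this; rw [this, F.eb]
  have he4 : S.ω (h e) e = 0 := by
    have := t_pres F.ha (h e) f
    rw [he1, F.ta_f h16, map_add, map_add, he2, zero_add] at this
    simpa using this
  have hf1 : S.t b (h f) = h f := by rw [htb, S.t_J b F.hb f F.hf]
  have hf2 : S.ω (h f) b = 0 := by have := hp f b; rw [hhb] at this; rw [this, F.fb]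
  have hf3 : S.ω (h f) a = 1 := by have := hp f a; rw [hha] at this; rw [this, F.fa]
  have hf4 : S.ω (h f) f = 0 := by
    have := t_pres F.hb (h f) e
    rw [hf1, F.tb_e h16, map_add, map_add, hf2, zero_add] at this
    simpa using this
  have hef : S.ω (h e) (h f) = 0 := by rw [hp, F.ef]
  have heE : h e = e ∨ h e = e + a := by
    rcases z2 (S.ω (h e) f) with h5 | h5
    · left
      apply F.ext h16
      · rw [he2, F.ea]
      · rw [he3, F.eb]
      · rw [he4, S.alt]
      · rw [h5, F.ef]
    · right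
      apply F.ext h16
      · simp only [map_add, LinearMap.add_apply, he2, F.ea, S.alt, add_zero]
      · simp only [map_add, LinearMap.add_apply, he3, F.eb, F.ab, add_zero]
      · simp only [map_add, LinearMap.add_apply, he4, F.ae, S.alt, add_zero]
      · simp only [map_add, LinearMap.add_apply, h5, F.ef, F.af, zero_add]
  have hfF : h f = f ∨ h f = f + b := by
    rcases z2 (S.ω (h f) e) with h5 | h5
    · left
      apply F.ext h16
      · rw [hf3, F.fa]
      · rw [hf2, F.fb]
      · rw [h5, F.fe]
      · rw [hf4, S.alt]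
    · right
      apply F.ext h16
      · simp only [map_add, LinearMap.add_apply, hf3, F.fa, F.ba, add_zero]
      · simp only [map_add, LinearMap.add_apply, hf2, F.fb, S.alt, add_zero]
      · simp only [map_add, LinearMap.add_apply, h5, F.fe, F.be, zero_add]
      · simp only [map_add, LinearMap.add_apply, hf4, F.bf, S.alt, add_zero]
  rcases heE with h5 | h5 <;> rcases hfF with h6 | h6
  · left
    apply LinearEquiv.ext
    intro v
    change h v = v
    apply F.cases16 h16 (fun v => h v = v)
    intro x y z w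
    rw [map_add, map_add, map_add, map_smul, map_smul, map_smul, map_smul, hha, hhb, h5, h6]
  · rw [h5, h6, map_add, F.ef, F.eb] at hef
    exact absurd hef (by decide)
  · rw [h5, h6, map_add, LinearMap.add_apply, F.ef, F.af] at hef
    exact absurd hef (by decide)
  · exact Or.inr ⟨h5, h6⟩

/-- a nontrivial element of `R a` fixing `b`. -/
lemma exists_r (F : S.Frame a b e f) (h16 : Nat.card V = 16) :
    ∃ r ∈ S.R a, r a = a ∧ r b = b ∧ r e = e + a ∧ r f = f + b := by
  obtain ⟨r, hr, hr1, hrb⟩ : ∃ r ∈ S.R a, r ≠ 1 ∧ r b = b := by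
    by_contra hcon
    push Not at hcon
    have h1 : (S.R a : Set (V ≃ₗ[ZMod 2] V)).ncard ≤ ({0, a} : Set V).ncard := by
      apply Set.ncard_le_ncard_of_injOn (fun r => b + r b)
      · intro r hr
        have h := S.star_img a F.ha b F.hb F.ab F.star r hr
        have h2 : S.ω (b + r b) b = 0 := by
          rw [map_add, LinearMap.add_apply, S.alt, zero_add, S.sym]; exact h.2
        rcases F.mem_J h16 h.1 with h3 | h3 | h3 | h3
        · left; exact h3
        · right; exact h3
        · rw [h3, F.eb] at h2; exact absurd h2 (by decide)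
        · rw [h3, map_add, LinearMap.add_apply, F.eb, F.ab] at h2; exact absurd h2 (by decide)
      · intro r hr s hs hrs
        have h2 : r b = s b := add_left_cancel hrs
        by_contra hne
        have h3 : s⁻¹ * r ≠ 1 := by
          intro h
          exact hne (inv_mul_eq_one.1 h).symm
        apply hcon _ ((S.R a).mul_mem ((S.R a).inv_mem hs) hr) h3
        rw [LinearEquiv.mul_apply, h2]
        simp
    have h2 : ({0, a} : Set V).ncard ≤ 2 := by
      refine (Set.ncard_insert_le _ _).trans ?_
      rw [Set.ncard_singleton]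
    have h3 := S.R_card a F.ha
    have h4 : Nat.card (S.R a) ≤ 2 := h1.trans h2
    have h5 : Nat.card (S.R a) ^ 2 ≤ 2 ^ 2 := Nat.pow_le_pow_left h4 2
    omega
  have hra := S.R_fix a F.ha r hr
  rcases F.fix_ab h16 (S.R_le a F.ha hr) hra hrb with h | h
  · exact absurd h hr1
  · exact ⟨r, hr, hra, hrb, h.1, h.2⟩

/-- the images of `b` under the stabiliser of `a`. -/
lemma stab_b (F : S.Frame a b e f) (h16 : Nat.card V = 16) {h : V ≃ₗ[ZMod 2] V} (hh : h ∈ S.H)
    (hha : h a = a) : h b = b ∨ h b = a + b ∨ h b = b + e ∨ h b = a + b + e := by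
  have hta : S.t a (h b) = a + h b := by
    have := conj_apply (S := S) (a := a) (v := b) h hh F.ha
    rwa [hha, F.star, map_add, hha] at this
  have h1 : S.ω (h b) a = 0 := by have := S.pres h hh b a; rw [hha] at this; rw [this, F.ba]
  have h2 := t_pres F.ha (h b) f
  have h3 : S.ω (h b) e = 1 := by
    rw [hta, F.ta_f h16] at h2
    simp only [map_add, LinearMap.add_apply, h1, S.alt, F.ae, F.af, zero_add, add_zero] at h2
    rcases z2 (S.ω (h b) e) with h4 | h4
    · rw [h4, zero_add] at h2
      exact absurd h2 (by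
        intro h5
        simp at h5)
    · exact h4
  rw [F.decomp h16 (h b), h1, h3, zero_smul, add_zero, one_smul]
  rcases z2 (S.ω (h b) f) with h4 | h4 <;> rcases z2 (S.ω (h b) b) with h5 | h5 <;>
    rw [h4, h5] <;> simp

lemma eq_of_frame (F : S.Frame a b e f) (h16 : Nat.card V = 16) {g h : V ≃ₗ[ZMod 2] V} (ha : g a = h a)
    (hb : g b = h b) (he : g e = h e) (hf : g f = h f) : g = h := by
  apply LinearEquiv.ext
  intro v
  apply F.cases16 h16 (fun v => g v = h v)
  intro x y z w
  rw [map_add, map_add, map_add, map_smul, map_smul, map_smul, map_smul, ha, hb, he, hf,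
    map_add, map_add, map_add, map_smul, map_smul, map_smul, map_smul]

/-- the stabiliser of `a` has order at most 8. -/
lemma card_stab (F : S.Frame a b e f) (h16 : Nat.card V = 16) :
    {h : V ≃ₗ[ZMod 2] V | h ∈ S.H ∧ h a = a}.ncard ≤ 8 := by
  obtain ⟨r, hr, hra, hrb, hre, hrf⟩ := F.exists_r h16
  classical
  have : Finite (V ≃ₗ[ZMod 2] V) :=
    Finite.of_injective (fun h : V ≃ₗ[ZMod 2] V => (h : V → V)) DFunLike.coe_injective
  let st : Finset (V ≃ₗ[ZMod 2] V) := (Set.toFinite {h : V ≃ₗ[ZMod 2] V | h ∈ S.H ∧ h a = a}).toFinset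
  have hst : ∀ h, h ∈ st ↔ h ∈ S.H ∧ h a = a := by
    intro h
    simp [st]
  have h1 : st.card ≤ 2 * (st.image (fun h => h b)).card := by
    apply Finset.card_le_mul_card_image
    intro w hw
    obtain ⟨g, hg, rfl⟩ := Finset.mem_image.1 hw
    have hg' := (hst g).1 hg
    have hsub : (st.filter fun h => h b = g b) ⊆ {g, g * r} := by
      intro h hh
      obtain ⟨hh1, hh2⟩ := Finset.mem_filter.1 hh
      have hh' := (hst h).1 hh1
      have h3 : (g⁻¹ * h) a = a := by
        rw [LinearEquiv.mul_apply, hh'.2]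
        calc g⁻¹ a = g⁻¹ (g a) := by rw [hg'.2]
          _ = a := by simp
      have h4 : (g⁻¹ * h) b = b := by
        rw [LinearEquiv.mul_apply, hh2]
        simp
      have hgh : g⁻¹ * h ∈ S.H := S.H.mul_mem (S.H.inv_mem hg'.1) hh'.1
      rw [Finset.mem_insert, Finset.mem_singleton]
      rcases F.fix_ab h16 hgh h3 h4 with h5 | h5
      · left; exact (inv_mul_eq_one.1 h5).symm
      · right
        have : g⁻¹ * h = r :=
          F.eq_of_frame h16 (h3.trans hra.symm) (h4.trans hrb.symm) (h5.1.trans hre.symm)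
            (h5.2.trans hrf.symm)
        rw [← this, mul_inv_cancel_left]
    exact (Finset.card_le_card hsub).trans Finset.card_le_two
  have h2 : (st.image (fun h => h b)).card ≤ 4 := by
    have hsub : st.image (fun h => h b) ⊆ {b, a + b, b + e, a + b + e} := by
      intro w hw
      obtain ⟨g, hg, rfl⟩ := Finset.mem_image.1 hw
      have hg' := (hst g).1 hg
      simp only [Finset.mem_insert, Finset.mem_singleton]
      exact F.stab_b h16 hg'.1 hg'.2
    exact (Finset.card_le_card hsub).trans Finset.card_le_four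
  have h3 : {h : V ≃ₗ[ZMod 2] V | h ∈ S.H ∧ h a = a}.ncard = st.card :=
    Set.ncard_eq_toFinset_card _ (Set.toFinite _)
  rw [h3]
  omega

/-- a quadratic form with polar form `ω`. -/
def lam (S : Sys V) (a b e f v : V) : ZMod 2 :=
  S.ω v b + S.ω v a + S.ω v f * S.ω v a + S.ω v e * S.ω v b

lemma lam_add (F : S.Frame a b e f) (h16 : Nat.card V = 16) (v w : V) :
    lam S a b e f (v + w) = lam S a b e f v + lam S a b e f w + S.ω v w := by
  have h : S.ω v w = S.ω v f * S.ω w a + S.ω v e * S.ω w b + S.ω v b * S.ω w e + S.ω v a * S.ω w f := by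
    conv_lhs => rw [F.decomp h16 v]
    simp only [map_add, map_smul, LinearMap.add_apply, LinearMap.smul_apply, smul_eq_mul]
    rw [S.sym a w, S.sym b w, S.sym e w, S.sym f w]
  rw [h]
  simp only [lam, map_add, LinearMap.add_apply]
  ring

lemma O_orbit (F : S.Frame a b e f) (h16 : Nat.card V = 16) (P : V → Prop)
    (hP : ∀ v, (P v ↔ P (S.t a v)) ∧ (P v ↔ P (S.t b v))) {v : V}
    (hv : v = e + b ∨ v = e + a + b ∨ v = f + a ∨ v = f + a + b ∨ v = e + f ∨ v = e + f + a + b) (h : P v) :
    P (e + b) ∧ P (e + a + b) ∧ P (f + a) ∧ P (f + a + b) ∧ P (e + f) ∧ P (e + f + a + b) := by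
  have hae : S.t a e = e := S.t_J a F.ha e F.he
  have hbf : S.t b f = f := S.t_J b F.hb f F.hf
  have hba : S.t b a = b + a := star_symm F.ha F.hb F.ab F.star
  have h2 : ∀ v w : V, v + w + w = v := add_add_self
  have e1 : S.t a (e + b) = e + a + b := by
    rw [map_add, hae, F.star, add_assoc]
  have e2 : S.t b (e + b) = e + f := by
    rw [map_add, F.tb_e h16, t_self F.hb]
    rw [show b + f + e + b = e + f + b + b by abel, h2]
  have e3 : S.t a (e + f) = f + a := by
    rw [map_add, hae, F.ta_f h16]
    rw [show e + (a + e + f) = f + a + e + e by abel, h2]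
  have e4 : S.t b (f + a) = f + a + b := by
    rw [map_add, hbf, hba]; abel
  have e5 : S.t a (f + a + b) = e + f + a + b := by
    rw [map_add, map_add, t_self F.ha, F.star, F.ta_f h16]
    rw [show a + e + f + a + (a + b) = e + f + a + b + a + a by abel, h2]
  have i1 : P (e + b) ↔ P (e + a + b) := by rw [(hP (e + b)).1, e1]
  have i2 : P (e + b) ↔ P (e + f) := by rw [(hP (e + b)).2, e2]
  have i3 : P (e + f) ↔ P (f + a) := by rw [(hP (e + f)).1, e3]
  have i4 : P (f + a) ↔ P (f + a + b) := by rw [(hP (f + a)).2, e4]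
  have i5 : P (f + a + b) ↔ P (e + f + a + b) := by rw [(hP (f + a + b)).1, e5]
  rcases hv with rfl | rfl | rfl | rfl | rfl | rfl <;> tauto

omit [Finite V] in
lemma e_ne_zero (F : S.Frame a b e f) : e ≠ 0 := by
  intro h
  have := F.eb
  rw [h, map_zero, LinearMap.zero_apply] at this
  exact absurd this (by decide)

omit [Finite V] in
lemma f_ne_zero (F : S.Frame a b e f) : f ≠ 0 := F.swap.e_ne_zero

/-- **Dichotomy.** Either all nonzero vectors are in `Δ`, or `Δ` is the set of nonzero singular vectors of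
`lam`. -/
theorem dichotomy (F : S.Frame a b e f) (h16 : Nat.card V = 16) :
    (∀ v, v ≠ 0 → v ∈ S.Δ) ∨ (∀ v, v ∈ S.Δ ↔ v ≠ 0 ∧ lam S a b e f v = 0) := by
  have h2 : ∀ v w : V, v + w + w = v := add_add_self
  have hne : ∀ {v w : V} (x : V), S.ω v x ≠ S.ω w x → v ≠ w := by
    intro v w x h h'
    exact h (by rw [h'])
  have hP : ∀ v, (v ∈ S.Δ ↔ S.t a v ∈ S.Δ) ∧ (v ∈ S.Δ ↔ S.t b v ∈ S.Δ) := by
    intro v
    constructor
    · refine ⟨fun h => t_Δ F.ha h, fun h => ?_⟩
      have := t_Δ F.ha h
      rwa [t_sq F.ha] at this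
    · refine ⟨fun h => t_Δ F.hb h, fun h => ?_⟩
      have := t_Δ F.hb h
      rwa [t_sq F.hb] at this
  have hab : a + b ∈ S.Δ := by
    have := t_Δ F.ha F.hb
    rwa [F.star] at this
  -- full case
  have hfull : ∀ {a b e f : V}, S.Frame a b e f → e ∈ S.Δ → ∀ v, v ≠ 0 → v ∈ S.Δ := by
    clear hab hP F
    intro a b e f F he
    have hP : ∀ v, (v ∈ S.Δ ↔ S.t a v ∈ S.Δ) ∧ (v ∈ S.Δ ↔ S.t b v ∈ S.Δ) := by
      intro v
      constructor
      · refine ⟨fun h => t_Δ F.ha h, fun h => ?_⟩
        have := t_Δ F.ha h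
        rwa [t_sq F.ha] at this
      · refine ⟨fun h => t_Δ F.hb h, fun h => ?_⟩
        have := t_Δ F.hb h
        rwa [t_sq F.hb] at this
    have hab : a + b ∈ S.Δ := by
      have := t_Δ F.ha F.hb
      rwa [F.star] at this
    have hea : S.t e a = a := t_symm F.ha he (S.t_J a F.ha e F.he)
    obtain ⟨x, hx⟩ : ∃ x, x = S.t e b := ⟨_, rfl⟩
    have hxΔ : x ∈ S.Δ := hx ▸ t_Δ he F.hb
    have x1 : S.ω x a = 0 := by
      have := t_pres he b a
      rw [hea, ← hx] at this
      rw [this, F.ba]
    have x2 : S.ω x b = 1 := by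
      have := S.t_form e he b
      rw [← hx] at this
      rw [S.sym, this, F.be]
    have x3 : S.ω x e = 1 := by
      have := t_pres he b e
      rw [t_self he, ← hx] at this
      rw [this, F.be]
    have hxO : x = e + b ∨ x = e + a + b := by
      have h := F.decomp h16 x
      rw [x1, x2, x3, zero_smul, add_zero, one_smul, one_smul] at h
      rcases z2 (S.ω x f) with h4 | h4
      · left
        rw [h, h4, zero_smul]; abel
      · right
        rw [h, h4, one_smul]; abel
    obtain ⟨o1, o2, o3, o4, o5, o6⟩ := F.O_orbit h16 (fun v => v ∈ S.Δ) hP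
      (v := x) (by rcases hxO with h | h <;> simp [h]) hxΔ
    have hf : f ∈ S.Δ := by
      have := S.closed e he (e + f) o5 (fun h => F.f_ne_zero (by simpa using h))
        (by rw [map_add, S.alt, F.ef, add_zero])
      rwa [← add_assoc, add_self, zero_add] at this
    have hae : a + e ∈ S.Δ := S.closed a F.ha e he (hne b (by rw [F.ab, F.eb]; decide)) F.ae
    have hbf : b + f ∈ S.Δ := S.closed b F.hb f hf (hne a (by rw [F.ba, F.fa]; decide)) F.bf
    have haef : a + e + f ∈ S.Δ := by
      rw [← F.ta_f h16]; exact t_Δ F.ha hf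
    have hbef : b + e + f ∈ S.Δ := by
      have h3 : b + e + f = b + f + e := by abel
      rw [h3, ← F.tb_e h16]; exact t_Δ F.hb he
    have q1 : b + e ∈ S.Δ := by rwa [add_comm] at o1
    have q2 : a + b + e ∈ S.Δ := by rwa [show e + a + b = a + b + e by abel] at o2
    have q3 : a + f ∈ S.Δ := by rwa [add_comm] at o3
    have q4 : a + b + f ∈ S.Δ := by rwa [show f + a + b = a + b + f by abel] at o4
    have q6 : a + b + e + f ∈ S.Δ := by rwa [show e + f + a + b = a + b + e + f by abel] at o6
    have ha := F.ha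
    have hb := F.hb
    intro v
    apply F.cases16 h16 (fun v => v ≠ 0 → v ∈ S.Δ)
    intro x y z w
    rcases z2 x with rfl | rfl <;> rcases z2 y with rfl | rfl <;> rcases z2 z with rfl | rfl <;>
      rcases z2 w with rfl | rfl <;> simp only [zero_smul, one_smul, zero_add, add_zero] <;> intro h <;>
      first
      | exact absurd rfl h
      | assumption
  by_cases he : e ∈ S.Δ
  · exact Or.inl (hfull F he)
  by_cases hf : f ∈ S.Δ
  · exact Or.inl (hfull F.swap hf)
  right
  have hea : a + e ∉ S.Δ := by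
    intro h
    apply he
    have := S.closed a F.ha _ h (fun h => F.e_ne_zero (by simpa using h)) (by rw [map_add, S.alt, F.ae, add_zero])
    rwa [← add_assoc, add_self, zero_add] at this
  have hfb : b + f ∉ S.Δ := by
    intro h
    apply hf
    have := S.closed b F.hb _ h (fun h => F.f_ne_zero (by simpa using h)) (by rw [map_add, S.alt, F.bf, add_zero])
    rwa [← add_assoc, add_self, zero_add] at this
  have haef : a + e + f ∉ S.Δ := by
    rw [← F.ta_f h16]
    intro h
    exact hf ((hP f).1.2 h)
  have hbef : b + e + f ∉ S.Δ := by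
    have h3 : b + e + f = b + f + e := by abel
    rw [h3, ← F.tb_e h16]
    intro h
    exact he ((hP e).2.2 h)
  have hO : ∃ v ∈ S.Δ, v = e + b ∨ v = e + a + b ∨ v = f + a ∨ v = f + a + b ∨ v = e + f ∨ v = e + f + a + b := by
    by_contra hcon
    push Not at hcon
    -- `Δ = {a, b, a + b}`
    have hΔ : ∀ v ∈ S.Δ, v = a ∨ v = b ∨ v = a + b := by
      intro v
      have hc : ∀ v, v = e + b ∨ v = e + a + b ∨ v = f + a ∨ v = f + a + b ∨ v = e + f ∨ v = e + f + a + b → v ∉ S.Δ := by
        intro v hv hvΔ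
        have := hcon v hvΔ
        tauto
      have q1 : b + e ∉ S.Δ := hc _ (by left; abel)
      have q2 : a + b + e ∉ S.Δ := hc _ (by right; left; abel)
      have q3 : a + f ∉ S.Δ := hc _ (by right; right; left; abel)
      have q4 : a + b + f ∉ S.Δ := hc _ (by right; right; right; left; abel)
      have q5 : e + f ∉ S.Δ := hc _ (by right; right; right; right; left; abel)
      have q6 : a + b + e + f ∉ S.Δ := hc _ (by right; right; right; right; right; abel)
      have q0 := S.zero_notMem
      apply F.cases16 h16 (fun v => v ∈ S.Δ → v = a ∨ v = b ∨ v = a + b)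
      intro x y z w
      rcases z2 x with rfl | rfl <;> rcases z2 y with rfl | rfl <;> rcases z2 z with rfl | rfl <;>
        rcases z2 w with rfl | rfl <;> simp only [zero_smul, one_smul, zero_add, add_zero] <;> intro h <;>
        first
        | exact absurd h (by assumption)
        | simp
    obtain ⟨r, hr, hra, hrb, hre, hrf⟩ := F.exists_r h16
    have hr1 : r = 1 := by
      apply R_faithful F.ha S.Δ F.ha (fun h hh x hx => S.Δ_inv h hh x hx) hr
      intro x hx
      rcases hΔ x hx with h | h | h <;> rw [h]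
      · exact hra
      · exact hrb
      · rw [map_add, hra, hrb]
    rw [hr1] at hre
    exact F.ne_zero_a (by
      have h3 : e = e + a := hre
      simpa using h3.symm)
  obtain ⟨v0, hv0, hv0'⟩ := hO
  obtain ⟨o1, o2, o3, o4, o5, o6⟩ := F.O_orbit h16 (fun v => v ∈ S.Δ) hP hv0' hv0
  have q1 : b + e ∈ S.Δ := by rwa [add_comm] at o1
  have q2 : a + b + e ∈ S.Δ := by rwa [show e + a + b = a + b + e by abel] at o2
  have q3 : a + f ∈ S.Δ := by rwa [add_comm] at o3
  have q4 : a + b + f ∈ S.Δ := by rwa [show f + a + b = a + b + f by abel] at o4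
  have q6 : a + b + e + f ∈ S.Δ := by rwa [show e + f + a + b = a + b + e + f by abel] at o6
  have ha := F.ha
  have hb := F.hb
  intro v
  suffices h : v ≠ 0 → (v ∈ S.Δ ↔ lam S a b e f v = 0) by
    constructor
    · intro hv
      exact ⟨ne_zero hv, (h (ne_zero hv)).1 hv⟩
    · rintro ⟨h0, h1⟩
      exact (h h0).2 h1
  apply F.cases16 h16 (fun v => v ≠ 0 → (v ∈ S.Δ ↔ lam S a b e f v = 0))
  intro x y z w
  have hlam : lam S a b e f (x • a + y • b + z • e + w • f) = z + w + x * w + y * z := by
    simp only [lam, map_add, map_smul, LinearMap.add_apply, LinearMap.smul_apply, smul_eq_mul, F.ea, F.ae,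
      F.fb, F.bf, F.ba, F.be, F.af, F.fe, F.ab, F.eb, F.fa, F.ef, S.alt, mul_zero, mul_one, add_zero, zero_add]
  rw [hlam]
  rcases z2 x with rfl | rfl <;> rcases z2 y with rfl | rfl <;> rcases z2 z with rfl | rfl <;>
    rcases z2 w with rfl | rfl <;> simp only [zero_smul, one_smul, zero_add, add_zero] <;> intro h <;>
    first
    | exact absurd rfl h
    | exact iff_of_true (by assumption) (by decide)
    | exact iff_of_false (by assumption) (by decide)

end Frame

end Sys

end Cfsg.Agent.ClassificationK.SymplLin
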