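import Mathlib
import Cfsg.Agent.ClassificationK.SymplLinC

/-!
# Linear algebra for S1758, part D: the stabiliser of `a` and the parity of `Δ` (16 elements)
-/

set_option autoImplicit false

namespace Cfsg.Agent.ClassificationK.SymplLin

variable {V : Type*} [AddCommGroup V] [Module (ZMod 2) V] {S : Sys V}

namespace Sys

namespace Frame

variable [Finite V] {a b e f : V}

/-- the fixed space of `t a`. -/
lemma fix_ta (F : S.Frame a b e f) (h16 : Nat.card V = 16) {v : V} (h : S.t a v = v) :
    v = 0 ∨ v = a ∨ v = e ∨ v = e + a := by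
  revert h
  have hta : S.t a a = a := t_self F.ha
  have htb : S.t a b = a + b := F.star
  have hte : S.t a e = e := S.t_J a F.ha e F.he
  have htf : S.t a f = a + e + f := F.ta_f h16
  have ha0 : a ≠ 0 := F.ne_zero_a
  apply F.cases16 h16 (fun v => S.t a v = v → v = 0 ∨ v = a ∨ v = e ∨ v = e + a)
  intro x y z w h
  rw [map_add, map_add, map_add, map_smul, map_smul, map_smul, map_smul, hta, htb, hte, htf] at h
  have h1 : y • a + w • (a + e) = 0 := by
    have h2 : x • a + y • (a + b) + z • e + w • (a + e + f) =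
        (x • a + y • b + z • e + w • f) + (y • a + w • (a + e)) := by
      simp only [smul_add]; abel
    rw [h2] at h
    simpa using h
  have h2 : w = 0 := by
    have h3 := congrArg (fun v => S.ω v b) h1
    simp only [map_add, map_smul, LinearMap.add_apply, LinearMap.smul_apply, smul_eq_mul, F.ab, F.eb, map_zero,
      LinearMap.zero_apply, mul_zero, mul_one, zero_add] at h3
    exact h3
  have h3 : y = 0 := by
    rw [h2, zero_smul, add_zero] at h1
    rcases z2 y with h4 | h4
    · exact h4
    · rw [h4, one_smul] at h1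
      exact absurd h1 ha0
  rw [h2, h3]
  rcases z2 x with rfl | rfl <;> rcases z2 z with rfl | rfl <;>
    simp [add_comm]

/-- elements of the stabiliser of `a` moving `b` to `b` or `a + b` are in `R a`. -/
lemma mem_R (F : S.Frame a b e f) (h16 : Nat.card V = 16) {h : V ≃ₗ[ZMod 2] V} (hh : h ∈ S.H)
    (hha : h a = a) (hhb : h b = b ∨ h b = a + b) : h ∈ S.R a := by
  obtain ⟨r, hr, hra, hrb, hre, hrf⟩ := F.exists_r h16
  have key : ∀ h ∈ S.H, h a = a → h b = b → h ∈ S.R a := by
    intro h hh hha hhb
    rcases F.fix_ab h16 hh hha hhb with h1 | h1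
    · rw [h1]; exact (S.R a).one_mem
    · have : h = r := F.eq_of_frame h16 (hha.trans hra.symm) (hhb.trans hrb.symm) (h1.1.trans hre.symm)
        (h1.2.trans hrf.symm)
      rw [this]; exact hr
  rcases hhb with h1 | h1
  · exact key h hh hha h1
  · have h2 : S.t a * h ∈ S.R a := by
      apply key _ (S.H.mul_mem (H_t F.ha) hh)
      · rw [LinearEquiv.mul_apply, hha, t_self F.ha]
      · rw [LinearEquiv.mul_apply, h1, map_add, t_self F.ha, F.star, ← add_assoc, add_self, zero_add]
    have h3 : h = (S.t a)⁻¹ * (S.t a * h) := by group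
    rw [h3]
    exact (S.R a).mul_mem ((S.R a).inv_mem (S.t_mem a F.ha)) h2

/-- `R a` has index at most two in the stabiliser of `a`. -/
lemma stab_cases (F : S.Frame a b e f) (h16 : Nat.card V = 16) {h k : V ≃ₗ[ZMod 2] V} (hh : h ∈ S.H)
    (hha : h a = a) (hk : k ∈ S.H) (hka : k a = a) : h ∈ S.R a ∨ k ∈ S.R a ∨ h⁻¹ * k ∈ S.R a := by
  have hia : h⁻¹ a = a := by
    calc h⁻¹ a = h⁻¹ (h a) := by rw [hha]
      _ = a := by simp
  have key : k b = h b ∨ k b = h b + a → h⁻¹ * k ∈ S.R a := by
    intro h1
    apply F.mem_R h16 (S.H.mul_mem (S.H.inv_mem hh) hk)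
    · rw [LinearEquiv.mul_apply, hka, hia]
    · rw [LinearEquiv.mul_apply]
      rcases h1 with h1 | h1
      · left
        rw [h1]; simp
      · right
        rw [h1, map_add, hia, add_comm]
        simp
  rcases F.stab_b h16 hh hha with h1 | h1 | h1 | h1
  · exact Or.inl (F.mem_R h16 hh hha (Or.inl h1))
  · exact Or.inl (F.mem_R h16 hh hha (Or.inr h1))
  all_goals
    rcases F.stab_b h16 hk hka with h2 | h2 | h2 | h2
    · exact Or.inr (Or.inl (F.mem_R h16 hk hka (Or.inl h2)))
    · exact Or.inr (Or.inl (F.mem_R h16 hk hka (Or.inr h2)))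
    · right; right
      apply key
      rw [h1, h2]
      first
      | (left; rfl)
      | (right
         have : a + b + e + a = b + e + (a + a) := by abel
         rw [this, add_self, add_zero])
    · right; right
      apply key
      rw [h1, h2]
      first
      | (left; rfl)
      | (right; abel)

/-- the square of an element of the stabiliser of `a` is `1` or `t a`. -/
lemma sq_eq_t (F : S.Frame a b e f) (h16 : Nat.card V = 16) {h : V ≃ₗ[ZMod 2] V} (hh : h ∈ S.H)
    (hha : h a = a) (h2 : h * h ≠ 1) : h * h = S.t a := by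
  obtain ⟨r, hr, hra, hrb, hre, hrf⟩ := F.exists_r h16
  have hnot : h ∉ S.R a := fun h3 => h2 (S.R_sq a F.ha h h3)
  have hta : ∀ x, S.t a (h x) = h (S.t a x) := by
    intro x
    have := conj_apply (S := S) (a := a) (v := x) h hh F.ha
    rwa [hha] at this
  have he : h e = e ∨ h e = e + a := by
    have h3 : S.t a (h e) = h e := by rw [hta, S.t_J a F.ha e F.he]
    rcases F.fix_ta h16 h3 with h4 | h4 | h4 | h4
    · exfalso
      have h5 : h e = h 0 := by rw [h4, map_zero]
      exact F.e_ne_zero (h.injective h5)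
    · exfalso
      have h5 : h e = h a := by rw [h4, hha]
      have h6 := h.injective h5
      have h7 := F.eb
      rw [h6, F.ab] at h7
      exact absurd h7 (by decide)
    · exact Or.inl h4
    · exact Or.inr h4
  have hb : h b = b + e ∨ h b = a + b + e := by
    rcases F.stab_b h16 hh hha with h1 | h1 | h1 | h1
    · exact absurd (F.mem_R h16 hh hha (Or.inl h1)) hnot
    · exact absurd (F.mem_R h16 hh hha (Or.inr h1)) hnot
    · exact Or.inl h1
    · exact Or.inr h1
  have h2v : ∀ v w : V, v + w + w = v := add_add_self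
  have hhe : h (h e) = e := by
    rcases he with h3 | h3
    · rw [h3, h3]
    · rw [h3, map_add, h3, hha, h2v]
  have hhb : h (h b) = b ∨ h (h b) = a + b := by
    rcases hb with h3 | h3 <;> rcases he with h4 | h4
    · left
      rw [h3, map_add, h3, h4, h2v]
    · right
      rw [h3, map_add, h3, h4]
      have : b + e + (e + a) = a + b + (e + e) := by abel
      rw [this, add_self, add_zero]
    · left
      rw [h3, map_add, map_add, hha, h3, h4]
      have : a + (a + b + e) + e = b + (a + a) + (e + e) := by abel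
      rw [this, add_self, add_self, add_zero, add_zero]
    · right
      rw [h3, map_add, map_add, hha, h3, h4]
      have : a + (a + b + e) + (e + a) = a + b + (a + a) + (e + e) := by abel
      rw [this, add_self, add_self, add_zero, add_zero]
  have hH2 : h * h ∈ S.H := S.H.mul_mem hh hh
  have haa : (h * h) a = a := by rw [LinearEquiv.mul_apply, hha, hha]
  rcases hhb with h3 | h3
  · exfalso
    rcases F.fix_ab h16 hH2 haa h3 with h4 | h4
    · exact h2 h4
    · have h5 := h4.1
      rw [LinearEquiv.mul_apply, hhe] at h5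
      exact F.ne_zero_a (by simpa using h5.symm)
  · have h4 : S.t a * (h * h) = 1 := by
      have h5 : (S.t a * (h * h)) a = a := by rw [LinearEquiv.mul_apply, haa, t_self F.ha]
      have h6 : (S.t a * (h * h)) b = b := by
        rw [LinearEquiv.mul_apply]
        have : (h * h) b = a + b := h3
        rw [this, map_add, t_self F.ha, F.star, ← add_assoc, add_self, zero_add]
      rcases F.fix_ab h16 (S.H.mul_mem (H_t F.ha) hH2) h5 h6 with h7 | h7
      · exact h7
      · exfalso
        have h8 := h7.1
        rw [LinearEquiv.mul_apply, LinearEquiv.mul_apply, hhe, S.t_J a F.ha e F.he] at h8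
        exact F.ne_zero_a (by simpa using h8.symm)
    have h5 := S.R_sq a F.ha _ (S.t_mem a F.ha)
    calc h * h = (S.t a * S.t a) * (h * h) := by rw [h5, one_mul]
      _ = S.t a * (S.t a * (h * h)) := by rw [mul_assoc]
      _ = S.t a := by rw [h4, mul_one]

/-- coordinates as an equivalence. -/
noncomputable def coord (F : S.Frame a b e f) (h16 : Nat.card V = 16) :
    (ZMod 2 × ZMod 2 × ZMod 2 × ZMod 2) ≃ V where
  toFun p := p.1 • a + p.2.1 • b + p.2.2.1 • e + p.2.2.2 • f
  invFun v := (S.ω v f, S.ω v e, S.ω v b, S.ω v a)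
  left_inv p := by
    obtain ⟨x, y, z, w⟩ := p
    simp only [map_add, map_smul, LinearMap.add_apply, LinearMap.smul_apply, smul_eq_mul, F.ea, F.ae,
      F.fb, F.bf, F.ba, F.be, F.af, F.fe, F.ab, F.eb, F.fa, F.ef, S.alt, mul_zero, mul_one, add_zero, zero_add]
  right_inv v := (F.decomp h16 v).symm

lemma lam_coord (F : S.Frame a b e f) (x y z w : ZMod 2) :
    lam S a b e f (x • a + y • b + z • e + w • f) = z + w + x * w + y * z := by
  simp only [lam, map_add, map_smul, LinearMap.add_apply, LinearMap.smul_apply, smul_eq_mul, F.ea, F.ae,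
    F.fb, F.bf, F.ba, F.be, F.af, F.fe, F.ab, F.eb, F.fa, F.ef, S.alt, mul_zero, mul_one, add_zero, zero_add]

/-- **parity of `Δ`.** -/
theorem odd_card (F : S.Frame a b e f) (h16 : Nat.card V = 16) : Odd (Nat.card S.Δ) := by
  rcases F.dichotomy h16 with h | h
  · have h1 : S.Δ = {0}ᶜ := by
      ext v
      rw [Set.mem_compl_iff, Set.mem_singleton_iff]
      exact ⟨fun hv => ne_zero hv, fun hv => h v hv⟩
    have h2 : Nat.card S.Δ = S.Δ.ncard := rfl
    have h3 : ({0} : Set V).ncard + ({0}ᶜ : Set V).ncard = Nat.card V := Set.ncard_add_ncard_compl _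
    rw [h2, h1]
    rw [h16, Set.ncard_singleton] at h3
    have : ({0}ᶜ : Set V).ncard = 15 := by omega
    rw [this]; decide
  · have h1 : Nat.card S.Δ = Nat.card {p : ZMod 2 × ZMod 2 × ZMod 2 × ZMod 2 //
        p ≠ 0 ∧ p.2.2.1 + p.2.2.2 + p.1 * p.2.2.2 + p.2.1 * p.2.2.1 = 0} := by
      apply Nat.card_congr
      refine ((F.coord h16).subtypeEquiv ?_).symm
      rintro ⟨x, y, z, w⟩
      show _ ↔ x • a + y • b + z • e + w • f ∈ S.Δ
      rw [h, F.lam_coord]
      have h3 : x • a + y • b + z • e + w • f ≠ 0 ↔ ((x, y, z, w) : ZMod 2 × ZMod 2 × ZMod 2 × ZMod 2) ≠ 0 := by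
        have h4 : (F.coord h16) 0 = 0 := by
          show (0 : ZMod 2) • a + (0 : ZMod 2) • b + (0 : ZMod 2) • e + (0 : ZMod 2) • f = 0
          simp
        have h5 : x • a + y • b + z • e + w • f = F.coord h16 (x, y, z, w) := rfl
        rw [h5, ← h4, (F.coord h16).injective.ne_iff]
      rw [h3]
    rw [h1, Nat.card_eq_fintype_card]
    decide

lemma lam_e (F : S.Frame a b e f) : lam S a b e f e = 1 := by
  simp only [lam, F.eb, F.ea, S.alt, F.ef]; decide

lemma lam_ea (F : S.Frame a b e f) : lam S a b e f (e + a) = 1 := by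
  simp only [lam, map_add, LinearMap.add_apply, F.eb, F.ea, F.ab, S.alt, F.ef, F.af, F.ae]; decide

/-- the form `lam` is invariant when `Δ` is its set of singular vectors. -/
lemma lam_inv (_F : S.Frame a b e f) (hΔ : ∀ v, v ∈ S.Δ ↔ v ≠ 0 ∧ lam S a b e f v = 0)
    {h : V ≃ₗ[ZMod 2] V} (hh : h ∈ S.H) (v : V) : lam S a b e f (h v) = lam S a b e f v := by
  by_cases hv : v = 0
  · rw [hv, map_zero]
  have hhv : h v ≠ 0 := by
    intro h0
    exact hv (h.injective (h0.trans (map_zero h).symm))
  have h1 : h v ∈ S.Δ ↔ v ∈ S.Δ := by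
    constructor
    · intro h2
      have := S.Δ_inv h⁻¹ (S.H.inv_mem hh) _ h2
      simpa using this
    · exact S.Δ_inv h hh v
  rw [hΔ, hΔ] at h1
  rcases z2 (lam S a b e f v) with h3 | h3
  · rw [h3]; exact (h1.2 ⟨hv, h3⟩).2
  · rw [h3]
    rcases z2 (lam S a b e f (h v)) with h4 | h4
    · exfalso
      have := (h1.1 ⟨hhv, h4⟩).2
      rw [this] at h3
      exact absurd h3 (by decide)
    · exact h4

end Frame

end Sys

end Cfsg.Agent.ClassificationK.SymplLin
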