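import Mathlib
import Cfsg.Agent.ClassificationK.SymplLinD

/-!
# Linear algebra for S1758, part E: 16 vectors, all nonzero vectors singular: `H ≅ S₅`
-/

set_option autoImplicit false

namespace Cfsg.Agent.ClassificationK.SymplLin

variable {V : Type*} [AddCommGroup V] [Module (ZMod 2) V] {S : Sys V}

namespace Sys

section Full

variable [Finite V] (h16 : Nat.card V = 16) (hfull : ∀ v, v ≠ 0 → v ∈ S.Δ)

include h16 hfull

omit [Finite V] in
lemma exists_frame_at {a : V} (ha : a ≠ 0) : ∃ b e f, S.Frame a b e f := by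
  obtain ⟨b, hb, hab, hs⟩ := exists_partner (S := S) h16.ge (hfull a ha)
  obtain ⟨e, f, F⟩ := exists_frame (S := S) (hfull a ha) hb hab hs
  exact ⟨b, e, f, F⟩

omit [Finite V] in
lemma card_J_eq {v : V} (hv : v ≠ 0) : Nat.card (S.J v) = 4 := by
  obtain ⟨b, e, f, F⟩ := exists_frame_at h16 hfull hv
  exact F.card_J h16

omit h16 [Finite V] in
lemma mem_J_iff {v w : V} (hv : v ≠ 0) : w ∈ S.J v ↔ S.t v w = w := by
  constructor
  · exact S.t_J v (hfull v hv) w
  · intro h
    by_cases hw : w = 0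
    · rw [hw]; exact (S.J v).zero_mem
    · exact S.J_fix v (hfull v hv) w (hfull w hw) h

omit h16 [Finite V] in
lemma J_symm {v w : V} (hv : v ≠ 0) (hw : w ≠ 0) (h : w ∈ S.J v) : v ∈ S.J w := by
  rw [mem_J_iff hfull hw]
  exact t_symm (hfull v hv) (hfull w hw) ((mem_J_iff hfull hv).1 h)

lemma J_eq_of_mem {v w : V} (hv : v ≠ 0) (hw : w ≠ 0) (h : w ∈ S.J v) : S.J v = S.J w := by
  by_cases hvw : w = v
  · rw [hvw]
  have hle : S.J v ≤ S.J w := by
    obtain ⟨b, e, f, F⟩ := exists_frame_at h16 hfull hv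
    have hvw' := J_symm hfull hv hw h
    have hww : w ∈ S.J w := S.J_mem w (hfull w hw)
    have hwe : w = e ∨ w = e + v := by
      rcases F.mem_J h16 h with h1 | h1 | h1 | h1
      · exact absurd h1 hw
      · exact absurd h1 hvw
      · exact Or.inl h1
      · exact Or.inr h1
    have he : e ∈ S.J w := by
      rcases hwe with h1 | h1
      · rw [← h1]; exact hww
      · have : e = w + v := by rw [h1, add_add_self]
        rw [this]; exact (S.J w).add_mem hww hvw'
    intro x hx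
    rcases F.mem_J h16 hx with h1 | h1 | h1 | h1 <;> rw [h1]
    · exact (S.J w).zero_mem
    · exact hvw'
    · exact he
    · exact (S.J w).add_mem he hvw'
  apply SetLike.coe_injective
  apply Set.eq_of_subset_of_ncard_le (fun x hx => hle hx)
  have h1 := card_J_eq h16 hfull hv
  have h2 := card_J_eq h16 hfull hw
  have h3 : (S.J v : Set V).ncard = Nat.card (S.J v) := rfl
  have h4 : (S.J w : Set V).ncard = Nat.card (S.J w) := rfl
  rw [h3, h4, h1, h2]

omit h16 [Finite V] in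
lemma J_map {h : V ≃ₗ[ZMod 2] V} (hh : h ∈ S.H) {v w : V} (hv : v ≠ 0) :
    h w ∈ S.J (h v) ↔ w ∈ S.J v := by
  have hhv : h v ≠ 0 := fun h0 => hv (h.injective (h0.trans (map_zero h).symm))
  rw [mem_J_iff hfull hv, mem_J_iff hfull hhv, conj_apply h hh (hfull v hv)]
  exact h.injective.eq_iff

omit h16 [Finite V] in
/-- orthogonal vectors not in the same line are conjugate. -/
lemma conn {v w : V} (hv : v ≠ 0) (hw : w ≠ 0) (h0 : S.ω v w = 0) (h : w ∉ S.J v) :
    ∃ g ∈ S.H, g v = w := by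
  have h1 : S.t v w ≠ w := fun h1 => h ((mem_J_iff hfull hv).2 h1)
  have h2 : S.t v w = v + w := t_perp' (hfull v hv) h0 h1
  have h3 := star_symm (hfull v hv) (hfull w hw) h0 h2
  refine ⟨S.t v * S.t w, S.H.mul_mem (H_t (hfull v hv)) (H_t (hfull w hw)), ?_⟩
  rw [LinearEquiv.mul_apply, h3, map_add, t_self (hfull v hv), h2, add_comm v w, add_add_self]

lemma conn_one {v a : V} (hv : v ≠ 0) (ha : a ≠ 0) (h1 : S.ω v a = 1) : ∃ g ∈ S.H, g a = v := by
  obtain ⟨b, e, f, F⟩ := exists_frame_at h16 hfull ha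
  have hav : S.ω a v = 1 := by rw [S.sym, h1]
  have key : ∀ p, p = b ∨ p = b + e → S.ω a (p + S.ω p v • a) = 0 ∧ S.ω (p + S.ω p v • a) v = 0 ∧
      S.ω (p + S.ω p v • a) e = 1 ∧ p + S.ω p v • a ≠ 0 := by
    intro p hp
    have hpe : S.ω p e = 1 := by
      rcases hp with h | h <;> rw [h]
      · exact F.be
      · rw [map_add, LinearMap.add_apply, F.be, S.alt, add_zero]
    have hap : S.ω a p = 0 := by
      rcases hp with h | h <;> rw [h]
      · exact F.ab
      · rw [map_add, F.ab, F.ae, add_zero]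
    have h3 : S.ω (p + S.ω p v • a) e = 1 := by
      rw [map_add, LinearMap.add_apply, map_smul, LinearMap.smul_apply, hpe, F.ae, smul_zero, add_zero]
    refine ⟨?_, ?_, h3, ?_⟩
    · rw [map_add, map_smul, hap, S.alt, smul_zero, add_zero]
    · rw [map_add, LinearMap.add_apply, map_smul, LinearMap.smul_apply, hav, smul_eq_mul, mul_one]
      exact ZModModule.add_self _
    · intro h0
      rw [h0, map_zero, LinearMap.zero_apply] at h3
      exact absurd h3 (by decide)
  have hnJ : ∀ p, S.ω p e = 1 → p ∉ S.J a := by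
    intro p hp hpJ
    have := S.J_iso a F.ha p hpJ e F.he
    rw [hp] at this
    exact absurd this (by decide)
  obtain ⟨k1, k2, k3, k4⟩ := key b (Or.inl rfl)
  obtain ⟨l1, l2, l3, l4⟩ := key (b + e) (Or.inr rfl)
  obtain ⟨p, hp⟩ : ∃ p, p = b + S.ω b v • a := ⟨_, rfl⟩
  obtain ⟨q, hq⟩ : ∃ q, q = b + e + S.ω (b + e) v • a := ⟨_, rfl⟩
  rw [← hp] at k1 k2 k3 k4
  rw [← hq] at l1 l2 l3 l4
  have fin : ∀ p, S.ω a p = 0 → S.ω p v = 0 → S.ω p e = 1 → p ≠ 0 → p ∉ S.J v → ∃ g ∈ S.H, g a = v := by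
    intro p hp1 hp2 hp3 hp4 hp5
    obtain ⟨g, hg, hga⟩ := conn hfull ha hp4 hp1 (hnJ p hp3)
    obtain ⟨k, hk, hkp⟩ := conn hfull hp4 hv hp2 (fun h => hp5 (J_symm hfull hp4 hv h))
    exact ⟨k * g, S.H.mul_mem hk hg, by rw [LinearEquiv.mul_apply, hga, hkp]⟩
  by_cases h2 : p ∈ S.J v
  · by_cases h3 : q ∈ S.J v
    · exfalso
      have h4 : p + q ∈ S.J v := (S.J v).add_mem h2 h3
      have h5 : p + q = e + (S.ω b v + S.ω (b + e) v) • a := by
        rw [hp, hq, add_smul]
        have : b + S.ω b v • a + (b + e + S.ω (b + e) v • a) =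
            e + (S.ω b v • a + S.ω (b + e) v • a) + (b + b) := by abel
        rw [this, add_self, add_zero]
      have h6 : p + q ∈ S.J a := by
        rw [h5]
        exact (S.J a).add_mem F.he ((S.J a).smul_mem _ (S.J_mem a F.ha))
      have h7 : p + q ≠ 0 := by
        intro h0
        have h8 : S.ω (p + q) b = 1 := by
          rw [h5, map_add, LinearMap.add_apply, map_smul, LinearMap.smul_apply, F.eb, F.ab, smul_zero, add_zero]
        rw [h0, map_zero, LinearMap.zero_apply] at h8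
        exact absurd h8 (by decide)
      have h8 := J_eq_of_mem h16 hfull hv h7 h4
      have h9 := J_eq_of_mem h16 hfull ha h7 h6
      have h10 : v ∈ S.J a := by rw [h9, ← h8]; exact S.J_mem v (hfull v hv)
      have h11 := S.J_iso a F.ha v h10 a (S.J_mem a F.ha)
      rw [h1] at h11
      exact absurd h11 (by decide)
    · exact fin q l1 l2 l3 l4 h3
  · exact fin p k1 k2 k3 k4 h2

/-- `H` is transitive on the nonzero vectors. -/
theorem transitive {a v : V} (ha : a ≠ 0) (hv : v ≠ 0) : ∃ g ∈ S.H, g a = v := by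
  rcases z2 (S.ω v a) with h0 | h0
  · have hex : ∀ x : V, x ≠ 0 → ∃ w, S.ω w x = 1 := by
      intro x hx
      by_contra hcon
      push Not at hcon
      apply hx
      apply S.nondeg
      intro w
      rw [S.sym]
      exact (z2 _).resolve_right (hcon w)
    obtain ⟨w, hwa, hwv⟩ : ∃ w, S.ω w a = 1 ∧ S.ω w v = 1 := by
      obtain ⟨w1, hw1⟩ := hex a ha
      obtain ⟨w2, hw2⟩ := hex v hv
      rcases z2 (S.ω w1 v) with h1 | h1
      · rcases z2 (S.ω w2 a) with h2 | h2
        · refine ⟨w1 + w2, ?_, ?_⟩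
          · rw [map_add, LinearMap.add_apply, hw1, h2, add_zero]
          · rw [map_add, LinearMap.add_apply, h1, hw2, zero_add]
        · exact ⟨w2, h2, hw2⟩
      · exact ⟨w1, hw1, h1⟩
    have hw0 : w ≠ 0 := by
      rintro rfl
      rw [map_zero, LinearMap.zero_apply] at hwa
      exact absurd hwa (by decide)
    obtain ⟨g, hg, hga⟩ := conn_one h16 hfull hw0 ha hwa
    obtain ⟨k, hk, hkw⟩ := conn_one h16 hfull hv hw0 (by rw [S.sym]; exact hwv)
    exact ⟨k * g, S.H.mul_mem hk hg, by rw [LinearEquiv.mul_apply, hga, hkw]⟩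
  · exact conn_one h16 hfull hv ha h0

/-- the stabiliser of a nonzero vector. -/
def stb (S : Sys V) (a : V) : Subgroup (V ≃ₗ[ZMod 2] V) where
  carrier := {h | h ∈ S.H ∧ h a = a}
  one_mem' := ⟨S.H.one_mem, rfl⟩
  mul_mem' := by
    rintro g h ⟨hg, hga⟩ ⟨hh, hha⟩
    exact ⟨S.H.mul_mem hg hh, by rw [LinearEquiv.mul_apply, hha, hga]⟩
  inv_mem' := by
    rintro g ⟨hg, hga⟩
    refine ⟨S.H.inv_mem hg, ?_⟩
    calc g⁻¹ a = g⁻¹ (g a) := by rw [hga]
      _ = a := by simp

/-- **the stabiliser has order 8.** -/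
theorem card_stb {a : V} (ha : a ≠ 0) : Nat.card (stb S a) = 8 := by
  obtain ⟨b, e, f, F⟩ := exists_frame_at h16 hfull ha
  have : Finite (V ≃ₗ[ZMod 2] V) :=
    Finite.of_injective (fun h : V ≃ₗ[ZMod 2] V => (h : V → V)) DFunLike.coe_injective
  have h1 : Nat.card (stb S a) ≤ 8 := F.card_stab h16
  have hRle : S.R a ≤ stb S a := fun r hr => ⟨S.R_le a F.ha hr, S.R_fix a F.ha r hr⟩
  have h2 : 4 ≤ Nat.card (S.R a) := by
    have h3 := S.R_card a F.ha
    rw [h16] at h3
    by_contra hlt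
    push Not at hlt
    have : Nat.card (S.R a) ^ 2 ≤ 3 ^ 2 := Nat.pow_le_pow_left (by omega) 2
    omega
  have heΔ : e ∈ S.Δ := hfull e F.e_ne_zero
  have hte : S.t e ∈ stb S a := ⟨H_t heΔ, t_symm F.ha heΔ (S.t_J a F.ha e F.he)⟩
  have hnot : S.t e ∉ S.R a := by
    intro h
    have h3 := S.star_img a F.ha b F.hb F.ab F.star _ h
    have h4 := S.t_form e heΔ b
    rw [h3.2, F.be] at h4
    exact absurd h4 (by decide)
  obtain ⟨m, hm⟩ := Subgroup.card_dvd_of_le hRle
  have hm0 : m ≠ 0 := by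
    rintro rfl
    have : 0 < Nat.card (stb S a) := Nat.card_pos
    omega
  have hm1 : m ≠ 1 := by
    rintro rfl
    apply hnot
    have : S.R a = stb S a := Subgroup.eq_of_le_of_card_ge hRle (by rw [hm, mul_one])
    rw [this]; exact hte
  have h3 : 2 ≤ m := by omega
  have h4 : 4 * 2 ≤ Nat.card (S.R a) * m := Nat.mul_le_mul h2 h3
  omega

omit [Module (ZMod 2) V] hfull in
/-- there are 15 nonzero vectors. -/
lemma card_ne_zero : Nat.card {v : V // v ≠ 0} = 15 := by
  have h3 : ({0} : Set V).ncard + ({0}ᶜ : Set V).ncard = Nat.card V := Set.ncard_add_ncard_compl _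
  rw [h16, Set.ncard_singleton] at h3
  have : ({0}ᶜ : Set V).ncard = 15 := by omega
  exact this

/-- **`|H| = 120`.** -/
theorem card_H : Nat.card S.H = 120 := by
  have : Finite (V ≃ₗ[ZMod 2] V) :=
    Finite.of_injective (fun h : V ≃ₗ[ZMod 2] V => (h : V → V)) DFunLike.coe_injective
  obtain ⟨a, ha⟩ := S.nonempty
  have ha0 := ne_zero ha
  let act : MulAction S.H {v : V // v ≠ 0} :=
    { smul := fun h v => ⟨(h : V ≃ₗ[ZMod 2] V) v.1, fun h0 =>
        v.2 ((h : V ≃ₗ[ZMod 2] V).injective (h0.trans (map_zero _).symm))⟩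
      one_smul := fun v => rfl
      mul_smul := fun g h v => rfl }
  have h1 := Subgroup.card_eq_card_quotient_mul_card_subgroup
    (MulAction.stabilizer S.H (⟨a, ha0⟩ : {v : V // v ≠ 0}))
  rw [← Nat.card_congr (MulAction.orbitEquivQuotientStabilizer S.H (⟨a, ha0⟩ : {v : V // v ≠ 0}))] at h1
  have h2 : MulAction.orbit S.H (⟨a, ha0⟩ : {v : V // v ≠ 0}) = Set.univ := by
    rw [Set.eq_univ_iff_forall]
    rintro ⟨v, hv⟩
    obtain ⟨g, hg, hgv⟩ := transitive h16 hfull ha0 hv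
    exact ⟨⟨g, hg⟩, Subtype.ext hgv⟩
  have h3 : Nat.card (MulAction.orbit S.H (⟨a, ha0⟩ : {v : V // v ≠ 0})) = 15 := by
    rw [h2, Nat.card_univ, card_ne_zero h16]
  have h4 : Nat.card (MulAction.stabilizer S.H (⟨a, ha0⟩ : {v : V // v ≠ 0})) = 8 := by
    rw [← card_stb h16 hfull ha0]
    apply Nat.card_congr
    refine ⟨fun g => ⟨g.1.1, g.1.2, congrArg Subtype.val g.2⟩,
      fun g => ⟨⟨g.1, g.2.1⟩, Subtype.ext g.2.2⟩, fun _ => rfl, fun _ => rfl⟩
  rw [h1, h3, h4]

/-- the set of lines. -/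
def lines (S : Sys V) : Set (Submodule (ZMod 2) V) := {L | ∃ v, v ≠ 0 ∧ S.J v = L}

omit [Finite V] h16 in
lemma map_J {h : V ≃ₗ[ZMod 2] V} (hh : h ∈ S.H) {v : V} (hv : v ≠ 0) :
    (S.J v).map (h : V →ₗ[ZMod 2] V) = S.J (h v) := by
  ext w
  rw [Submodule.mem_map]
  constructor
  · rintro ⟨x, hx, rfl⟩
    exact (J_map hfull hh hv).2 hx
  · intro hw
    refine ⟨h⁻¹ w, ?_, ?_⟩
    · rw [← J_map hfull hh hv]
      have : h (h⁻¹ w) = w := by simp
      rw [this]; exact hw
    · show h (h⁻¹ w) = w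
      simp

/-- the lines are a partition into 5 classes. -/
theorem card_lines : Nat.card (lines S) = 5 := by
  classical
  have hfin : Finite (lines S) := Set.Finite.to_subtype (Set.toFinite _)
  let φ : {v : V // v ≠ 0} → lines S := fun v => ⟨S.J v.1, v.1, v.2, rfl⟩
  have h1 : Nat.card {v : V // v ≠ 0} = Nat.card (Σ L : lines S, {v : {v : V // v ≠ 0} // φ v = L}) :=
    Nat.card_congr (Equiv.sigmaFiberEquiv φ).symm
  have h2 : ∀ L : lines S, Nat.card {v : {v : V // v ≠ 0} // φ v = L} = 3 := by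
    rintro ⟨_, a, ha, rfl⟩
    have h3 := card_J_eq h16 hfull ha
    have h4 : ({0} : Set (S.J a)).ncard + ({0}ᶜ : Set (S.J a)).ncard = Nat.card (S.J a) :=
      Set.ncard_add_ncard_compl _
    rw [h3, Set.ncard_singleton] at h4
    have h5 : Nat.card {v : {v : V // v ≠ 0} // φ v = ⟨S.J a, a, ha, rfl⟩} = ({0}ᶜ : Set (S.J a)).ncard := by
      apply Nat.card_congr
      refine ⟨fun v => ⟨⟨v.1.1, ?_⟩, ?_⟩, fun v => ⟨⟨v.1.1, ?_⟩, ?_⟩, fun _ => rfl, fun _ => rfl⟩
      · have h6 : S.J v.1.1 = S.J a := congrArg Subtype.val v.2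
        exact (SetLike.ext_iff.1 h6 _).1 (S.J_mem _ (hfull _ v.1.2))
      · intro h0
        exact v.1.2 (congrArg Subtype.val h0)
      · intro h0
        exact v.2 (Subtype.ext h0)
      · apply Subtype.ext
        have h0 : (v.1 : V) ≠ 0 := fun h0 => v.2 (Subtype.ext h0)
        exact (J_eq_of_mem h16 hfull ha h0 v.1.2).symm
    rw [h5]; omega
  have : Fintype (lines S) := Fintype.ofFinite _
  rw [card_ne_zero h16, Nat.card_sigma, Finset.sum_congr rfl (fun L _ => h2 L), Finset.sum_const,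
    Finset.card_univ, smul_eq_mul] at h1
  rw [Nat.card_eq_fintype_card]
  omega

/-- **`H ≅ S₅`.** -/
theorem nonempty_equiv : Nonempty (S.H ≃* Equiv.Perm (Fin 5)) := by
  classical
  have : Finite (V ≃ₗ[ZMod 2] V) :=
    Finite.of_injective (fun h : V ≃ₗ[ZMod 2] V => (h : V → V)) DFunLike.coe_injective
  have hfin : Finite (lines S) := Set.Finite.to_subtype (Set.toFinite _)
  let act : MulAction S.H (lines S) :=
    { smul := fun h L => ⟨L.1.map ((h : V ≃ₗ[ZMod 2] V) : V →ₗ[ZMod 2] V), by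
        obtain ⟨v, hv, hL⟩ := L.2
        refine ⟨(h : V ≃ₗ[ZMod 2] V) v, fun h0 => hv
          ((h : V ≃ₗ[ZMod 2] V).injective (h0.trans (map_zero _).symm)), ?_⟩
        rw [← hL, map_J hfull h.2 hv]⟩
      one_smul := by
        intro L
        apply Subtype.ext
        exact Submodule.map_id _
      mul_smul := by
        intro g h L
        apply Subtype.ext
        exact Submodule.map_comp _ _ _ }
  have hact : ∀ (h : S.H) (v : V) (hv : v ≠ 0),
      (h • (⟨S.J v, v, hv, rfl⟩ : lines S)) = ⟨S.J v, v, hv, rfl⟩ → S.J ((h : V ≃ₗ[ZMod 2] V) v) = S.J v := by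
    intro h v hv h1
    have h2 : (S.J v).map ((h : V ≃ₗ[ZMod 2] V) : V →ₗ[ZMod 2] V) = S.J v := congrArg Subtype.val h1
    rw [map_J hfull h.2 hv] at h2
    exact h2
  let ρ : S.H →* Equiv.Perm (lines S) := MulAction.toPermHom S.H (lines S)
  -- an element fixing all lines and a nonzero vector is trivial
  have key1 : ∀ h ∈ S.H, (∀ v, v ≠ 0 → S.J (h v) = S.J v) → ∀ a, a ≠ 0 → h a = a → h = 1 := by
    intro h hh hJ a ha hha
    obtain ⟨b, e, f, F⟩ := exists_frame_at h16 hfull ha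
    have hb0 : b ≠ 0 := ne_zero F.hb
    have hbJ : h b ∈ S.J b := by
      rw [← hJ b hb0]
      exact S.J_mem _ (S.Δ_inv h hh b F.hb)
    have hbf : S.ω (h b) f = 0 := S.J_iso b F.hb _ hbJ f F.hf
    have hbb : h b = b := by
      have hab : S.ω (a + b) f = 1 := by
        rw [map_add, LinearMap.add_apply, F.af, F.bf, add_zero]
      rcases F.stab_b h16 hh hha with h1 | h1 | h1 | h1
      · exact h1
      · exfalso
        rw [h1, hab] at hbf
        exact absurd hbf (by decide)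
      · exfalso
        have h2 := S.J_iso b F.hb _ hbJ b (S.J_mem b F.hb)
        rw [h1, map_add, LinearMap.add_apply, S.alt, F.eb] at h2
        exact absurd h2 (by decide)
      · exfalso
        rw [h1, map_add, LinearMap.add_apply, hab, F.ef] at hbf
        exact absurd hbf (by decide)
    rcases F.fix_ab h16 hh hha hbb with h1 | h1
    · exact h1
    · exfalso
      have hbe0 : b + e ≠ 0 := by
        intro h0
        have h2 : S.ω (b + e) b = 1 := by rw [map_add, LinearMap.add_apply, S.alt, F.eb, zero_add]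
        rw [h0, map_zero, LinearMap.zero_apply] at h2
        exact absurd h2 (by decide)
      have h2 : h (b + e) = b + e + a := by rw [map_add, hbb, h1.1, add_assoc]
      have h3 := hJ (b + e) hbe0
      rw [h2] at h3
      have h4 : b + e + a ≠ 0 := by
        intro h0
        have h5 : S.ω (b + e + a) b = 1 := by
          rw [map_add, map_add, LinearMap.add_apply, LinearMap.add_apply, S.alt, F.eb, F.ab, zero_add, add_zero]
        rw [h0, map_zero, LinearMap.zero_apply] at h5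
        exact absurd h5 (by decide)
      have h5 : b + e ∈ S.J (b + e + a) := by rw [h3]; exact S.J_mem _ (hfull _ hbe0)
      have h6 : a ∈ S.J (b + e + a) := by
        have h7 := (S.J (b + e + a)).add_mem (S.J_mem _ (hfull _ h4)) h5
        have h8 : b + e + a + (b + e) = a := by
          have : b + e + a + (b + e) = a + (b + e) + (b + e) := by abel
          rw [this, add_add_self]
        rwa [h8] at h7
      have h7 := J_eq_of_mem h16 hfull h4 ha h6
      rw [h7] at h5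
      have h8 := S.J_iso a F.ha _ h5 e F.he
      rw [map_add, LinearMap.add_apply, F.be, S.alt, add_zero] at h8
      exact absurd h8 (by decide)
  have hinj : Function.Injective ρ := by
    rw [injective_iff_map_eq_one]
    intro h hh
    have hJ : ∀ v, v ≠ 0 → S.J ((h : V ≃ₗ[ZMod 2] V) v) = S.J v := by
      intro v hv
      apply hact h v hv
      have : ρ h ⟨S.J v, v, hv, rfl⟩ = ⟨S.J v, v, hv, rfl⟩ := by rw [hh]; rfl
      exact this
    obtain ⟨a, ha⟩ := S.nonempty
    have ha0 := ne_zero ha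
    have hha0 : (h : V ≃ₗ[ZMod 2] V) a ≠ 0 := fun h0 =>
      ha0 ((h : V ≃ₗ[ZMod 2] V).injective (h0.trans (map_zero _).symm))
    -- `k = h t_a h⁻¹ t_a`
    have hk : ∀ v, v ≠ 0 →
        S.J ((((h : V ≃ₗ[ZMod 2] V) * S.t a * (h : V ≃ₗ[ZMod 2] V)⁻¹ * S.t a : V ≃ₗ[ZMod 2] V)) v) = S.J v := by
      -- composition of line-preserving maps
      have hti : ∀ w, S.t a (S.t a w) = w := t_sq ha
      have hinv : ∀ v, v ≠ 0 → S.J ((h : V ≃ₗ[ZMod 2] V)⁻¹ v) = S.J v := by
        intro v hv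
        have hv' : (h : V ≃ₗ[ZMod 2] V)⁻¹ v ≠ 0 := fun h0 =>
          hv (((h : V ≃ₗ[ZMod 2] V)⁻¹).injective (h0.trans (map_zero _).symm))
        have h1 := hJ _ hv'
        have h2 : (h : V ≃ₗ[ZMod 2] V) ((h : V ≃ₗ[ZMod 2] V)⁻¹ v) = v := by simp
        rw [h2] at h1
        exact h1.symm
      have htm : ∀ v w, v ≠ 0 → w ≠ 0 → S.J v = S.J w → S.J (S.t a v) = S.J (S.t a w) := by
        intro v w hv hw h1
        rw [← map_J hfull (H_t ha) hv, ← map_J hfull (H_t ha) hw, h1]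
      intro v hv
      have hv1 : S.t a v ≠ 0 := fun h0 => hv ((S.t a).injective (h0.trans (map_zero _).symm))
      have hv2 : (h : V ≃ₗ[ZMod 2] V)⁻¹ (S.t a v) ≠ 0 := fun h0 =>
        hv1 (((h : V ≃ₗ[ZMod 2] V)⁻¹).injective (h0.trans (map_zero _).symm))
      have hv3 : S.t a ((h : V ≃ₗ[ZMod 2] V)⁻¹ (S.t a v)) ≠ 0 := fun h0 =>
        hv2 ((S.t a).injective (h0.trans (map_zero _).symm))
      have h1 : (((h : V ≃ₗ[ZMod 2] V) * S.t a * (h : V ≃ₗ[ZMod 2] V)⁻¹ * S.t a : V ≃ₗ[ZMod 2] V)) v =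
          (h : V ≃ₗ[ZMod 2] V) (S.t a ((h : V ≃ₗ[ZMod 2] V)⁻¹ (S.t a v))) := rfl
      rw [h1, hJ _ hv3, htm _ _ hv2 hv1 (hinv _ hv1), hti]
    have hmem : ((h : V ≃ₗ[ZMod 2] V) * S.t a * (h : V ≃ₗ[ZMod 2] V)⁻¹ * S.t a) ∈ S.H :=
      S.H.mul_mem (S.H.mul_mem (S.H.mul_mem h.2 (H_t ha)) (S.H.inv_mem h.2)) (H_t ha)
    have haJ : a ∈ S.J ((h : V ≃ₗ[ZMod 2] V) a) := by
      rw [hJ a ha0]; exact S.J_mem a ha
    have hconj : (h : V ≃ₗ[ZMod 2] V) * S.t a * (h : V ≃ₗ[ZMod 2] V)⁻¹ = S.t ((h : V ≃ₗ[ZMod 2] V) a) :=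
      S.t_conj _ h.2 a ha
    have h1 := key1 _ hmem hk a ha0 (by
      rw [hconj, LinearEquiv.mul_apply, t_self ha]
      exact (mem_J_iff hfull hha0).1 haJ)
    rw [hconj] at h1
    have h2 : S.t ((h : V ≃ₗ[ZMod 2] V) a) = S.t a := by
      have h3 := S.R_sq a ha _ (S.t_mem a ha)
      calc S.t ((h : V ≃ₗ[ZMod 2] V) a) = S.t ((h : V ≃ₗ[ZMod 2] V) a) * (S.t a * S.t a) := by rw [h3, mul_one]
        _ = S.t a := by rw [← mul_assoc, h1, one_mul]
    have h3 : (h : V ≃ₗ[ZMod 2] V) a = a := t_inj (hfull _ hha0) ha h2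
    apply Subtype.ext
    exact key1 _ h.2 hJ a ha0 h3
  have hcard : Nat.card S.H = Nat.card (Equiv.Perm (lines S)) := by
    rw [card_H h16 hfull, Nat.card_perm, card_lines h16 hfull]
    rfl
  have hbij : Function.Bijective ρ := (Nat.bijective_iff_injective_and_card ρ).2 ⟨hinj, hcard⟩
  have e1 : S.H ≃* Equiv.Perm (lines S) := MulEquiv.ofBijective ρ hbij
  have e2 : lines S ≃ Fin 5 := Finite.equivFinOfCardEq (card_lines h16 hfull)
  exact ⟨e1.trans e2.permCongrHom⟩

end Full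

end Sys

end Cfsg.Agent.ClassificationK.SymplLin
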