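import Cfsg.Agent.ClassificationK.SymplStepFive
import Cfsg.Agent.ClassificationK.SymplLinE

/-!
# The interface to the recognition of `HS` (S1758)

`C : Ctx D Q u z` in a simple group with `|V| = 16`: `|Q z| = 64`, `|C(z)| = 7680`, `C(z) / Q z ≅ S₅`, all involutions
of `Q z` are conjugate to `z`, `C(z)` is transitive on the other involutions of `Q z`, some element of `C(z)` inverts
`u z`.
-/

set_option autoImplicit false

namespace Cfsg.Agent.ClassificationK.SymplHS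

open SymplSetup SymplInst SymplLin SymplLin.Sys SymplStepFive

/-- The data of the centralizer of an involution of `HS`: `Q = 4 ∘ 2^{1+4}`, `C(z) / Q = S₅`. -/
structure HSData {G : Type*} [Group G] (Q : Subgroup G) (z u : G) : Prop where
  symp : Symp Q z u
  card_Q : Nat.card Q = 64
  card_C : Nat.card (Subgroup.centralizer ({z} : Set G)) = 7680
  quot : ∃ ρ : Subgroup.centralizer ({z} : Set G) →* Equiv.Perm (Fin 5),
    Function.Surjective ρ ∧ ∀ g, ρ g = 1 ↔ (g : G) ∈ Q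
  conj : ∀ x ∈ Q, x * x = 1 → x ≠ 1 → ∃ g, g * z * g⁻¹ = x
  conj_C : ∀ x ∈ Q, ∀ y ∈ Q, x * x = 1 → x ≠ 1 → x ≠ z → y * y = 1 → y ≠ 1 → y ≠ z →
    ∃ c, c * z = z * c ∧ c * x * c⁻¹ = y
  inv : ∃ s, s * z = z * s ∧ s * u * s⁻¹ = u * z

variable {G : Type*} [Group G] {D : Set G} {Q : G → Subgroup G} {u : G → G} {z : G}

theorem pr_ne_zero {Q : Subgroup G} {z u : G} (h : Symp Q z u) {x : G} (hx : x ∈ Q) (hxx : x * x = 1)
    (h1 : x ≠ 1) (hz : x ≠ z) : h.pr ⟨x, hx⟩ ≠ 0 := by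
  intro h0
  rcases h.eq_or_of_pr_eq (x := ⟨x, hx⟩) (y := 1) hxx (one_mul 1) (h0.trans h.pr_one.symm) with h2 | h2
  · exact h1 h2
  · apply hz
    have h3 : x = 1 * z := h2
    rw [h3, one_mul]

/-- an element of `C(z)` inverting `u z`, for `|V| ≥ 16`. -/
theorem exists_inv [Finite G] (C : Ctx D Q u z) (h16 : 16 ≤ Nat.card C.h.V) :
    ∃ s, s * z = z * s ∧ s * u z * s⁻¹ = u z * z := by
  obtain ⟨a, ha⟩ := C.sys.nonempty
  obtain ⟨b, hb, hab, hs⟩ := exists_partner (S := C.sys) h16 ha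
  obtain ⟨x, hx⟩ := ha
  obtain ⟨y, hy⟩ := hb
  have hs' : C.t a b = a + b := hs
  rw [Ctx.t_eq hx] at hs'
  obtain ⟨hyx, -, hB⟩ := hx.typeB hy hab hs'
  obtain ⟨g, hg⟩ := C.F.trans x hx.memD z C.hz
  refine ⟨g * y * g⁻¹, ?_, ?_⟩
  · rw [← hg]
    calc g * y * g⁻¹ * (g * x * g⁻¹) = g * (y * x) * g⁻¹ := by group
      _ = g * x * g⁻¹ * (g * y * g⁻¹) := by rw [hyx]; group
  · have h1 : g * y * g⁻¹ * (g * u x * g⁻¹) * (g * y * g⁻¹)⁻¹ = (g * u x * g⁻¹) * z := by
      calc g * y * g⁻¹ * (g * u x * g⁻¹) * (g * y * g⁻¹)⁻¹ = g * (y * u x * y⁻¹) * g⁻¹ := by group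
        _ = (g * u x * g⁻¹) * (g * x * g⁻¹) := by rw [hB]; group
        _ = _ := by rw [hg]
    have h2 := C.F.conju hx.memD g
    rw [hg] at h2
    rcases h2 with h2 | h2
    · rw [h2]; exact h1
    · have h3 : g * u x * g⁻¹ = (u z)⁻¹ := by rw [h2, inv_inv]
      rw [h3, C.h.u_inv] at h1
      -- `s (u z) s⁻¹ = u z z`
      obtain ⟨s, hs⟩ : ∃ s, s = g * y * g⁻¹ := ⟨_, rfl⟩
      rw [← hs] at h1 ⊢
      have hsz : s * z = z * s := by
        rw [hs, ← hg]
        calc g * y * g⁻¹ * (g * x * g⁻¹) = g * (y * x) * g⁻¹ := by group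
          _ = g * x * g⁻¹ * (g * y * g⁻¹) := by rw [hyx]; group
      have h4 : s * (u z * z) * s⁻¹ = s * u z * s⁻¹ * z := by
        calc s * (u z * z) * s⁻¹ = (s * u z * s⁻¹) * (s * z * s⁻¹) := by group
          _ = s * u z * s⁻¹ * z := by rw [hsz]; group
      rw [h4] at h1
      exact mul_right_cancel h1

/-- **The interface.** -/
theorem hsData [Finite G] [IsSimpleGroup G] (hG : ¬ IsMulCommutative G) (C : Ctx D Q u z)
    (h16 : Nat.card C.h.V = 16) : HSData (Q z) z (u z) where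
  symp := C.h
  card_Q := by rw [C.h.card_eq, h16]
  card_C := by
    have hfull : ∀ v, v ≠ 0 → v ∈ C.sys.Δ := full hG C h16
    have h1 := card_ker_range C.h.act
    have h2 : Nat.card C.h.act.range = 120 := card_H (S := C.sys) h16 hfull
    have h3 : Nat.card C.h.act.ker = Nat.card (Q z) := by
      apply Nat.card_congr
      refine ⟨fun w => ⟨w.1.1, C.h.mem_of_act _ w.2⟩,
        fun w => ⟨⟨w.1, Subgroup.mem_centralizer_singleton_iff.2 (C.h.comm_z _ w.2)⟩, C.h.act_mem _ w.2⟩,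
        fun _ => rfl, fun _ => rfl⟩
    rw [h1, h2, h3, C.h.card_eq, h16]
  quot := by
    have hfull : ∀ v, v ≠ 0 → v ∈ C.sys.Δ := full hG C h16
    obtain ⟨e⟩ := nonempty_equiv (S := C.sys) h16 hfull
    have e' : C.h.act.range ≃* Equiv.Perm (Fin 5) := e
    refine ⟨e'.toMonoidHom.comp C.h.act.rangeRestrict, ?_, ?_⟩
    · exact e'.surjective.comp C.h.act.rangeRestrict_surjective
    · intro g
      have h1 : (e'.toMonoidHom.comp C.h.act.rangeRestrict) g = e' (C.h.act.rangeRestrict g) := rfl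
      rw [h1, EmbeddingLike.map_eq_one_iff]
      constructor
      · intro h2
        exact C.h.mem_of_act g (congrArg Subtype.val h2)
      · intro h2
        exact Subtype.ext (C.h.act_mem g h2)
  conj := by
    intro x hx hxx h1
    by_cases hz : x = z
    · exact ⟨1, by rw [hz]; group⟩
    have hD : x ∈ D := by
      obtain ⟨y, hy⟩ := full hG C h16 _ (pr_ne_zero C.h hx hxx h1 hz)
      rcases C.h.eq_or_of_pr_eq (x := ⟨x, hx⟩) (y := ⟨y, hy.mem⟩) hxx hy.sq hy.pr.symm with h2 | h2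
      · have : x = y := h2
        rw [this]; exact hy.memD
      · have : x = y * z := h2
        rw [this]
        exact C.F.mul_mem hy.memD C.hz hy.ne hy.commz
    exact C.F.trans z C.hz x hD
  conj_C := by
    intro x hx y hy hxx h1 hxz hyy h2 hyz
    have hfull : ∀ v, v ≠ 0 → v ∈ C.sys.Δ := full hG C h16
    obtain ⟨g', hg', hgx⟩ := transitive (S := C.sys) h16 hfull (pr_ne_zero C.h hx hxx h1 hxz)
      (pr_ne_zero C.h hy hyy h2 hyz)
    obtain ⟨g, hg, rfl⟩ := (mem_range_act C.h).1 hg'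
    have h3 := actG_pr C.h hg ⟨x, hx⟩ ⟨g * x * g⁻¹, C.h.conj_mem g hg x hx⟩ rfl
    have h3' := h3.symm.trans hgx
    have h4 : (g * x * g⁻¹) * (g * x * g⁻¹) = 1 := by
      calc (g * x * g⁻¹) * (g * x * g⁻¹) = g * (x * x) * g⁻¹ := by group
        _ = 1 := by rw [hxx]; group
    rcases C.h.eq_or_of_pr_eq (x := ⟨g * x * g⁻¹, C.h.conj_mem g hg x hx⟩) (y := ⟨y, hy⟩) h4 hyy h3' with h5 | h5
    · exact ⟨g, hg, h5⟩
    · have h6 : g * x * g⁻¹ = y * z := h5
      obtain ⟨q, hq, hqy⟩ := C.h.exists_conj hy hyy h2 hyz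
      have hqz := C.h.comm_z q hq
      have hqz' : q⁻¹ * z = z * q⁻¹ := (show Commute q z from hqz).inv_left.eq
      refine ⟨q⁻¹ * g, ((show Commute q⁻¹ z from hqz').mul_left (show Commute g z from hg)).eq, ?_⟩
      calc q⁻¹ * g * x * (q⁻¹ * g)⁻¹ = q⁻¹ * (g * x * g⁻¹) * q := by group
        _ = y := by rw [h6, ← hqy]; group
  inv := exists_inv C h16.ge

end Cfsg.Agent.ClassificationK.SymplHS
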