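import Cfsg.Agent.ClassificationK.SymplMain
import Cfsg.Agent.ClassificationK.SymplCtx
import Cfsg.Agent.ClassificationK.SymplGU
import Cfsg.Agent.ClassificationK.SymplCard
import Cfsg.Agent.ClassificationK.SymplHS
import Cfsg.Prelude.Def_ClassificationK
import Cfsg.Prelude.Def_Transfer
import Cfsg.Prelude.Def_Spor_Mathieu
import Cfsg.Prelude.Def_Spor_Conway

/-!
# Assembly of S1758 (helper577)

`assembly`: S1758 from the three identification theorems (`w = 0`: PSL₂(2^n ± 1); `w = 1`: U₃(3); `w = 2`: HS).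
-/

set_option autoImplicit false

namespace Cfsg.Agent.ClassificationK.SymplAssembly

open Subgroup SymplSetup SymplFront SymplInst

/-- S1758 from the identification theorems. -/
theorem assembly {G : Type*} [Group G] [Finite G] [IsSimpleGroup G]
    (hG : ¬ IsMulCommutative G) (z : G) (hz : orderOf z = 2)
    (hQ : Cfsg.IsOfSymplecticType ↥(Cfsg.generalizedFittingSubgroup ↥(Subgroup.centralizer ({z} : Set G))))
    (hdih : ∀ R : Subgroup G, IsCyclic R → z ∈ R → 8 ≤ Nat.card R → IsPGroup 2 R →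
      (∀ g, g * z = z * g → ∀ x ∈ R, g * x * g⁻¹ ∈ R) →
      (∀ g, g * z = z * g → (∀ x ∈ R, g * x = x * g) → g ∈ R) →
      Cfsg.IsOfSymplecticType ↥(Subgroup.centralizer ({z} : Set G)) →
      ∃ (F : Type) (_ : Field F) (_ : Fintype F),
        ((∃ n : ℕ, Fintype.card F = 2 ^ n + 1) ∨ (∃ n : ℕ, Fintype.card F + 1 = 2 ^ n)) ∧
          Nonempty (G ≃* Matrix.ProjectiveSpecialLinearGroup (Fin 2) F))
    (hU : ∀ (F : Type) [Field F] [Fintype F], Fintype.card F = 9 →
      Nonempty (Subgroup.centralizer ({z} : Set G) ≃* Cfsg.GU 2 F 3) → (∀ s : G, orderOf s = 2 → IsConj z s) →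
      Nonempty (G ≃* Cfsg.PSU 3 F 3))
    (hHS : ∀ (Q : Subgroup G) (z u : G), SymplHS.HSData Q z u → Cfsg.Spor.IsoHS G) :
    Cfsg.IsExtraspecial 2 ↥(Cfsg.generalizedFittingSubgroup ↥(Subgroup.centralizer ({z} : Set G))) ∨
      (QuotientGroup.mk' (Cfsg.oddCore G) z ∈ Subgroup.center (G ⧸ Cfsg.oddCore G)) ∨
      (∃ (F : Type) (_ : Field F) (_ : Fintype F), ((∃ n : ℕ, Fintype.card F = 2 ^ n + 1) ∨ (∃ n : ℕ, Fintype.card F + 1 = 2 ^ n)) ∧
        Nonempty (G ≃* Matrix.ProjectiveSpecialLinearGroup (Fin 2) F)) ∨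
      Cfsg.Spor.IsoM11 G ∨
      (∃ (F : Type) (_ : Field F) (_ : Fintype F), Fintype.card F = 3 ∧ Nonempty (G ≃* Matrix.ProjectiveSpecialLinearGroup (Fin 3) F)) ∨
      (∃ (F : Type) (_ : Field F) (_ : Fintype F), Fintype.card F = 9 ∧ Nonempty (G ≃* Cfsg.PSU 3 F 3)) ∨
      Cfsg.Spor.IsoHS G := by
  rcases SymplMain.reduce hG z hz hQ with h | ⟨u, h⟩ | ⟨R, h1, h2, h3, h4, h5, h6, h7⟩
  · exact Or.inl h
  · obtain ⟨Qf, uf, C, -, -⟩ := SymplCtx.exists_ctx hG h
    rcases SymplCard.card_V C with h4 | h16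
    · right; right; right; right; right; left
      have : Fact (Nat.Prime 3) := ⟨Nat.prime_three⟩
      have : Fintype (GaloisField 3 2) := Fintype.ofFinite _
      have hcard : Fintype.card (GaloisField 3 2) = 3 ^ 2 := by
        rw [← Nat.card_eq_fintype_card, GaloisField.card 3 2 (by norm_num)]
      obtain ⟨a, ha, haQ, hne⟩ := C.hne
      obtain ⟨e, hs⟩ := SymplGU.main C.F C.hz ha haQ hne h4 hcard
      exact ⟨GaloisField 3 2, inferInstance, inferInstance, by rw [hcard]; norm_num,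
        hU (GaloisField 3 2) (by rw [hcard]; norm_num) e hs⟩
    · right; right; right; right; right; right
      exact hHS _ _ _ (SymplHS.hsData hG C h16)
  · exact Or.inr (Or.inr (Or.inl (hdih R h1 h2 h3 h4 h5 h6 h7)))

end Cfsg.Agent.ClassificationK.SymplAssembly
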