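import Cfsg.Agent.ClassificationK.SymplFam

/-!
# Closure of the class `D` under products of commuting elements, pairs `b ∈ Q a` (S1758, helper577)

* `Fam.comm_u_left`, `Fam.comm_u_right`: in type A the elements `u a`, `b` commute, etc.;
* `Fam.comm_u_of_comm`: case X (type A, `b ∉ Q a`): `C_{Q a}(b) = C_{Q a}(u b)`;
* `Fam.exists_conj_mul`: case X: `b` is conjugate to `b * a` in `Q a`;
* `Fam.mul_mem`: closure;
* `Fam.mem_symm`, `Fam.exists_swap`, `Fam.exists_cycle`: the four-group `⟨a, b⟩` for `b ∈ Q a`.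
-/

set_option autoImplicit false

namespace Cfsg.Agent.ClassificationK.SymplSetup

variable {G : Type*} [Group G]

namespace Fam

variable {D : Set G} {Q : G → Subgroup G} {u : G → G}

theorem u_pow_four (F : Fam D Q u) {a : G} (ha : a ∈ D) : u a ^ (2 ^ 2) = 1 := by
  have la := F.loc a ha
  rw [show (2 : ℕ) ^ 2 = 2 * 2 from rfl, pow_mul, pow_two (u a), la.u_sq, pow_two]
  exact la.z_sq

/-- In type A, `u b` centralises `a`. -/
theorem comm_u_left (F : Fam D Q u) {a b : G} (ha : a ∈ D) (hA : u a * u b = u b * u a) :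
    a * u b = u b * a := by
  have la := F.loc a ha
  rw [← la.u_sq, mul_assoc, hA, ← mul_assoc, hA, mul_assoc]

theorem comm_u_right (F : Fam D Q u) {a b : G} (hb : b ∈ D) (hA : u a * u b = u b * u a) :
    u a * b = b * u a := by
  have lb := F.loc b hb
  rw [← lb.u_sq, ← mul_assoc, hA, mul_assoc, hA, mul_assoc]

/-- Case X: type A, `b ∉ Q a`: `C_{Q a}(b) = C_{Q a}(u b)`. -/
theorem comm_u_of_comm (F : Fam D Q u) {a b : G} (ha : a ∈ D) (hb : b ∈ D)
    (hA : u a * u b = u b * u a) (hbQ : b ∉ Q a) {q : G} (hq : q ∈ Q a) (hqb : q * b = b * q) :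
    q * u b = u b * q := by
  have la := F.loc a ha
  have lb := F.loc b hb
  have hau : u b * a = a * u b := (F.comm_u_left ha hA).symm
  rcases F.conj_u hb hqb with h1 | h1
  · exact h1
  · -- `[q, u b] = b ∈ Q a`
    exfalso
    apply hbQ
    have h2 : (u b)⁻¹ * q * u b ∈ Q a := by
      have := la.conj_mem (u b)⁻¹ (by
        rw [inv_mul_eq_iff_eq_mul, ← mul_assoc, hau, mul_assoc, mul_inv_cancel, mul_one]) q hq
      rwa [inv_inv] at this
    have h3 := mul_mem (inv_mem h2) hq
    have e : ((u b)⁻¹ * q * u b)⁻¹ * q = (u b)⁻¹ * (q⁻¹ * u b * q) := by group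
    -- q⁻¹ (u b) q = u b * b as well
    have h4 : q⁻¹ * u b * q = u b * b := by
      have h5 : q * (u b * b) * q⁻¹ = u b := by
        calc q * (u b * b) * q⁻¹ = (q * u b * q⁻¹) * (q * b * q⁻¹) := by group
          _ = u b * b * b := by rw [h1, hqb]; group
          _ = u b := by rw [mul_assoc, lb.z_sq, mul_one]
      calc q⁻¹ * u b * q = q⁻¹ * (q * (u b * b) * q⁻¹) * q := by rw [h5]
        _ = u b * b := by group
    rw [e, h4, ← mul_assoc, inv_mul_cancel, one_mul] at h3
    exact h3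

/-- **Closure in case X** (type A, `b ∉ Q a`): some `x ∈ Q a` has `x * b * x⁻¹ = b * a`. -/
theorem exists_conj_mul [Finite G] (F : Fam D Q u) {a b : G} (ha : a ∈ D) (hb : b ∈ D)
    (hA : u a * u b = u b * u a) (hbQ : b ∉ Q a) : ∃ x ∈ Q a, x * b * x⁻¹ = b * a := by
  classical
  have la := F.loc a ha
  have lb := F.loc b hb
  by_contra hcon
  push Not at hcon
  have hba : b * a = a * b := by
    have h1 := F.comm_u_left ha hA
    have := F.comm_of_comm_u hb h1
    exact this.symm
  have hbu : b * u a = u a * b := (F.comm_u_right hb hA).symm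
  have hau : u b * a = a * u b := (F.comm_u_left ha hA).symm
  have binv : b⁻¹ = b := lb.z_inv
  -- `P = {q : [q, b] ∈ Z(Q a)}`; every element of `P` centralises `b`
  have hcomm : ∀ q ∈ Q a, (q⁻¹ * (b * q * b⁻¹) = 1 ∨ q⁻¹ * (b * q * b⁻¹) = a ∨ q⁻¹ * (b * q * b⁻¹) = u a ∨
      q⁻¹ * (b * q * b⁻¹) = u a * a) → b * q = q * b := by
    intro q hq h
    set c := q⁻¹ * (b * q * b⁻¹) with hc
    have hbq : b * q * b⁻¹ = q * c := by rw [hc]; group
    -- `c` commutes with `b` and `q`, and `c² = 1`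
    have hcQ : ∀ x, (x = 1 ∨ x = a ∨ x = u a ∨ x = u a * a) → x * b = b * x := by
      rintro x (rfl | rfl | rfl | rfl)
      · rw [one_mul, mul_one]
      · exact hba.symm
      · exact hbu.symm
      · rw [mul_assoc, ← hba, ← mul_assoc, ← hbu, mul_assoc]
    have hcb := hcQ c h
    have hcq : q * c = c * q := by
      rcases h with h1 | h1 | h1 | h1 <;> rw [h1]
      · rw [one_mul, mul_one]
      · exact la.comm_z q hq
      · exact la.comm_u q hq
      · rw [← mul_assoc, la.comm_u q hq, mul_assoc, la.comm_z q hq, mul_assoc]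
    have hcc : c * c = 1 := by
      have h2 : b * (b * q * b⁻¹) * b⁻¹ = q := by
        have : b * (b * q * b⁻¹) * b⁻¹ = (b * b) * q * (b * b)⁻¹ := by group
        rw [this, lb.z_sq]; group
      rw [hbq] at h2
      have h3 : b * (q * c) * b⁻¹ = (b * q * b⁻¹) * (b * c * b⁻¹) := by group
      rw [h3, hbq, ← hcb] at h2
      have h4 : q * c * (c * b * b⁻¹) = q * (c * c) := by group
      rw [h4] at h2
      exact mul_eq_left.1 h2
    rcases h with h1 | h1 | h1 | h1
    · rw [h1, mul_one, mul_inv_eq_iff_eq_mul] at hbq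
      exact hbq
    · exfalso
      apply hcon q hq
      rw [h1] at hbq
      -- b q b⁻¹ = q a → q b q⁻¹ = b a
      have h5 : b * q = q * a * b := by rw [mul_inv_eq_iff_eq_mul] at hbq; exact hbq
      have h6 : q * b = b * q * a := by
        rw [h5, mul_assoc, hba, mul_assoc, ← mul_assoc a a, la.z_sq, one_mul]
      rw [h6, mul_assoc b q a, la.comm_z q hq]
      group
    · exfalso
      rw [h1, la.u_sq] at hcc
      exact la.z_ne hcc
    · exfalso
      apply la.z_ne
      rw [h1] at hcc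
      calc a = (u a * u a) * (a * a) := by rw [la.u_sq, la.z_sq, mul_one]
        _ = u a * (u a * a) * a := by group
        _ = u a * (a * u a) * a := by rw [la.uz]
        _ = u a * a * (u a * a) := by group
        _ = 1 := hcc
  -- the subgroup `P`
  have hrK : ∀ x ∈ Q a, u b * x * (u b)⁻¹ ∈ Q a := fun x hx => la.conj_mem _ hau x hx
  let P : Subgroup G := Q a ⊓ Subgroup.centralizer {b}
  have hP : ∀ x, x ∈ P ↔ x ∈ Q a ∧ x * b = b * x := by
    intro x
    rw [Subgroup.mem_inf, Subgroup.mem_centralizer_singleton_iff]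
  have hPu : ∀ x ∈ P, x * u b = u b * x := fun x hx =>
    F.comm_u_of_comm ha hb hA hbQ ((hP x).1 hx).1 ((hP x).1 hx).2
  have key : P = Q a := by
    refine eq_of_fixed la.isPGroup inf_le_left (F.u_pow_four hb) hrK ?_ ?_
    · intro x hx
      have := hPu x hx
      rw [← this]
      have e : x * u b * (u b)⁻¹ = x := by group
      rwa [e]
    · intro x hx h1
      set c := x⁻¹ * (u b * x * (u b)⁻¹) with hc
      have hux : u b * x * (u b)⁻¹ = x * c := by rw [hc]; group
      have hcu := hPu c h1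
      have hcQ := ((hP c).1 h1).1
      -- `b x b⁻¹ = x c²`
      have h2 : b * x * b⁻¹ = x * (c * c) := by
        have e : b * x * b⁻¹ = u b * (u b * x * (u b)⁻¹) * (u b)⁻¹ := by
          have : b = u b * u b := lb.u_sq.symm
          calc b * x * b⁻¹ = (u b * u b) * x * (u b * u b)⁻¹ := by rw [lb.u_sq]
            _ = _ := by group
        rw [e, hux]
        calc u b * (x * c) * (u b)⁻¹ = (u b * x * (u b)⁻¹) * (u b * c * (u b)⁻¹) := by group
          _ = x * c * c := by rw [hux, ← hcu]; group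
          _ = x * (c * c) := by group
      rw [hP]
      refine ⟨hx, ?_⟩
      refine (hcomm x hx ?_).symm
      rw [h2]
      have e : x⁻¹ * (x * (c * c)) = c * c := by group
      rw [e]
      rcases la.sq c hcQ with h3 | h3
      · exact Or.inl h3
      · exact Or.inr (Or.inl h3)
  -- hence `b` centralises `Q a`
  have h1 : ∀ x ∈ Q a, b * x = x * b := by
    intro x hx
    rw [← key] at hx
    exact ((hP x).1 hx).2.symm
  apply hbQ
  rcases la.self b hba h1 with h2 | h2 | h2 | h2 <;> rw [h2]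
  · exact one_mem _
  · exact la.z_mem
  · exact la.u_mem
  · exact mul_mem la.u_mem la.z_mem

/-- **Closure**: the product of two distinct commuting members of `D` is in `D`. -/
theorem mul_mem [Finite G] (F : Fam D Q u) {a b : G} (ha : a ∈ D) (hb : b ∈ D) (hne : a ≠ b)
    (hab : a * b = b * a) : a * b ∈ D := by
  rcases F.typeA_or_typeB ha hb hne hab with h | ⟨-, h⟩
  · by_cases hbQ : b ∈ Q a
    · exact F.mul_mem_of_mem ha hb hne hbQ
    · obtain ⟨x, -, hx⟩ := F.exists_conj_mul ha hb h hbQ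
      have := F.conj_mem b hb x
      rw [hx, ← hab] at this
      exact this
  · exact F.mul_mem_of_inv ha hb h

/-! ### pairs `b ∈ Q a` -/

theorem main_pair (F : Fam D Q u) {a b : G} (ha : a ∈ D) (hb : b ∈ D) (hne : b ≠ a) (h : b ∈ Q a) :
    a ∈ Q b ∧ ∀ x ∈ Subgroup.closure ({a, b} : Set G), ∀ y ∈ Subgroup.closure ({a, b} : Set G),
      x ≠ 1 → y ≠ 1 → x ≠ y → ∃ g, g * a * g⁻¹ = x ∧ g * b * g⁻¹ = y := by
  obtain ⟨g, rfl⟩ := F.trans a ha b hb
  obtain ⟨h1, h2⟩ := LargeSymplectic.main (F.loc a ha).data hne h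
  refine ⟨by rw [F.conjQ a ha]; exact h1, ?_⟩
  intro x hx y hy hx1 hy1 hxy
  obtain ⟨k, -, hk⟩ := h2 x hx y hy hx1 hy1 hxy
  exact ⟨k, hk⟩

/-- `b ∈ Q a → a ∈ Q b`. -/
theorem mem_symm (F : Fam D Q u) {a b : G} (ha : a ∈ D) (hb : b ∈ D) (h : b ∈ Q a) : a ∈ Q b := by
  by_cases hne : b = a
  · rw [hne]; exact (F.loc a ha).z_mem
  · exact (F.main_pair ha hb hne h).1

theorem exists_swap (F : Fam D Q u) {a b : G} (ha : a ∈ D) (hb : b ∈ D) (h : b ∈ Q a) :
    ∃ g, g * a * g⁻¹ = b ∧ g * b * g⁻¹ = a := by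
  by_cases hne : b = a
  · exact ⟨1, by rw [hne]; group, by rw [hne]; group⟩
  · exact (F.main_pair ha hb hne h).2 b (Subgroup.subset_closure (by simp)) a
      (Subgroup.subset_closure (by simp)) (F.loc b hb).z_ne (F.loc a ha).z_ne hne

theorem mul_ne_one (F : Fam D Q u) {a b : G} (ha : a ∈ D) (hne : b ≠ a) : a * b ≠ 1 := by
  intro h
  apply hne
  calc b = a⁻¹ * (a * b) := by group
    _ = a := by rw [h, mul_one, (F.loc a ha).z_inv]

theorem exists_cycle (F : Fam D Q u) {a b : G} (ha : a ∈ D) (hb : b ∈ D) (hne : b ≠ a) (h : b ∈ Q a) :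
    ∃ g, g * a * g⁻¹ = b ∧ g * b * g⁻¹ = a * b ∧ g * (a * b) * g⁻¹ = a := by
  have la := F.loc a ha
  have lb := F.loc b hb
  have ha' : a ∈ Subgroup.closure ({a, b} : Set G) := Subgroup.subset_closure (by simp)
  have hb' : b ∈ Subgroup.closure ({a, b} : Set G) := Subgroup.subset_closure (by simp)
  have hba : b ≠ a * b := fun h1 => la.z_ne (mul_eq_right.1 h1.symm)
  obtain ⟨g, h1, h2⟩ := (F.main_pair ha hb hne h).2 b hb' (a * b) (Subgroup.mul_mem _ ha' hb') lb.z_ne
    (F.mul_ne_one ha hne) hba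
  refine ⟨g, h1, h2, ?_⟩
  calc g * (a * b) * g⁻¹ = (g * a * g⁻¹) * (g * b * g⁻¹) := by group
    _ = b * (a * b) := by rw [h1, h2]
    _ = (b * a) * b := by group
    _ = a * (b * b) := by rw [la.comm_z b h]; group
    _ = a := by rw [lb.z_sq, mul_one]

/-- (A/Q) For `b ∈ Q a`: `a`, `b`, `a * b` are pairwise members of each other's `Q`. -/
theorem mem_Q_mul (F : Fam D Q u) {a b : G} (ha : a ∈ D) (hb : b ∈ D) (hne : b ≠ a) (h : b ∈ Q a) :
    a * b ∈ D ∧ a ∈ Q (a * b) ∧ b ∈ Q (a * b) := by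
  obtain ⟨g, h1, h2, h3⟩ := F.exists_cycle ha hb hne h
  have h4 : a * b ∈ D := by rw [← h2]; exact F.conj_mem b hb g
  refine ⟨h4, ?_, ?_⟩
  · -- `b ∈ Q a`, conjugate by `g`: `a b ∈ Q b`; and by `g²`: `a ∈ Q (a b)`
    have h5 : a ∈ Q (g * b * g⁻¹) := by
      rw [F.mem_conjQ hb]
      have e : g⁻¹ * a * g = a * b := by
        calc g⁻¹ * a * g = g⁻¹ * (g * (a * b) * g⁻¹) * g := by rw [h3]
          _ = a * b := by group
      rw [e]
      exact Subgroup.mul_mem _ (F.mem_symm ha hb h) (F.loc b hb).z_mem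
    rwa [h2] at h5
  · have h5 : b ∈ Q (g * b * g⁻¹) := by
      rw [F.mem_conjQ hb]
      have e : g⁻¹ * b * g = a := by
        calc g⁻¹ * b * g = g⁻¹ * (g * a * g⁻¹) * g := by rw [h1]
          _ = a := by group
      rw [e]
      exact F.mem_symm ha hb h
    rwa [h2] at h5

end Fam

end Cfsg.Agent.ClassificationK.SymplSetup
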