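import Cfsg.Prelude.Def_ClassificationK
import Cfsg.Agent.ONType.FusionB1
import Cfsg.Agent.LieExceptional.CITDihedralPsl
import Cfsg.Agent.LieExceptional.CITPsl
import Cfsg.Agent.LieExceptional.CITMain

/-!
# Cyclic self-centralising normal subgroups of involution centralizers (S1758, `w = 0`, helper687)

`G` simple, `z` an involution, `R ≤ C(z)` cyclic of order `2 ^ n ≥ 8`, normal in `C(z)` and containing its centralizer
in `C(z)`, `C(z)` of symplectic type: then `G ≃ PSL₂(F)` with `|F| = 2 ^ k ± 1`.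
-/

set_option autoImplicit false

namespace Cfsg.Agent.ClassificationK.SymplDih

variable {G : Type*} [Group G]

/-- `R = ⟨r⟩` is a cyclic `2`-group, `z` its involution, `w ∈ R` of order `8`. -/
structure Cyc (R : Subgroup G) (z r w : G) : Prop where
  r_mem : r ∈ R
  gen : ∀ e ∈ R, ∃ k : ℤ, e = r ^ k
  w_mem : w ∈ R
  ww : (w * w) * (w * w) = z
  inv : ∀ e ∈ R, e * e = 1 → e = 1 ∨ e = z
  root : ∀ e ∈ R, e * e ≠ 1 → ∃ k : ℕ, e ^ k * e ^ k = z
  z_ne : z ≠ 1
  z_sq : z * z = 1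
  norm : ∀ g, g * z = z * g → ∀ x ∈ R, g * x * g⁻¹ ∈ R
  self : ∀ g, g * z = z * g → g * r = r * g → g ∈ R

theorem exists_cyc [Finite G] (z : G) (hz : orderOf z = 2) (R : Subgroup G) (hRc : IsCyclic R) (hzR : z ∈ R)
    (hR8 : 8 ≤ Nat.card R) (hR2 : IsPGroup 2 R) (hRn : ∀ g, g * z = z * g → ∀ x ∈ R, g * x * g⁻¹ ∈ R)
    (hRself : ∀ g, g * z = z * g → (∀ x ∈ R, g * x = x * g) → g ∈ R) : ∃ r w, Cyc R z r w := by
  classical
  have p2 : Fact (Nat.Prime 2) := ⟨Nat.prime_two⟩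
  have hzz : z * z = 1 := by rw [← pow_two, ← hz]; exact pow_orderOf_eq_one z
  have hz1 : z ≠ 1 := by rintro rfl; rw [orderOf_one] at hz; norm_num at hz
  have hinv : ∀ e ∈ R, e * e = 1 → e = 1 ∨ e = z := by
    intro e he hee
    by_contra hcon
    push Not at hcon
    have : Fintype R := Fintype.ofFinite R
    have h1 := IsCyclic.card_pow_eq_one_le (α := R) (n := 2) (by norm_num)
    have h2 : ({1, ⟨z, hzR⟩, ⟨e, he⟩} : Finset R) ⊆ Finset.univ.filter fun x : R => x ^ 2 = 1 := by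
      intro x hx
      simp only [Finset.mem_insert, Finset.mem_singleton] at hx
      rw [Finset.mem_filter]
      refine ⟨Finset.mem_univ _, ?_⟩
      rcases hx with rfl | rfl | rfl
      · rw [one_pow]
      · apply Subtype.ext; rw [pow_two]; exact hzz
      · apply Subtype.ext; rw [pow_two]; exact hee
    have h3 := Finset.card_le_card h2
    have h4 : ({1, ⟨z, hzR⟩, ⟨e, he⟩} : Finset R).card = 3 := by
      rw [Finset.card_insert_of_notMem, Finset.card_insert_of_notMem, Finset.card_singleton]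
      · rw [Finset.mem_singleton]
        intro h; exact hcon.2 (congrArg Subtype.val h).symm
      · simp only [Finset.mem_insert, Finset.mem_singleton, not_or]
        exact ⟨fun h => hz1 (congrArg Subtype.val h).symm, fun h => hcon.1 (congrArg Subtype.val h).symm⟩
    omega
  obtain ⟨r, hr⟩ := IsCyclic.exists_generator (α := R)
  obtain ⟨n, hn⟩ := IsPGroup.iff_card.1 hR2
  have hro : orderOf r = 2 ^ n := by rw [orderOf_eq_card_of_forall_mem_zpowers hr, hn]
  have hn3 : 3 ≤ n := by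
    by_contra h
    have : 2 ^ n ≤ 2 ^ 2 := Nat.pow_le_pow_right (by norm_num) (by omega)
    rw [← hn] at this
    omega
  obtain ⟨m, rfl⟩ : ∃ m, n = m + 3 := ⟨n - 3, by omega⟩
  have key : ∀ e : R, ∀ k : ℕ, orderOf e = 2 ^ (k + 1) → ((e ^ 2 ^ k : R) : G) = z := by
    intro e k hk
    have h1 : orderOf (e ^ 2 ^ k) = 2 := by
      rw [orderOf_pow' _ (by positivity), hk]
      have : Nat.gcd (2 ^ (k + 1)) (2 ^ k) = 2 ^ k := Nat.gcd_eq_right (pow_dvd_pow 2 (Nat.le_succ k))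
      rw [this, pow_succ, Nat.mul_div_cancel_left _ (by positivity)]
    have h2 : ((e ^ 2 ^ k : R) : G) * ((e ^ 2 ^ k : R) : G) = 1 := by
      have := pow_orderOf_eq_one (e ^ 2 ^ k)
      rw [h1, pow_two] at this
      exact congrArg Subtype.val this
    rcases hinv _ (e ^ 2 ^ k).2 h2 with h3 | h3
    · exfalso
      have h4 : e ^ 2 ^ k = 1 := Subtype.ext h3
      rw [h4, orderOf_one] at h1
      norm_num at h1
    · exact h3
  refine ⟨r, ((r ^ 2 ^ m : R) : G), ?_⟩
  refine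
    { r_mem := r.2
      gen := ?_
      w_mem := (r ^ 2 ^ m).2
      ww := ?_
      inv := hinv
      root := ?_
      z_ne := hz1
      z_sq := hzz
      norm := hRn
      self := ?_ }
  · intro e he
    obtain ⟨k, hk⟩ := hr ⟨e, he⟩
    refine ⟨k, ?_⟩
    have h1 : r ^ k = (⟨e, he⟩ : R) := hk
    have h2 : ((r ^ k : R) : G) = e := congrArg Subtype.val h1
    rw [← h2, Subgroup.coe_zpow]
  · rw [← key r (m + 2) hro]
    rw [← Subgroup.coe_mul, ← Subgroup.coe_mul]
    congr 1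
    rw [← pow_add, ← pow_add]
    congr 1
    rw [pow_succ, pow_succ]; ring
  · intro e he hee
    obtain ⟨k, hk⟩ := (IsPGroup.iff_orderOf.1 hR2) ⟨e, he⟩
    have hk2 : 2 ≤ k := by
      by_contra h
      have h1 : k ≤ 1 := by omega
      have h2 : orderOf (⟨e, he⟩ : R) ∣ 2 := by
        rw [hk]
        calc 2 ^ k ∣ 2 ^ 1 := pow_dvd_pow 2 h1
          _ = 2 := pow_one 2
      apply hee
      have h3 : (⟨e, he⟩ : R) ^ 2 = 1 := orderOf_dvd_iff_pow_eq_one.1 h2
      rw [pow_two] at h3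
      exact congrArg Subtype.val h3
    obtain ⟨l, rfl⟩ : ∃ l, k = l + 2 := ⟨k - 2, by omega⟩
    refine ⟨2 ^ l, ?_⟩
    rw [← key ⟨e, he⟩ (l + 1) hk, Subgroup.coe_pow]
    show e ^ 2 ^ l * e ^ 2 ^ l = e ^ 2 ^ (l + 1)
    rw [← pow_add]
    congr 1
    rw [pow_succ]; ring
  · intro g hg hgr
    apply hRself g hg
    intro x hx
    obtain ⟨k, hk⟩ := hr ⟨x, hx⟩
    have h1 : r ^ k = (⟨x, hx⟩ : R) := hk
    have h2 := congrArg Subtype.val h1
    rw [Subgroup.coe_zpow] at h2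
    have h3 : Commute g (r : G) := hgr
    have h4 := (h3.zpow_right k).eq
    rw [h2] at h4
    exact h4

namespace Cyc

variable {R : Subgroup G} {z r w : G}

theorem comm (h : Cyc R z r w) {e f : G} (he : e ∈ R) (hf : f ∈ R) : e * f = f * e := by
  obtain ⟨k, rfl⟩ := h.gen e he
  obtain ⟨l, rfl⟩ := h.gen f hf
  rw [← zpow_add, ← zpow_add, add_comm]

theorem z_mem (h : Cyc R z r w) : z ∈ R := by
  rw [← h.ww]
  exact mul_mem (mul_mem h.w_mem h.w_mem) (mul_mem h.w_mem h.w_mem)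

theorem z_inv (h : Cyc R z r w) : z⁻¹ = z := inv_eq_of_mul_eq_one_left h.z_sq

theorem commz (h : Cyc R z r w) {e : G} (he : e ∈ R) : e * z = z * e := h.comm he h.z_mem

theorem y_mem (h : Cyc R z r w) : w * w ∈ R := mul_mem h.w_mem h.w_mem

theorem y_ne (h : Cyc R z r w) : (w * w) * z ≠ w * w := fun h1 => h.z_ne (mul_eq_left.1 h1)

theorem y_inv (h : Cyc R z r w) : (w * w)⁻¹ = (w * w) * z := by
  rw [inv_eq_iff_mul_eq_one, ← mul_assoc, h.ww, h.z_sq]

/-- the square roots of `z` in `R` -/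
theorem eq_y (h : Cyc R z r w) {e : G} (he : e ∈ R) (hee : e * e = z) : e = w * w ∨ e = (w * w) * z := by
  have h1 : ((w * w)⁻¹ * e) * ((w * w)⁻¹ * e) = 1 := by
    have h2 : e * (w * w)⁻¹ = (w * w)⁻¹ * e := h.comm he (inv_mem h.y_mem)
    calc ((w * w)⁻¹ * e) * ((w * w)⁻¹ * e) = (w * w)⁻¹ * (e * (w * w)⁻¹) * e := by group
      _ = ((w * w) * (w * w))⁻¹ * (e * e) := by rw [h2]; group
      _ = 1 := by rw [h.ww, hee, inv_mul_cancel]
  rcases h.inv _ (mul_mem (inv_mem h.y_mem) he) h1 with h2 | h2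
  · left
    rw [inv_mul_eq_one] at h2
    exact h2.symm
  · right
    rw [← h2]; group

/-- conjugation is determined by `r` -/
theorem conj_pow (h : Cyc R z r w) {x : G} (hx : x * r * x⁻¹ = r * z) {e : G} (he : e ∈ R) :
    x * e * x⁻¹ = e ∨ x * e * x⁻¹ = e * z := by
  obtain ⟨k, rfl⟩ := h.gen e he
  have h1 : x * r ^ k * x⁻¹ = (x * r * x⁻¹) ^ k := (conj_zpow ..).symm
  have h2 : Commute r z := h.commz h.r_mem
  rw [h1, hx, h2.mul_zpow]
  have h3 : z ^ k = 1 ∨ z ^ k = z := by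
    rcases Int.even_or_odd k with ⟨m, rfl⟩ | ⟨m, rfl⟩
    · left
      rw [zpow_add, ← (Commute.refl z).mul_zpow, h.z_sq, one_zpow]
    · right
      rw [zpow_add, zpow_mul, zpow_ofNat, pow_two, h.z_sq, one_zpow, one_mul, zpow_one]
  rcases h3 with h3 | h3 <;> rw [h3]
  · left; rw [mul_one]
  · right; rfl

/-- `r ^ k` is fixed by `x` iff it is a square -/
theorem exists_sq (h : Cyc R z r w) {x : G} (hx : x * r * x⁻¹ = r * z) {e : G} (he : e ∈ R)
    (hxe : x * e * x⁻¹ = e) : ∃ f ∈ R, e = f * f := by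
  obtain ⟨k, rfl⟩ := h.gen e he
  rcases Int.even_or_odd k with ⟨m, rfl⟩ | ⟨m, rfl⟩
  · exact ⟨r ^ m, zpow_mem h.r_mem m, zpow_add r m m⟩
  · exfalso
    have h1 : x * r ^ (2 * m + 1) * x⁻¹ = (x * r * x⁻¹) ^ (2 * m + 1) := (conj_zpow ..).symm
    have h2 : Commute r z := h.commz h.r_mem
    rw [h1, hx, h2.mul_zpow] at hxe
    have h3 : z ^ (2 * m + 1) = z := by
      rw [zpow_add, zpow_mul, zpow_ofNat, pow_two, h.z_sq, one_zpow, one_mul, zpow_one]
    rw [h3] at hxe
    exact h.z_ne (mul_eq_left.1 hxe)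

theorem conj_y (h : Cyc R z r w) {x : G} (hx : x * r * x⁻¹ = r * z) :
    x * (w * w) * x⁻¹ = w * w := by
  have h1 : x * (w * w) * x⁻¹ = (x * w * x⁻¹) * (x * w * x⁻¹) := by group
  rw [h1]
  rcases h.conj_pow hx h.w_mem with h2 | h2 <;> rw [h2]
  calc w * z * (w * z) = w * (z * w) * z := by group
    _ = (w * w) * (z * z) := by rw [← h.commz h.w_mem]; group
    _ = w * w := by rw [h.z_sq, mul_one]

theorem exists_invol (h : Cyc R z r w) {x : G} (hxz : x * z = z * x) (hx : x * r * x⁻¹ = r * z) :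
    ∃ a, a * a = 1 ∧ a * z = z * a ∧ a * r * a⁻¹ = r * z := by
  have hxz' : x * z * x⁻¹ = z := by rw [hxz]; group
  have hrz := h.commz h.r_mem
  have hxxR : x * x ∈ R := by
    apply h.self
    · rw [mul_assoc, hxz, ← mul_assoc, hxz, mul_assoc]
    · have h1 : (x * x) * r * (x * x)⁻¹ = r := by
        calc (x * x) * r * (x * x)⁻¹ = x * (x * r * x⁻¹) * x⁻¹ := by group
          _ = x * (r * z) * x⁻¹ := by rw [hx]
          _ = (x * r * x⁻¹) * (x * z * x⁻¹) := by group
          _ = r := by rw [hx, hxz', mul_assoc, h.z_sq, mul_one]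
      rwa [mul_inv_eq_iff_eq_mul] at h1
  obtain ⟨f, hf, hff⟩ := h.exists_sq hx hxxR (by group)
  have hfr : f⁻¹ * r = r * f⁻¹ := h.comm (inv_mem hf) h.r_mem
  have hfz : f⁻¹ * z = z * f⁻¹ := h.commz (inv_mem hf)
  have hact : (f⁻¹ * x) * r * (f⁻¹ * x)⁻¹ = r * z := by
    calc (f⁻¹ * x) * r * (f⁻¹ * x)⁻¹ = f⁻¹ * (x * r * x⁻¹) * f := by group
      _ = (f⁻¹ * r) * (z * f) := by rw [hx]; group
      _ = r * (f⁻¹ * z) * f := by rw [hfr]; group
      _ = r * z := by rw [hfz]; group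
  have hcz : (f⁻¹ * x) * z = z * (f⁻¹ * x) := by
    rw [mul_assoc, hxz, ← mul_assoc, hfz, mul_assoc]
  have ha0 : (f⁻¹ * x) * (f⁻¹ * x) = 1 ∨ (f⁻¹ * x) * (f⁻¹ * x) = z := by
    have e : (f⁻¹ * x) * (f⁻¹ * x) = f⁻¹ * (x * f⁻¹ * x⁻¹) * (x * x) := by group
    rw [e]
    rcases h.conj_pow hx (inv_mem hf) with h1 | h1 <;> rw [h1, hff]
    · left; group
    · right
      calc f⁻¹ * (f⁻¹ * z) * (f * f) = f⁻¹ * f⁻¹ * (z * f) * f := by group
        _ = f⁻¹ * (f⁻¹ * f) * z * f := by rw [← h.commz hf]; group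
        _ = f⁻¹ * (z * f) := by group
        _ = z := by rw [← h.commz hf]; group
  rcases ha0 with h1 | h1
  · exact ⟨_, h1, hcz, hact⟩
  · obtain ⟨g, hg⟩ : ∃ g, g = f⁻¹ * x := ⟨_, rfl⟩
    rw [← hg] at hact hcz h1
    have hgy : g * (w * w) * g⁻¹ = w * w := h.conj_y hact
    have hgy' : g * (w * w) = (w * w) * g := by rwa [mul_inv_eq_iff_eq_mul] at hgy
    have hyr : (w * w) * r = r * (w * w) := h.comm h.y_mem h.r_mem
    have hyz : (w * w) * z = z * (w * w) := h.commz h.y_mem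
    refine ⟨(w * w) * g, ?_, ?_, ?_⟩
    · calc (w * w) * g * ((w * w) * g) = (w * w) * (g * (w * w)) * g := by group
        _ = ((w * w) * (w * w)) * (g * g) := by rw [hgy']; group
        _ = 1 := by rw [h.ww, h1, h.z_sq]
    · rw [mul_assoc, hcz, ← mul_assoc, hyz, mul_assoc]
    · calc (w * w) * g * r * ((w * w) * g)⁻¹ = (w * w) * (g * r * g⁻¹) * (w * w)⁻¹ := by group
        _ = ((w * w) * r) * z * (w * w)⁻¹ := by rw [hact]; group
        _ = r * ((w * w) * z) * (w * w)⁻¹ := by rw [hyr]; group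
        _ = r * z := by rw [hyz]; group

/-- The four-group `⟨a, z⟩` contains every involution acting as `1` or `r ↦ r z`. -/
theorem mem_four (h : Cyc R z r w) {a : G} (haa : a * a = 1) (haz : a * z = z * a)
    (har : a * r * a⁻¹ = r * z) {b : G} (hbb : b * b = 1) (hbz : b * z = z * b)
    (hb : b * r * b⁻¹ = r ∨ b * r * b⁻¹ = r * z) : ∃ i j : ℕ, b = a ^ i * z ^ j := by
  rcases hb with hb | hb
  · have h1 : b ∈ R := h.self b hbz (by rwa [mul_inv_eq_iff_eq_mul] at hb)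
    rcases h.inv b h1 hbb with h2 | h2
    · exact ⟨0, 0, by rw [h2]; simp⟩
    · exact ⟨0, 1, by rw [h2]; simp⟩
  · obtain ⟨e, he⟩ : ∃ e, e = b * a := ⟨_, rfl⟩
    have hai : a⁻¹ = a := inv_eq_of_mul_eq_one_left haa
    have haz' : a * z * a⁻¹ = z := by rw [haz]; group
    have hbz' : b * z * b⁻¹ = z := by rw [hbz]; group
    have heR : e ∈ R := by
      apply h.self
      · rw [he, mul_assoc, haz, ← mul_assoc, hbz, mul_assoc]
      · have h1 : e * r * e⁻¹ = r := by
          rw [he]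
          calc b * a * r * (b * a)⁻¹ = b * (a * r * a⁻¹) * b⁻¹ := by group
            _ = (b * r * b⁻¹) * (b * z * b⁻¹) := by rw [har]; group
            _ = r := by rw [hb, hbz', mul_assoc, h.z_sq, mul_one]
        rwa [mul_inv_eq_iff_eq_mul] at h1
    have hbe : b = e * a := by rw [he, mul_assoc, haa, mul_one]
    have h1 : e * (a * e * a⁻¹) = 1 := by
      rw [hai]
      calc e * (a * e * a) = (e * a) * (e * a) := by group
        _ = 1 := by rw [← hbe, hbb]
    have hez : e * z = z * e := h.commz heR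
    rcases h.conj_pow har heR with h2 | h2
    · rw [h2] at h1
      rcases h.inv e heR h1 with h3 | h3
      · exact ⟨1, 0, by rw [hbe, h3]; simp⟩
      · exact ⟨1, 1, by rw [hbe, h3, pow_one, pow_one, haz]⟩
    · -- `e² = z`
      exfalso
      rw [h2, ← mul_assoc] at h1
      have h3 : e * e = z := by
        calc e * e = (e * e * z) * z := by rw [mul_assoc (e * e), h.z_sq, mul_one]
          _ = z := by rw [h1, one_mul]
      have h4 : a * (w * w) * a⁻¹ = w * w := h.conj_y har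
      have h5 : a * e * a⁻¹ = e := by
        rcases h.eq_y heR h3 with h6 | h6 <;> rw [h6]
        · exact h4
        · calc a * (w * w * z) * a⁻¹ = (a * (w * w) * a⁻¹) * (a * z * a⁻¹) := by group
            _ = w * w * z := by rw [h4, haz']
      rw [h5] at h2
      exact h.z_ne (mul_eq_left.1 h2.symm)

/-- **Claim A.** -/
theorem false_of_invol (h : Cyc R z r w)
    (hS : Cfsg.IsOfSymplecticType ↥(Subgroup.centralizer ({z} : Set G)))
    {a : G} (haa : a * a = 1) (haz : a * z = z * a) (har : a * r * a⁻¹ = r * z) : False := by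
  have hac : Commute a z := haz
  have hai : a⁻¹ = a := inv_eq_of_mul_eq_one_left haa
  have hsq : ∀ i j : ℕ, (a ^ i * z ^ j) * (a ^ i * z ^ j) = 1 := by
    intro i j
    have h1 : Commute (a ^ i) (z ^ j) := hac.pow_pow i j
    calc (a ^ i * z ^ j) * (a ^ i * z ^ j) = a ^ i * (z ^ j * a ^ i) * z ^ j := by group
      _ = (a ^ i * a ^ i) * (z ^ j * z ^ j) := by rw [← h1.eq]; group
      _ = 1 := by
        rw [← (Commute.refl a).mul_pow, ← (Commute.refl z).mul_pow, haa, h.z_sq, one_pow, one_pow, one_mul]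
  have mC : ∀ x, x * z = z * x → x ∈ Subgroup.centralizer ({z} : Set G) := fun x hx =>
    Subgroup.mem_centralizer_singleton_iff.2 hx
  have Cm : ∀ x : Subgroup.centralizer ({z} : Set G), (x : G) * z = z * x := fun x =>
    Subgroup.mem_centralizer_singleton_iff.1 x.2
  let A : Subgroup (Subgroup.centralizer ({z} : Set G)) :=
    { carrier := {x | ∃ i j : ℕ, (x : G) = a ^ i * z ^ j}
      one_mem' := ⟨0, 0, by simp⟩
      mul_mem' := by
        rintro x y ⟨i, j, hx⟩ ⟨k, l, hy⟩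
        refine ⟨i + k, j + l, ?_⟩
        have h1 : Commute (a ^ k) (z ^ j) := hac.pow_pow k j
        rw [Subgroup.coe_mul, hx, hy, pow_add, pow_add]
        calc a ^ i * z ^ j * (a ^ k * z ^ l) = a ^ i * (z ^ j * a ^ k) * z ^ l := by group
          _ = a ^ i * a ^ k * (z ^ j * z ^ l) := by rw [← h1.eq]; group
      inv_mem' := by
        rintro x ⟨i, j, hx⟩
        refine ⟨i, j, ?_⟩
        rw [Subgroup.coe_inv, hx]
        exact inv_eq_of_mul_eq_one_left (hsq i j) }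
  have hA : ∀ x : Subgroup.centralizer ({z} : Set G), x ∈ A ↔ ∃ i j : ℕ, (x : G) = a ^ i * z ^ j := fun x => Iff.rfl
  have haA : (⟨a, mC a haz⟩ : Subgroup.centralizer ({z} : Set G)) ∈ A := (hA _).2 ⟨1, 0, by simp⟩
  have hzA : (⟨z, mC z rfl⟩ : Subgroup.centralizer ({z} : Set G)) ∈ A := (hA _).2 ⟨0, 1, by simp⟩
  have hAsq : ∀ x ∈ A, x * x = 1 := by
    rintro x ⟨i, j, hx⟩
    apply Subtype.ext
    rw [Subgroup.coe_mul, hx]
    exact hsq i j
  -- `A` is normal in `C(z)`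
  have hnorm : ∀ g : Subgroup.centralizer ({z} : Set G), ∀ x ∈ A, g * x * g⁻¹ ∈ A := by
    have hga : ∀ g : Subgroup.centralizer ({z} : Set G),
        g * ⟨a, mC a haz⟩ * g⁻¹ ∈ A := by
      intro g
      rw [hA]
      have hgz := Cm g
      have hgz' : (g : G) * z * (g : G)⁻¹ = z := by rw [hgz]; group
      have hgi : (g : G)⁻¹ * z = z * (g : G)⁻¹ := (show Commute (g : G) z from hgz).inv_left.eq
      have heR : (g : G)⁻¹ * r * g ∈ R := by
        have := h.norm (g : G)⁻¹ hgi r h.r_mem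
        rwa [inv_inv] at this
      refine h.mem_four haa haz har ?_ ?_ ?_
      · show (g : G) * a * (g : G)⁻¹ * ((g : G) * a * (g : G)⁻¹) = 1
        calc (g : G) * a * (g : G)⁻¹ * ((g : G) * a * (g : G)⁻¹) = g * (a * a) * (g : G)⁻¹ := by group
          _ = 1 := by rw [haa]; group
      · show (g : G) * a * (g : G)⁻¹ * z = z * ((g : G) * a * (g : G)⁻¹)
        rw [mul_assoc, hgi, ← mul_assoc, mul_assoc (g : G), haz, ← mul_assoc, hgz]; group
      · show (g : G) * a * (g : G)⁻¹ * r * ((g : G) * a * (g : G)⁻¹)⁻¹ = r ∨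
          (g : G) * a * (g : G)⁻¹ * r * ((g : G) * a * (g : G)⁻¹)⁻¹ = r * z
        have e : (g : G) * a * (g : G)⁻¹ * r * ((g : G) * a * (g : G)⁻¹)⁻¹ =
            g * (a * ((g : G)⁻¹ * r * g) * a⁻¹) * (g : G)⁻¹ := by group
        rw [e]
        rcases h.conj_pow har heR with h1 | h1 <;> rw [h1]
        · left; group
        · right
          calc (g : G) * ((g : G)⁻¹ * r * g * z) * (g : G)⁻¹ = r * (g * z * (g : G)⁻¹) := by group
            _ = r * z := by rw [hgz']
    intro g x hx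
    obtain ⟨i, j, hij⟩ := (hA x).1 hx
    have e : x = (⟨a, mC a haz⟩ : Subgroup.centralizer ({z} : Set G)) ^ i *
        (⟨z, mC z rfl⟩ : Subgroup.centralizer ({z} : Set G)) ^ j := Subtype.ext hij
    have e2 : g * x * g⁻¹ = (g * ⟨a, mC a haz⟩ * g⁻¹) ^ i * (g * ⟨z, mC z rfl⟩ * g⁻¹) ^ j := by
      rw [_root_.conj_pow, _root_.conj_pow, e]; group
    have e3 : g * (⟨z, mC z rfl⟩ : Subgroup.centralizer ({z} : Set G)) * g⁻¹ = ⟨z, mC z rfl⟩ := by
      apply Subtype.ext
      show (g : G) * z * (g : G)⁻¹ = z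
      rw [Cm g]; group
    rw [e2, e3]
    exact mul_mem (pow_mem (hga g) i) (pow_mem hzA j)
  -- `A` is characteristic
  have hchar : A.Characteristic := by
    rw [Subgroup.characteristic_iff_map_le]
    rintro φ _ ⟨x, hx, rfl⟩
    have hxx := hAsq x hx
    obtain ⟨b, hb⟩ : ∃ b, b = φ x := ⟨_, rfl⟩
    show φ x ∈ A
    rw [← hb]
    have hbb : b * b = 1 := by rw [hb, ← map_mul, hxx, map_one]
    obtain ⟨cr, hcr⟩ : ∃ cr : Subgroup.centralizer ({z} : Set G), (cr : G) = r :=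
      ⟨⟨r, mC r (h.commz h.r_mem)⟩, rfl⟩
    have hc : (cr * b * cr⁻¹ * b⁻¹) * (cr * b * cr⁻¹ * b⁻¹) = 1 := by
      have e : cr * b * cr⁻¹ * b⁻¹ = φ ((φ.symm cr) * x * (φ.symm cr)⁻¹ * x⁻¹) := by
        rw [map_mul, map_mul, map_mul, map_inv, map_inv, MulEquiv.apply_symm_apply, ← hb]
      rw [e, ← map_mul, hAsq _ (mul_mem (hnorm _ x hx) (inv_mem hx)), map_one]
    have hbz := Cm b
    have hbb' : (b : G) * b = 1 := congrArg Subtype.val hbb
    have hcR : r * ((b : G) * r⁻¹ * (b : G)⁻¹) ∈ R := mul_mem h.r_mem (h.norm _ hbz _ (inv_mem h.r_mem))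
    have hc' : (r * ((b : G) * r⁻¹ * (b : G)⁻¹)) * (r * ((b : G) * r⁻¹ * (b : G)⁻¹)) = 1 := by
      have h1 := congrArg Subtype.val hc
      have h2 : (r * b * r⁻¹ * (b : G)⁻¹) * (r * b * r⁻¹ * (b : G)⁻¹) = 1 := by
        rw [← hcr]; exact h1
      calc (r * ((b : G) * r⁻¹ * (b : G)⁻¹)) * (r * ((b : G) * r⁻¹ * (b : G)⁻¹))
          = (r * b * r⁻¹ * (b : G)⁻¹) * (r * b * r⁻¹ * (b : G)⁻¹) := by group
        _ = 1 := h2
    rw [hA]
    refine h.mem_four haa haz har hbb' hbz ?_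
    rcases h.inv _ hcR hc' with h3 | h3
    · left
      calc (b : G) * r * (b : G)⁻¹ = ((b : G) * r⁻¹ * (b : G)⁻¹)⁻¹ := by group
        _ = (r⁻¹ * (r * ((b : G) * r⁻¹ * (b : G)⁻¹)))⁻¹ := by group
        _ = r := by rw [h3]; group
    · right
      calc (b : G) * r * (b : G)⁻¹ = ((b : G) * r⁻¹ * (b : G)⁻¹)⁻¹ := by group
        _ = (r⁻¹ * (r * ((b : G) * r⁻¹ * (b : G)⁻¹)))⁻¹ := by group
        _ = z⁻¹ * r := by rw [h3]; group
        _ = r * z := by rw [h.z_inv, h.commz h.r_mem]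
  have hcomm : IsMulCommutative A := by
    refine ⟨⟨fun x y => ?_⟩⟩
    have hx := hAsq x x.2
    have hy := hAsq y y.2
    have hxy := hAsq (x * y) (mul_mem x.2 y.2)
    apply Subtype.ext
    rw [Subgroup.coe_mul, Subgroup.coe_mul]
    calc (x : Subgroup.centralizer ({z} : Set G)) * y
        = ((x : Subgroup.centralizer ({z} : Set G)) * y)⁻¹ := eq_inv_of_mul_eq_one_left hxy
      _ = (y : Subgroup.centralizer ({z} : Set G))⁻¹ * (x : Subgroup.centralizer ({z} : Set G))⁻¹ := mul_inv_rev _ _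
      _ = y * x := by rw [inv_eq_of_mul_eq_one_left hx, inv_eq_of_mul_eq_one_left hy]
  obtain ⟨g, hg⟩ := (hS.2 A hchar hcomm).exists_generator
  have hgg : g * g = 1 := Subtype.ext (hAsq g g.2)
  have hg2 : ∀ x : A, x = 1 ∨ x = g := by
    intro x
    obtain ⟨k, hk⟩ := hg x
    have hk' : g ^ k = x := hk
    rcases Int.even_or_odd k with ⟨m, rfl⟩ | ⟨m, rfl⟩
    · left
      rw [← hk', zpow_add, ← (Commute.refl g).mul_zpow, hgg, one_zpow]
    · right
      rw [← hk', zpow_add, zpow_mul, zpow_ofNat, pow_two, hgg, one_zpow, one_mul, zpow_one]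
  have hz1 : (⟨⟨z, mC z rfl⟩, hzA⟩ : A) ≠ 1 := by
    intro h1
    exact h.z_ne (congrArg (fun t : A => ((t : Subgroup.centralizer ({z} : Set G)) : G)) h1)
  have ha1 : (⟨⟨a, mC a haz⟩, haA⟩ : A) ≠ 1 := by
    intro h1
    have h2 : a = 1 := congrArg (fun t : A => ((t : Subgroup.centralizer ({z} : Set G)) : G)) h1
    rw [h2] at har
    apply h.z_ne
    have h3 : r = r * z := by
      calc r = 1 * r * 1⁻¹ := by group
        _ = r * z := har
    exact mul_eq_left.1 h3.symm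
  have h1 : (⟨⟨z, mC z rfl⟩, hzA⟩ : A) = ⟨⟨a, mC a haz⟩, haA⟩ :=
    ((hg2 _).resolve_left hz1).trans ((hg2 _).resolve_left ha1).symm
  have h2 : z = a := congrArg (fun t : A => ((t : Subgroup.centralizer ({z} : Set G)) : G)) h1
  rw [← h2] at har
  apply h.z_ne
  have h3 : z * r * z⁻¹ = r := by rw [← h.commz h.r_mem]; group
  rw [h3] at har
  exact mul_eq_left.1 har.symm

/-- an element of `C(z)` centralising the elements of order 4 of `R` lies in `R` -/
theorem mem_of_comm_y (h : Cyc R z r w)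
    (hS : Cfsg.IsOfSymplecticType ↥(Subgroup.centralizer ({z} : Set G)))
    {s : G} (hsz : s * z = z * s) (hsy : s * (w * w) = (w * w) * s) : s ∈ R := by
  classical
  by_contra hsR
  have hex : ∃ m : ℕ, s ^ 2 ^ m ∈ R := by
    obtain ⟨m, hm⟩ := hS.1 ⟨s, Subgroup.mem_centralizer_singleton_iff.2 hsz⟩
    refine ⟨m, ?_⟩
    have h1 : s ^ 2 ^ m = 1 := congrArg Subtype.val hm
    rw [h1]; exact one_mem _
  obtain ⟨m, hm, hm'⟩ : ∃ m : ℕ, s ^ 2 ^ m ∉ R ∧ s ^ 2 ^ (m + 1) ∈ R := by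
    have h1 := Nat.find_spec hex
    obtain ⟨k, hk⟩ : ∃ k, Nat.find hex = k + 1 := by
      apply Nat.exists_eq_succ_of_ne_zero
      intro h2
      rw [h2, pow_zero, pow_one] at h1
      exact hsR h1
    refine ⟨k, Nat.find_min hex (by omega), ?_⟩
    rw [← hk]; exact h1
  obtain ⟨x, hx⟩ : ∃ x, x = s ^ 2 ^ m := ⟨_, rfl⟩
  rw [← hx] at hm
  have hxx : x * x ∈ R := by
    have : x * x = s ^ 2 ^ (m + 1) := by rw [hx, ← pow_add]; congr 1; rw [pow_succ]; ring
    rw [this]; exact hm'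
  have hxz : x * z = z * x := by rw [hx]; exact ((show Commute s z from hsz).pow_left _).eq
  have hxy : x * (w * w) = (w * w) * x := by
    rw [hx]; exact ((show Commute s (w * w) from hsy).pow_left _).eq
  obtain ⟨c, hc⟩ : ∃ c, c = x * r * x⁻¹ * r⁻¹ := ⟨_, rfl⟩
  have hcR : c ∈ R := by rw [hc]; exact mul_mem (h.norm x hxz r h.r_mem) (inv_mem h.r_mem)
  have hxc : x * c * x⁻¹ = c⁻¹ := by
    have h1 : (x * x) * r * (x * x)⁻¹ = r := by rw [h.comm hxx h.r_mem]; group
    calc x * c * x⁻¹ = ((x * x) * r * (x * x)⁻¹) * (x * r * x⁻¹)⁻¹ := by rw [hc]; group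
      _ = c⁻¹ := by rw [h1, hc]; group
  by_cases hcc : c * c = 1
  · rcases h.inv c hcR hcc with h1 | h1
    · rw [hc, mul_inv_eq_one, mul_inv_eq_iff_eq_mul] at h1
      exact hm (h.self x hxz h1)
    · have h2 : x * r * x⁻¹ = r * z := by
        calc x * r * x⁻¹ = c * r := by rw [hc]; group
          _ = r * z := by rw [h1, ← h.commz h.r_mem]
      obtain ⟨a, ha1, ha2, ha3⟩ := h.exists_invol hxz h2
      exact h.false_of_invol hS ha1 ha2 ha3
  · obtain ⟨k, hk⟩ := h.root c hcR hcc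
    have hf := pow_mem hcR k
    have h1 : x * c ^ k * x⁻¹ = (c ^ k)⁻¹ := by
      rw [← inv_pow, ← hxc, _root_.conj_pow]
    have h2 : x * c ^ k * x⁻¹ = c ^ k := by
      rcases h.eq_y hf hk with h3 | h3 <;> rw [h3]
      · rw [hxy]; group
      · rw [← mul_assoc, hxy, mul_assoc (w * w), hxz]; group
    rw [h1] at h2
    apply h.z_ne
    rw [← hk]
    calc c ^ k * c ^ k = c ^ k * (c ^ k)⁻¹ := by rw [h2]
      _ = 1 := mul_inv_cancel _

end Cyc

namespace Cyc

variable {R : Subgroup G} {z r w : G}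

theorem conj_y' (h : Cyc R z r w) {s : G} (hsz : s * z = z * s) :
    s * (w * w) * s⁻¹ = w * w ∨ s * (w * w) * s⁻¹ = (w * w) * z := by
  apply h.eq_y (h.norm s hsz _ h.y_mem)
  calc s * (w * w) * s⁻¹ * (s * (w * w) * s⁻¹) = s * ((w * w) * (w * w)) * s⁻¹ := by group
    _ = z := by rw [h.ww, hsz]; group

/-- `t` inverts the elements of order 4 of `R` -/
theorem t_y (h : Cyc R z r w) (hS : Cfsg.IsOfSymplecticType ↥(Subgroup.centralizer ({z} : Set G)))
    {t : G} (htz : t * z = z * t) (htR : t ∉ R) : t * (w * w) * t⁻¹ = (w * w) * z := by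
  rcases h.conj_y' htz with h1 | h1
  · exfalso
    rw [mul_inv_eq_iff_eq_mul] at h1
    exact htR (h.mem_of_comm_y hS htz h1)
  · exact h1

/-- `C(z) = R ∪ R t` -/
theorem mem_or (h : Cyc R z r w) (hS : Cfsg.IsOfSymplecticType ↥(Subgroup.centralizer ({z} : Set G)))
    {t : G} (htz : t * z = z * t) (htR : t ∉ R) (htt : t * t = 1) {s : G} (hsz : s * z = z * s) :
    s ∈ R ∨ ∃ e ∈ R, s = e * t := by
  by_cases hs : s ∈ R
  · exact Or.inl hs
  · right
    have h1 := h.t_y hS htz htR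
    have h2 := h.t_y hS hsz hs
    have hszc : s * z * s⁻¹ = z := by rw [hsz]; group
    refine ⟨s * t, ?_, by rw [mul_assoc, htt, mul_one]⟩
    apply h.mem_of_comm_y hS
    · rw [mul_assoc, htz, ← mul_assoc, hsz, mul_assoc]
    · have h3 : (s * t) * (w * w) * (s * t)⁻¹ = w * w := by
        calc (s * t) * (w * w) * (s * t)⁻¹ = s * (t * (w * w) * t⁻¹) * s⁻¹ := by group
          _ = (s * (w * w) * s⁻¹) * (s * z * s⁻¹) := by rw [h1]; group
          _ = w * w := by rw [h2, hszc, mul_assoc, h.z_sq, mul_one]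
      rwa [mul_inv_eq_iff_eq_mul] at h3

/-- an element of `R` centralised by `t` is `1` or `z` -/
theorem fix_t (h : Cyc R z r w) (hS : Cfsg.IsOfSymplecticType ↥(Subgroup.centralizer ({z} : Set G)))
    {t : G} (htz : t * z = z * t) (htR : t ∉ R) {c : G} (hc : c ∈ R) (hct : t * c * t⁻¹ = c) :
    c = 1 ∨ c = z := by
  by_cases hcc : c * c = 1
  · exact h.inv c hc hcc
  · exfalso
    obtain ⟨k, hk⟩ := h.root c hc hcc
    have hf := pow_mem hc k
    have h1 : t * c ^ k * t⁻¹ = c ^ k := by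
      rw [← _root_.conj_pow, hct]
    have h2 := h.t_y hS htz htR
    have hz : t * z * t⁻¹ = z := by rw [htz]; group
    rcases h.eq_y hf hk with h3 | h3
    · rw [h3, h2] at h1
      exact h.y_ne h1
    · rw [h3] at h1
      have h4 : t * (w * w * z) * t⁻¹ = w * w := by
        calc t * (w * w * z) * t⁻¹ = (t * (w * w) * t⁻¹) * (t * z * t⁻¹) := by group
          _ = w * w := by rw [h2, hz, mul_assoc, h.z_sq, mul_one]
      rw [h4] at h1
      exact h.y_ne h1.symm

/-- `t e t⁻¹ = e⁻¹` or `e⁻¹ z` -/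
theorem inv_t (h : Cyc R z r w) (hS : Cfsg.IsOfSymplecticType ↥(Subgroup.centralizer ({z} : Set G)))
    {t : G} (htz : t * z = z * t) (htR : t ∉ R) (htt : t * t = 1) {e : G} (he : e ∈ R) :
    t * e * t⁻¹ = e⁻¹ ∨ t * e * t⁻¹ = e⁻¹ * z := by
  have hte : t * e * t⁻¹ ∈ R := h.norm t htz e he
  have hti : t⁻¹ = t := inv_eq_of_mul_eq_one_left htt
  have h1 : t * (t * e * t⁻¹ * e) * t⁻¹ = t * e * t⁻¹ * e := by
    have h2 : t * (t * e * t⁻¹) * t⁻¹ = e := by
      calc t * (t * e * t⁻¹) * t⁻¹ = (t * t) * e * (t * t)⁻¹ := by group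
        _ = e := by rw [htt]; group
    calc t * (t * e * t⁻¹ * e) * t⁻¹ = (t * (t * e * t⁻¹) * t⁻¹) * (t * e * t⁻¹) := by group
      _ = e * (t * e * t⁻¹) := by rw [h2]
      _ = t * e * t⁻¹ * e := h.comm he hte
  rcases h.fix_t hS htz htR (mul_mem hte he) h1 with h2 | h2
  · left; exact eq_inv_of_mul_eq_one_left h2
  · right
    calc t * e * t⁻¹ = (t * e * t⁻¹ * e) * e⁻¹ := by group
      _ = e⁻¹ * z := by rw [h2, h.commz (inv_mem he)]

/-- all elements `e² t` are `R`-conjugate to `t` -/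
theorem exists_conj (h : Cyc R z r w) (hS : Cfsg.IsOfSymplecticType ↥(Subgroup.centralizer ({z} : Set G)))
    {t : G} (htz : t * z = z * t) (htR : t ∉ R) (htt : t * t = 1) {e : G} (he : e ∈ R) :
    ∃ f, f * t * f⁻¹ = e * e * t := by
  have hti : t⁻¹ = t := inv_eq_of_mul_eq_one_left htt
  have hez := h.commz he
  rcases h.inv_t hS htz htR htt he with h1 | h1
  · refine ⟨e, ?_⟩
    calc e * t * e⁻¹ = e * (t * e * t⁻¹)⁻¹ * t := by group
      _ = e * e * t := by rw [h1, inv_inv]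
  · have h2 := h.t_y hS htz htR
    have h3 : (w * w) * t * (w * w)⁻¹ = z * t := by
      calc (w * w) * t * (w * w)⁻¹ = (w * w) * (t * (w * w) * t⁻¹)⁻¹ * t := by group
        _ = (w * w) * ((w * w) * z)⁻¹ * t := by rw [h2]
        _ = (w * w) * (z⁻¹ * (w * w)⁻¹) * t := by rw [mul_inv_rev]
        _ = (w * w) * ((w * w)⁻¹ * z⁻¹) * t := by rw [h.comm (inv_mem h.z_mem) (inv_mem h.y_mem)]
        _ = z⁻¹ * t := by group
        _ = z * t := by rw [h.z_inv]
    refine ⟨e * (w * w), ?_⟩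
    calc e * (w * w) * t * (e * (w * w))⁻¹ = e * ((w * w) * t * (w * w)⁻¹) * e⁻¹ := by group
      _ = (e * z) * (t * e⁻¹ * t⁻¹) * t := by rw [h3]; group
      _ = (e * z) * (t * e * t⁻¹)⁻¹ * t := by group
      _ = (e * z) * (e⁻¹ * z)⁻¹ * t := by rw [h1]
      _ = e * e * t := by group

/-- **Sylow**: a Sylow 2-subgroup containing `C(z)` is `C(z)`. -/
theorem sylow_eq [Finite G] (h : Cyc R z r w) (hRz : R ≤ Subgroup.centralizer ({z} : Set G))
    (P : Sylow 2 G) (hP : Subgroup.centralizer ({z} : Set G) ≤ P) :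
    (P : Subgroup G) = Subgroup.centralizer ({z} : Set G) := by
  have p2 : Fact (Nat.Prime 2) := ⟨Nat.prime_two⟩
  refine le_antisymm ?_ hP
  have hzP : z ∈ (P : Subgroup G) := hP (Subgroup.mem_centralizer_singleton_iff.2 rfl)
  have hnt : Nontrivial (P : Subgroup G) :=
    ⟨⟨⟨z, hzP⟩, 1, fun h1 => h.z_ne (congrArg Subtype.val h1)⟩⟩
  have hZnt : Nontrivial (Subgroup.center (P : Subgroup G)) := P.isPGroup'.center_nontrivial
  have hZ2 : IsPGroup 2 (Subgroup.center (P : Subgroup G)) := P.isPGroup'.to_subgroup _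
  have hdvd : 2 ∣ Nat.card (Subgroup.center (P : Subgroup G)) := by
    obtain ⟨n, hn⟩ := IsPGroup.iff_card.1 hZ2
    rw [hn]
    have hn0 : n ≠ 0 := by
      rintro rfl
      rw [pow_zero] at hn
      have := Finite.one_lt_card_iff_nontrivial.2 hZnt
      omega
    exact dvd_pow_self 2 hn0
  obtain ⟨c, hc⟩ := exists_prime_orderOf_dvd_card' 2 hdvd
  obtain ⟨c', hc'⟩ : ∃ c' : G, c' = ((c : (P : Subgroup G)) : G) := ⟨_, rfl⟩
  have hcc : ∀ x ∈ (P : Subgroup G), x * c' = c' * x := by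
    intro x hx
    have := (Subgroup.mem_center_iff.1 c.2) ⟨x, hx⟩
    rw [hc']
    exact congrArg Subtype.val this
  have hc2 : c' * c' = 1 := by
    have := pow_orderOf_eq_one c
    rw [hc, pow_two] at this
    rw [hc']
    exact congrArg (fun y : Subgroup.center (P : Subgroup G) => ((y : (P : Subgroup G)) : G)) this
  have hc1 : c' ≠ 1 := by
    intro h1
    have h3 : c = 1 := by
      apply Subtype.ext; apply Subtype.ext; rw [← hc']; exact h1
    rw [h3, orderOf_one] at hc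
    exact absurd hc (by decide)
  have hcz : c' * z = z * c' := (hcc z hzP).symm
  have hcR : c' ∈ R := h.self c' hcz (hcc r (hP (hRz h.r_mem))).symm
  have hcz' : c' = z := (h.inv c' hcR hc2).resolve_left hc1
  intro x hx
  rw [Subgroup.mem_centralizer_singleton_iff, ← hcz']
  exact hcc x hx

end Cyc

/-- the fixed subgroup of the Thompson transfer argument -/
theorem one_class [Finite G] [IsSimpleGroup G] {R : Subgroup G} {z r w : G} (h : Cyc R z r w)
    (hS : Cfsg.IsOfSymplecticType ↥(Subgroup.centralizer ({z} : Set G)))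
    (hG : ∀ H : Subgroup G, H.index ≠ 2) (P : Sylow 2 G)
    (hP : (P : Subgroup G) = Subgroup.centralizer ({z} : Set G)) {t g₀ : G} (htz : t * z = z * t) (htne : t ≠ z)
    (hg₀ : g₀ * z * g₀⁻¹ = t) {s : G} (hs : s * s = 1) (hs1 : s ≠ 1) (hsz : s * z = z * s) :
    ∃ g, g * z * g⁻¹ = s := by
  have htt : t * t = 1 := by
    rw [← hg₀]
    calc g₀ * z * g₀⁻¹ * (g₀ * z * g₀⁻¹) = g₀ * (z * z) * g₀⁻¹ := by group
      _ = 1 := by rw [h.z_sq]; group
  have ht1 : t ≠ 1 := by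
    intro h1
    apply h.z_ne
    rw [h1] at hg₀
    calc z = g₀⁻¹ * (g₀ * z * g₀⁻¹) * g₀ := by group
      _ = 1 := by rw [hg₀]; group
  have htR : t ∉ R := by
    intro h1
    rcases h.inv t h1 htt with h2 | h2
    · exact ht1 h2
    · exact htne h2
  have hti : t⁻¹ = t := inv_eq_of_mul_eq_one_left htt
  have hPz : ∀ x, x ∈ P ↔ x * z = z * x := by
    intro x
    have : x ∈ (P : Subgroup G) ↔ x * z = z * x := by
      rw [hP, Subgroup.mem_centralizer_singleton_iff]
    exact this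
  -- conjugation of squares by `t`
  have htsq : ∀ e ∈ R, ∃ f ∈ R, t * (e * e) * t⁻¹ = f * f := by
    intro e he
    exact ⟨t * e * t⁻¹, h.norm t htz e he, by group⟩
  have hRc : ∀ e ∈ R, ∀ f ∈ R, e * e * (f * f) = (e * f) * (e * f) := by
    intro e he f hf
    calc e * e * (f * f) = e * (e * f) * f := by group
      _ = e * (f * e) * f := by rw [h.comm he hf]
      _ = (e * f) * (e * f) := by group
  let M : Subgroup G :=
    { carrier := {x | (∃ e ∈ R, x = e * e) ∨ ∃ e ∈ R, x = e * e * t}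
      one_mem' := Or.inl ⟨1, one_mem _, by simp⟩
      mul_mem' := by
        rintro x y (⟨e, he, rfl⟩ | ⟨e, he, rfl⟩) (⟨f, hf, rfl⟩ | ⟨f, hf, rfl⟩)
        · exact Or.inl ⟨e * f, mul_mem he hf, hRc e he f hf⟩
        · right
          refine ⟨e * f, mul_mem he hf, ?_⟩
          rw [← mul_assoc, hRc e he f hf]
        · obtain ⟨k, hk, hfk⟩ := htsq f hf
          right
          refine ⟨e * k, mul_mem he hk, ?_⟩
          rw [← hRc e he k hk, ← hfk]; group
        · obtain ⟨k, hk, hfk⟩ := htsq f hf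
          left
          refine ⟨e * k, mul_mem he hk, ?_⟩
          rw [← hRc e he k hk, ← hfk]
          calc e * e * t * (f * f * t) = e * e * (t * (f * f) * t⁻¹) * (t * t) := by group
            _ = _ := by rw [htt, mul_one]
      inv_mem' := by
        rintro x (⟨e, he, rfl⟩ | ⟨e, he, rfl⟩)
        · exact Or.inl ⟨e⁻¹, inv_mem he, by group⟩
        · obtain ⟨k, hk, hek⟩ := htsq e⁻¹ (inv_mem he)
          right
          refine ⟨k, hk, ?_⟩
          rw [← hek]
          calc (e * e * t)⁻¹ = t⁻¹ * (e⁻¹ * e⁻¹) := by group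
            _ = t * (e⁻¹ * e⁻¹) * (t * t) := by rw [hti, htt, mul_one]
            _ = t * (e⁻¹ * e⁻¹) * t⁻¹ * t := by rw [hti]; group }
  have hM : ∀ x, x ∈ M ↔ (∃ e ∈ R, x = e * e) ∨ ∃ e ∈ R, x = e * e * t := fun x => Iff.rfl
  -- products of non-squares
  have hnsq : ∀ e ∈ R, (¬ ∃ f ∈ R, e = f * f) → ∃ k : ℤ, e = r ^ (2 * k + 1) := by
    intro e he hne
    obtain ⟨k, hk⟩ := h.gen e he
    rcases Int.even_or_odd k with ⟨m, hm⟩ | ⟨m, hm⟩
    · exfalso
      apply hne
      refine ⟨r ^ m, zpow_mem h.r_mem m, ?_⟩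
      rw [hk, hm, zpow_add]
    · exact ⟨m, by rw [hk, hm]⟩
  have hprod : ∀ e ∈ R, ∀ f ∈ R, (¬ ∃ k ∈ R, e = k * k) → (¬ ∃ k ∈ R, f = k * k) → ∃ k ∈ R, e * f = k * k := by
    intro e he f hf h1 h2
    obtain ⟨k, rfl⟩ := hnsq e he h1
    obtain ⟨l, rfl⟩ := hnsq f hf h2
    refine ⟨r ^ (k + l + 1), zpow_mem h.r_mem _, ?_⟩
    rw [← zpow_add, ← zpow_add]
    congr 1; ring
  have htns : ∀ e ∈ R, (¬ ∃ k ∈ R, e = k * k) → ¬ ∃ k ∈ R, t * e * t⁻¹ = k * k := by
    rintro e he h1 ⟨k, hk, hek⟩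
    apply h1
    refine ⟨t⁻¹ * k * t, ?_, ?_⟩
    · have h2 := h.norm t⁻¹ ((show Commute t z from htz).inv_left.eq) k hk
      rwa [inv_inv] at h2
    · calc e = t⁻¹ * (t * e * t⁻¹) * t := by group
        _ = t⁻¹ * k * t * (t⁻¹ * k * t) := by rw [hek]; group
  have hMM : ∀ x ∈ P, x ∉ M → ∀ y ∈ P, y ∉ M → x * y ∈ M := by
    intro x hx hxM y hy hyM
    rw [hM] at hxM hyM
    push Not at hxM hyM
    rw [hM]
    rcases h.mem_or hS htz htR htt ((hPz x).1 hx) with hxR | ⟨e, he, rfl⟩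
    · rcases h.mem_or hS htz htR htt ((hPz y).1 hy) with hyR | ⟨f, hf, rfl⟩
      · left
        exact hprod x hxR y hyR (fun ⟨k, hk, hk'⟩ => hxM.1 k hk hk') (fun ⟨k, hk, hk'⟩ => hyM.1 k hk hk')
      · right
        obtain ⟨k, hk, hk'⟩ := hprod x hxR f hf (fun ⟨k, hk, hk'⟩ => hxM.1 k hk hk')
          (fun ⟨k, hk, hk'⟩ => hyM.2 k hk (by rw [hk']))
        exact ⟨k, hk, by rw [← hk', mul_assoc]⟩
    · have hens : ¬ ∃ k ∈ R, e = k * k := fun ⟨k, hk, hk'⟩ => hxM.2 k hk (by rw [hk'])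
      rcases h.mem_or hS htz htR htt ((hPz y).1 hy) with hyR | ⟨f, hf, rfl⟩
      · right
        have hyns : ¬ ∃ k ∈ R, y = k * k := fun ⟨k, hk, hk'⟩ => hyM.1 k hk hk'
        obtain ⟨k, hk, hk'⟩ := hprod e he _ (h.norm t htz y hyR) hens (htns y hyR hyns)
        refine ⟨k, hk, ?_⟩
        rw [← hk']; group
      · left
        have hfns : ¬ ∃ k ∈ R, f = k * k := fun ⟨k, hk, hk'⟩ => hyM.2 k hk (by rw [hk'])
        obtain ⟨k, hk, hk'⟩ := hprod e he _ (h.norm t htz f hf) hens (htns f hf hfns)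
        refine ⟨k, hk, ?_⟩
        rw [← hk']
        calc e * t * (f * t) = e * (t * f * t⁻¹) * (t * t) := by group
          _ = e * (t * f * t⁻¹) := by rw [htt, mul_one]
  obtain ⟨g, -, hgM⟩ := Cfsg.Agent.ONType.FusionB1.exists_conj_mem hG P M hMM s ((hPz s).2 hsz) hs
  have hgg : (g⁻¹ * s * g) * (g⁻¹ * s * g) = 1 := by
    calc (g⁻¹ * s * g) * (g⁻¹ * s * g) = g⁻¹ * (s * s) * g := by group
      _ = 1 := by rw [hs]; group
  have hg1 : g⁻¹ * s * g ≠ 1 := by
    intro h1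
    apply hs1
    calc s = g * (g⁻¹ * s * g) * g⁻¹ := by group
      _ = 1 := by rw [h1]; group
  rcases (hM _).1 hgM with ⟨e, he, h1⟩ | ⟨e, he, h1⟩
  · have h2 : g⁻¹ * s * g = z := by
      refine (h.inv _ ?_ hgg).resolve_left hg1
      rw [h1]; exact mul_mem he he
    refine ⟨g, ?_⟩
    rw [← h2]; group
  · obtain ⟨f, hf⟩ := h.exists_conj hS htz htR htt he
    refine ⟨g * f * g₀, ?_⟩
    calc g * f * g₀ * z * (g * f * g₀)⁻¹ = g * (f * (g₀ * z * g₀⁻¹) * f⁻¹) * g⁻¹ := by group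
      _ = g * (g⁻¹ * s * g) * g⁻¹ := by rw [hg₀, hf, h1]
      _ = s := by group

/-- **The case `w = 0` of S1758.** -/
theorem w0_end {G : Type*} [Group G] [Finite G] [IsSimpleGroup G] (hG : ¬ IsMulCommutative G) (z : G)
    (hz : orderOf z = 2) (R : Subgroup G) (hRc : IsCyclic R) (hzR : z ∈ R) (hR8 : 8 ≤ Nat.card R)
    (hR2 : IsPGroup 2 R) (hRn : ∀ g, g * z = z * g → ∀ x ∈ R, g * x * g⁻¹ ∈ R)
    (hRself : ∀ g, g * z = z * g → (∀ x ∈ R, g * x = x * g) → g ∈ R)
    (hS : Cfsg.IsOfSymplecticType ↥(Subgroup.centralizer ({z} : Set G))) :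
    ∃ (F : Type) (_ : Field F) (_ : Fintype F),
      ((∃ n : ℕ, Fintype.card F = 2 ^ n + 1) ∨ (∃ n : ℕ, Fintype.card F + 1 = 2 ^ n)) ∧
        Nonempty (G ≃* Matrix.ProjectiveSpecialLinearGroup (Fin 2) F) := by
  classical
  have p2 : Fact (Nat.Prime 2) := ⟨Nat.prime_two⟩
  obtain ⟨r, w, h⟩ := exists_cyc z hz R hRc hzR hR8 hR2 hRn hRself
  have hRz : R ≤ Subgroup.centralizer ({z} : Set G) := fun x hx =>
    Subgroup.mem_centralizer_singleton_iff.2 (h.commz hx)
  -- a noncentral element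
  have hnc : ∃ g : G, g * z ≠ z * g := by
    by_contra hcon
    push Not at hcon
    have hzc : z ∈ Subgroup.center G := Subgroup.mem_center_iff.2 hcon
    rcases Subgroup.Normal.eq_bot_or_eq_top (H := Subgroup.center G) inferInstance with h1 | h1
    · rw [h1, Subgroup.mem_bot] at hzc; exact h.z_ne hzc
    · apply hG
      refine ⟨⟨fun a b => ?_⟩⟩
      have : b ∈ Subgroup.center G := by rw [h1]; exact Subgroup.mem_top _
      exact (Subgroup.mem_center_iff.1 this a)
  obtain ⟨g₁, hg₁⟩ := hnc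
  have hidx := fun H : Subgroup G => Cfsg.Agent.ONType.FusionB1.index_ne_two hg₁ H
  obtain ⟨P, hP⟩ := hS.1.exists_le_sylow
  have hPe := h.sylow_eq hRz P hP
  have hzP : z ∈ P := by
    have : z ∈ (P : Subgroup G) := hP (Subgroup.mem_centralizer_singleton_iff.2 rfl)
    exact this
  obtain ⟨g₀, hg₀P, hg₀⟩ := Cfsg.Agent.ONType.FusionB1.exists_fused P h.z_sq h.z_ne hzP ⟨g₁, hg₁⟩
  obtain ⟨t, ht⟩ : ∃ t, t = g₀ * z * g₀⁻¹ := ⟨_, rfl⟩
  rw [← ht] at hg₀P hg₀
  have htz : t * z = z * t := by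
    have h1 : t ∈ (P : Subgroup G) := hg₀P
    rw [hPe, Subgroup.mem_centralizer_singleton_iff] at h1
    exact h1
  have htt : t * t = 1 := by
    rw [ht]
    calc g₀ * z * g₀⁻¹ * (g₀ * z * g₀⁻¹) = g₀ * (z * z) * g₀⁻¹ := by group
      _ = 1 := by rw [h.z_sq]; group
  have ht1 : t ≠ 1 := by
    intro h1
    apply h.z_ne
    calc z = g₀⁻¹ * (g₀ * z * g₀⁻¹) * g₀ := by group
      _ = 1 := by rw [← ht, h1]; group
  have htR : t ∉ R := by
    intro h1
    rcases h.inv t h1 htt with h2 | h2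
    · exact ht1 h2
    · exact hg₀ h2
  -- all involutions are conjugate to `z`
  have hone : ∀ s : G, orderOf s = 2 → ∃ g, g * z * g⁻¹ = s := by
    intro s hs
    have hss : s * s = 1 := by rw [← pow_two, ← hs]; exact pow_orderOf_eq_one s
    have hs1 : s ≠ 1 := by rintro rfl; rw [orderOf_one] at hs; norm_num at hs
    have hpg : IsPGroup 2 (Subgroup.zpowers s) := by
      rintro ⟨_, n, rfl⟩
      refine ⟨1, Subtype.ext ?_⟩
      show (s ^ n) ^ (2 ^ 1) = 1
      rw [pow_one, ← zpow_natCast, ← zpow_mul, mul_comm, zpow_mul, zpow_natCast, pow_two, hss, one_zpow]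
    obtain ⟨T, hT⟩ := hpg.exists_le_sylow
    obtain ⟨k, hk⟩ := MulAction.exists_smul_eq G P T
    have hsT : s ∈ (T : Subgroup G) := hT (Subgroup.mem_zpowers s)
    rw [← hk] at hsT
    obtain ⟨x, hx, hxs⟩ := hsT
    have hxs' : k * x * k⁻¹ = s := hxs
    have hxP : x ∈ (P : Subgroup G) := hx
    have hxz : x * z = z * x := by
      rw [hPe, Subgroup.mem_centralizer_singleton_iff] at hxP
      exact hxP
    have hxk : x = k⁻¹ * s * k := by rw [← hxs']; group
    have hxx : x * x = 1 := by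
      rw [hxk]
      calc k⁻¹ * s * k * (k⁻¹ * s * k) = k⁻¹ * (s * s) * k := by group
        _ = 1 := by rw [hss]; group
    have hx1 : x ≠ 1 := by
      intro h1
      apply hs1
      rw [← hxs', h1]; group
    obtain ⟨g, hg⟩ := one_class h hS hidx P hPe htz hg₀ ht.symm hxx hx1 hxz
    refine ⟨k * g, ?_⟩
    calc k * g * z * (k * g)⁻¹ = k * (g * z * g⁻¹) * k⁻¹ := by group
      _ = s := by rw [hg, hxs']
  -- `G` is a CIT group
  have hCIT : ∀ s : G, orderOf s = 2 → IsPGroup 2 (Subgroup.centralizer ({s} : Set G)) := by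
    intro s hs
    obtain ⟨g, hg⟩ := hone s hs
    rintro ⟨x, hx⟩
    have hxs : x * s = s * x := Subgroup.mem_centralizer_singleton_iff.1 hx
    have h1 : (g⁻¹ * x * g) * z = z * (g⁻¹ * x * g) := by
      calc (g⁻¹ * x * g) * z = g⁻¹ * (x * (g * z * g⁻¹)) * g := by group
        _ = g⁻¹ * ((g * z * g⁻¹) * x) * g := by rw [hg, hxs]
        _ = z * (g⁻¹ * x * g) := by group
    obtain ⟨m, hm⟩ := hS.1 ⟨_, Subgroup.mem_centralizer_singleton_iff.2 h1⟩
    refine ⟨m, Subtype.ext ?_⟩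
    have h2 : (g⁻¹ * x * g) ^ 2 ^ m = 1 := congrArg Subtype.val hm
    have h3 : (g⁻¹ * x * g) ^ 2 ^ m = g⁻¹ * x ^ 2 ^ m * g := by
      have := _root_.conj_pow (i := 2 ^ m) (a := g⁻¹) (b := x)
      rwa [inv_inv] at this
    rw [h3] at h2
    show x ^ 2 ^ m = 1
    calc x ^ 2 ^ m = g * (g⁻¹ * x ^ 2 ^ m * g) * g⁻¹ := by group
      _ = 1 := by rw [h2]; group
  -- the four-group
  have hctz : Commute t z := htz
  let V : Subgroup G :=
    { carrier := {x | x = 1 ∨ x = z ∨ x = t ∨ x = t * z}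
      one_mem' := Or.inl rfl
      mul_mem' := by
        have e1 : z * t = t * z := htz.symm
        have e2 : z * (t * z) = t := by rw [← mul_assoc, e1, mul_assoc, h.z_sq, mul_one]
        have e3 : t * (t * z) = z := by rw [← mul_assoc, htt, one_mul]
        have e4 : t * z * z = t := by rw [mul_assoc, h.z_sq, mul_one]
        have e5 : t * z * t = z := by rw [htz, mul_assoc, htt, mul_one]
        have e6 : t * z * (t * z) = 1 := by rw [← mul_assoc, e5, h.z_sq]
        rintro x y (rfl | rfl | rfl | rfl) (rfl | rfl | rfl | rfl) <;>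
          simp [h.z_sq, htt, e1, e2, e3, e4, e5, e6]
      inv_mem' := by
        rintro x (rfl | rfl | rfl | rfl)
        · left; exact inv_one
        · right; left; exact h.z_inv
        · right; right; left; exact inv_eq_of_mul_eq_one_left htt
        · right; right; right
          apply inv_eq_of_mul_eq_one_left
          rw [← mul_assoc, htz, mul_assoc z, htt, mul_one, h.z_sq] }
  have hV : ∀ x, x ∈ V ↔ x = 1 ∨ x = z ∨ x = t ∨ x = t * z := fun x => Iff.rfl
  have hV2 : ∀ v ∈ V, v * v = 1 := by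
    intro v hv
    rcases (hV v).1 hv with rfl | rfl | rfl | rfl
    · exact one_mul 1
    · exact h.z_sq
    · exact htt
    · rw [← mul_assoc, htz, mul_assoc z, htt, mul_one, h.z_sq]
  have hV4 : Nat.card V = 4 := by
    have h1 : (V : Set G) = ({1, z, t, t * z} : Finset G) := by
      ext x
      rw [SetLike.mem_coe, hV]
      simp
    have h2 : Nat.card V = (V : Set G).ncard := rfl
    rw [h2, h1, Set.ncard_coe_finset, Finset.card_insert_of_notMem, Finset.card_insert_of_notMem,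
      Finset.card_insert_of_notMem, Finset.card_singleton]
    · rw [Finset.mem_singleton]
      intro h3; exact h.z_ne (mul_eq_left.1 h3.symm)
    · simp only [Finset.mem_insert, Finset.mem_singleton, not_or]
      exact ⟨fun h3 => hg₀ h3.symm, fun h3 => ht1 (mul_eq_right.1 h3.symm)⟩
    · simp only [Finset.mem_insert, Finset.mem_singleton, not_or]
      refine ⟨fun h3 => h.z_ne h3.symm, fun h3 => ht1 h3.symm, fun h3 => ?_⟩
      apply hg₀
      calc t = t⁻¹⁻¹ := (inv_inv t).symm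
        _ = z⁻¹⁻¹ := by
          have : t⁻¹ = z := by rw [inv_eq_iff_mul_eq_one, ← h3]
          rw [this, h.z_inv, h.z_inv]
        _ = z := inv_inv z
  have hCV : Subgroup.centralizer (V : Set G) = V := by
    apply le_antisymm
    · intro x hx
      rw [Subgroup.mem_centralizer_iff] at hx
      have hxz : x * z = z * x := (hx z (Or.inr (Or.inl rfl))).symm
      have hxt : x * t = t * x := (hx t (Or.inr (Or.inr (Or.inl rfl)))).symm
      rcases h.mem_or hS htz htR htt hxz with h1 | ⟨e, he, rfl⟩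
      · rcases h.fix_t hS htz htR h1 (by rw [← hxt]; group) with h2 | h2
        · exact Or.inl h2
        · exact Or.inr (Or.inl h2)
      · have h3 : t * e * t⁻¹ = e := by
          have h4 : e * t * t = t * (e * t) := hxt
          have h5 : e = t * e * t := by
            calc e = e * t * t := by rw [mul_assoc, htt, mul_one]
              _ = t * e * t := by rw [h4, mul_assoc]
          have hti : t⁻¹ = t := inv_eq_of_mul_eq_one_left htt
          rw [hti]; exact h5.symm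
        rcases h.fix_t hS htz htR he h3 with h2 | h2
        · right; right; left; rw [h2, one_mul]
        · right; right; right; rw [h2, htz]
    · intro x hx
      rw [Subgroup.mem_centralizer_iff]
      intro y hy
      have h1 := hV2 x hx
      have h2 := hV2 y hy
      have h3 := hV2 (y * x) (mul_mem hy hx)
      calc y * x = (y * x)⁻¹ := eq_inv_of_mul_eq_one_left h3
        _ = x⁻¹ * y⁻¹ := mul_inv_rev _ _
        _ = x * y := by rw [inv_eq_of_mul_eq_one_left h1, inv_eq_of_mul_eq_one_left h2]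
  obtain ⟨F, i1, i2, hodd, ⟨e⟩⟩ := Cfsg.Agent.LieExceptional.CITDihedralPsl.psl hCIT V hV4 hV2 hCV
  refine ⟨F, i1, i2, ?_, ⟨e⟩⟩
  rcases Cfsg.Agent.LieExceptional.CITPsl.psl2_card (F := F)
    (Cfsg.Agent.LieExceptional.CITMain.IsCIT.of_mulEquiv e hCIT) with h1 | ⟨n, h1⟩ | ⟨-, k, h1 | h1⟩
  · left; exact ⟨3, by rw [h1]; norm_num⟩
  · exfalso
    rcases Nat.eq_zero_or_pos n with rfl | hn
    · rw [pow_zero] at h1
      have := Fintype.one_lt_card (α := F)
      omega
    · rw [h1] at hodd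
      have : Even (2 ^ n) := (Nat.even_pow.2 ⟨even_two, by omega⟩)
      exact (Nat.not_even_iff_odd.2 hodd) this
  · left; exact ⟨k, h1⟩
  · right; exact ⟨k, h1⟩

end Cfsg.Agent.ClassificationK.SymplDih
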