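import Mathlib

/-!
# Duality in groups with `[x, y] ∈ {1, ζ}` (S1758, helper577)

`exists_comm_iff`: in a finite group `K` with commutators in `{1, ζ}`, `ζ` a central involution, every homomorphism
`φ : K → ZMod 2` trivial on the centre is commutation with some element `k`: `φ x = 0 ↔ k * x = x * k`.
-/

set_option autoImplicit false

namespace Cfsg.Agent.ClassificationK.SymplDual

variable {K : Type*} [Group K]

theorem z01 : ∀ a : ZMod 2, a = 0 ∨ a = 1 := by decide

theorem z11 : (1 : ZMod 2) + 1 = 0 := by decide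

theorem exists_comm_iff [Finite K] {ζ : K} (hζ1 : ζ ≠ 1) (hζζ : ζ * ζ = 1) (hζc : ∀ x, x * ζ = ζ * x)
    (hcomm : ∀ x y : K, x * y = y * x ∨ x * y = y * x * ζ) (φ : K → ZMod 2)
    (hφ : ∀ x y, φ (x * y) = φ x + φ y) (hφc : ∀ x ∈ Subgroup.center K, φ x = 0) :
    ∃ k : K, ∀ x, φ x = 0 ↔ k * x = x * k := by
  classical
  have : Fact (Nat.Prime 2) := ⟨Nat.prime_two⟩
  have hne : ∀ g : K, g ≠ g * ζ := fun g h => hζ1 (mul_eq_left.1 h.symm)
  -- the pairing
  let β : K → K → ZMod 2 := fun x y => if x * y = y * x then 0 else 1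
  have β0 : ∀ x y, β x y = 0 ↔ x * y = y * x := by
    intro x y
    show (if x * y = y * x then (0 : ZMod 2) else 1) = 0 ↔ _
    split_ifs with h
    · exact ⟨fun _ => h, fun _ => rfl⟩
    · exact ⟨fun h1 => absurd h1 one_ne_zero, fun h1 => absurd h1 h⟩
  have β1 : ∀ x y, β x y = 1 ↔ x * y = y * x * ζ := by
    intro x y
    constructor
    · intro h1
      rcases hcomm x y with h2 | h2
      · rw [(β0 x y).2 h2] at h1; exact absurd h1 zero_ne_one
      · exact h2
    · intro h1
      rcases z01 (β x y) with h2 | h2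
      · rw [β0] at h2; rw [h2] at h1; exact absurd h1 (hne _)
      · exact h2
  have βsymm : ∀ x y, β x y = β y x := by
    intro x y
    rcases z01 (β x y) with h | h
    · rw [h]; rw [β0] at h; exact ((β0 y x).2 h.symm).symm
    · rcases z01 (β y x) with h' | h'
      · rw [β0] at h'; rw [(β0 x y).2 h'.symm] at h; exact absurd h zero_ne_one
      · rw [h, h']
  have βmul : ∀ x x' y, β (x * x') y = β x y + β x' y := by
    intro x x' y
    rcases hcomm x y with h1 | h1 <;> rcases hcomm x' y with h2 | h2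
    · rw [(β0 x y).2 h1, (β0 x' y).2 h2, (β0 _ y).2]; · rfl
      rw [mul_assoc, h2, ← mul_assoc, h1, mul_assoc]
    · rw [(β0 x y).2 h1, (β1 x' y).2 h2, (β1 _ y).2]; · rw [zero_add]
      rw [mul_assoc, h2, ← mul_assoc, ← mul_assoc, h1, ← mul_assoc]
    · rw [(β1 x y).2 h1, (β0 x' y).2 h2, (β1 _ y).2]; · rw [add_zero]
      rw [mul_assoc, h2, ← mul_assoc, h1, mul_assoc (y * x) ζ, ← hζc]
      simp only [mul_assoc]
    · rw [(β1 x y).2 h1, (β1 x' y).2 h2, (β0 _ y).2]; · exact z11.symm
      rw [mul_assoc, h2]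
      calc x * (y * x' * ζ) = (x * y) * x' * ζ := by group
        _ = y * x * (ζ * x') * ζ := by rw [h1]; group
        _ = y * x * x' * (ζ * ζ) := by rw [← hζc]; group
        _ = y * (x * x') := by rw [hζζ]; group
  have βcen : ∀ x x' y, x⁻¹ * x' ∈ Subgroup.center K → β x y = β x' y := by
    intro x x' y h
    have h1 : x' = x * (x⁻¹ * x') := by group
    rw [h1, βmul, (β0 (x⁻¹ * x') y).2 ((Subgroup.mem_center_iff.1 h y).symm), add_zero]
  -- the space
  let A := K ⧸ Subgroup.center K
  have hsq : ∀ x : K, x * x ∈ Subgroup.center K := by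
    intro x
    rw [Subgroup.mem_center_iff]
    intro y
    rw [eq_comm, ← β0, βmul]
    rcases z01 (β x y) with h | h <;> rw [h]
    · rfl
    · exact z11
  have hcc : ∀ x y : K, (x * y)⁻¹ * (y * x) ∈ Subgroup.center K := by
    intro x y
    rcases hcomm y x with h | h
    · rw [h, inv_mul_cancel]; exact Subgroup.one_mem _
    · rw [h, ← mul_assoc, inv_mul_cancel, one_mul, Subgroup.mem_center_iff]
      exact hζc
  let inst1 : AddCommGroup (Additive A) :=
    { (inferInstance : AddGroup (Additive A)) with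
      add_comm := by
        intro a b
        obtain ⟨x, hx⟩ := QuotientGroup.mk_surjective (Additive.toMul a)
        obtain ⟨y, hy⟩ := QuotientGroup.mk_surjective (Additive.toMul b)
        have ha : a = Additive.ofMul (x : A) := by rw [hx]; rfl
        have hb : b = Additive.ofMul (y : A) := by rw [hy]; rfl
        rw [ha, hb]
        exact congrArg Additive.ofMul (QuotientGroup.eq.2 (hcc x y)) }
  let pr : K → Additive A := fun x => Additive.ofMul (x : A)
  have prmul : ∀ x y, pr (x * y) = pr x + pr y := fun x y => rfl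
  have prsurj : ∀ v, ∃ x, pr x = v := by
    intro v
    obtain ⟨x, hx⟩ := QuotientGroup.mk_surjective (Additive.toMul v)
    exact ⟨x, by show Additive.ofMul (x : A) = v; rw [hx]; rfl⟩
  have prself : ∀ v : Additive A, v + v = 0 := by
    intro v
    obtain ⟨x, rfl⟩ := prsurj v
    rw [← prmul]
    show Additive.ofMul ((x * x : K) : A) = Additive.ofMul 1
    rw [(QuotientGroup.eq_one_iff (x * x)).2 (hsq x)]
  let inst2 : Module (ZMod 2) (Additive A) :=
    AddCommGroup.zmodModule (n := 2) (by intro x; rw [two_nsmul]; exact prself x)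
  choose s hs using prsurj
  have hsc : ∀ x, (s (pr x))⁻¹ * x ∈ Subgroup.center K := by
    intro x
    have h1 : (Additive.ofMul ((s (pr x) : K) : A)) = Additive.ofMul (x : A) := hs (pr x)
    exact QuotientGroup.eq.1 (Additive.ofMul.injective h1)
  have βs : ∀ x y, β (s (pr x)) (s (pr y)) = β x y := by
    intro x y
    rw [βcen _ x _ (hsc x), βsymm, βcen _ y _ (hsc y), βsymm]
  let b : Additive A →ₗ[ZMod 2] (Additive A →ₗ[ZMod 2] ZMod 2) :=
    AddMonoidHom.toZModLinearMap 2
      { toFun := fun v => AddMonoidHom.toZModLinearMap 2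
          { toFun := fun w => β (s v) (s w)
            map_zero' := by
              have h1 : (0 : Additive A) = pr 1 := rfl
              obtain ⟨x, rfl⟩ := (⟨s v, hs v⟩ : ∃ x, pr x = v)
              rw [h1, βs, β0, mul_one, one_mul]
            map_add' := by
              intro w w'
              obtain ⟨x, rfl⟩ := (⟨s v, hs v⟩ : ∃ x, pr x = v)
              obtain ⟨y, rfl⟩ := (⟨s w, hs w⟩ : ∃ x, pr x = w)
              obtain ⟨y', rfl⟩ := (⟨s w', hs w'⟩ : ∃ x, pr x = w')
              rw [← prmul, βs, βs, βs, βsymm, βmul, βsymm, βsymm y'] }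
        map_zero' := by
          ext w
          show β (s 0) (s w) = 0
          have h1 : (0 : Additive A) = pr 1 := rfl
          obtain ⟨x, rfl⟩ := (⟨s w, hs w⟩ : ∃ x, pr x = w)
          rw [h1, βs, β0, mul_one, one_mul]
        map_add' := by
          intro v v'
          ext w
          show β (s (v + v')) (s w) = β (s v) (s w) + β (s v') (s w)
          obtain ⟨x, rfl⟩ := (⟨s v, hs v⟩ : ∃ x, pr x = v)
          obtain ⟨x', rfl⟩ := (⟨s v', hs v'⟩ : ∃ x, pr x = v')
          obtain ⟨y, rfl⟩ := (⟨s w, hs w⟩ : ∃ x, pr x = w)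
          rw [← prmul, βs, βs, βs, βmul] }
  have hb : ∀ x y, b (pr x) (pr y) = β x y := fun x y => βs x y
  have hfin : Finite (Additive A) := inferInstanceAs (Finite (K ⧸ Subgroup.center K))
  have hMF : Module.Finite (ZMod 2) (Additive A) := Module.Finite.of_finite
  have hinj : Function.Injective b := by
    rw [← LinearMap.ker_eq_bot, LinearMap.ker_eq_bot']
    intro v hv
    obtain ⟨x, rfl⟩ := (⟨s v, hs v⟩ : ∃ x, pr x = v)
    show Additive.ofMul (x : A) = Additive.ofMul 1
    rw [(QuotientGroup.eq_one_iff x).2]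
    rw [Subgroup.mem_center_iff]
    intro y
    rw [eq_comm, ← β0, ← hb, hv]
    rfl
  have hsurj : Function.Surjective b :=
    (LinearMap.injective_iff_surjective_of_finrank_eq_finrank
      (Subspace.dual_finrank_eq (K := ZMod 2) (V := Additive A)).symm).1 hinj
  have hφcong : ∀ x y : K, x⁻¹ * y ∈ Subgroup.center K → φ x = φ y := by
    intro x y h
    have h1 : y = x * (x⁻¹ * y) := by group
    rw [h1, hφ, hφc _ h, add_zero]
  let f : Additive A →ₗ[ZMod 2] ZMod 2 := AddMonoidHom.toZModLinearMap 2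
    { toFun := fun v => φ (s v)
      map_zero' := by
        have h1 : (0 : Additive A) = pr 1 := rfl
        rw [h1, hφcong _ _ (hsc 1)]
        exact hφc 1 (Subgroup.one_mem _)
      map_add' := by
        intro v w
        obtain ⟨x, rfl⟩ := (⟨s v, hs v⟩ : ∃ x, pr x = v)
        obtain ⟨y, rfl⟩ := (⟨s w, hs w⟩ : ∃ x, pr x = w)
        rw [← prmul, hφcong _ _ (hsc (x * y)), hφcong _ _ (hsc x), hφcong _ _ (hsc y), hφ] }
  obtain ⟨v, hv⟩ := hsurj f
  obtain ⟨k, rfl⟩ := (⟨s v, hs v⟩ : ∃ x, pr x = v)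
  refine ⟨k, fun x => ?_⟩
  have h1 : b (pr k) (pr x) = f (pr x) := by rw [hv]
  have h2 : f (pr x) = φ x := hφcong _ _ (hsc x)
  rw [hb, h2] at h1
  rw [← h1, β0]

end Cfsg.Agent.ClassificationK.SymplDual
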