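import Cfsg.Agent.ClassificationK.SymplBig

/-!
# `|R| ≥ 8`, `K ≠ R` is impossible (S1758, helper577)

`Big.false_of_eight`: `G` finite simple non-abelian, `Big Q K R z`, `8 ≤ |R|`, `K ≠ R` → `False`.
-/

set_option autoImplicit false

namespace Cfsg.Agent.ClassificationK.SymplFront

open Subgroup SymplStructure SymplSetup

variable {G : Type*} [Group G]

namespace Big

variable {Q K R : Subgroup G} {z : G}

theorem conj (h : Big Q K R z) (g : G) :
    Big (Q.map (MulAut.conj g).toMonoidHom) (K.map (MulAut.conj g).toMonoidHom)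
      (R.map (MulAut.conj g).toMonoidHom) (g * z * g⁻¹) := by
  have hcz : ∀ x, x * (g * z * g⁻¹) = (g * z * g⁻¹) * x ↔ (g⁻¹ * x * g) * z = z * (g⁻¹ * x * g) := by
    intro x
    constructor
    · intro hx
      calc (g⁻¹ * x * g) * z = g⁻¹ * (x * (g * z * g⁻¹)) * g := by group
        _ = z * (g⁻¹ * x * g) := by rw [hx]; group
    · intro hx
      calc x * (g * z * g⁻¹) = g * ((g⁻¹ * x * g) * z) * g⁻¹ := by group
        _ = (g * z * g⁻¹) * x := by rw [hx]; group
  have hn : ∀ {B : Subgroup G}, (∀ c, c * z = z * c → ∀ x ∈ B, c * x * c⁻¹ ∈ B) →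
      ∀ c, c * (g * z * g⁻¹) = (g * z * g⁻¹) * c → ∀ x ∈ B.map (MulAut.conj g).toMonoidHom,
        c * x * c⁻¹ ∈ B.map (MulAut.conj g).toMonoidHom := by
    intro B hB c hc x hx
    rw [conj_mem_map] at hx ⊢
    rw [hcz] at hc
    have h1 := hB _ hc _ hx
    have e : g⁻¹ * c * g * (g⁻¹ * x * g) * (g⁻¹ * c * g)⁻¹ = g⁻¹ * (c * x * c⁻¹) * g := by group
    rwa [e] at h1
  have hce : ∀ x y : G, x * y = g * ((g⁻¹ * x * g) * (g⁻¹ * y * g)) * g⁻¹ := by intro x y; group
  refine
    { z_ne := ?_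
      z_sq := ?_
      zR := ⟨z, h.zR, rfl⟩
      RK := Subgroup.map_mono h.RK
      KQ := Subgroup.map_mono h.KQ
      cyc := ?_
      uniq := ?_
      pgrp := h.pgrp.map _
      Qz := ?_
      nQ := hn h.nQ
      nK := hn h.nK
      nR := hn h.nR
      selfK := ?_
      comm_RK := ?_
      mem_K := ?_
      sq := ?_
      comm := ?_
      comm' := ?_
      core := ?_
      card := ?_ }
  · intro h1
    apply h.z_ne
    calc z = g⁻¹ * (g * z * g⁻¹) * g := by group
      _ = 1 := by rw [h1]; group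
  · calc g * z * g⁻¹ * (g * z * g⁻¹) = g * (z * z) * g⁻¹ := by group
      _ = 1 := by rw [h.z_sq]; group
  · have e := R.equivMapOfInjective (MulAut.conj g).toMonoidHom (MulAut.conj g).injective
    have := h.cyc
    exact isCyclic_of_surjective e e.surjective
  · intro x hx hxx
    rw [conj_mem_map] at hx
    have h1 : (g⁻¹ * x * g) * (g⁻¹ * x * g) = 1 := by
      calc (g⁻¹ * x * g) * (g⁻¹ * x * g) = g⁻¹ * (x * x) * g := by group
        _ = 1 := by rw [hxx]; group
    have e : ∀ d, g⁻¹ * x * g = d → x = g * d * g⁻¹ := by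
      intro d hd; rw [← hd]; group
    rcases h.uniq _ hx h1 with h2 | h2
    · left; rw [e _ h2]; group
    · right; exact e _ h2
  · intro x hx
    rw [conj_mem_map] at hx
    rw [hcz]
    exact h.Qz _ hx
  · intro c hc hx
    rw [conj_mem_map]
    rw [hcz] at hc
    apply h.selfK _ hc
    intro x hxK
    have h2 := hx (g * x * g⁻¹) ⟨x, hxK, rfl⟩
    calc g⁻¹ * c * g * x = g⁻¹ * (c * (g * x * g⁻¹)) * g := by group
      _ = x * (g⁻¹ * c * g) := by rw [h2]; group
  · intro r hr x hx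
    rw [conj_mem_map] at hr hx
    rw [hce r x, h.comm_RK _ hr _ hx, ← hce]
  · intro x hx hr
    rw [conj_mem_map] at hx ⊢
    apply h.mem_K _ hx
    intro r hrR
    have h2 := hr (g * r * g⁻¹) ⟨r, hrR, rfl⟩
    calc r * (g⁻¹ * x * g) = g⁻¹ * ((g * r * g⁻¹) * x) * g := by group
      _ = g⁻¹ * x * g * r := by rw [h2]; group
  · intro x hx
    rw [conj_mem_map] at hx
    obtain ⟨r, hr, h1⟩ := h.sq _ hx
    refine ⟨g * r * g⁻¹, ⟨r, hr, rfl⟩, ?_⟩
    rw [hce x x, h1]; group
  · intro x hx y hy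
    rw [conj_mem_map] at hx hy
    rcases h.comm _ hx _ hy with h1 | h1
    · left
      rw [hce x y, h1, ← hce]
    · right
      rw [hce x y, h1]; group
  · intro y hy x hx
    rw [conj_mem_map] at hy hx ⊢
    have h1 := h.comm' _ hy _ hx
    have e : g⁻¹ * y * g * (g⁻¹ * x * g) * (g⁻¹ * y * g)⁻¹ * (g⁻¹ * x * g)⁻¹ = g⁻¹ * (y * x * y⁻¹ * x⁻¹) * g := by
      group
    rwa [e] at h1
  · intro N hN1 hN2 hN3
    have h1 : N.map (MulAut.conj g⁻¹).toMonoidHom ≤ Q := by
      apply h.core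
      · rintro _ ⟨x, hx, rfl⟩
        have h2 := (hcz x).1 (hN1 x hx)
        show (g⁻¹ * x * (g⁻¹)⁻¹) * z = z * (g⁻¹ * x * (g⁻¹)⁻¹)
        rwa [inv_inv]
      · rintro c hc _ ⟨x, hx, rfl⟩
        refine ⟨(g * c * g⁻¹) * x * (g * c * g⁻¹)⁻¹, hN2 _ ?_ x hx, ?_⟩
        · rw [hcz]
          have e : g⁻¹ * (g * c * g⁻¹) * g = c := by group
          rw [e]; exact hc
        · show g⁻¹ * ((g * c * g⁻¹) * x * (g * c * g⁻¹)⁻¹) * (g⁻¹)⁻¹ = c * (g⁻¹ * x * (g⁻¹)⁻¹) * c⁻¹
          group
      · exact hN3.map _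
    intro x hx
    rw [conj_mem_map]
    have h2 := h1 ⟨x, hx, rfl⟩
    have e : (MulAut.conj g⁻¹).toMonoidHom x = g⁻¹ * x * g := by
      show g⁻¹ * x * (g⁻¹)⁻¹ = g⁻¹ * x * g
      rw [inv_inv]
    rwa [e] at h2
  · rw [Subgroup.card_map_of_injective (MulAut.conj g).injective]
    exact h.card

/-- The elements of `R` with square `z` are `y` and `y z`. -/
theorem eq_y (h : Big Q K R z) {y y' : G} (hy : y ∈ R) (hy' : y' ∈ R) (hyy : y * y = z) (hyy' : y' * y' = z) :
    y' = y ∨ y' = y * z := by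
  have hc : y * y' = y' * y := h.comm_RK y hy y' (h.RK hy')
  have h1 : (y⁻¹ * y') * (y⁻¹ * y') = 1 := by
    have hc' : y' * y⁻¹ = y⁻¹ * y' := by
      rw [eq_inv_mul_iff_mul_eq, ← mul_assoc, hc, mul_assoc, mul_inv_cancel, mul_one]
    calc (y⁻¹ * y') * (y⁻¹ * y') = y⁻¹ * (y' * y⁻¹) * y' := by group
      _ = (y * y)⁻¹ * (y' * y') := by rw [hc']; group
      _ = 1 := by rw [hyy, hyy', inv_mul_cancel]
  rcases h.uniq _ (R.mul_mem (R.inv_mem hy) hy') h1 with h2 | h2
  · left; rw [inv_mul_eq_one] at h2; exact h2.symm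
  · right; rw [inv_mul_eq_iff_eq_mul] at h2; exact h2

theorem pow_R (h : Big Q K R z) {x : G} (hx : x ∈ R) : ∃ n : ℕ, x ^ (2 ^ n) = 1 := by
  obtain ⟨n, hn⟩ := h.pgrp ⟨x, h.KQ (h.RK hx)⟩
  exact ⟨n, congrArg Subtype.val hn⟩

/-- Descent: a property of elements of `R` which passes from `x²` to `x` and holds for `1` holds on `R`. -/
theorem descent (h : Big Q K R z) {P : G → Prop} (h1 : P 1) (h2 : ∀ x ∈ R, P (x * x) → P x) :
    ∀ x ∈ R, P x := by
  intro x hx
  obtain ⟨n, hn⟩ := h.pow_R hx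
  have key : ∀ m : ℕ, ∀ x ∈ R, x ^ (2 ^ m) = 1 → P x := by
    intro m
    induction m with
    | zero => intro x _ hx1; rw [pow_zero, pow_one] at hx1; rw [hx1]; exact h1
    | succ m ih =>
      intro x hx hx1
      apply h2 x hx
      apply ih _ (R.mul_mem hx hx)
      rw [← pow_two, ← pow_mul, ← pow_succ']
      exact hx1
  exact key n x hx hn

/-- A nontrivial element of `R` other than `z` has a power `y` with `y² = z`. -/
theorem exists_pow_y (h : Big Q K R z) : ∀ x ∈ R, x = 1 ∨ x = z ∨ ∃ n : ℕ, (x ^ n) * (x ^ n) = z := by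
  refine h.descent (P := fun x => x = 1 ∨ x = z ∨ ∃ n : ℕ, (x ^ n) * (x ^ n) = z) ?_ ?_
  · exact Or.inl rfl
  · intro x hx ih
    rcases ih with h1 | h1 | ⟨n, hn⟩
    · rcases h.uniq x hx h1 with h2 | h2
      · exact Or.inl h2
      · exact Or.inr (Or.inl h2)
    · right; right
      exact ⟨1, by rw [pow_one]; exact h1⟩
    · right; right
      refine ⟨2 * n, ?_⟩
      rw [pow_mul, pow_two]; exact hn

/-- A nontrivial element of `R` has `z` as a power. -/
theorem exists_pow_z (h : Big Q K R z) {x : G} (hx : x ∈ R) (hx1 : x ≠ 1) : ∃ n : ℕ, x ^ n = z := by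
  rcases h.exists_pow_y x hx with h1 | h1 | ⟨n, hn⟩
  · exact absurd h1 hx1
  · exact ⟨1, by rw [pow_one]; exact h1⟩
  · exact ⟨n + n, by rw [pow_add]; exact hn⟩

/-- An element of `C(z)` normalising... sends `y` to `y` or `y z`. -/
theorem conj_y (h : Big Q K R z) {g y : G} (hg : g * z = z * g) (hy : y ∈ R) (hyy : y * y = z) :
    g * y * g⁻¹ = y ∨ g * y * g⁻¹ = y * z := by
  apply h.eq_y hy (h.nR g hg y hy) hyy
  calc (g * y * g⁻¹) * (g * y * g⁻¹) = g * (y * y) * g⁻¹ := by group
    _ = z := by rw [hyy, hg]; group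

end Big

section pair

variable {Qa Ka Ra Qb Kb Rb : Subgroup G} {a b : G}

/-- `R a ∩ R b = 1` for `a ≠ b`. -/
theorem inter (ha : Big Qa Ka Ra a) (hb : Big Qb Kb Rb b) (hne : a ≠ b) {x : G} (hxa : x ∈ Ra) (hxb : x ∈ Rb) :
    x = 1 := by
  by_contra hx
  obtain ⟨n, hn⟩ := ha.exists_pow_z hxa hx
  have h1 : a ∈ Rb := by rw [← hn]; exact Rb.pow_mem hxb n
  rcases hb.uniq a h1 ha.z_sq with h2 | h2
  · exact ha.z_ne h2
  · exact hne h2

/-- `C_{R a}(b)` and `C_{R b}(a)` commute. -/
theorem comm_inter (ha : Big Qa Ka Ra a) (hb : Big Qb Kb Rb b) (hne : a ≠ b) {r s : G} (hr : r ∈ Ra)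
    (hs : s ∈ Rb) (hrb : r * b = b * r) (hsa : s * a = a * s) : r * s = s * r := by
  have h1 : r * s * r⁻¹ * s⁻¹ ∈ Rb := Rb.mul_mem (hb.nR r hrb s hs) (Rb.inv_mem hs)
  have h2 : r * s * r⁻¹ * s⁻¹ ∈ Ra := by
    have h3 := Ra.mul_mem hr (ha.nR s hsa r⁻¹ (Ra.inv_mem hr))
    have e : r * (s * r⁻¹ * s⁻¹) = r * s * r⁻¹ * s⁻¹ := by group
    rwa [e] at h3
  have h3 := inter ha hb hne h2 h1
  rw [mul_inv_eq_one, mul_inv_eq_iff_eq_mul] at h3
  exact h3

/-- If `s ∈ R b` with `s² = b` commutes with `a`, it centralises `R a`. -/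
theorem comm_of_y (ha : Big Qa Ka Ra a) (hb : Big Qb Kb Rb b) (hne : a ≠ b) {s : G}
    (hs : s ∈ Rb) (hss : s * s = b) (hsa : s * a = a * s) : ∀ r ∈ Ra, r * s = s * r := by
  refine ha.descent (P := fun r => r * s = s * r) ?_ ?_
  · rw [one_mul, mul_one]
  · intro r hr ih
    -- `s r s⁻¹ = r e` with `e² = 1`
    have h1 := ha.nR s hsa r hr
    have hc : r⁻¹ * (s * r * s⁻¹) = (s * r * s⁻¹) * r⁻¹ :=
      ha.comm_RK _ (Ra.inv_mem hr) _ (ha.RK h1)
    set e := r⁻¹ * (s * r * s⁻¹) with he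
    have her : e * r = r * e := (ha.comm_RK r hr e (ha.RK (Ra.mul_mem (Ra.inv_mem hr) h1))).symm
    have h2 : s * r * s⁻¹ = r * e := by rw [he]; group
    have h3 : e * e = 1 := by
      have h4 : s * (r * r) * s⁻¹ = r * r := by rw [← ih]; group
      have h5 : s * (r * r) * s⁻¹ = (s * r * s⁻¹) * (s * r * s⁻¹) := by group
      rw [h5, h2] at h4
      have h6 : r * e * (r * e) = r * r * (e * e) := by
        calc r * e * (r * e) = r * (e * r) * e := by group
          _ = r * r * (e * e) := by rw [her]; group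
      rw [h6] at h4
      exact mul_eq_left.1 h4
    have hrb : r * b = b * r := by
      have h4 : b * r * b⁻¹ = r := by
        have h5 : s * e * s⁻¹ = e := by
          rcases ha.uniq e (Ra.mul_mem (Ra.inv_mem hr) h1) h3 with h6 | h6
          · rw [h6]; group
          · rw [h6, hsa]; group
        calc b * r * b⁻¹ = (s * s) * r * (s * s)⁻¹ := by rw [hss]
          _ = s * (s * r * s⁻¹) * s⁻¹ := by group
          _ = s * (r * e) * s⁻¹ := by rw [h2]
          _ = (s * r * s⁻¹) * (s * e * s⁻¹) := by group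
          _ = r := by rw [h2, h5, mul_assoc, h3, mul_one]
      rw [mul_inv_eq_iff_eq_mul] at h4
      exact h4.symm
    exact comm_inter ha hb hne hr hs hrb hsa

/-- **Types**: either `[R a, R b] = 1`, or `b` inverts `y a` and `a` inverts `y b`. -/
theorem types (ha : Big Qa Ka Ra a) (hb : Big Qb Kb Rb b) (hne : a ≠ b) (hab : a * b = b * a) {y w : G}
    (hy : y ∈ Ra) (hyy : y * y = a) (hw : w ∈ Rb) (hww : w * w = b) :
    (∀ r ∈ Ra, ∀ s ∈ Rb, r * s = s * r) ∨ (b * y * b⁻¹ = y * a ∧ a * w * a⁻¹ = w * b) := by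
  by_cases h1 : w * a = a * w
  · left
    have h2 := comm_of_y ha hb hne hw hww h1
    have h3 : y * b = b * y := by
      rw [← hww, ← mul_assoc, h2 y hy, mul_assoc, h2 y hy, mul_assoc]
    have h4 := comm_of_y hb ha hne.symm hy hyy h3
    intro r hr s hs
    have h5 : r * b = b * r := by
      rw [← hww, ← mul_assoc, h2 r hr, mul_assoc, h2 r hr, mul_assoc]
    have h6 : s * a = a * s := by
      rw [← hyy, ← mul_assoc, h4 s hs, mul_assoc, h4 s hs, mul_assoc]
    exact comm_inter ha hb hne hr hs h5 h6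
  · by_cases h3 : y * b = b * y
    · left
      exfalso
      apply h1
      have h4 := comm_of_y hb ha hne.symm hy hyy h3
      rw [← hyy, ← mul_assoc, h4 w hw, mul_assoc, h4 w hw, mul_assoc]
    · right
      constructor
      · rcases ha.conj_y hab.symm hy hyy with h4 | h4
        · exfalso
          apply h3
          rw [mul_inv_eq_iff_eq_mul] at h4
          exact h4.symm
        · exact h4
      · rcases hb.conj_y hab hw hww with h4 | h4
        · exfalso
          apply h1
          rw [mul_inv_eq_iff_eq_mul] at h4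
          exact h4.symm
        · exact h4

/-- The common contradiction: `x ∈ K a`, `b x b⁻¹ = x a`, `s⁴ = b`, `s` centralises `R a` and
`c = x⁻¹ s x s⁻¹`. -/
theorem false_of_s (ha : Big Qa Ka Ra a) {s x : G} (hsa : s * a = a * s) (hsR : ∀ r ∈ Ra, r * s = s * r)
    (hs4 : (s * s) * (s * s) = b) (hx : x ∈ Ka) (hxb : b * x * b⁻¹ = x * a)
    (hc : s * (x⁻¹ * (s * x * s⁻¹)) * s⁻¹ = x⁻¹ * (s * x * s⁻¹)) : False := by
  set c := x⁻¹ * (s * x * s⁻¹) with hcdef
  have hcK : c ∈ Ka := Ka.mul_mem (Ka.inv_mem hx) (ha.nK s hsa x hx)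
  have h1 : s * x * s⁻¹ = x * c := by rw [hcdef]; group
  -- `s⁴ x s⁻⁴ = x c⁴`
  have h2 : (s * s) * x * (s * s)⁻¹ = x * (c * c) := by
    calc (s * s) * x * (s * s)⁻¹ = s * (s * x * s⁻¹) * s⁻¹ := by group
      _ = s * (x * c) * s⁻¹ := by rw [h1]
      _ = (s * x * s⁻¹) * (s * c * s⁻¹) := by group
      _ = x * (c * c) := by rw [h1, hc, mul_assoc]
  have hc2 : (s * s) * c * (s * s)⁻¹ = c := by
    calc (s * s) * c * (s * s)⁻¹ = s * (s * c * s⁻¹) * s⁻¹ := by group
      _ = c := by rw [hc, hc]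
  have h3 : b * x * b⁻¹ = x * ((c * c) * (c * c)) := by
    calc b * x * b⁻¹ = ((s * s) * (s * s)) * x * ((s * s) * (s * s))⁻¹ := by rw [hs4]
      _ = (s * s) * ((s * s) * x * (s * s)⁻¹) * (s * s)⁻¹ := by group
      _ = (s * s) * (x * (c * c)) * (s * s)⁻¹ := by rw [h2]
      _ = ((s * s) * x * (s * s)⁻¹) * ((s * s) * c * (s * s)⁻¹) * ((s * s) * c * (s * s)⁻¹) := by group
      _ = x * ((c * c) * (c * c)) := by rw [h2, hc2]; group
  rw [hxb] at h3
  have h4 : a = (c * c) * (c * c) := mul_left_cancel h3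
  -- `(x c)² = x²`
  obtain ⟨r, hr, hxx⟩ := ha.sq x hx
  have h5 : (x * c) * (x * c) = x * x := by
    have h6 : s * (x * x) * s⁻¹ = x * x := by
      rw [hxx, ← hsR _ (Ra.mul_mem hr hr)]; group
    have h7 : s * (x * x) * s⁻¹ = (s * x * s⁻¹) * (s * x * s⁻¹) := by group
    rw [h7, h1] at h6
    exact h6
  have hca : c * a = a * c := ha.Qz c (ha.KQ hcK)
  have h6 : c * c = 1 ∨ c * c = a := by
    rcases ha.comm c hcK x hx with h7 | h7
    · left
      have : x * c * (x * c) = x * x * (c * c) := by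
        calc x * c * (x * c) = x * (c * x) * c := by group
          _ = x * x * (c * c) := by rw [h7]; group
      rw [this] at h5
      exact mul_eq_left.1 h5
    · right
      have : x * c * (x * c) = x * x * (c * c * a) := by
        calc x * c * (x * c) = x * (c * x) * c := by group
          _ = x * x * c * (a * c) := by rw [h7]; group
          _ = x * x * (c * c * a) := by rw [← hca]; group
      rw [this] at h5
      have h8 : c * c * a = 1 := mul_eq_left.1 h5
      calc c * c = c * c * a * a := by rw [mul_assoc (c * c), ha.z_sq, mul_one]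
        _ = a := by rw [h8, one_mul]
  rcases h6 with h6 | h6
  · rw [h6, mul_one] at h4; exact ha.z_ne h4
  · rw [h6, ha.z_sq] at h4; exact ha.z_ne h4

/-- **Type A is impossible if `|R b| ≥ 8`.** -/
theorem typeA_false [Finite G] (ha : Big Qa Ka Ra a) (hb : Big Qb Kb Rb b) (hne : a ≠ b) {s : G}
    (hs : s ∈ Rb) (hs4 : (s * s) * (s * s) = b) (hA : ∀ r ∈ Ra, ∀ s ∈ Rb, r * s = s * r) : False := by
  have hsR : ∀ r ∈ Ra, r * s = s * r := fun r hr => hA r hr s hs
  have hsa : s * a = a * s := (hsR a ha.zR).symm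
  have hbR : ∀ r ∈ Ra, r * b = b * r := fun r hr => hA r hr b hb.zR
  have hab : a * b = b * a := hbR a ha.zR
  have hsb : s * b = b * s := by rw [← hs4]; group
  have hbb := hb.z_sq
  have binv : b⁻¹ = b := hb.z_inv
  -- `[q, s] ∈ K a ∩ R b` for `q ∈ C_{K a}(b)`
  have hqs : ∀ q ∈ Ka, q * b = b * q → q⁻¹ * (s * q * s⁻¹) ∈ Ka ∧ q⁻¹ * (s * q * s⁻¹) ∈ Rb := by
    intro q hq hqb
    refine ⟨Ka.mul_mem (Ka.inv_mem hq) (ha.nK s hsa q hq), ?_⟩
    have hqb' : q⁻¹ * b = b * q⁻¹ := by
      rw [inv_mul_eq_iff_eq_mul, ← mul_assoc, hqb, mul_assoc, mul_inv_cancel, mul_one]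
    have h1 := Rb.mul_mem (hb.nR q⁻¹ hqb' s hs) (Rb.inv_mem hs)
    have e : q⁻¹ * s * q⁻¹⁻¹ * s⁻¹ = q⁻¹ * (s * q * s⁻¹) := by group
    rwa [e] at h1
  have hbRa : b ∉ Ra := by
    intro h1
    rcases ha.uniq b h1 hbb with h2 | h2
    · exact hb.z_ne h2
    · exact hne h2.symm
  -- some `x ∈ K a` does not commute with `b`
  have hexists : (∃ x ∈ Ka, b * x ≠ x * b) := by
    by_contra hcon
    push Not at hcon
    exact hbRa (ha.selfK b hab.symm hcon)
  -- if `b x b⁻¹ = x a` then `b` commutes with `x⁻¹ s x s⁻¹`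
  have hbc : ∀ x ∈ Ka, b * x * b⁻¹ = x * a → (x⁻¹ * (s * x * s⁻¹)) * b = b * (x⁻¹ * (s * x * s⁻¹)) := by
    intro x hxK hx
    have hcK : x⁻¹ * (s * x * s⁻¹) ∈ Ka := Ka.mul_mem (Ka.inv_mem hxK) (ha.nK s hsa x hxK)
    have hac := ha.comm_RK a ha.zR _ hcK
    have h1 : b * (x⁻¹ * (s * x * s⁻¹)) * b⁻¹ = x⁻¹ * (s * x * s⁻¹) := by
      have h2 : b * (s * x * s⁻¹) * b⁻¹ = s * (b * x * b⁻¹) * s⁻¹ := by
        calc b * (s * x * s⁻¹) * b⁻¹ = (b * s) * x * (b * s)⁻¹ := by group
          _ = (s * b) * x * (s * b)⁻¹ := by rw [hsb]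
          _ = s * (b * x * b⁻¹) * s⁻¹ := by group
      have h3 : a * s⁻¹ = s⁻¹ * a := by
        rw [eq_inv_mul_iff_mul_eq, ← mul_assoc, hsa, mul_assoc, mul_inv_cancel, mul_one]
      calc b * (x⁻¹ * (s * x * s⁻¹)) * b⁻¹ = (b * x * b⁻¹)⁻¹ * (b * (s * x * s⁻¹) * b⁻¹) := by group
        _ = (x * a)⁻¹ * (s * (x * a) * s⁻¹) := by rw [h2, hx]
        _ = a⁻¹ * x⁻¹ * (s * x * (a * s⁻¹)) := by group
        _ = a⁻¹ * x⁻¹ * (s * x * (s⁻¹ * a)) := by rw [h3]
        _ = a⁻¹ * ((x⁻¹ * (s * x * s⁻¹)) * a) := by group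
        _ = x⁻¹ * (s * x * s⁻¹) := by rw [← hac]; group
    rw [mul_inv_eq_iff_eq_mul] at h1
    exact h1.symm
  by_cases hbK : b ∈ Ka
  · -- (A1)
    -- `K a ∩ R b ⊆ {1, b}`
    have hKR : ∀ w ∈ Ka, w ∈ Rb → w = 1 ∨ w = b := by
      intro w hwK hwR
      rcases hb.exists_pow_y w hwR with h1 | h1 | ⟨n, hn⟩
      · exact Or.inl h1
      · exact Or.inr h1
      · exfalso
        obtain ⟨r, hr, h2⟩ := ha.sq _ (Ka.pow_mem hwK n)
        rw [hn] at h2
        apply hbRa
        rw [h2]; exact Ra.mul_mem hr hr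
    obtain ⟨x, hx, hxb⟩ := hexists
    have hxb' : b * x * b⁻¹ = x * a := by
      rcases ha.comm b hbK x hx with h1 | h1
      · exact absurd h1 hxb
      · calc b * x * b⁻¹ = x * b * a * b⁻¹ := by rw [h1]
          _ = x * (b * a) * b⁻¹ := by group
          _ = x * (a * b) * b⁻¹ := by rw [hab]
          _ = x * a := by group
    set c := x⁻¹ * (s * x * s⁻¹) with hc
    have hcK : c ∈ Ka := Ka.mul_mem (Ka.inv_mem hx) (ha.nK s hsa x hx)
    have hcb : c * b = b * c := hbc x hx hxb'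
    obtain ⟨h1, h2⟩ := hqs c hcK hcb
    apply false_of_s ha hsa hsR hs4 hx hxb'
    rcases hKR _ h1 h2 with h3 | h3
    · rw [inv_mul_eq_one] at h3
      exact h3.symm
    · -- `s c s⁻¹ = c b` contradicts the invariance of the commutator `[c, x]`
      exfalso
      have h4 : s * c * s⁻¹ = c * b := by rw [← h3]; group
      have h5 : s * x * s⁻¹ = x * c := by rw [hc]; group
      have hbx : b * x = x * a * b := by rw [mul_inv_eq_iff_eq_mul] at hxb'; exact hxb'
      have hca : c * a = a * c := (ha.comm_RK a ha.zR c hcK).symm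
      have key : ∀ e : G, (e = 1 ∨ e = a) → c * x = x * c * e → False := by
        intro e he h6
        have hec : e * c = c * e := by
          rcases he with rfl | rfl
          · rw [one_mul, mul_one]
          · exact hca.symm
        have heb : e * b = b * e := by
          rcases he with rfl | rfl
          · rw [one_mul, mul_one]
          · exact hab
        have hea : e * a = a * e := by
          rcases he with rfl | rfl
          · rw [one_mul, mul_one]
          · rfl
        have hes : s * e * s⁻¹ = e := by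
          rcases he with rfl | rfl
          · group
          · rw [hsa]; group
        have h7 : (s * c * s⁻¹) * (s * x * s⁻¹) = (s * x * s⁻¹) * (s * c * s⁻¹) * e := by
          calc (s * c * s⁻¹) * (s * x * s⁻¹) = s * (c * x) * s⁻¹ := by group
            _ = s * (x * c * e) * s⁻¹ := by rw [h6]
            _ = (s * x * s⁻¹) * (s * c * s⁻¹) * (s * e * s⁻¹) := by group
            _ = _ := by rw [hes]
        rw [h4, h5] at h7
        have h8 : c * b * (x * c) = x * c * (c * b) * e * a := by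
          calc c * b * (x * c) = c * (b * x) * c := by group
            _ = c * (x * a * b) * c := by rw [hbx]
            _ = (c * x) * a * (b * c) := by group
            _ = (x * c * e) * a * (c * b) := by rw [h6, hcb]
            _ = x * c * e * (a * c) * b := by group
            _ = x * c * e * (c * a) * b := by rw [hca]
            _ = x * c * (e * c) * (a * b) := by group
            _ = x * c * (c * e) * (b * a) := by rw [hec, hab]
            _ = x * c * c * (e * b) * a := by group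
            _ = x * c * c * (b * e) * a := by rw [heb]
            _ = x * c * (c * b) * e * a := by group
        rw [h8] at h7
        exact ha.z_ne (mul_eq_left.1 h7)
      rcases ha.comm c hcK x hx with h6 | h6
      · exact key 1 (Or.inl rfl) (by rw [mul_one]; exact h6)
      · exact key a (Or.inr rfl) h6
  · -- (A2)
    have hKR : ∀ w ∈ Ka, w ∈ Rb → w = 1 := by
      intro w hwK hwR
      by_contra h1
      obtain ⟨n, hn⟩ := hb.exists_pow_z hwR h1
      exact hbK (by rw [← hn]; exact Ka.pow_mem hwK n)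
    have hF : ∀ q ∈ Ka, q * b = b * q → s * q * s⁻¹ = q := by
      intro q hq hqb
      obtain ⟨h1, h2⟩ := hqs q hq hqb
      have h3 := hKR _ h1 h2
      rw [inv_mul_eq_one] at h3
      exact h3.symm
    have sas : s * a * s⁻¹ = a := by rw [hsa]; group
    have bab : b * a * b⁻¹ = a := by rw [← hab]; group
    have Kcomm : ∀ r ∈ Ra, ∀ x ∈ Ka, r * x = x * r := ha.comm_RK
    let P : Subgroup G :=
      { carrier := {q | q ∈ Ka ∧ (b * q * b⁻¹ = q ∨ b * q * b⁻¹ = q * a)}
        one_mem' := ⟨Ka.one_mem, Or.inl (by group)⟩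
        mul_mem' := by
          rintro p q ⟨hp, hp'⟩ ⟨hq, hq'⟩
          refine ⟨Ka.mul_mem hp hq, ?_⟩
          have e : b * (p * q) * b⁻¹ = (b * p * b⁻¹) * (b * q * b⁻¹) := by group
          have haq := Kcomm a ha.zR q hq
          rw [e]
          rcases hp' with hp' | hp' <;> rcases hq' with hq' | hq' <;> rw [hp', hq']
          · left; rfl
          · right; group
          · right; rw [mul_assoc, haq]; group
          · left
            calc p * a * (q * a) = p * (a * q) * a := by group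
              _ = p * q * (a * a) := by rw [haq]; group
              _ = p * q := by rw [ha.z_sq, mul_one]
        inv_mem' := by
          rintro p ⟨hp, hp'⟩
          refine ⟨Ka.inv_mem hp, ?_⟩
          have e : b * p⁻¹ * b⁻¹ = (b * p * b⁻¹)⁻¹ := by group
          rw [e]
          rcases hp' with hp' | hp' <;> rw [hp']
          · left; rfl
          · right
            rw [mul_inv_rev, ha.z_inv]
            exact Kcomm a ha.zR _ (Ka.inv_mem hp) }
    have memP : ∀ q, q ∈ P ↔ q ∈ Ka ∧ (b * q * b⁻¹ = q ∨ b * q * b⁻¹ = q * a) := fun q => Iff.rfl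
    have hPof : ∀ q ∈ Ka, ∀ r ∈ Ra, b * q * b⁻¹ = q * r → q ∈ P := by
      intro q hq r hr h1
      rw [memP]
      refine ⟨hq, ?_⟩
      have hbr : b * r * b⁻¹ = r := by rw [← hbR r hr]; group
      have h2 : q * (r * r) = q := by
        have h3 : b * (b * q * b⁻¹) * b⁻¹ = q := by
          have : b * (b * q * b⁻¹) * b⁻¹ = (b * b) * q * (b * b)⁻¹ := by group
          rw [this, hbb]; group
        rw [h1] at h3
        calc q * (r * r) = (q * r) * r := by group
          _ = (b * q * b⁻¹) * (b * r * b⁻¹) := by rw [h1, hbr]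
          _ = b * (q * r) * b⁻¹ := by group
          _ = q := h3
      have h3 : r * r = 1 := mul_eq_left.1 h2
      rcases ha.uniq r hr h3 with h4 | h4
      · left; rw [h1, h4, mul_one]
      · right; rw [h1, h4]
    obtain ⟨n, hn⟩ := hb.pow_R hs
    have hP : P = Ka := by
      have hKp : IsPGroup 2 Ka := ha.pgrp.to_le ha.KQ
      refine Fam.eq_of_fixed hKp (fun q hq => hq.1) hn (fun x hx => ha.nK s hsa x hx) ?_ ?_
      · rintro q ⟨hq, hq'⟩
        refine ⟨ha.nK s hsa q hq, ?_⟩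
        have e : b * (s * q * s⁻¹) * b⁻¹ = s * (b * q * b⁻¹) * s⁻¹ := by
          calc b * (s * q * s⁻¹) * b⁻¹ = (b * s) * q * (b * s)⁻¹ := by group
            _ = (s * b) * q * (s * b)⁻¹ := by rw [hsb]
            _ = s * (b * q * b⁻¹) * s⁻¹ := by group
        rw [e]
        rcases hq' with hq' | hq' <;> rw [hq']
        · left; rfl
        · right
          calc s * (q * a) * s⁻¹ = (s * q * s⁻¹) * (s * a * s⁻¹) := by group
            _ = _ := by rw [sas]
      · intro q hq hp
        set p := q⁻¹ * (s * q * s⁻¹) with hpdef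
        have hpK := hp.1
        have hsq : s * q * s⁻¹ = q * p := by rw [hpdef]; group
        set f := p⁻¹ * (s * p * s⁻¹) with hfdef
        have hfK : f ∈ Ka := Ka.mul_mem (Ka.inv_mem hpK) (ha.nK s hsa p hpK)
        have hsp : s * p * s⁻¹ = p * f := by rw [hfdef]; group
        have hbsp : b * (s * p * s⁻¹) * b⁻¹ = s * (b * p * b⁻¹) * s⁻¹ := by
          calc b * (s * p * s⁻¹) * b⁻¹ = (b * s) * p * (b * s)⁻¹ := by group
            _ = (s * b) * p * (s * b)⁻¹ := by rw [hsb]
            _ = s * (b * p * b⁻¹) * s⁻¹ := by group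
        have hfb : b * f * b⁻¹ = f := by
          have e : b * f * b⁻¹ = (b * p * b⁻¹)⁻¹ * (b * (s * p * s⁻¹) * b⁻¹) := by rw [hfdef]; group
          rw [e, hbsp]
          rcases hp.2 with h1 | h1 <;> rw [h1]
          have haf := Kcomm a ha.zR f hfK
          calc (p * a)⁻¹ * (s * (p * a) * s⁻¹) = a⁻¹ * p⁻¹ * ((s * p * s⁻¹) * (s * a * s⁻¹)) := by group
            _ = a⁻¹ * (f * a) := by rw [sas, hfdef]; group
            _ = f := by rw [← haf]; group
        have hfb' : f * b = b * f := by rw [mul_inv_eq_iff_eq_mul] at hfb; exact hfb.symm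
        have hsf := hF f hfK hfb'
        obtain ⟨r₁, hr₁, hpp⟩ := ha.sq p hpK
        obtain ⟨r₂, hr₂, hff⟩ := ha.sq f hfK
        have hm : p * p ∈ Ra := by rw [hpp]; exact Ra.mul_mem hr₁ hr₁
        have hm2 : f * f ∈ Ra := by rw [hff]; exact Ra.mul_mem hr₂ hr₂
        have hmf := Kcomm _ hm f hfK
        have hms : s * (p * p) * s⁻¹ = p * p := by rw [← hsR _ hm]; group
        have h1 : (s * s) * q * (s * s)⁻¹ = q * (f * (p * p)) := by
          calc (s * s) * q * (s * s)⁻¹ = s * (s * q * s⁻¹) * s⁻¹ := by group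
            _ = s * (q * p) * s⁻¹ := by rw [hsq]
            _ = (s * q * s⁻¹) * (s * p * s⁻¹) := by group
            _ = q * ((p * p) * f) := by rw [hsq, hsp]; group
            _ = q * (f * (p * p)) := by rw [hmf]
        have h2 : (s * s) * (f * (p * p)) * (s * s)⁻¹ = f * (p * p) := by
          calc (s * s) * (f * (p * p)) * (s * s)⁻¹
              = s * ((s * f * s⁻¹) * (s * (p * p) * s⁻¹)) * s⁻¹ := by group
            _ = s * (f * (p * p)) * s⁻¹ := by rw [hsf, hms]
            _ = (s * f * s⁻¹) * (s * (p * p) * s⁻¹) := by group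
            _ = f * (p * p) := by rw [hsf, hms]
        apply hPof q hq ((f * f) * ((p * p) * (p * p))) (Ra.mul_mem hm2 (Ra.mul_mem hm hm))
        calc b * q * b⁻¹ = ((s * s) * (s * s)) * q * ((s * s) * (s * s))⁻¹ := by rw [hs4]
          _ = (s * s) * ((s * s) * q * (s * s)⁻¹) * (s * s)⁻¹ := by group
          _ = (s * s) * (q * (f * (p * p))) * (s * s)⁻¹ := by rw [h1]
          _ = ((s * s) * q * (s * s)⁻¹) * ((s * s) * (f * (p * p)) * (s * s)⁻¹) := by group
          _ = q * (f * ((p * p) * f) * (p * p)) := by rw [h1, h2]; group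
          _ = q * ((f * f) * ((p * p) * (p * p))) := by rw [hmf]; group
    obtain ⟨x, hx, hxb⟩ := hexists
    have hxb' : b * x * b⁻¹ = x * a := by
      have h1 : x ∈ P := by rw [hP]; exact hx
      rcases h1.2 with h2 | h2
      · exfalso
        apply hxb
        rw [mul_inv_eq_iff_eq_mul] at h2
        exact h2
      · exact h2
    have hcK : x⁻¹ * (s * x * s⁻¹) ∈ Ka := Ka.mul_mem (Ka.inv_mem hx) (ha.nK s hsa x hx)
    exact false_of_s ha hsa hsR hs4 hx hxb' (hF _ hcK (hbc x hx hxb'))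

end pair

/-- Family version of `Big`. -/
structure BFam (D : Set G) (Q K R : G → Subgroup G) : Prop where
  loc : ∀ a ∈ D, Big (Q a) (K a) (R a) a
  conj_mem : ∀ a ∈ D, ∀ g, g * a * g⁻¹ ∈ D
  eight : ∀ a ∈ D, ∃ s ∈ R a, (s * s) * (s * s) = a

theorem exists_bfam [Finite G] {Q K R : Subgroup G} {z : G} (h : Big Q K R z) (h8 : 8 ≤ Nat.card R) :
    ∃ Qf Kf Rf : G → Subgroup G, BFam {a | ∃ g, g * z * g⁻¹ = a} Qf Kf Rf ∧ Kf z = K ∧ Rf z = R := by
  classical
  set D : Set G := {a | ∃ g, g * z * g⁻¹ = a} with hD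
  have hex : ∀ a : G, ∃ g : G, (a ∈ D → g * z * g⁻¹ = a) ∧ (a = z → g = 1) := by
    intro a
    by_cases haz : a = z
    · exact ⟨1, fun _ => by rw [haz]; group, fun _ => rfl⟩
    by_cases ha : a ∈ D
    · obtain ⟨g, hg⟩ := ha
      exact ⟨g, fun _ => hg, fun h1 => absurd h1 haz⟩
    · exact ⟨1, fun h1 => absurd h1 ha, fun _ => rfl⟩
  choose γ hγ hγz using hex
  -- an element of order eight
  have h8' : ∃ s ∈ R, (s * s) * (s * s) = z := by
    obtain ⟨c, hc, hgen⟩ := h.exists_gen
    obtain ⟨-, n, hn, hcard, hn2⟩ := h.R_eq hc hgen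
    have hn3 : 3 ≤ n := by
      by_contra hlt
      have : n = 2 := by omega
      rw [hcard, this] at h8
      norm_num at h8
    refine ⟨c ^ (2 ^ (n - 3)), R.pow_mem hc _, ?_⟩
    have e : (c ^ (2 ^ (n - 3)) * c ^ (2 ^ (n - 3))) * (c ^ (2 ^ (n - 3)) * c ^ (2 ^ (n - 3))) =
        c ^ (2 ^ (n - 1)) := by
      rw [← pow_add, ← pow_add]
      congr 1
      have : 2 ^ (n - 1) = 2 ^ (n - 3) * 4 := by
        rw [show n - 1 = (n - 3) + 2 by omega, pow_add]; norm_num
      rw [this]; ring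
    rw [e]
    have h2 : (c ^ (2 ^ (n - 1))) * (c ^ (2 ^ (n - 1))) = 1 := by
      rw [← pow_add, ← two_mul, ← pow_succ', Nat.sub_add_cancel (by omega), ← hn]
      exact pow_orderOf_eq_one c
    rcases h.uniq _ (R.pow_mem hc _) h2 with h3 | h3
    · exfalso
      have h4 := orderOf_dvd_of_pow_eq_one h3
      rw [hn] at h4
      have := Nat.le_of_dvd (by positivity) h4
      have h5 : 2 ^ (n - 1) < 2 ^ n := Nat.pow_lt_pow_right (by norm_num) (by omega)
      omega
    · exact h3
  have hone : ∀ B : Subgroup G, B.map (MulAut.conj (γ z)).toMonoidHom = B := by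
    intro B
    rw [hγz z rfl]
    ext x
    rw [conj_mem_map]
    simp
  refine ⟨fun a => Q.map (MulAut.conj (γ a)).toMonoidHom, fun a => K.map (MulAut.conj (γ a)).toMonoidHom,
    fun a => R.map (MulAut.conj (γ a)).toMonoidHom, ⟨?_, ?_, ?_⟩, hone K, hone R⟩
  · intro a ha
    have := h.conj (γ a)
    rwa [hγ a ha] at this
  · rintro a ⟨k, rfl⟩ g
    exact ⟨g * k, by group⟩
  · intro a ha
    obtain ⟨s, hs, h1⟩ := h8'
    refine ⟨γ a * s * (γ a)⁻¹, ⟨s, hs, rfl⟩, ?_⟩
    calc (γ a * s * (γ a)⁻¹ * (γ a * s * (γ a)⁻¹)) * (γ a * s * (γ a)⁻¹ * (γ a * s * (γ a)⁻¹))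
        = γ a * ((s * s) * (s * s)) * (γ a)⁻¹ := by group
      _ = a := by rw [h1, hγ a ha]

namespace BFam

variable {D : Set G} {Q K R : G → Subgroup G}

/-- Only type B occurs. -/
theorem inverts [Finite G] (F : BFam D Q K R) {a b y : G} (ha : a ∈ D) (hb : b ∈ D) (hne : a ≠ b)
    (hab : a * b = b * a) (hy : y ∈ R a) (hyy : y * y = a) : b * y * b⁻¹ = y * a := by
  obtain ⟨s, hs, hs4⟩ := F.eight b hb
  rcases types (F.loc a ha) (F.loc b hb) hne hab hy hyy ((R b).mul_mem hs hs) hs4 with h | h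
  · exact (typeA_false (F.loc a ha) (F.loc b hb) hne hs hs4 h).elim
  · exact h.1

/-- Closure. -/
theorem mul_mem [Finite G] (F : BFam D Q K R) {a b : G} (ha : a ∈ D) (hb : b ∈ D) (hne : a ≠ b)
    (hab : a * b = b * a) : a * b ∈ D := by
  obtain ⟨y, hy, hyy⟩ := (F.loc a ha).exists_y
  have h := F.inverts ha hb hne hab hy hyy
  have h1 := F.conj_mem b hb y⁻¹
  have e : y⁻¹ * b * y⁻¹⁻¹ = a * b := by
    rw [inv_inv]
    calc y⁻¹ * b * y = y⁻¹ * (b * y * b⁻¹) * b := by group
      _ = a * b := by rw [h]; group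
  rwa [e] at h1

end BFam

/-- **`|R| ≥ 8`, `K ≠ R` is impossible.** -/
theorem Big.false_of_eight [Finite G] [IsSimpleGroup G] (hG : ¬ IsMulCommutative G) {Q₀ K₀ R₀ : Subgroup G}
    {z : G} (h₀ : Big Q₀ K₀ R₀ z) (h8 : 8 ≤ Nat.card R₀) (hKR₀ : K₀ ≠ R₀) : False := by
  classical
  obtain ⟨Q, K, R, F, hKz, hRz⟩ := exists_bfam h₀ h8
  set D : Set G := {a | ∃ g, g * z * g⁻¹ = a} with hD
  have hzD : z ∈ D := ⟨1, by group⟩
  have h := F.loc z hzD
  have hKR : K z ≠ R z := by rw [hKz, hRz]; exact hKR₀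
  have hzo : orderOf z = 2 := orderOf_eq_prime (by rw [pow_two]; exact h.z_sq) h.z_ne
  obtain ⟨g, hg1, hg2⟩ := exists_commuting hG hzo
  set t := g * z * g⁻¹ with ht
  have htD : t ∈ D := ⟨g, rfl⟩
  have ht' := F.loc t htD
  have tt : t * t = 1 := ht'.z_sq
  have tinv : t⁻¹ = t := ht'.z_inv
  have hzz := h.z_sq
  obtain ⟨w, hw, hw4⟩ := F.eight z hzD
  set y := w * w with hy
  have hyR : y ∈ R z := (R z).mul_mem hw hw
  obtain ⟨wt, hwt, hwt4⟩ := F.eight t htD
  have hyt : wt * wt ∈ R t := (R t).mul_mem hwt hwt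
  -- `t` inverts `y`, `z` inverts `y t`
  have hty := F.inverts hzD htD (Ne.symm hg1) hg2.symm hyR hw4
  have hzyt := F.inverts htD hzD hg1 hg2 hyt hwt4
  have Kc : ∀ r ∈ R z, ∀ x ∈ K z, r * x = x * r := h.comm_RK
  have htK : t ∉ K z := by
    intro h1
    have h2 := Kc y hyR t h1
    rw [← h2, mul_inv_cancel_right] at hty
    exact h.ne_mul y hty
  -- elements of `K z` commuting with `t` have square `1` and commute
  have sqt : ∀ x, x * t = t * x → (x * x) * (wt * wt) = (wt * wt) * (x * x) := by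
    intro x hx
    have h1 : (x * x) * (wt * wt) * (x * x)⁻¹ = wt * wt := by
      have h2 : x * t * x⁻¹ = t := by rw [hx]; group
      rcases ht'.conj_y hx hyt hwt4 with h3 | h3
      · calc (x * x) * (wt * wt) * (x * x)⁻¹ = x * (x * (wt * wt) * x⁻¹) * x⁻¹ := by group
          _ = wt * wt := by rw [h3, h3]
      · calc (x * x) * (wt * wt) * (x * x)⁻¹ = x * (x * (wt * wt) * x⁻¹) * x⁻¹ := by group
          _ = x * (wt * wt * t) * x⁻¹ := by rw [h3]
          _ = (x * (wt * wt) * x⁻¹) * (x * t * x⁻¹) := by group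
          _ = wt * wt := by rw [h3, h2, mul_assoc, tt, mul_one]
    rw [mul_inv_eq_iff_eq_mul] at h1
    exact h1
  have zyt_ne : z * (wt * wt) ≠ (wt * wt) * z := by
    intro h1
    rw [h1, mul_inv_cancel_right] at hzyt
    exact ht'.ne_mul _ hzyt
  have RCt : ∀ r ∈ R z, r * t = t * r → r = 1 ∨ r = z := by
    intro r hr hrt
    rcases h.exists_pow_y r hr with h1 | h1 | ⟨n, hn⟩
    · exact Or.inl h1
    · exact Or.inr h1
    · exfalso
      have h2 : r ^ n * t = t * r ^ n := ((show Commute r t from hrt).pow_left n).eq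
      have h3 := F.inverts hzD htD (Ne.symm hg1) hg2.symm ((R z).pow_mem hr n) hn
      rw [← h2, mul_inv_cancel_right] at h3
      exact h.ne_mul _ h3
  have X2 : ∀ x ∈ K z, x * t = t * x → x * x = 1 := by
    intro x hx hxt
    obtain ⟨r, hr, h1⟩ := h.sq x hx
    have h2 : x * x ∈ R z := by rw [h1]; exact (R z).mul_mem hr hr
    have h3 : (x * x) * t = t * (x * x) := by rw [mul_assoc, hxt, ← mul_assoc, hxt, mul_assoc]
    rcases RCt _ h2 h3 with h4 | h4
    · exact h4
    · exfalso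
      apply zyt_ne
      rw [← h4]; exact sqt x hxt
  have Xc : ∀ x ∈ K z, x * t = t * x → ∀ v ∈ K z, v * t = t * v → x * v = v * x := by
    intro x hx hxt v hv hvt
    have h1 := X2 x hx hxt
    have h2 := X2 v hv hvt
    have h3 := X2 (x * v) ((K z).mul_mem hx hv) (by rw [mul_assoc, hvt, ← mul_assoc, hxt, mul_assoc])
    calc x * v = x * (x * v * (x * v)) * v := by rw [h3, mul_one]
      _ = (x * x) * (v * x) * (v * v) := by group
      _ = v * x := by rw [h1, h2, one_mul, mul_one]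
  have htz : t * z = z * t := hg2
  have tzt : t * z * t = z := by rw [htz, mul_assoc, tt, mul_one]
  have htyt : t * y * t = y * z := by rw [tinv] at hty; exact hty
  have yz : y * z = z * y := Kc _ hyR _ (h.RK h.zR)
  have yinv : y⁻¹ = y * z := by rw [inv_eq_iff_mul_eq_one, ← mul_assoc, hw4, hzz]
  -- covering
  have cover0 : ∀ q ∈ K z, q * q = 1 → ∀ r ∈ R z, t * q * t = q * r → q * t = t * q := by
    intro q hq hqq r hr h1
    have hrq := Kc r hr q hq
    have h2 : r * r = 1 := by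
      have h3 : (t * q * t) * (t * q * t) = 1 := by
        calc (t * q * t) * (t * q * t) = t * q * (t * t) * q * t := by group
          _ = t * (q * q) * t := by rw [tt]; group
          _ = 1 := by rw [hqq, mul_one, tt]
      rw [h1] at h3
      have h4 : q * r * (q * r) = (q * q) * (r * r) := by
        calc q * r * (q * r) = q * (r * q) * r := by group
          _ = _ := by rw [hrq]; group
      rw [h4, hqq, one_mul] at h3
      exact h3
    rcases h.uniq r hr h2 with h3 | h3
    · rw [h3, mul_one] at h1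
      calc q * t = (t * q * t) * t := by rw [h1]
        _ = t * q := by rw [mul_assoc, tt, mul_one]
    · exfalso
      -- `q y` commutes with `t` and has square `z`
      have hyq := Kc y hyR q hq
      have h4 : (q * y) * t = t * (q * y) := by
        have h5 : t * (q * y) * t = q * y := by
          calc t * (q * y) * t = (t * q * t) * (t⁻¹ * y * t) := by group
            _ = q * z * (y * z) := by rw [h1, h3, tinv, htyt]
            _ = q * (z * y) * z := by group
            _ = q * y * (z * z) := by rw [← yz]; group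
            _ = q * y := by rw [hzz, mul_one]
        calc (q * y) * t = (t * t) * (q * y) * t := by rw [tt, one_mul]
          _ = t * (t * (q * y) * t) := by group
          _ = t * (q * y) := by rw [h5]
      have h5 := X2 _ ((K z).mul_mem hq (h.RK hyR)) h4
      have h6 : q * y * (q * y) = (q * q) * (y * y) := by
        calc q * y * (q * y) = q * (y * q) * y := by group
          _ = _ := by rw [hyq]; group
      rw [h6, hqq, one_mul, hw4] at h5
      exact h.z_ne h5
  -- for `q ∈ K z` some `q r⁻¹` has square `1`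
  have normalise : ∀ q ∈ K z, ∃ r ∈ R z, (q * r⁻¹) * (q * r⁻¹) = 1 := by
    intro q hq
    obtain ⟨r, hr, h1⟩ := h.sq q hq
    refine ⟨r, hr, ?_⟩
    have h2 := Kc _ ((R z).inv_mem hr) q hq
    calc (q * r⁻¹) * (q * r⁻¹) = q * (r⁻¹ * q) * r⁻¹ := by group
      _ = (q * q) * (r * r)⁻¹ := by rw [h2]; group
      _ = 1 := by rw [h1, mul_inv_cancel]
  have tRt : ∀ r ∈ R z, t * r * t ∈ R z := by
    intro r hr
    have := h.nR t htz r hr
    rwa [tinv] at this
  have cover : ∀ q ∈ K z, ∀ r ∈ R z, t * q * t = q * r → ∃ x ∈ K z, x * t = t * x ∧ ∃ s ∈ R z, q = x * s := by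
    intro q hq r hr h1
    obtain ⟨s, hs, h2⟩ := normalise q hq
    have hx : q * s⁻¹ ∈ K z := (K z).mul_mem hq (h.RK ((R z).inv_mem hs))
    refine ⟨q * s⁻¹, hx, ?_, s, hs, by group⟩
    apply cover0 _ hx h2 (r * s * (t * s⁻¹ * t)) ((R z).mul_mem ((R z).mul_mem hr hs) (tRt _ ((R z).inv_mem hs)))
    have hsr : s⁻¹ * (r * s) = r := by
      have := Kc r hr s (h.RK hs)
      rw [this]; group
    calc t * (q * s⁻¹) * t = (t * q * t) * (t⁻¹ * s⁻¹ * t) := by group
      _ = q * r * (t * s⁻¹ * t) := by rw [h1, tinv]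
      _ = q * (s⁻¹ * (r * s)) * (t * s⁻¹ * t) := by rw [hsr]
      _ = q * s⁻¹ * (r * s * (t * s⁻¹ * t)) := by group
  -- some `q ∈ K z`, `q² = 1`, with `t q t ∉ q R z`
  have hexists : ∃ q ∈ K z, q * q = 1 ∧ ∀ r ∈ R z, t * q * t ≠ q * r := by
    by_contra hcon
    push Not at hcon
    apply hKR
    apply le_antisymm _ h.RK
    -- every element is `x s`, `x ∈ C(t)`, `s ∈ R`
    have hdec : ∀ q ∈ K z, ∃ x ∈ K z, x * t = t * x ∧ ∃ s ∈ R z, q = x * s := by
      intro q hq
      obtain ⟨s, hs, h2⟩ := normalise q hq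
      have hx : q * s⁻¹ ∈ K z := (K z).mul_mem hq (h.RK ((R z).inv_mem hs))
      obtain ⟨r, hr, h3⟩ := hcon _ hx h2
      exact ⟨q * s⁻¹, hx, cover0 _ hx h2 r hr h3, s, hs, by group⟩
    intro q hq
    apply h.selfK q (h.Qz q (h.KQ hq))
    intro v hv
    obtain ⟨x, hx, hxt, s, hs, rfl⟩ := hdec q hq
    obtain ⟨x', hx', hxt', s', hs', rfl⟩ := hdec v hv
    have c1 := Xc x hx hxt x' hx' hxt'
    have c2 := Kc s hs x' hx'
    have c3 := Kc s' hs' x hx
    have c4 := Kc s hs s' (h.RK hs')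
    calc x * s * (x' * s') = x * (s * x') * s' := by group
      _ = x * x' * (s * s') := by rw [c2]; group
      _ = x' * (x * s') * s := by rw [c1, c4]; group
      _ = x' * s' * (x * s) := by rw [← c3]; group
  obtain ⟨q, hq, hqq, hqr⟩ := hexists
  have qinv : q⁻¹ = q := inv_eq_of_mul_eq_one_left hqq
  -- `k = t q⁻¹ t q`
  set k := t * q * t * q with hk
  have tKt : ∀ x ∈ K z, t * x * t ∈ K z := by
    intro x hx
    have := h.nK t htz x hx
    rwa [tinv] at this
  have hkK : k ∈ K z := (K z).mul_mem (tKt q hq) hq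
  have htk : t * k ∈ D := by
    have h1 := F.conj_mem t htD q
    have e : t * k = q * t * q⁻¹ := by
      rw [hk, qinv]
      calc t * (t * q * t * q) = (t * t) * q * t * q := by group
        _ = q * t * q := by rw [tt, one_mul]
    rw [e]; exact h1
  have kinv : t * k * t = k⁻¹ := by
    rw [eq_comm, inv_eq_iff_mul_eq_one, hk]
    calc (t * q * t * q) * (t * (t * q * t * q) * t) = t * q * t * q * (t * t) * q * t * q * t := by group
      _ = t * q * t * (q * q) * t * q * t := by rw [tt]; group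
      _ = t * q * (t * t) * q * t := by rw [hqq]; group
      _ = t * (q * q) * t := by rw [tt]; group
      _ = 1 := by rw [hqq, mul_one, tt]
  have hkkR : k * k ∈ R z := by
    obtain ⟨r, hr, h1⟩ := h.sq k hkK
    rw [h1]; exact (R z).mul_mem hr hr
  obtain ⟨x, hx, hxt, σ, hσ, hkx⟩ := cover k hkK (k * k)⁻¹ ((R z).inv_mem hkkR) (by rw [kinv]; group)
  have hxx := X2 x hx hxt
  have xinv : x⁻¹ = x := inv_eq_of_mul_eq_one_left hxx
  have hσx := Kc σ hσ x hx
  -- `σ² ∈ {1, z}`
  have hσσ : σ * σ = 1 ∨ σ * σ = z := by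
    have h1 : k * k = σ * σ := by
      rw [hkx]
      calc x * σ * (x * σ) = x * (σ * x) * σ := by group
        _ = (x * x) * (σ * σ) := by rw [hσx]; group
        _ = σ * σ := by rw [hxx, one_mul]
    rw [← h1, hk]
    set p := t * q * t with hp
    have hpp : p * p = 1 := by
      rw [hp]
      calc (t * q * t) * (t * q * t) = t * q * (t * t) * q * t := by group
        _ = t * (q * q) * t := by rw [tt]; group
        _ = 1 := by rw [hqq, mul_one, tt]
    have hpK : p ∈ K z := tKt q hq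
    rcases h.comm q hq p hpK with h2 | h2
    · left
      calc p * q * (p * q) = p * (q * p) * q := by group
        _ = (p * p) * (q * q) := by rw [h2]; group
        _ = 1 := by rw [hpp, hqq, mul_one]
    · right
      have hqz := h.Qz q (h.KQ hq)
      calc p * q * (p * q) = p * (q * p) * q := by group
        _ = (p * p) * (q * (z * q)) := by rw [h2]; group
        _ = (p * p) * (q * q) * z := by rw [← hqz]; group
        _ = z := by rw [hpp, hqq, one_mul, one_mul]
  -- `τ ∈ R` with `(t τ t) τ⁻¹ = σ⁻¹`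
  have hτ : ∃ τ ∈ R z, (t * τ * t) * τ⁻¹ = σ⁻¹ := by
    have hw2 : (t * w * t) * (t * w * t) = y * z := by
      calc (t * w * t) * (t * w * t) = t * w * (t * t) * w * t := by group
        _ = t * (w * w) * t := by rw [tt]; group
        _ = y * z := htyt
    have hwR' := tRt w hw
    have hcw : (t * w * t) * w⁻¹ = w⁻¹ * (t * w * t) := (Kc _ hwR' _ (h.RK ((R z).inv_mem hw)))
    -- `e := (t w t) w`, `e² = 1`
    have hcw' : (t * w * t) * w = w * (t * w * t) := (Kc _ hwR' _ (h.RK hw))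
    have he : ((t * w * t) * w) * ((t * w * t) * w) = 1 := by
      calc ((t * w * t) * w) * ((t * w * t) * w) = (t * w * t) * (w * (t * w * t)) * w := by group
        _ = (t * w * t) * ((t * w * t) * w) * w := by rw [hcw']
        _ = ((t * w * t) * (t * w * t)) * (w * w) := by group
        _ = y * z * y := by rw [hw2]
        _ = 1 := by rw [mul_assoc, ← yz, ← mul_assoc, hw4, hzz]
    have hyi : y⁻¹ * z = y := by rw [yinv, mul_assoc, hzz, mul_one]
    have two : ((t * w * t) * w⁻¹ = y⁻¹ ∧ (t * w⁻¹ * t) * w = y) ∨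
        ((t * w * t) * w⁻¹ = y ∧ (t * w⁻¹ * t) * w = y⁻¹) := by
      have hti : t * w⁻¹ * t = (t * w * t)⁻¹ := by
        have : (t * w * t)⁻¹ = t⁻¹ * w⁻¹ * t⁻¹ := by group
        rw [this, tinv]
      have hcomm2 : (t * w * t)⁻¹ * w = w * (t * w * t)⁻¹ := by
        rw [inv_mul_eq_iff_eq_mul, ← mul_assoc, hcw', mul_assoc, mul_inv_cancel, mul_one]
      rcases h.uniq _ ((R z).mul_mem hwR' hw) he with h1 | h1
      · left
        have h2 : t * w * t = w⁻¹ := eq_inv_of_mul_eq_one_left h1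
        rw [hti, h2]
        constructor
        · rw [hy]; group
        · rw [hy]; group
      · right
        have h2 : t * w * t = z * w⁻¹ := by rw [← h1]; group
        have hwz : w * z = z * w := h.Qz w (h.KQ (h.RK hw))
        rw [hti, h2]
        constructor
        · calc z * w⁻¹ * w⁻¹ = z * (w * w)⁻¹ := by group
            _ = z * y⁻¹ := rfl
            _ = y := by rw [yinv, yz, ← mul_assoc, hzz, one_mul]
        · calc (z * w⁻¹)⁻¹ * w = w * z⁻¹ * w := by group
            _ = w * z * w := by rw [h.z_inv]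
            _ = z * (w * w) := by rw [hwz]; group
            _ = y⁻¹ := by rw [yinv, yz]
    have hRinv : ∀ r ∈ R z, r⁻¹ ∈ R z := fun r hr => (R z).inv_mem hr
    rcases hσσ with h1 | h1
    · rcases h.uniq σ hσ h1 with h2 | h2
      · exact ⟨1, (R z).one_mem, by rw [h2, mul_one, tt]; group⟩
      · refine ⟨y, hyR, ?_⟩
        rw [htyt, h2, h.z_inv, yz, mul_assoc, mul_inv_cancel, mul_one]
    · rcases h.eq_y hyR hσ hw4 h1 with h2 | h2
      · -- `σ = y`
        rw [h2]
        rcases two with ⟨h3, -⟩ | ⟨-, h3⟩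
        · exact ⟨w, hw, h3⟩
        · exact ⟨w⁻¹, hRinv w hw, by rw [inv_inv]; exact h3⟩
      · -- `σ = y⁻¹`
        have h4 : σ⁻¹ = y := by rw [h2, ← yinv, inv_inv]
        rw [h4]
        rcases two with ⟨-, h3⟩ | ⟨h3, -⟩
        · exact ⟨w⁻¹, hRinv w hw, by rw [inv_inv]; exact h3⟩
        · exact ⟨w, hw, h3⟩
  obtain ⟨τ, hτR, hτ⟩ := hτ
  have htx : t * x ∈ D := by
    have h1 := F.conj_mem _ htk τ
    have hτk := Kc _ ((R z).inv_mem hτR) k hkK
    have e : τ * (t * k) * τ⁻¹ = t * x := by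
      calc τ * (t * k) * τ⁻¹ = τ * t * (k * τ⁻¹) := by group
        _ = τ * t * (τ⁻¹ * k) := by rw [hτk]
        _ = (t * t) * τ * t * τ⁻¹ * k := by rw [tt, one_mul]; group
        _ = t * ((t * τ * t) * τ⁻¹) * k := by group
        _ = t * σ⁻¹ * (x * σ) := by rw [hτ, hkx]
        _ = t * (σ⁻¹ * (x * σ)) := by group
        _ = t * x := by rw [← hσx]; group
    rw [e] at h1
    exact h1
  -- conclusion
  have hx1 : x = 1 ∨ x = z := by
    by_cases h1 : t = t * x
    · left; exact mul_eq_left.1 h1.symm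
    · right
      have h2 : t * (t * x) = (t * x) * t := by rw [mul_assoc t x t, hxt]
      have h3 := F.mul_mem htD htx h1 h2
      rw [← mul_assoc, tt, one_mul] at h3
      by_contra hxz
      have h4 := F.inverts hzD h3 (Ne.symm hxz) (h.Qz x (h.KQ hx)).symm hyR hw4
      rw [← Kc y hyR x hx, mul_inv_cancel_right] at h4
      exact h.ne_mul y h4
  have hkR : k ∈ R z := by
    rw [hkx]
    rcases hx1 with h1 | h1 <;> rw [h1]
    · rw [one_mul]; exact hσ
    · exact (R z).mul_mem h.zR hσ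
  apply hqr k⁻¹ ((R z).inv_mem hkR)
  rw [hk]
  have : (t * q * t * q)⁻¹ = q⁻¹ * (t⁻¹ * q⁻¹ * t⁻¹) := by group
  rw [this, tinv, qinv]
  calc t * q * t = (q * q) * (t * q * t) := by rw [hqq, one_mul]
    _ = q * (q * (t * q * t)) := by group

end Cfsg.Agent.ClassificationK.SymplFront
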