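import Cfsg.Agent.ClassificationK.SymplSetup
import Cfsg.Agent.ClassificationK.LargeSymplectic

/-!
# The class `D = z^G` with the subgroups `Q a = F*(C(a))`, `U a = Z(Q a) = ⟨u a⟩` (S1758, helper577)

* `Fam D Q u` and its existence `exists_fam`;
* types `A` / `B` of commuting pairs: `Fam.typeA_or_typeB`;
* closure: `Fam.mul_mem`: `a, b ∈ D` commuting and distinct `→ a * b ∈ D`.
-/

set_option autoImplicit false

namespace Cfsg.Agent.ClassificationK.SymplSetup

variable {G : Type*} [Group G]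

theorem conj_mem_map {Q : Subgroup G} (g x : G) :
    x ∈ Q.map (MulAut.conj g).toMonoidHom ↔ g⁻¹ * x * g ∈ Q := by
  constructor
  · rintro ⟨y, hy, rfl⟩
    have : g⁻¹ * (MulAut.conj g).toMonoidHom y * g = y := by
      show g⁻¹ * (g * y * g⁻¹) * g = y
      group
    rw [this]; exact hy
  · intro h
    refine ⟨_, h, ?_⟩
    show g * (g⁻¹ * x * g) * g⁻¹ = x
    group

namespace Symp

variable {Q : Subgroup G} {z u : G}

/-- the generator `u⁻¹` -/
theorem inv (h : Symp Q z u) : Symp Q z u⁻¹ where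
  u_mem := inv_mem h.u_mem
  u_sq := by rw [← mul_inv_rev, h.u_sq, h.z_inv]
  z_ne := h.z_ne
  z_sq := h.z_sq
  comm_u := fun x hx => (h.commu hx).inv_right.eq
  conj_mem := h.conj_mem
  sq := h.sq
  comm := h.comm
  self := fun g hg hc => by
    rcases h.self g hg hc with h1 | h1 | h1 | h1
    · exact Or.inl h1
    · exact Or.inr (Or.inl h1)
    · right; right; right
      rw [h1, h.u_inv, mul_assoc, h.z_sq, mul_one]
    · right; right; left
      rw [h1, h.u_inv]
  core := h.core
  nonab := h.nonab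

theorem conj (h : Symp Q z u) (g : G) :
    Symp (Q.map (MulAut.conj g).toMonoidHom) (g * z * g⁻¹) (g * u * g⁻¹) := by
  have hcz : ∀ x, x * (g * z * g⁻¹) = (g * z * g⁻¹) * x ↔ (g⁻¹ * x * g) * z = z * (g⁻¹ * x * g) := by
    intro x
    constructor
    · intro hx
      calc (g⁻¹ * x * g) * z = g⁻¹ * (x * (g * z * g⁻¹)) * g := by group
        _ = z * (g⁻¹ * x * g) := by rw [hx]; group
    · intro hx
      calc x * (g * z * g⁻¹) = g * ((g⁻¹ * x * g) * z) * g⁻¹ := by group
        _ = (g * z * g⁻¹) * x := by rw [hx]; group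
  refine
    { u_mem := ⟨u, h.u_mem, rfl⟩
      u_sq := ?_
      z_ne := ?_
      z_sq := ?_
      comm_u := ?_
      conj_mem := ?_
      sq := ?_
      comm := ?_
      self := ?_
      core := ?_
      nonab := ?_ }
  · calc g * u * g⁻¹ * (g * u * g⁻¹) = g * (u * u) * g⁻¹ := by group
      _ = g * z * g⁻¹ := by rw [h.u_sq]
  · intro h1
    apply h.z_ne
    calc z = g⁻¹ * (g * z * g⁻¹) * g := by group
      _ = 1 := by rw [h1]; group
  · calc g * z * g⁻¹ * (g * z * g⁻¹) = g * (z * z) * g⁻¹ := by group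
      _ = 1 := by rw [h.z_sq]; group
  · intro x hx
    rw [conj_mem_map] at hx
    have h1 := h.comm_u _ hx
    calc x * (g * u * g⁻¹) = g * ((g⁻¹ * x * g) * u) * g⁻¹ := by group
      _ = g * u * g⁻¹ * x := by rw [h1]; group
  · intro c hc x hx
    rw [conj_mem_map] at hx ⊢
    rw [hcz] at hc
    have h1 := h.conj_mem _ hc _ hx
    have e : g⁻¹ * c * g * (g⁻¹ * x * g) * (g⁻¹ * c * g)⁻¹ = g⁻¹ * (c * x * c⁻¹) * g := by group
    rwa [e] at h1
  · intro x hx
    rw [conj_mem_map] at hx
    rcases h.sq _ hx with h1 | h1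
    · left
      calc x * x = g * ((g⁻¹ * x * g) * (g⁻¹ * x * g)) * g⁻¹ := by group
        _ = 1 := by rw [h1]; group
    · right
      calc x * x = g * ((g⁻¹ * x * g) * (g⁻¹ * x * g)) * g⁻¹ := by group
        _ = _ := by rw [h1]
  · intro x hx y hy
    rw [conj_mem_map] at hx hy
    rcases h.comm _ hx _ hy with h1 | h1
    · left
      calc x * y = g * ((g⁻¹ * x * g) * (g⁻¹ * y * g)) * g⁻¹ := by group
        _ = _ := by rw [h1]; group
    · right
      calc x * y = g * ((g⁻¹ * x * g) * (g⁻¹ * y * g)) * g⁻¹ := by group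
        _ = _ := by rw [h1]; group
  · intro c hc hx
    rw [hcz] at hc
    have h1 := h.self _ hc (by
      intro x hxQ
      have h2 := hx (g * x * g⁻¹) ⟨x, hxQ, rfl⟩
      calc g⁻¹ * c * g * x = g⁻¹ * (c * (g * x * g⁻¹)) * g := by group
        _ = x * (g⁻¹ * c * g) := by rw [h2]; group)
    have e : ∀ d, g⁻¹ * c * g = d → c = g * d * g⁻¹ := by
      intro d hd; rw [← hd]; group
    rcases h1 with h1 | h1 | h1 | h1
    · left; rw [e _ h1]; group
    · right; left; exact e _ h1
    · right; right; left; exact e _ h1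
    · right; right; right; rw [e _ h1]; group
  · intro N hN1 hN2 hN3
    have h1 : N.map (MulAut.conj g⁻¹).toMonoidHom ≤ Q := by
      apply h.core
      · rintro _ ⟨x, hx, rfl⟩
        have h2 := (hcz x).1 (hN1 x hx)
        show (g⁻¹ * x * (g⁻¹)⁻¹) * z = z * (g⁻¹ * x * (g⁻¹)⁻¹)
        rwa [inv_inv]
      · rintro c hc _ ⟨x, hx, rfl⟩
        refine ⟨(g * c * g⁻¹) * x * (g * c * g⁻¹)⁻¹, hN2 _ ?_ x hx, ?_⟩
        · rw [hcz]
          have e : g⁻¹ * (g * c * g⁻¹) * g = c := by group
          rw [e]; exact hc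
        · show g⁻¹ * ((g * c * g⁻¹) * x * (g * c * g⁻¹)⁻¹) * (g⁻¹)⁻¹ = c * (g⁻¹ * x * (g⁻¹)⁻¹) * c⁻¹
          group
      · exact hN3.map _
    intro x hx
    rw [conj_mem_map]
    have h2 := h1 ⟨x, hx, rfl⟩
    have e : (MulAut.conj g⁻¹).toMonoidHom x = g⁻¹ * x * g := by
      show g⁻¹ * x * (g⁻¹)⁻¹ = g⁻¹ * x * g
      rw [inv_inv]
    rwa [e] at h2
  · obtain ⟨x, hx, y, hy, hxy⟩ := h.nonab
    refine ⟨g * x * g⁻¹, ⟨x, hx, rfl⟩, g * y * g⁻¹, ⟨y, hy, rfl⟩, fun h1 => hxy ?_⟩
    calc x * y = g⁻¹ * ((g * x * g⁻¹) * (g * y * g⁻¹)) * g := by group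
      _ = y * x := by rw [h1]; group

/-- If `g` and `g'` conjugate `z` to the same element, `Q^g = Q^g'`. -/
theorem map_eq_of_conj (h : Symp Q z u) {g g' : G} (hg : g * z * g⁻¹ = g' * z * g'⁻¹) :
    Q.map (MulAut.conj g).toMonoidHom = Q.map (MulAut.conj g').toMonoidHom := by
  have key : ∀ g g' : G, g * z * g⁻¹ = g' * z * g'⁻¹ →
      Q.map (MulAut.conj g).toMonoidHom ≤ Q.map (MulAut.conj g').toMonoidHom := by
    rintro g g' hg _ ⟨x, hx, rfl⟩
    have h1 : (g'⁻¹ * g) * z = z * (g'⁻¹ * g) := by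
      have : g'⁻¹ * g * z * g⁻¹ * g' = z := by
        calc g'⁻¹ * g * z * g⁻¹ * g' = g'⁻¹ * (g * z * g⁻¹) * g' := by group
          _ = z := by rw [hg]; group
      calc g'⁻¹ * g * z = (g'⁻¹ * g * z * g⁻¹ * g') * (g'⁻¹ * g) := by group
        _ = _ := by rw [this]
    refine ⟨_, h.conj_mem _ h1 x hx, ?_⟩
    show g' * (g'⁻¹ * g * x * (g'⁻¹ * g)⁻¹) * g'⁻¹ = g * x * g⁻¹
    group
  exact le_antisymm (key g g' hg) (key g' g hg.symm)

/-- `Symp` in the form of `LargeSymplectic.Data`. -/
theorem data (h : Symp Q z u) : LargeSymplectic.Data Q z where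
  sqz := h.z_sq
  norm := h.conj_mem
  cent := fun c hc => by
    have hz : c * z = z * c := by
      have := hc z h.z_mem
      rw [mul_inv_eq_iff_eq_mul] at this
      exact this.symm
    rcases h.self c hz (fun x hx => by
      have := hc x hx
      rw [mul_inv_eq_iff_eq_mul] at this
      exact this.symm) with h1 | h1 | h1 | h1 <;> rw [h1]
    · exact one_mem _
    · exact h.z_mem
    · exact h.u_mem
    · exact mul_mem h.u_mem h.z_mem
  mem := h.z_mem
  com := h.comm_z
  comm := fun x hx y hy => by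
    rcases h.comm x hx y hy with h1 | h1
    · left; rw [h1]; group
    · right
      rw [h1, mul_assoc (y * x), ← (h.commz hx).inv_left.eq, ← (h.commz hy).eq]
      group
  sq := h.sq
  cen := fun x hx hc hxx => by
    rcases h.cent x hx (fun y hy => by
      have := hc y hy
      rw [mul_inv_eq_iff_eq_mul] at this
      exact this.symm) with h1 | h1 | h1 | h1
    · exact Or.inl h1
    · exact Or.inr h1
    · exfalso; rw [h1, h.u_sq] at hxx; exact h.z_ne hxx
    · exfalso
      apply h.z_ne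
      rw [h1] at hxx
      calc z = (u * u) * (z * z) := by rw [h.u_sq, h.z_sq, mul_one]
        _ = u * (u * z) * z := by group
        _ = u * (z * u) * z := by rw [h.uz]
        _ = u * z * (u * z) := by group
        _ = 1 := hxx

/-- An involution of `Q` other than `z` is conjugate in `Q` to its product with `z`. -/
theorem exists_conj (h : Symp Q z u) {x : G} (hx : x ∈ Q) (hxx : x * x = 1) (h1 : x ≠ 1) (hz : x ≠ z) :
    ∃ y ∈ Q, y * x * y⁻¹ = x * z := by
  by_contra hcon
  push Not at hcon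
  have h2 : ∀ y ∈ Q, x * y = y * x := by
    intro y hy
    rcases h.comm y hy x hx with h2 | h2
    · exact h2.symm
    · exfalso
      apply hcon y hy
      rw [h2, mul_assoc _ z, ← (h.commz hy).inv_left.eq]
      group
  rcases h.cent x hx h2 with h3 | h3 | h3 | h3
  · exact h1 h3
  · exact hz h3
  · rw [h3, h.u_sq] at hxx; exact h.z_ne hxx
  · apply h.z_ne
    rw [h3] at hxx
    calc z = (u * u) * (z * z) := by rw [h.u_sq, h.z_sq, mul_one]
      _ = u * (u * z) * z := by group
      _ = u * (z * u) * z := by rw [h.uz]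
      _ = u * z * (u * z) := by group
      _ = 1 := hxx

/-- The square roots of `z` centralising `Q` are `u`, `u⁻¹`. -/
theorem eq_u_or (h : Symp Q z u) {x : G} (hxx : x * x = z) (hc : ∀ y ∈ Q, x * y = y * x) :
    x = u ∨ x = u * z := by
  have hxz : x * z = z * x := by rw [← hxx]; group
  rcases h.self x hxz hc with h3 | h3 | h3 | h3
  · exfalso; rw [h3, one_mul] at hxx; exact h.z_ne hxx.symm
  · exfalso; rw [h3, h.z_sq] at hxx; exact h.z_ne hxx.symm
  · exact Or.inl h3
  · exact Or.inr h3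

end Symp

/-- The class `D` of `z` with `Q a = F*(C(a))` and a generator `u a` of `Z(Q a)` for `a ∈ D`. -/
structure Fam (D : Set G) (Q : G → Subgroup G) (u : G → G) : Prop where
  loc : ∀ a ∈ D, Symp (Q a) a (u a)
  conj_mem : ∀ a ∈ D, ∀ g, g * a * g⁻¹ ∈ D
  conjQ : ∀ a ∈ D, ∀ g, Q (g * a * g⁻¹) = (Q a).map (MulAut.conj g).toMonoidHom
  trans : ∀ a ∈ D, ∀ b ∈ D, ∃ g, g * a * g⁻¹ = b

theorem exists_fam {Q : Subgroup G} {z u : G} (h : Symp Q z u) :
    ∃ (Qf : G → Subgroup G) (uf : G → G), Fam {a | ∃ g, g * z * g⁻¹ = a} Qf uf ∧ Qf z = Q ∧ uf z = u := by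
  classical
  set D : Set G := {a | ∃ g, g * z * g⁻¹ = a} with hD
  have hex : ∀ a : G, ∃ g : G, (a ∈ D → g * z * g⁻¹ = a) ∧ (a = z → g = 1) := by
    intro a
    by_cases haz : a = z
    · exact ⟨1, fun _ => by rw [haz]; group, fun _ => rfl⟩
    by_cases ha : a ∈ D
    · obtain ⟨g, hg⟩ := ha
      exact ⟨g, fun _ => hg, fun h1 => absurd h1 haz⟩
    · exact ⟨1, fun h1 => absurd h1 ha, fun _ => rfl⟩
  choose γ hγ hγz using hex
  refine ⟨fun a => Q.map (MulAut.conj (γ a)).toMonoidHom, fun a => γ a * u * (γ a)⁻¹, ?_, ?_, ?_⟩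
  · refine ⟨?_, ?_, ?_, ?_⟩
    · intro a ha
      have := h.conj (γ a)
      rwa [hγ a ha] at this
    · rintro a ⟨k, rfl⟩ g
      exact ⟨g * k, by group⟩
    · intro a ha g
      have ha' : g * a * g⁻¹ ∈ D := by
        obtain ⟨k, rfl⟩ := ha
        exact ⟨g * k, by group⟩
      show Q.map (MulAut.conj (γ (g * a * g⁻¹))).toMonoidHom =
        (Q.map (MulAut.conj (γ a)).toMonoidHom).map (MulAut.conj g).toMonoidHom
      have h1 : (Q.map (MulAut.conj (γ a)).toMonoidHom).map (MulAut.conj g).toMonoidHom =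
          Q.map (MulAut.conj (g * γ a)).toMonoidHom := by
        rw [Subgroup.map_map]
        congr 1
        ext y
        show g * (γ a * y * (γ a)⁻¹) * g⁻¹ = g * γ a * y * (g * γ a)⁻¹
        group
      rw [h1]
      apply h.map_eq_of_conj
      rw [hγ _ ha']
      calc g * a * g⁻¹ = g * (γ a * z * (γ a)⁻¹) * g⁻¹ := by rw [hγ a ha]
        _ = g * γ a * z * (g * γ a)⁻¹ := by group
    · rintro a ⟨k, rfl⟩ b ⟨l, rfl⟩
      exact ⟨l * k⁻¹, by group⟩
  · show Q.map (MulAut.conj (γ z)).toMonoidHom = Q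
    rw [hγz z rfl]
    ext x
    rw [conj_mem_map]
    simp
  · show γ z * u * (γ z)⁻¹ = u
    rw [hγz z rfl]
    group

namespace Fam

variable {D : Set G} {Q : G → Subgroup G} {u : G → G}

/-- `u` of a conjugate. -/
theorem conju (F : Fam D Q u) {a : G} (ha : a ∈ D) (g : G) :
    u (g * a * g⁻¹) = g * u a * g⁻¹ ∨ u (g * a * g⁻¹) = (g * u a * g⁻¹)⁻¹ := by
  have h1 := (F.loc a ha).conj g
  rw [← F.conjQ a ha g] at h1
  have h2 := F.loc _ (F.conj_mem a ha g)
  rcases h1.eq_u_or h2.u_sq (fun y hy => (h2.comm_u y hy).symm) with h3 | h3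
  · exact Or.inl h3
  · right; rw [h3, h1.u_inv]

theorem mem_conjQ (F : Fam D Q u) {a : G} (ha : a ∈ D) (g x : G) :
    x ∈ Q (g * a * g⁻¹) ↔ g⁻¹ * x * g ∈ Q a := by
  rw [F.conjQ a ha g, conj_mem_map]

/-- `g` centralising `a ∈ D` centralises or inverts `u a`. -/
theorem conj_u (F : Fam D Q u) {a g : G} (ha : a ∈ D) (hg : g * a = a * g) :
    g * u a = u a * g ∨ g * u a * g⁻¹ = u a * a := by
  rcases (F.loc a ha).conj_u hg with h | h
  · left
    rw [mul_inv_eq_iff_eq_mul] at h
    exact h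
  · exact Or.inr h

theorem comm_of_comm_u (F : Fam D Q u) {a g : G} (ha : a ∈ D) (hg : g * u a = u a * g) : g * a = a * g := by
  have h := (F.loc a ha).u_sq
  rw [← h, ← mul_assoc, hg, mul_assoc, hg, mul_assoc]

/-- **Types.** Let `a, b ∈ D` be distinct and commute. Either (A) `u a` and `u b` commute, or (B) `a` inverts `u b`
and `b` inverts `u a`. -/
theorem typeA_or_typeB (F : Fam D Q u) {a b : G} (ha : a ∈ D) (hb : b ∈ D) (hne : a ≠ b) (hab : a * b = b * a) :
    u a * u b = u b * u a ∨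
      (a * u b * a⁻¹ = u b * b ∧ b * u a * b⁻¹ = u a * a) := by
  have key : ∀ a b, a ∈ D → b ∈ D → a ≠ b → a * b = b * a → a * u b = u b * a → u a * u b = u b * u a := by
    intro a b ha hb hne hab h1
    -- `u b` centralises `a`, hence centralises or inverts `u a`; `b` centralises `u a`
    have h2 : u b * a = a * u b := h1.symm
    rcases F.conj_u ha h2 with h3 | h3
    · exact h3.symm
    · -- `b = (u b)²` centralises `u a`
      exfalso
      have la := F.loc a ha
      have lb := F.loc b hb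
      have h4 : u b * a * (u b)⁻¹ = a := by rw [h2]; group
      have h5 : b * u a = u a * b := by
        have : b * u a * b⁻¹ = u a := by
          calc b * u a * b⁻¹ = (u b * u b) * u a * (u b * u b)⁻¹ := by rw [lb.u_sq]
            _ = u b * (u b * u a * (u b)⁻¹) * (u b)⁻¹ := by group
            _ = u b * (u a * a) * (u b)⁻¹ := by rw [h3]
            _ = (u b * u a * (u b)⁻¹) * (u b * a * (u b)⁻¹) := by group
            _ = u a * a * a := by rw [h3, h4]
            _ = u a := by rw [mul_assoc, la.z_sq, mul_one]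
        rw [mul_inv_eq_iff_eq_mul] at this
        exact this
      -- so `u a` centralises `b` and centralises or inverts `u b`
      rcases F.conj_u hb h5.symm with h6 | h6
      · have : u b * u a * (u b)⁻¹ = u a := by rw [← h6]; group
        rw [this] at h3
        exact la.z_ne (mul_eq_left.1 h3.symm)
      · -- `[u b, u a] = a`-ish and `= b`-ish
        apply hne
        have e1 : u b * u a = u a * a * u b := by
          rw [mul_inv_eq_iff_eq_mul] at h3; exact h3
        have e2 : u a * u b = u b * b * u a := by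
          rw [mul_inv_eq_iff_eq_mul] at h6; exact h6
        have e3 : b * u a = u a * b := h5
        have e4 : u a * a * u b = u a * u b * a := by rw [mul_assoc, ← h2, mul_assoc]
        have e5 : u b * b * u a = u b * u a * b := by rw [mul_assoc, e3, mul_assoc]
        -- e1: ub ua = ua ub a ; e2 : ua ub = ub ua b
        rw [e4] at e1
        rw [e5] at e2
        rw [e2] at e1
        -- ub ua = ub ua b a
        have e6 : b * a = 1 := by
          have := mul_left_cancel (a := u b * u a) (b := 1) (c := b * a) (by rw [mul_one, ← mul_assoc]; exact e1)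
          exact this.symm
        calc a = b⁻¹ := by rw [eq_inv_iff_mul_eq_one, hab, e6]
          _ = b := lb.z_inv
  rcases F.conj_u hb hab with h1 | h1
  · exact Or.inl (key a b ha hb hne hab h1)
  · rcases F.conj_u ha hab.symm with h2 | h2
    · exact Or.inl (key b a hb ha hne.symm hab.symm h2).symm
    · exact Or.inr ⟨h1, h2⟩

/-- **Closure in type B.** -/
theorem mul_mem_of_inv (F : Fam D Q u) {a b : G} (ha : a ∈ D) (hb : b ∈ D)
    (h : b * u a * b⁻¹ = u a * a) : a * b ∈ D := by
  have la := F.loc a ha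
  have h1 := F.conj_mem b hb (u a)⁻¹
  have e : (u a)⁻¹ * b * ((u a)⁻¹)⁻¹ = a * b := by
    rw [inv_inv]
    calc (u a)⁻¹ * b * u a = (u a)⁻¹ * (b * u a * b⁻¹) * b := by group
      _ = a * b := by rw [h]; group
  rwa [e] at h1

/-- **Closure in type A, first case.** -/
theorem mul_mem_of_mem (F : Fam D Q u) {a b : G} (ha : a ∈ D) (hb : b ∈ D) (hne : a ≠ b)
    (h : b ∈ Q a) : a * b ∈ D := by
  have la := F.loc a ha
  have lb := F.loc b hb
  obtain ⟨y, hy, h1⟩ := la.exists_conj h lb.z_sq lb.z_ne hne.symm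
  have h2 := F.conj_mem b hb y
  rw [h1, la.comm_z b h] at h2
  exact h2

/-- The fixed point argument: an element of a 2-group acting on the 2-group `K` without fixed points outside `P`. -/
theorem eq_of_fixed [Finite G] {K P : Subgroup G} (hK : IsPGroup 2 K) (hPK : P ≤ K)
    {r : G} {n : ℕ} (hr : r ^ (2 ^ n) = 1) (hrK : ∀ x ∈ K, r * x * r⁻¹ ∈ K) (hrP : ∀ x ∈ P, r * x * r⁻¹ ∈ P)
    (hfix : ∀ x ∈ K, x⁻¹ * (r * x * r⁻¹) ∈ P → x ∈ P) : P = K := by
  classical
  by_contra hne
  -- action of `⟨r⟩` on the cosets of `P` in `K`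
  have hrK' : ∀ k : ℕ, ∀ x ∈ K, r ^ k * x * (r ^ k)⁻¹ ∈ K := by
    intro k
    induction k with
    | zero => intro x hx; simpa using hx
    | succ k ih =>
      intro x hx
      have e : r ^ (k + 1) * x * (r ^ (k + 1))⁻¹ = r * (r ^ k * x * (r ^ k)⁻¹) * r⁻¹ := by
        rw [pow_succ']; group
      rw [e]
      exact hrK _ (ih x hx)
  have hrP' : ∀ k : ℕ, ∀ x ∈ P, r ^ k * x * (r ^ k)⁻¹ ∈ P := by
    intro k
    induction k with
    | zero => intro x hx; simpa using hx
    | succ k ih =>
      intro x hx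
      have e : r ^ (k + 1) * x * (r ^ (k + 1))⁻¹ = r * (r ^ k * x * (r ^ k)⁻¹) * r⁻¹ := by
        rw [pow_succ']; group
      rw [e]
      exact hrP _ (ih x hx)
  have hfin : Finite (Subgroup.zpowers r) := inferInstance
  have hgenK : ∀ s : Subgroup.zpowers r, ∀ x ∈ K, (s : G) * x * (s : G)⁻¹ ∈ K := by
    intro s x hx
    obtain ⟨k, hk⟩ := (mem_powers_iff_mem_zpowers.2 s.2 : (s : G) ∈ Submonoid.powers r)
    have hk' : r ^ k = (s : G) := hk
    rw [← hk']
    exact hrK' k x hx
  have hgenP : ∀ s : Subgroup.zpowers r, ∀ x ∈ P, (s : G) * x * (s : G)⁻¹ ∈ P := by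
    intro s x hx
    obtain ⟨k, hk⟩ := (mem_powers_iff_mem_zpowers.2 s.2 : (s : G) ∈ Submonoid.powers r)
    have hk' : r ^ k = (s : G) := hk
    rw [← hk']
    exact hrP' k x hx
  let X := K ⧸ (P.subgroupOf K)
  let f : Subgroup.zpowers r → K → K := fun s x => ⟨(s : G) * (x : G) * (s : G)⁻¹, hgenK s x x.2⟩
  have hf : ∀ s : Subgroup.zpowers r, ∀ x y : K, QuotientGroup.leftRel (P.subgroupOf K) x y →
      QuotientGroup.leftRel (P.subgroupOf K) (f s x) (f s y) := by
    intro s x y hxy
    rw [QuotientGroup.leftRel_apply, Subgroup.mem_subgroupOf] at hxy ⊢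
    have h1 := hgenP s _ hxy
    have e : (s : G) * ((x⁻¹ * y : K) : G) * (s : G)⁻¹ = (((f s x)⁻¹ * f s y : K) : G) := by
      show (s : G) * ((x : G)⁻¹ * y) * (s : G)⁻¹ = ((s : G) * x * (s : G)⁻¹)⁻¹ * ((s : G) * y * (s : G)⁻¹)
      group
    rwa [e] at h1
  let act : MulAction (Subgroup.zpowers r) X :=
    { smul := fun s => Quotient.map' (f s) (fun x y hxy => hf s x y hxy)
      one_smul := by
        intro x
        induction x using Quotient.inductionOn' with
        | h x =>
          show Quotient.mk'' (f 1 x) = Quotient.mk'' x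
          congr 1
          apply Subtype.ext
          show (1 : G) * x * (1 : G)⁻¹ = x
          group
      mul_smul := by
        intro s t x
        induction x using Quotient.inductionOn' with
        | h x =>
          show Quotient.mk'' (f (s * t) x) = Quotient.mk'' (f s (f t x))
          congr 1
          apply Subtype.ext
          show ((s * t : Subgroup.zpowers r) : G) * x * ((s * t : Subgroup.zpowers r) : G)⁻¹ =
            (s : G) * (t * x * (t : G)⁻¹) * (s : G)⁻¹
          rw [Subgroup.coe_mul]; group }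
  have hpg : IsPGroup 2 (Subgroup.zpowers r) := by
    intro s
    obtain ⟨k, hk⟩ := s.2
    refine ⟨n, ?_⟩
    apply Subtype.ext
    show (s : G) ^ (2 ^ n) = 1
    rw [← hk]
    show (r ^ k) ^ (2 ^ n) = 1
    rw [← zpow_natCast, ← zpow_mul, mul_comm, zpow_mul, zpow_natCast, hr, one_zpow]
  have : Fact (Nat.Prime 2) := ⟨Nat.prime_two⟩
  have hXfin : Finite X := inferInstance
  have h1 := hpg.card_modEq_card_fixedPoints X
  -- `|X|` is even
  have h2 : 2 ∣ Nat.card X := by
    have h3 : (P.subgroupOf K).index ≠ 1 := by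
      intro h3
      rw [Subgroup.index_eq_one, Subgroup.subgroupOf_eq_top] at h3
      exact hne (le_antisymm hPK h3)
    obtain ⟨m, hm⟩ := hK.index (P.subgroupOf K)
    have h4 : Nat.card X = (P.subgroupOf K).index := rfl
    rw [h4, hm]
    apply dvd_pow_self
    rintro rfl
    exact h3 (by rw [hm, pow_zero])
  have h3 : 2 ∣ Nat.card (MulAction.fixedPoints (Subgroup.zpowers r) X) := by
    have := (Nat.modEq_zero_iff_dvd.2 h2).symm.trans h1
    exact Nat.modEq_zero_iff_dvd.1 this.symm
  -- the fixed points are the trivial coset only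
  have h4 : Nat.card (MulAction.fixedPoints (Subgroup.zpowers r) X) = 1 := by
    rw [Nat.card_eq_one_iff_unique]
    refine ⟨⟨?_⟩, ⟨⟨((1 : K) : X), ?_⟩⟩⟩
    · have key : ∀ x ∈ MulAction.fixedPoints (Subgroup.zpowers r) X, x = ((1 : K) : X) := by
        intro x hx
        induction x using Quotient.inductionOn' with
        | h x =>
          have h5 := hx ⟨r, Subgroup.mem_zpowers r⟩
          have h6 : (QuotientGroup.mk (f ⟨r, Subgroup.mem_zpowers r⟩ x) : X) = QuotientGroup.mk x := h5
          rw [eq_comm, QuotientGroup.eq, Subgroup.mem_subgroupOf] at h6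
          have h7 := hfix x x.2 h6
          show (QuotientGroup.mk x : X) = QuotientGroup.mk 1
          rw [eq_comm, QuotientGroup.eq, Subgroup.mem_subgroupOf]
          simpa using h7
      rintro ⟨x, hx⟩ ⟨y, hy⟩
      apply Subtype.ext
      show x = y
      rw [key x hx, key y hy]
    · intro s
      show (QuotientGroup.mk (f s 1) : X) = QuotientGroup.mk 1
      congr 1
      apply Subtype.ext
      show (s : G) * ((1 : K) : G) * (s : G)⁻¹ = 1
      rw [Subgroup.coe_one]; group
  rw [h4] at h3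
  omega

end Fam

end Cfsg.Agent.ClassificationK.SymplSetup
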