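import Cfsg.Agent.ClassificationK.SymplAssembly
import Cfsg.Agent.ClassificationK.SymplDih
import Cfsg.Agent.Classification.RTwo.USixFinal

/-!
# S1758 from the recognition of `HS` (helper687, helper577)
-/

set_option autoImplicit false

namespace Cfsg.Agent.ClassificationK.SymplFinal

/-- S1758, with the recognition of `HS` as a hypothesis. -/
theorem main {G : Type*} [Group G] [Finite G] [IsSimpleGroup G]
    (hG : ¬ IsMulCommutative G) (z : G) (hz : orderOf z = 2)
    (hQ : Cfsg.IsOfSymplecticType ↥(Cfsg.generalizedFittingSubgroup ↥(Subgroup.centralizer ({z} : Set G))))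
    (hHS : ∀ (Q : Subgroup G) (z u : G), SymplHS.HSData Q z u → Cfsg.Spor.IsoHS G) :
    Cfsg.IsExtraspecial 2 ↥(Cfsg.generalizedFittingSubgroup ↥(Subgroup.centralizer ({z} : Set G))) ∨
      (QuotientGroup.mk' (Cfsg.oddCore G) z ∈ Subgroup.center (G ⧸ Cfsg.oddCore G)) ∨
      (∃ (F : Type) (_ : Field F) (_ : Fintype F), ((∃ n : ℕ, Fintype.card F = 2 ^ n + 1) ∨ (∃ n : ℕ, Fintype.card F + 1 = 2 ^ n)) ∧
        Nonempty (G ≃* Matrix.ProjectiveSpecialLinearGroup (Fin 2) F)) ∨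
      Cfsg.Spor.IsoM11 G ∨
      (∃ (F : Type) (_ : Field F) (_ : Fintype F), Fintype.card F = 3 ∧ Nonempty (G ≃* Matrix.ProjectiveSpecialLinearGroup (Fin 3) F)) ∨
      (∃ (F : Type) (_ : Field F) (_ : Fintype F), Fintype.card F = 9 ∧ Nonempty (G ≃* Cfsg.PSU 3 F 3)) ∨
      Cfsg.Spor.IsoHS G :=
  SymplAssembly.assembly hG z hz hQ
    (fun R hc hzR h8 h2 hnorm hself hS => SymplDih.w0_end hG z hz R hc hzR h8 h2 hnorm hself hS)
    (fun F _ _ hF ⟨e⟩ hone => Cfsg.Agent.Classification.RTwo.USixFinal.psu_three_three hF z hz hone e)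
    hHS

end Cfsg.Agent.ClassificationK.SymplFinal
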