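import Cfsg.Agent.ClassificationK.SymplStructure
import Cfsg.Agent.ClassificationK.SymplFam
import Cfsg.Agent.S1313

/-!
# From `F*(C(z))` of symplectic type to the elementwise data (S1758, helper577)

`front`: `F*(C_G(z))` is extraspecial, or of order two, or there are `R ≤ K ≤ Q = F*(C_G(z))` with `Big Q K R z`.
-/

set_option autoImplicit false

namespace Cfsg.Agent.ClassificationK.SymplFront

open Subgroup SymplStructure SymplSetup
open scoped commutatorElement

/-- `Q = F*(C(z))` of symplectic type, `R ≤ K` its characteristic subgroups, `|R| ≥ 4`. -/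
structure Big {G : Type*} [Group G] (Q K R : Subgroup G) (z : G) : Prop where
  z_ne : z ≠ 1
  z_sq : z * z = 1
  zR : z ∈ R
  RK : R ≤ K
  KQ : K ≤ Q
  cyc : IsCyclic R
  uniq : ∀ x ∈ R, x * x = 1 → x = 1 ∨ x = z
  pgrp : IsPGroup 2 Q
  Qz : ∀ x ∈ Q, x * z = z * x
  nQ : ∀ g, g * z = z * g → ∀ x ∈ Q, g * x * g⁻¹ ∈ Q
  nK : ∀ g, g * z = z * g → ∀ x ∈ K, g * x * g⁻¹ ∈ K
  nR : ∀ g, g * z = z * g → ∀ x ∈ R, g * x * g⁻¹ ∈ R
  selfK : ∀ g, g * z = z * g → (∀ x ∈ K, g * x = x * g) → g ∈ R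
  comm_RK : ∀ r ∈ R, ∀ x ∈ K, r * x = x * r
  mem_K : ∀ x ∈ Q, (∀ r ∈ R, r * x = x * r) → x ∈ K
  sq : ∀ x ∈ K, ∃ r ∈ R, x * x = r * r
  comm : ∀ x ∈ K, ∀ y ∈ K, x * y = y * x ∨ x * y = y * x * z
  comm' : ∀ y ∈ Q, ∀ x ∈ K, y * x * y⁻¹ * x⁻¹ ∈ R
  core : ∀ N : Subgroup G, (∀ x ∈ N, x * z = z * x) →
    (∀ g, g * z = z * g → ∀ x ∈ N, g * x * g⁻¹ ∈ N) → IsPGroup 2 N → N ≤ Q
  card : 4 ≤ Nat.card R

/-- A normal nilpotent subgroup lies in `F*`. -/
theorem le_gfs {H : Type*} [Group H] {N : Subgroup H} (hN : N.Normal) (hn : Group.IsNilpotent N) :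
    N ≤ Cfsg.generalizedFittingSubgroup H :=
  (le_sSup (show N ∈ {N : Subgroup H | N.Normal ∧ Group.IsNilpotent N} from ⟨hN, hn⟩)).trans le_sup_right

/-- A group whose commutators are central is nilpotent. -/
theorem nilpotent_of_comm {N : Type*} [Group N] (h : ∀ x y w : N, ⁅x, y⁆ * w = w * ⁅x, y⁆) :
    Group.IsNilpotent N := by
  have hle : (Abelianization.of (G := N)).ker ≤ center N := by
    rw [Abelianization.ker_of, _root_.commutator_def, commutator_le]
    intro x _ y _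
    rw [mem_center_iff]
    intro w
    exact (h x y w).symm
  exact Subgroup.isNilpotent_of_ker_le_center _ hle

/-- If `c ∈ C` centralises `K`, `c ∈ R`. -/
theorem cent_mem {C : Type*} [Group C] {Q : Subgroup C} (hQn : Q.Normal)
    (hcc : centralizer (Q : Set C) ≤ Q)
    (hnil : ∀ N : Subgroup C, N.Normal → Group.IsNilpotent N → N ≤ Q) {K R : Subgroup Q} {z' : Q}
    (h : KR K R z') {c : C} (hc : ∀ x ∈ K, c * (x : C) = x * c) : ∃ r ∈ R, (r : C) = c := by
  have hKc := h.charK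
  have hRc := h.charR
  have hKn : (K.map Q.subtype).Normal := inferInstance
  set N : Subgroup C := centralizer ((K.map Q.subtype : Subgroup C) : Set C) with hN
  have hNn : N.Normal := inferInstance
  have memN : ∀ n, n ∈ N ↔ ∀ x ∈ K, n * (x : C) = x * n := by
    intro n
    rw [hN, mem_centralizer_iff]
    constructor
    · intro h1 x hx
      exact (h1 x ⟨x, hx, rfl⟩).symm
    · rintro h1 _ ⟨x, hx, rfl⟩
      exact (h1 x hx).symm
  -- `N ∩ Q = R`
  have hNQ : ∀ n ∈ N, ∀ hq : n ∈ Q, (⟨n, hq⟩ : Q) ∈ R := by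
    intro n hn hq
    apply h.cent
    intro y hy
    exact Subtype.ext ((memN n).1 hn y hy).symm
  -- `n q n⁻¹ ∈ q R`
  have hact : ∀ n ∈ N, ∀ q : Q, ∃ r ∈ R, n * (q : C) * n⁻¹ = q * (r : C) := by
    intro n hn q
    have h1 : (q : C)⁻¹ * (n * q * n⁻¹) ∈ Q :=
      Q.mul_mem (Q.inv_mem q.2) (hQn.conj_mem _ q.2 n)
    have h2 : (q : C)⁻¹ * (n * q * n⁻¹) ∈ N := by
      have h3 := N.mul_mem (hNn.conj_mem n hn (q : C)⁻¹) (N.inv_mem hn)
      have e : (q : C)⁻¹ * n * ((q : C)⁻¹)⁻¹ * n⁻¹ = (q : C)⁻¹ * (n * q * n⁻¹) := by group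
      rwa [e] at h3
    refine ⟨⟨_, h1⟩, hNQ _ h2 h1, ?_⟩
    show n * (q : C) * n⁻¹ = q * ((q : C)⁻¹ * (n * q * n⁻¹))
    group
  have hNR : ∀ n ∈ N, ∀ r ∈ R, n * (r : C) = r * n := fun n hn r hr => (memN n).1 hn r (h.le hr)
  have hRK : ∀ r ∈ R, ∀ x ∈ K, r * x = x * r := fun r hr x hx => (h.mem_K x).1 hx r hr
  have hRab : ∀ r ∈ R, ∀ s ∈ R, (r : C) * s = s * r := fun r hr s hs =>
    congrArg Subtype.val (hRK r hr s (h.le hs))
  -- commutators of `N` centralise `Q`
  have hcomm : ∀ n ∈ N, ∀ m ∈ N, ⁅n, m⁆ ∈ Q := by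
    intro n hn m hm
    apply hcc
    rw [mem_centralizer_iff]
    intro q hq
    have hni := N.inv_mem hn
    have hmi := N.inv_mem hm
    have key : ∀ n ∈ N, ∀ m ∈ N, ∀ q : Q, ∀ r ∈ R, ∀ s ∈ R, n * (q : C) * n⁻¹ = q * (r : C) →
        m * (q : C) * m⁻¹ = q * (s : C) → (n * m) * (q : C) * (n * m)⁻¹ = q * r * s := by
      intro n hn m hm q r hr s hs h1 h2
      calc (n * m) * (q : C) * (n * m)⁻¹ = n * (m * q * m⁻¹) * n⁻¹ := by group
        _ = n * (q * s) * n⁻¹ := by rw [h2]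
        _ = (n * q * n⁻¹) * (n * s * n⁻¹) := by group
        _ = q * r * s := by rw [h1, hNR n hn s hs]; group
    obtain ⟨r, hr, h1⟩ := hact _ hni ⟨q, hq⟩
    obtain ⟨s, hs, h2⟩ := hact _ hmi ⟨q, hq⟩
    have h3 := key _ hni _ hmi ⟨q, hq⟩ r hr s hs h1 h2
    have h4 := key _ hmi _ hni ⟨q, hq⟩ s hs r hr h2 h1
    have h5 : (n⁻¹ * m⁻¹) * q * (n⁻¹ * m⁻¹)⁻¹ = (m⁻¹ * n⁻¹) * q * (m⁻¹ * n⁻¹)⁻¹ := by
      rw [h3, h4, mul_assoc, mul_assoc, hRab r hr s hs]
    have h6 : ⁅n, m⁆ * q * ⁅n, m⁆⁻¹ = q := by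
      calc ⁅n, m⁆ * q * ⁅n, m⁆⁻¹ = (n * m) * ((n⁻¹ * m⁻¹) * q * (n⁻¹ * m⁻¹)⁻¹) * (n * m)⁻¹ := by
            rw [commutatorElement_def]; group
        _ = (n * m) * ((m⁻¹ * n⁻¹) * q * (m⁻¹ * n⁻¹)⁻¹) * (n * m)⁻¹ := by rw [h5]
        _ = q := by group
    rw [mul_inv_eq_iff_eq_mul] at h6
    exact h6.symm
  have hNnil : Group.IsNilpotent N := by
    apply nilpotent_of_comm
    intro x y w
    apply Subtype.ext
    have h1 : ⁅(x : C), (y : C)⁆ ∈ Q := hcomm x x.2 y y.2
    have h2 : ⁅(x : C), (y : C)⁆ ∈ N :=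
      N.mul_mem (N.mul_mem (N.mul_mem x.2 y.2) (N.inv_mem x.2)) (N.inv_mem y.2)
    have h3 := hNQ _ h2 h1
    exact (hNR w w.2 _ h3).symm
  have hNle : N ≤ Q := hnil N hNn hNnil
  have hcN : c ∈ N := (memN c).2 hc
  exact ⟨⟨c, hNle hcN⟩, hNQ c hcN _, rfl⟩

/-- **Front end**: the trichotomy for `F*(C_G(z))` of symplectic type. -/
theorem front {G : Type*} [Group G] [Finite G] (z : G) (hz : orderOf z = 2)
    (hQ : Cfsg.IsOfSymplecticType ↥(Cfsg.generalizedFittingSubgroup ↥(centralizer ({z} : Set G)))) :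
    Cfsg.IsExtraspecial 2 ↥(Cfsg.generalizedFittingSubgroup ↥(centralizer ({z} : Set G))) ∨
    Nat.card ↥(Cfsg.generalizedFittingSubgroup ↥(centralizer ({z} : Set G))) = 2 ∨
    ∃ K R : Subgroup G, Big ((Cfsg.generalizedFittingSubgroup ↥(centralizer ({z} : Set G))).map
      (centralizer ({z} : Set G)).subtype) K R z := by
  classical
  have : Fact (Nat.Prime 2) := ⟨Nat.prime_two⟩
  set C := centralizer ({z} : Set G) with hC
  have hQn := Cfsg.Agent.S1755.gfs_normal C
  have hcen := Cfsg.Agent.S1755.center_le_gfs C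
  have hcc := Cfsg.Agent.S1313.centralizer_le C
  have hnil : ∀ N : Subgroup C, N.Normal → Group.IsNilpotent N → N ≤ Cfsg.generalizedFittingSubgroup C :=
    fun N hN hn => le_gfs hN hn
  revert hQ hQn hcen hcc hnil
  generalize Cfsg.generalizedFittingSubgroup C = Q
  intro hQ hQn hcen hcc hnil
  have hzz : z * z = 1 := by rw [← pow_two, ← hz]; exact pow_orderOf_eq_one z
  have hz1 : z ≠ 1 := by
    intro h; rw [h, orderOf_one] at hz; exact absurd hz (by norm_num)
  have memC : ∀ g, g ∈ C ↔ g * z = z * g := fun g => mem_centralizer_singleton_iff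
  have hzC : z ∈ C := (memC z).2 rfl
  have hzc : (⟨z, hzC⟩ : C) ∈ center C := by
    rw [mem_center_iff]
    intro c
    exact Subtype.ext ((memC c).1 c.2)
  have hzQ : (⟨z, hzC⟩ : C) ∈ Q := hcen hzc
  set z' : Q := ⟨⟨z, hzC⟩, hzQ⟩ with hz'
  have hz'o : orderOf z' = 2 := by
    apply orderOf_eq_prime
    · apply Subtype.ext; apply Subtype.ext
      show z ^ 2 = 1
      rw [pow_two]; exact hzz
    · intro h
      exact hz1 (congrArg (fun t : Q => ((t : C) : G)) h)
  have hz'c : z' ∈ center Q := by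
    rw [mem_center_iff]
    intro q
    exact Subtype.ext (Subtype.ext ((memC q).1 (q : C).2))
  obtain ⟨K, R, h⟩ := exists_KR hQ hz'o hz'c
  obtain ⟨c, hc, hgen⟩ := h.exists_gen
  have hRz : R = zpowers c := by
    apply le_antisymm
    · intro y hy
      obtain ⟨i, hi⟩ := hgen y hy
      exact ⟨i, hi⟩
    · rw [zpowers_le]; exact hc
  obtain ⟨n, hn⟩ := (IsPGroup.iff_orderOf.1 hQ.1) c
  have hcardR : Nat.card R = 2 ^ n := by rw [hRz, Nat.card_zpowers, hn]
  have hR2 : 2 ∣ Nat.card R := by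
    have : orderOf (⟨z', h.zR⟩ : R) = 2 := by rw [Subgroup.orderOf_mk]; exact hz'o
    rw [← this]
    exact orderOf_dvd_natCard _
  by_cases hR : 4 ≤ Nat.card R
  · -- the main case
    right; right
    have lift : ∀ {B : Subgroup Q} {x : G}, x ∈ (B.map Q.subtype).map C.subtype →
        ∃ y : Q, y ∈ B ∧ ((y : C) : G) = x := by
      rintro B _ ⟨_, ⟨y, hy, rfl⟩, rfl⟩
      exact ⟨y, hy, rfl⟩
    have hchar : ∀ {B : Subgroup Q}, B.Characteristic → ∀ g, g * z = z * g →
        ∀ x ∈ (B.map Q.subtype).map C.subtype, g * x * g⁻¹ ∈ (B.map Q.subtype).map C.subtype := by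
      intro B hB g hg x hx
      have hBn : (B.map Q.subtype).Normal := inferInstance
      obtain ⟨y, hy, rfl⟩ := hx
      exact ⟨_, hBn.conj_mem y hy ⟨g, (memC g).2 hg⟩, rfl⟩
    refine ⟨(K.map Q.subtype).map C.subtype, (R.map Q.subtype).map C.subtype,
      { z_ne := hz1
        z_sq := hzz
        zR := ⟨_, ⟨z', h.zR, rfl⟩, rfl⟩
        RK := Subgroup.map_mono (Subgroup.map_mono h.le)
        KQ := ?_
        cyc := ?_
        uniq := ?_
        pgrp := hQ.1.map _
        Qz := ?_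
        nQ := ?_
        nK := hchar h.charK
        nR := hchar h.charR
        selfK := ?_
        comm_RK := ?_
        mem_K := ?_
        sq := ?_
        comm := ?_
        comm' := ?_
        core := ?_
        card := ?_ }⟩
    · rintro _ ⟨_, ⟨y, -, rfl⟩, rfl⟩
      exact ⟨_, y.2, rfl⟩
    · have e : R ≃* ((R.map Q.subtype).map C.subtype : Subgroup G) :=
        (R.equivMapOfInjective _ Q.subtype_injective).trans
          ((R.map Q.subtype).equivMapOfInjective _ C.subtype_injective)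
      have := h.cyc
      exact isCyclic_of_surjective e e.surjective
    · intro x hx hxx
      obtain ⟨y, hy, rfl⟩ := lift hx
      rcases h.uniq y hy (Subtype.ext (Subtype.ext hxx)) with h1 | h1
      · left; rw [h1]; rfl
      · right; rw [h1]
    · rintro _ ⟨x, -, rfl⟩
      exact (memC x).1 x.2
    · intro g hg x hx
      obtain ⟨y, hy, rfl⟩ := hx
      exact ⟨_, hQn.conj_mem y hy ⟨g, (memC g).2 hg⟩, rfl⟩
    · intro g hg hx
      obtain ⟨r, hr, h1⟩ := cent_mem hQn hcc hnil h (c := ⟨g, (memC g).2 hg⟩) (fun x hx' =>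
        Subtype.ext (hx _ ⟨_, ⟨x, hx', rfl⟩, rfl⟩))
      exact ⟨_, ⟨r, hr, rfl⟩, by
        show ((r : C) : G) = g
        rw [h1]⟩
    · intro r hr x hx
      obtain ⟨r, hr', rfl⟩ := lift hr
      obtain ⟨x, hx', rfl⟩ := lift hx
      exact congrArg (fun t : Q => ((t : C) : G)) ((h.mem_K x).1 hx' r hr')
    · rintro _ ⟨x, hx, rfl⟩ hr
      refine ⟨_, ⟨⟨x, hx⟩, (h.mem_K _).2 fun r hr' => ?_, rfl⟩, rfl⟩
      exact Subtype.ext (Subtype.ext (hr _ ⟨_, ⟨r, hr', rfl⟩, rfl⟩))
    · intro x hx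
      obtain ⟨x, hx', rfl⟩ := lift hx
      obtain ⟨r, hr, h1⟩ := h.sqR hQ hz'o hz'c hR hx'
      exact ⟨_, ⟨_, ⟨r, hr, rfl⟩, rfl⟩, congrArg (fun t : Q => ((t : C) : G)) h1⟩
    · intro x hx y hy
      obtain ⟨x, hx', rfl⟩ := lift hx
      obtain ⟨y, hy', rfl⟩ := lift hy
      rcases h.comm x hx' y hy' with h1 | h1
      · exact Or.inl (congrArg (fun t : Q => ((t : C) : G)) h1)
      · exact Or.inr (congrArg (fun t : Q => ((t : C) : G)) h1)
    · rintro _ ⟨y, hy, rfl⟩ x hx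
      obtain ⟨x, hx', rfl⟩ := lift hx
      exact ⟨_, ⟨_, h.comm' ⟨y, hy⟩ x hx', rfl⟩, rfl⟩
    · intro N hN1 hN2 hN3
      have hle : N ≤ C := fun x hx => (memC x).2 (hN1 x hx)
      have hNn : (N.subgroupOf C).Normal := by
        constructor
        intro x hx g
        rw [mem_subgroupOf] at hx ⊢
        exact hN2 g ((memC g).1 g.2) x hx
      have hNp : IsPGroup 2 (N.subgroupOf C) := by
        have := hN3.comap_of_injective C.subtype C.subtype_injective
        exact this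
      have hNnil : Group.IsNilpotent (N.subgroupOf C) := hNp.isNilpotent
      have h1 := hnil _ hNn hNnil
      intro x hx
      exact ⟨⟨x, hle hx⟩, h1 (mem_subgroupOf.2 hx), rfl⟩
    · rw [Subgroup.card_map_of_injective C.subtype_injective,
        Subgroup.card_map_of_injective Q.subtype_injective]
      exact hR
  · -- `|R| = 2`
    have hn1 : n = 1 := by
      rw [hcardR] at hR hR2
      have h1 : n ≠ 0 := by
        rintro rfl
        norm_num at hR2
      by_contra h2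
      have h3 : 2 ≤ n := by omega
      have h4 : 2 ^ 2 ≤ 2 ^ n := Nat.pow_le_pow_right (by norm_num) h3
      omega
    have hR2' : ∀ x ∈ R, x = 1 ∨ x = z' := by
      intro x hx
      apply h.uniq x hx
      obtain ⟨i, rfl⟩ := hgen x hx
      have hcc2 : c * c = 1 := by
        rw [← pow_two]
        have := pow_orderOf_eq_one c
        rwa [hn, hn1, pow_one] at this
      rw [← (Commute.refl c).mul_zpow, hcc2, one_zpow]
    have hKtop : ∀ x, x ∈ K := by
      intro x
      rw [h.mem_K]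
      intro y hy
      rcases hR2' y hy with h1 | h1 <;> rw [h1]
      · rw [one_mul, mul_one]
      · exact (mem_center_iff.1 hz'c x).symm
    have hRc : R = center Q := by
      apply le_antisymm
      · intro y hy
        rw [mem_center_iff]
        intro x
        exact ((h.mem_K x).1 (hKtop x) y hy).symm
      · intro x hx
        apply h.cent
        intro y _
        exact mem_center_iff.1 hx y
    have hcardc : Nat.card (center Q) = 2 := by rw [← hRc, hcardR, hn1, pow_one]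
    by_cases hab : ∃ x y : Q, x * y ≠ y * x
    · left
      refine Cfsg.Agent.J2.ExtQuot.isExtraspecial_two hQ.1 hcardc ?_ hab
      intro x
      rw [← hRc, pow_two]
      exact h.sq x (hKtop x)
    · right; left
      push Not at hab
      have htop : center Q = ⊤ := by
        rw [eq_top_iff]
        intro x _
        rw [mem_center_iff]
        exact fun y => hab y x
      rw [htop, card_top] at hcardc
      exact hcardc

end Cfsg.Agent.ClassificationK.SymplFront
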