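import Cfsg.Agent.ClassificationK.SymplX
import Cfsg.Agent.ClassificationK.SymplLin

/-!
# The linear algebra system of a family of large subgroups (S1758)

From `Fam D Q u` (see `SymplFam`) with the property `hne` : `z` is not isolated in `Q z`, we construct the system `SymplLin.Sys` on `V = Q z / ⟨u z⟩`.
-/

set_option autoImplicit false

namespace Cfsg.Agent.ClassificationK.SymplInst

open SymplSetup SymplLin

section Pairs

variable {G : Type*} [Group G] {D : Set G} {Q : G → Subgroup G} {u : G → G}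

/-- `b ∈ Q a` implies `a ∈ Q b`, and some element swaps `a` and `b`. -/
theorem pair (F : Fam D Q u) {a b : G} (ha : a ∈ D) (hb : b ∈ D) (hne : b ≠ a) (h : b ∈ Q a) :
    a ∈ Q b ∧ ∃ g, g * a * g⁻¹ = b ∧ g * b * g⁻¹ = a := by
  obtain ⟨g, hg⟩ := F.trans a ha b hb
  have h1 := LargeSymplectic.main (F.loc a ha).data (g := g) (by rw [hg]; exact hne) (by rw [hg]; exact h)
  rw [← F.conjQ a ha g, hg] at h1
  refine ⟨h1.1, ?_⟩
  obtain ⟨x, -, h2, h3⟩ := h1.2 b (Subgroup.subset_closure (by simp)) a (Subgroup.subset_closure (by simp))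
    (F.loc b hb).z_ne (F.loc a ha).z_ne hne
  exact ⟨x, h2, h3⟩

theorem mem_symm (F : Fam D Q u) {a b : G} (ha : a ∈ D) (hb : b ∈ D) (h : b ∈ Q a) : a ∈ Q b := by
  by_cases hne : b = a
  · rw [hne]; exact (F.loc a ha).z_mem
  · exact (pair F ha hb hne h).1

theorem typeA_of_mem (F : Fam D Q u) {a b : G} (ha : a ∈ D) (hb : b ∈ D) (hne : b ≠ a) (h : b ∈ Q a) :
    u a * u b = u b * u a := by
  have hab : a * b = b * a := ((F.loc a ha).comm_z b h).symm
  rcases F.typeA_or_typeB ha hb hne.symm hab with h1 | ⟨h1, h2⟩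
  · exact h1
  · exfalso
    have h3 := (F.loc a ha).comm_u b h
    rw [h3, mul_inv_cancel_right] at h2
    exact (F.loc a ha).z_ne (mul_eq_left.1 h2.symm)

/-- **(B)** `a ⋆ c`, `q ∈ C_{Q a}(c)`: one of `q`, `q a` lies in `Q c` (and centralises `u c`). -/
theorem typeB_cent (F : Fam D Q u) {a c : G} (ha : a ∈ D) (hc : c ∈ D)
    (h1 : a * u c * a⁻¹ = u c * c) (h2 : c * u a * c⁻¹ = u a * a) {q : G} (hq : q ∈ Q a)
    (hqc : q * c = c * q) : q ∈ Q c ∨ q * a ∈ Q c := by
  have la := F.loc a ha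
  have lc := F.loc c hc
  -- `g = u a * (u c)⁻¹` maps `a` to `c`
  have e1 : (u c)⁻¹ * a * u c = c * a := by
    calc (u c)⁻¹ * a * u c = (u c)⁻¹ * (a * u c * a⁻¹) * a := by group
      _ = c * a := by rw [h1]; group
  have e2 : (u a)⁻¹ * c * u a = a * c := by
    calc (u a)⁻¹ * c * u a = (u a)⁻¹ * (c * u a * c⁻¹) * c := by group
      _ = a * c := by rw [h2]; group
  have hac : a * c = c * a := by
    -- `a * c` and `c * a`
    have e3 : a * a = 1 := la.z_sq
    have e4 : c * c = 1 := lc.z_sq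
    have e5 : (a * c) * (a * c) = 1 := by
      rw [← e2]
      calc (u a)⁻¹ * c * u a * ((u a)⁻¹ * c * u a) = (u a)⁻¹ * (c * c) * u a := by group
        _ = 1 := by rw [e4]; group
    calc a * c = (a * c)⁻¹ := (inv_eq_of_mul_eq_one_left e5).symm
      _ = c⁻¹ * a⁻¹ := mul_inv_rev a c
      _ = c * a := by rw [la.z_inv, lc.z_inv]
  have hg : (u a * (u c)⁻¹) * a * (u a * (u c)⁻¹)⁻¹ = c := by
    calc (u a * (u c)⁻¹) * a * (u a * (u c)⁻¹)⁻¹ = u a * ((u c)⁻¹ * a * u c) * (u a)⁻¹ := by group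
      _ = u a * (a * c) * (u a)⁻¹ := by rw [e1, hac]
      _ = u a * ((u a)⁻¹ * c * u a) * (u a)⁻¹ := by rw [e2]
      _ = c := by group
  -- an element of `Q a` commuting with `u c` is in `Q c`
  have key : ∀ x ∈ Q a, x * u c = u c * x → x ∈ Q c := by
    intro x hx hxc
    have h3 : Commute x (u a) := la.comm_u x hx
    have h4 : Commute x (u c) := hxc
    have h5 : Commute x (u a * (u c)⁻¹) := h3.mul_right h4.inv_right
    rw [← hg, F.mem_conjQ ha]
    have : (u a * (u c)⁻¹)⁻¹ * x * (u a * (u c)⁻¹) = x := by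
      rw [mul_assoc, h5.eq]; group
    rw [this]; exact hx
  rcases F.conj_u hc hqc with h3 | h3
  · exact Or.inl (key q hq h3)
  · right
    apply key _ (Subgroup.mul_mem _ hq la.z_mem)
    have h4 : a * u c = u c * c * a := by
      rw [← h1]; group
    have h5 : q * u c = u c * c * q := by
      rw [← h3]; group
    calc q * a * u c = q * (a * u c) := by group
      _ = q * u c * c * a := by rw [h4]; group
      _ = u c * c * q * c * a := by rw [h5]
      _ = u c * (c * (q * c)) * a := by group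
      _ = u c * (c * (c * q)) * a := by rw [hqc]
      _ = u c * ((c * c) * q) * a := by group
      _ = u c * (q * a) := by rw [lc.z_sq]; group

end Pairs

section Act

variable {G : Type*} [Group G] {Q : Subgroup G} {z u : G}

/-- the action on `V` of an element of `G` (the identity outside the centraliser of `z`). -/
noncomputable def actG (h : Symp Q z u) (g : G) : h.V ≃ₗ[ZMod 2] h.V := by
  classical exact if hg : g ∈ Subgroup.centralizer ({z} : Set G) then h.act ⟨g, hg⟩ else 1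

theorem actG_of (h : Symp Q z u) {g : G} (hg : g * z = z * g) :
    actG h g = h.act ⟨g, Subgroup.mem_centralizer_singleton_iff.2 hg⟩ :=
  dif_pos (Subgroup.mem_centralizer_singleton_iff.2 hg)

theorem actG_mul (h : Symp Q z u) {g k : G} (hg : g * z = z * g) (hk : k * z = z * k) :
    actG h (g * k) = actG h g * actG h k := by
  have hgk : g * k * z = z * (g * k) := by rw [mul_assoc, hk, ← mul_assoc, hg, mul_assoc]
  rw [actG_of h hg, actG_of h hk, actG_of h hgk, ← map_mul]
  rfl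

theorem actG_one (h : Symp Q z u) : actG h 1 = 1 := by
  rw [actG_of h (by simp)]
  exact map_one h.act

theorem actG_inv (h : Symp Q z u) {g : G} (hg : g * z = z * g) : actG h g⁻¹ = (actG h g)⁻¹ := by
  have hg' : g⁻¹ * z = z * g⁻¹ := (show Commute g z from hg).inv_left
  rw [eq_inv_iff_mul_eq_one, ← actG_mul h hg' hg, inv_mul_cancel, actG_one]

theorem actG_pr (h : Symp Q z u) {g : G} (hg : g * z = z * g) (x y : Q) (hxy : g * x * g⁻¹ = y) :
    actG h g (h.pr x) = h.pr y := by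
  rw [actG_of h hg]
  exact h.act_pr_coe _ x y hxy

theorem actG_mem (h : Symp Q z u) {g : G} (hg : g ∈ Q) : actG h g = 1 := by
  rw [actG_of h (h.comm_z g hg)]
  exact h.act_mem _ hg

theorem mem_of_actG [Finite Q] (h : Symp Q z u) {g : G} (hg : g * z = z * g) (h1 : actG h g = 1) :
    g ∈ Q := by
  rw [actG_of h hg] at h1
  exact h.mem_of_act _ h1

theorem b_actG (h : Symp Q z u) (g : G) (v w : h.V) : h.b (actG h g v) (actG h g w) = h.b v w := by
  unfold actG
  split_ifs with hg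
  · exact h.b_act _ v w
  · rfl

theorem mem_range_act (h : Symp Q z u) {r : h.V ≃ₗ[ZMod 2] h.V} :
    r ∈ h.act.range ↔ ∃ g, g * z = z * g ∧ actG h g = r := by
  constructor
  · rintro ⟨g, rfl⟩
    have hg := Subgroup.mem_centralizer_singleton_iff.1 g.2
    exact ⟨g, hg, actG_of h hg⟩
  · rintro ⟨g, hg, rfl⟩
    rw [actG_of h hg]
    exact ⟨_, rfl⟩

/-- elements of `Q` which are involutions or `1` commute or not according to squares of products. -/
theorem comm_of_sq {x y : G} (hx : x * x = 1) (hy : y * y = 1) (hxy : (x * y) * (x * y) = 1) :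
    x * y = y * x := by
  have h1 : x⁻¹ = x := inv_eq_of_mul_eq_one_left hx
  have h2 : y⁻¹ = y := inv_eq_of_mul_eq_one_left hy
  calc x * y = (x * y)⁻¹ := (inv_eq_of_mul_eq_one_left hxy).symm
    _ = y⁻¹ * x⁻¹ := mul_inv_rev x y
    _ = y * x := by rw [h1, h2]

end Act

/-- the context: a family with a second member of the class in `Q z` (Step 1). -/
structure Ctx {G : Type*} [Group G] (D : Set G) (Q : G → Subgroup G) (u : G → G) (z : G) : Prop where
  F : Fam D Q u
  hz : z ∈ D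
  hne : ∃ a ∈ D, a ∈ Q z ∧ a ≠ z

namespace Ctx

variable {G : Type*} [Group G] {D : Set G} {Q : G → Subgroup G} {u : G → G} {z : G}

theorem h (C : Ctx D Q u z) : Symp (Q z) z (u z) := C.F.loc z C.hz

/-- `x ∈ D ∩ Q z`, `x ≠ z` represents `v`. -/
def Lift (C : Ctx D Q u z) (v : C.h.V) (x : G) : Prop :=
  ∃ hx : x ∈ Q z, x ∈ D ∧ x ≠ z ∧ C.h.pr ⟨x, hx⟩ = v

/-- the set of singular vectors. -/
def Dl (C : Ctx D Q u z) : Set C.h.V := {v | ∃ x, C.Lift v x}

section

variable {C : Ctx D Q u z} {v : C.h.V} {x : G}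

theorem Lift.mem (hx : C.Lift v x) : x ∈ Q z := hx.1
theorem Lift.memD (hx : C.Lift v x) : x ∈ D := hx.2.1
theorem Lift.ne (hx : C.Lift v x) : x ≠ z := hx.2.2.1
theorem Lift.pr (hx : C.Lift v x) : C.h.pr ⟨x, hx.mem⟩ = v := hx.2.2.2
theorem Lift.sq (hx : C.Lift v x) : x * x = 1 := (C.F.loc x hx.memD).z_sq
theorem Lift.commz (hx : C.Lift v x) : x * z = z * x := C.h.comm_z x hx.mem
theorem Lift.mem' (hx : C.Lift v x) : z ∈ Q x := mem_symm C.F C.hz hx.memD hx.mem
theorem Lift.uz (hx : C.Lift v x) : u x * z = z * u x := ((C.F.loc x hx.memD).comm_u z hx.mem').symm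
theorem Lift.loc (hx : C.Lift v x) : Symp (Q x) x (u x) := C.F.loc x hx.memD
theorem Lift.mem_Dl (hx : C.Lift v x) : v ∈ C.Dl := ⟨x, hx⟩

theorem Lift.ne_zero (hx : C.Lift v x) : v ≠ 0 := by
  intro h0
  have h7 : C.h.pr ⟨x, hx.mem⟩ = 0 := hx.pr.trans h0
  rw [C.h.pr_eq_zero] at h7
  have hxx := hx.sq
  rcases h7 with h8 | h8 | h8 | h8
  · exact hx.loc.z_ne h8
  · exact hx.ne h8
  · have h9 : x = u z := h8
    rw [h9, C.h.u_sq] at hxx
    exact C.h.z_ne hxx
  · have h9 : x = u z * z := h8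
    rw [h9] at hxx
    apply C.h.z_ne
    calc z = (u z * u z) * (z * z) := by rw [C.h.u_sq, C.h.z_sq, mul_one]
      _ = u z * (u z * z) * z := by group
      _ = u z * (z * u z) * z := by rw [C.h.uz]
      _ = u z * z * (u z * z) := by group
      _ = 1 := hxx

/-- the conjugate of a lift. -/
theorem Lift.conj (hx : C.Lift v x) {g : G} (hg : g * z = z * g) :
    C.Lift (actG C.h g v) (g * x * g⁻¹) := by
  refine ⟨C.h.conj_mem g hg x hx.mem, C.F.conj_mem x hx.memD g, ?_, ?_⟩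
  · intro h1
    apply hx.ne
    have h2 : g * x = z * g := by
      rw [mul_inv_eq_iff_eq_mul] at h1; exact h1
    rw [← hg] at h2
    exact mul_left_cancel h2
  · have h3 := actG_pr C.h hg ⟨x, hx.mem⟩ ⟨g * x * g⁻¹, C.h.conj_mem g hg x hx.mem⟩ rfl
    rw [hx.pr] at h3
    exact h3.symm

/-- two lifts differ by `z`. -/
theorem Lift.eq_or (hx : C.Lift v x) {y : G} (hy : C.Lift v y) : y = x ∨ y = x * z :=
  C.h.eq_or_of_pr_eq (x := ⟨y, hy.mem⟩) (y := ⟨x, hx.mem⟩) hy.sq hx.sq (hy.pr.trans hx.pr.symm)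

/-- two lifts are conjugate under `Q z`. -/
theorem Lift.exists_conj (hx : C.Lift v x) {y : G} (hy : C.Lift v y) : ∃ q ∈ Q z, q * x * q⁻¹ = y := by
  rcases hx.eq_or hy with h1 | h1
  · exact ⟨1, one_mem _, by rw [h1]; group⟩
  · rw [h1]
    exact C.h.exists_conj hx.mem hx.sq hx.loc.z_ne hx.ne

theorem Lift.act_sq (hx : C.Lift v x) : actG C.h (u x) * actG C.h (u x) = 1 := by
  rw [← actG_mul C.h hx.uz hx.uz, hx.loc.u_sq]
  exact actG_mem C.h hx.mem

theorem Lift.act_conju (hx : C.Lift v x) {g : G} (hg : g * z = z * g) :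
    actG C.h (u (g * x * g⁻¹)) = actG C.h g * actG C.h (u x) * (actG C.h g)⁻¹ := by
  have hg' : g⁻¹ * z = z * g⁻¹ := (show Commute g z from hg).inv_left
  have h3 : g * u x * z = z * (g * u x) := by
    rw [mul_assoc, hx.uz, ← mul_assoc, hg, mul_assoc]
  have h4 : g * u x * g⁻¹ * z = z * (g * u x * g⁻¹) := by
    rw [mul_assoc, hg', ← mul_assoc, h3, mul_assoc]
  have h2 : actG C.h (g * u x * g⁻¹) = actG C.h g * actG C.h (u x) * (actG C.h g)⁻¹ := by
    rw [actG_mul C.h h3 hg', actG_mul C.h hg hx.uz, actG_inv C.h hg]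
  rcases C.F.conju hx.memD g with h1 | h1
  · rw [h1, h2]
  · rw [h1, actG_inv C.h h4, h2]
    have h5 : (actG C.h (u x))⁻¹ = actG C.h (u x) := inv_eq_of_mul_eq_one_left hx.act_sq
    rw [mul_inv_rev, mul_inv_rev, inv_inv, h5, mul_assoc]

/-- the action of `u` only depends on the vector. -/
theorem Lift.act_eq (hx : C.Lift v x) {y : G} (hy : C.Lift v y) : actG C.h (u y) = actG C.h (u x) := by
  obtain ⟨q, hq, rfl⟩ := hx.exists_conj hy
  rw [hx.act_conju (C.h.comm_z q hq), actG_mem C.h hq, one_mul, inv_one, mul_one]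

/-- the centraliser of a lift: commuting with `x` in terms of the form. -/
theorem Lift.form_zero (hx : C.Lift v x) (y : Q z) : C.h.b (C.h.pr y) v = 0 ↔ (y : G) * x = x * y := by
  rw [← hx.pr, C.h.b_pr]

theorem Lift.form_one (hx : C.Lift v x) (y : Q z) : C.h.b (C.h.pr y) v = 1 ↔ (y : G) * x = x * y * z := by
  rw [← hx.pr, C.h.b_pr_one]

/-- on the orthogonal of `v`. -/
theorem Lift.act_perp (hx : C.Lift v x) {w : C.h.V} (hw : C.h.b w v = 0) :
    actG C.h (u x) w = w ∨ actG C.h (u x) w = w + v := by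
  obtain ⟨y, hyy, rfl⟩ := C.h.exists_pr_eq w
  have hyx : (y : G) * x = x * y := (hx.form_zero y).1 hw
  have hux : u x * x = x * u x := (hx.loc.comm_u x hx.loc.z_mem).symm
  rcases C.F.conj_u hx.memD hyx with h1 | h1
  · left
    apply actG_pr C.h hx.uz
    rw [← h1]; group
  · right
    have h2 : (u x)⁻¹ * y * u x = y * x := by
      calc (u x)⁻¹ * y * u x = (u x)⁻¹ * (y * u x * (y : G)⁻¹) * y := by group
        _ = x * y := by rw [h1]; group
        _ = y * x := hyx.symm
    have h3 : u x * y * (u x)⁻¹ = y * x := by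
      have h4 : u x * (y * x) * (u x)⁻¹ = y := by rw [← h2]; group
      have h5 : u x * y * (u x)⁻¹ * x = y := by
        have h6 : (u x)⁻¹ * x = x * (u x)⁻¹ := (show Commute (u x) x from hux).inv_left
        calc u x * y * (u x)⁻¹ * x = u x * y * ((u x)⁻¹ * x) := by group
          _ = u x * (y * x) * (u x)⁻¹ := by rw [h6]; group
          _ = y := h4
      calc u x * y * (u x)⁻¹ = (u x * y * (u x)⁻¹ * x) * x := by rw [mul_assoc _ x x, hx.sq, mul_one]
        _ = y * x := by rw [h5]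
    rw [← hx.pr, ← C.h.pr_mul]
    exact actG_pr C.h hx.uz _ _ h3

/-- **KEY.** `ω w (t v) = ω w v`. -/
theorem Lift.act_form (hx : C.Lift v x) (w : C.h.V) : C.h.b w (actG C.h (u x) w) = C.h.b w v := by
  have h01 : ∀ t : ZMod 2, t = 0 ∨ t = 1 := by decide
  rcases h01 (C.h.b w v) with h0 | h0
  · rw [h0]
    rcases hx.act_perp h0 with h1 | h1 <;> rw [h1]
    · exact C.h.b_self w
    · rw [map_add, C.h.b_self, zero_add, h0]
  · rw [h0]
    obtain ⟨y, hyy, rfl⟩ := C.h.exists_pr_eq w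
    have hyx : (y : G) * x = x * y * z := (hx.form_one y).1 h0
    have hyi : (y : G)⁻¹ = y := inv_eq_of_mul_eq_one_left hyy
    have hyz : (y : G) * z = z * y := C.h.comm_z y y.2
    -- `y x y⁻¹ = x z`
    have h1 : (y : G) * x * (y : G)⁻¹ = x * z := by
      rw [hyx, mul_assoc, ← (show Commute (y : G) z from hyz).inv_left.eq]; group
    have hxzD : x * z ∈ D := by rw [← h1]; exact C.F.conj_mem x hx.memD y
    have hne : x * z ≠ x := fun h2 => C.h.z_ne (mul_eq_left.1 h2)
    have hxzQ : x * z ∈ Q x := Subgroup.mul_mem _ hx.loc.z_mem hx.mem'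
    have hcomm := typeA_of_mem C.F hx.memD hxzD hne hxzQ
    have hlz := C.F.loc _ hxzD
    -- `k = y u y⁻¹` commutes with `u x` and has square `x z`
    obtain ⟨k, hk⟩ : ∃ k, k = (y : G) * u x * (y : G)⁻¹ := ⟨_, rfl⟩
    have hkk : k * k = x * z := by
      calc k * k = y * (u x * u x) * (y : G)⁻¹ := by rw [hk]; group
        _ = x * z := by rw [hx.loc.u_sq, h1]
    have hku : k * u x = u x * k := by
      have h2 := C.F.conju hx.memD (y : G)
      rw [h1, ← hk] at h2
      have h3 : Commute (u x) (u (x * z)) := hcomm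
      rcases h2 with h2 | h2
      · rw [h2] at h3; exact h3.symm.eq
      · rw [h2] at h3
        exact (Commute.inv_right_iff.1 h3).symm.eq
    -- `y' = u x y (u x)⁻¹`
    obtain ⟨y', hy'⟩ : ∃ y', y' = u x * y * (u x)⁻¹ := ⟨_, rfl⟩
    have hy'Q : y' ∈ Q z := by rw [hy']; exact C.h.conj_mem _ hx.uz y y.2
    have hy'y : y' * y' = 1 := by
      calc y' * y' = u x * (y * y) * (u x)⁻¹ := by rw [hy']; group
        _ = 1 := by rw [hyy]; group
    have hyy' : (y : G) * y' = k * (u x)⁻¹ := by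
      rw [hy', hk, hyi]; group
    have hsq : ((y : G) * y') * (y * y') = z := by
      have h3 : Commute k (u x) := hku
      have h4 : Commute x z := hx.commz
      calc ((y : G) * y') * (y * y') = k * ((u x)⁻¹ * k) * (u x)⁻¹ := by rw [hyy']; group
        _ = k * (k * (u x)⁻¹) * (u x)⁻¹ := by rw [h3.inv_right.eq]
        _ = (k * k) * (u x * u x)⁻¹ := by group
        _ = z := by
          rw [hkk, hx.loc.u_sq, h4.eq, mul_assoc, mul_inv_cancel, mul_one]
    have h5 : actG C.h (u x) (C.h.pr y) = C.h.pr ⟨y', hy'Q⟩ := actG_pr C.h hx.uz y ⟨y', hy'Q⟩ hy'.symm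
    rw [h5, C.h.b_pr_one]
    have hy'i : y'⁻¹ = y' := inv_eq_of_mul_eq_one_left hy'y
    have hy'z : y' * z = z * y' := C.h.comm_z y' hy'Q
    show (y : G) * y' = y' * y * z
    calc (y : G) * y' = ((y * y') * (y * y')) * (y'⁻¹ * (y : G)⁻¹) := by group
      _ = z * (y' * y) := by rw [hsq, hy'i, hyi]
      _ = y' * y * z := by rw [mul_assoc, hyz, ← mul_assoc, ← mul_assoc, hy'z]

/-- `[V, t] ⊆ J`. -/
theorem Lift.brk (hx : C.Lift v x) (w : C.h.V) :
    ∃ s : Q z, (s : G) ∈ Q x ∧ C.h.pr s = w + actG C.h (u x) w := by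
  have h01 : ∀ t : ZMod 2, t = 0 ∨ t = 1 := by decide
  rcases h01 (C.h.b w v) with h0 | h0
  · rcases hx.act_perp h0 with h1 | h1 <;> rw [h1]
    · exact ⟨1, one_mem _, by rw [C.h.pr_one, C.h.add_self]⟩
    · refine ⟨⟨x, hx.mem⟩, hx.loc.z_mem, ?_⟩
      rw [hx.pr, ← add_assoc, C.h.add_self, zero_add]
  · obtain ⟨y, hyy, rfl⟩ := C.h.exists_pr_eq w
    have hyx : (y : G) * x = x * y * z := (hx.form_one y).1 h0
    have hyi : (y : G)⁻¹ = y := inv_eq_of_mul_eq_one_left hyy
    have hyz : (y : G) * z = z * y := C.h.comm_z y y.2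
    have h1 : (y : G) * x * (y : G)⁻¹ = x * z := by
      rw [hyx, mul_assoc, ← (show Commute (y : G) z from hyz).inv_left.eq]; group
    have hxzD : x * z ∈ D := by rw [← h1]; exact C.F.conj_mem x hx.memD y
    have hlz := C.F.loc _ hxzD
    obtain ⟨k, hk⟩ : ∃ k, k = (y : G) * u x * (y : G)⁻¹ := ⟨_, rfl⟩
    have hk2 : u (x * z) = k ∨ u (x * z) = k⁻¹ := by
      have h2 := C.F.conju hx.memD (y : G)
      rwa [h1, ← hk] at h2
    have hkk : k * k = x * z := by
      calc k * k = y * (u x * u x) * (y : G)⁻¹ := by rw [hk]; group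
        _ = x * z := by rw [hx.loc.u_sq, h1]
    -- an element of `Q x` inverting the roles
    obtain ⟨y2, hy2, h2⟩ := hx.loc.exists_conj hx.mem' C.h.z_sq C.h.z_ne hx.ne.symm
    rw [← hx.commz] at h2
    obtain ⟨m, hm⟩ : ∃ m, m = y2 * u z * y2⁻¹ := ⟨_, rfl⟩
    have hm2 : u (x * z) = m ∨ u (x * z) = m⁻¹ := by
      have h3 := C.F.conju C.hz y2
      rwa [h2, ← hm] at h3
    have hmm : m * m = x * z := by
      calc m * m = y2 * (u z * u z) * y2⁻¹ := by rw [hm]; group
        _ = x * z := by rw [C.h.u_sq, h2]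
    have hux : u z * x = x * u z := (C.h.comm_u x hx.mem).symm
    have hmQ : m * u z ∈ Q x := by
      have h4 : u z * y2⁻¹ * (u z)⁻¹ ∈ Q x := hx.loc.conj_mem (u z) hux _ (inv_mem hy2)
      have h5 : m * u z = y2 * (u z * y2⁻¹ * (u z)⁻¹) * z := by
        calc m * u z = y2 * (u z * y2⁻¹ * (u z)⁻¹) * (u z * u z) := by rw [hm]; group
          _ = _ := by rw [C.h.u_sq]
      rw [h5]
      exact Subgroup.mul_mem _ (Subgroup.mul_mem _ hy2 h4) hx.mem'
    have hxzQ : x * z ∈ Q x := Subgroup.mul_mem _ hx.loc.z_mem hx.mem'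
    have hkQ : k * u z ∈ Q x := by
      have h6 : k = m ∨ k = m⁻¹ := by
        rcases hk2 with h7 | h7 <;> rcases hm2 with h8 | h8
        · left; rw [← h7, h8]
        · right; rw [← h7, h8]
        · right; rw [← h8, h7, inv_inv]
        · left
          have := h7.symm.trans h8
          exact inv_injective this
      rcases h6 with h7 | h7
      · rw [h7]; exact hmQ
      · have h8 : m⁻¹ * u z = (m * m)⁻¹ * (m * u z) := by group
        rw [h7, h8, hmm]
        exact Subgroup.mul_mem _ (inv_mem hxzQ) hmQ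
    obtain ⟨y', hy'⟩ : ∃ y', y' = u x * y * (u x)⁻¹ := ⟨_, rfl⟩
    have hy'Q : y' ∈ Q z := by rw [hy']; exact C.h.conj_mem _ hx.uz y y.2
    have hyy' : (y : G) * y' = k * (u x)⁻¹ := by
      rw [hy', hk, hyi]; group
    have h5 : actG C.h (u x) (C.h.pr y) = C.h.pr ⟨y', hy'Q⟩ := actG_pr C.h hx.uz y ⟨y', hy'Q⟩ hy'.symm
    have hcz : Commute (u x) (u z) := (typeA_of_mem C.F C.hz hx.memD hx.ne hx.mem).symm
    refine ⟨y * ⟨y', hy'Q⟩ * ⟨u z, C.h.u_mem⟩, ?_, ?_⟩
    · show (y : G) * y' * u z ∈ Q x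
      have h6 : (y : G) * y' * u z = k * u z * (u x)⁻¹ := by
        rw [hyy', mul_assoc, hcz.inv_left.eq, ← mul_assoc]
      rw [h6]
      exact Subgroup.mul_mem _ hkQ (inv_mem hx.loc.u_mem)
    · rw [h5, C.h.pr_mul, C.h.pr_mul]
      have h7 : C.h.pr ⟨u z, C.h.u_mem⟩ = 0 := C.h.pr_eq_zero.2 (Or.inr (Or.inr (Or.inl rfl)))
      rw [h7, add_zero]

/-- elements of `Q z ∩ Q x` commute and are involutions. -/
theorem Lift.J_sq (hx : C.Lift v x) {s : G} (hs : s ∈ Q z) (hs' : s ∈ Q x) : s * s = 1 := by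
  rcases C.h.sq s hs with h1 | h1
  · exact h1
  · rcases hx.loc.sq s hs' with h2 | h2
    · exact h2
    · exact absurd (h2.symm.trans h1) hx.ne

theorem Lift.J_comm (hx : C.Lift v x) {s t : G} (hs : s ∈ Q z) (hs' : s ∈ Q x) (ht : t ∈ Q z)
    (ht' : t ∈ Q x) : s * t = t * s := by
  rcases C.h.comm s hs t ht with h1 | h1
  · exact h1
  · rcases hx.loc.comm s hs' t ht' with h2 | h2
    · exact h2
    · exact absurd (mul_left_cancel (h2.symm.trans h1)) hx.ne

/-- the type of a pair in terms of the action. -/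
theorem Lift.fix [Finite G] (hx : C.Lift v x) {w : C.h.V} {y : G} (hy : C.Lift w y)
    (h : actG C.h (u x) w = w) : y ∈ Q x := by
  by_cases hxy : y = x
  · rw [hxy]; exact hx.loc.z_mem
  have h0 : C.h.b w v = 0 := by
    rw [← hx.act_form w, h, C.h.b_self]
  have hyx : y * x = x * y := by
    rw [← hy.pr, hx.form_zero] at h0; exact h0
  apply SymplX.mem_of_typeA C.F C.hz hx.memD hy.memD hx.mem hy.mem hx.ne hy.ne
  rcases C.F.typeA_or_typeB hx.memD hy.memD (Ne.symm hxy) hyx.symm with h1 | ⟨h1, h2⟩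
  · exact h1
  · exfalso
    -- `u x` moves `y` to `x y`
    have h3 : (u x)⁻¹ * y * u x = x * y := by
      calc (u x)⁻¹ * y * u x = (u x)⁻¹ * (y * u x * y⁻¹) * y := by group
        _ = x * y := by rw [h2]; group
    have h4 := actG_pr C.h (g := (u x)⁻¹) (show Commute (u x) z from hx.uz).inv_left.eq ⟨y, hy.mem⟩
      (⟨x, hx.mem⟩ * ⟨y, hy.mem⟩) (by rw [inv_inv]; exact h3)
    rw [actG_inv C.h hx.uz, hy.pr, C.h.pr_mul, hx.pr, hy.pr] at h4
    have h5 : (actG C.h (u x))⁻¹ w = w := by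
      calc (actG C.h (u x))⁻¹ w = (actG C.h (u x))⁻¹ (actG C.h (u x) w) := by rw [h]
        _ = w := by simp
    rw [h5] at h4
    apply hx.ne_zero
    have := h4.symm
    simpa using this

end

end Ctx

end Cfsg.Agent.ClassificationK.SymplInst
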