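import Cfsg.Agent.ClassificationK.SymplInst

/-!
# The linear algebra system, part B: the maps `t`, `J`, `R` on the vectors and `O₂(H) = 1` (S1758)
-/

set_option autoImplicit false

namespace Cfsg.Agent.ClassificationK.SymplInst

open SymplSetup SymplLin

namespace Ctx

variable {G : Type*} [Group G] {D : Set G} {Q : G → Subgroup G} {u : G → G} {z : G}

/-- a chosen lift of a singular vector -/
noncomputable def lift (C : Ctx D Q u z) (v : C.h.V) : G := by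
  classical exact if hv : v ∈ C.Dl then hv.choose else 1

theorem lift_spec {C : Ctx D Q u z} {v : C.h.V} (hv : v ∈ C.Dl) : C.Lift v (C.lift v) := by
  unfold lift
  rw [dif_pos hv]
  exact hv.choose_spec

/-- the involution attached to a singular vector -/
noncomputable def t (C : Ctx D Q u z) (v : C.h.V) : C.h.V ≃ₗ[ZMod 2] C.h.V := actG C.h (u (C.lift v))

theorem t_eq {C : Ctx D Q u z} {v : C.h.V} {x : G} (hx : C.Lift v x) : C.t v = actG C.h (u x) :=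
  hx.act_eq (lift_spec hx.mem_Dl)

/-- the image of `Q z ∩ Q x` in `V` -/
noncomputable def Jx (C : Ctx D Q u z) (x : G) : Submodule (ZMod 2) C.h.V where
  carrier := {w | ∃ s : Q z, (s : G) ∈ Q x ∧ C.h.pr s = w}
  zero_mem' := ⟨1, one_mem _, C.h.pr_one⟩
  add_mem' := by
    rintro _ _ ⟨s, hs, rfl⟩ ⟨t, ht, rfl⟩
    exact ⟨s * t, Subgroup.mul_mem _ hs ht, C.h.pr_mul s t⟩
  smul_mem' := by
    rintro c _ ⟨s, hs, rfl⟩
    have h01 : ∀ t : ZMod 2, t = 0 ∨ t = 1 := by decide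
    rcases h01 c with h | h
    · rw [h, zero_smul]; exact ⟨1, one_mem _, C.h.pr_one⟩
    · rw [h, one_smul]; exact ⟨s, hs, rfl⟩

theorem mem_Jx {C : Ctx D Q u z} {x : G} {w : C.h.V} :
    w ∈ C.Jx x ↔ ∃ s : Q z, (s : G) ∈ Q x ∧ C.h.pr s = w := Iff.rfl

theorem Jx_le {C : Ctx D Q u z} {v : C.h.V} {x y : G} (hx : C.Lift v x) (hy : C.Lift v y) :
    C.Jx x ≤ C.Jx y := by
  obtain ⟨q, hq, rfl⟩ := hx.exists_conj hy
  rintro w ⟨s, hs, rfl⟩
  have hqz := C.h.comm_z q hq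
  refine ⟨⟨q * s * q⁻¹, C.h.conj_mem q hqz s s.2⟩, ?_, ?_⟩
  · rw [C.F.mem_conjQ hx.memD]
    have : q⁻¹ * (q * (s : G) * q⁻¹) * q = s := by group
    rw [this]; exact hs
  · have h1 := actG_pr C.h hqz s ⟨q * s * q⁻¹, C.h.conj_mem q hqz s s.2⟩ rfl
    rw [actG_mem C.h hq] at h1
    exact h1.symm

/-- the totally isotropic subspace attached to a singular vector -/
noncomputable def J (C : Ctx D Q u z) (v : C.h.V) : Submodule (ZMod 2) C.h.V := C.Jx (C.lift v)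

theorem J_eq {C : Ctx D Q u z} {v : C.h.V} {x : G} (hx : C.Lift v x) : C.J v = C.Jx x :=
  le_antisymm (Jx_le (lift_spec hx.mem_Dl) hx) (Jx_le hx (lift_spec hx.mem_Dl))

/-- the image of `C_{Q x}(z)` in `GL(V)` -/
noncomputable def Rx (C : Ctx D Q u z) (x : G) : Subgroup (C.h.V ≃ₗ[ZMod 2] C.h.V) :=
  ((Q x).subgroupOf (Subgroup.centralizer ({z} : Set G))).map C.h.act

theorem mem_Rx {C : Ctx D Q u z} {x : G} {r : C.h.V ≃ₗ[ZMod 2] C.h.V} :
    r ∈ C.Rx x ↔ ∃ q ∈ Q x, q * z = z * q ∧ actG C.h q = r := by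
  constructor
  · rintro ⟨g, hg, rfl⟩
    have hgz := Subgroup.mem_centralizer_singleton_iff.1 g.2
    exact ⟨g, hg, hgz, actG_of C.h hgz⟩
  · rintro ⟨q, hq, hqz, rfl⟩
    rw [actG_of C.h hqz]
    exact ⟨_, hq, rfl⟩

theorem Rx_conj {C : Ctx D Q u z} {x g : G} (hx : x ∈ D) (hg : g * z = z * g)
    {r : C.h.V ≃ₗ[ZMod 2] C.h.V} (hr : r ∈ C.Rx x) :
    actG C.h g * r * (actG C.h g)⁻¹ ∈ C.Rx (g * x * g⁻¹) := by
  obtain ⟨q, hq, hqz, rfl⟩ := mem_Rx.1 hr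
  have hcg : Commute g z := hg
  have hcq : Commute q z := hqz
  have h1 : (g * q) * z = z * (g * q) := (hcg.mul_left hcq).eq
  have h2 : (g * q * g⁻¹) * z = z * (g * q * g⁻¹) := ((hcg.mul_left hcq).mul_left hcg.inv_left).eq
  refine mem_Rx.2 ⟨g * q * g⁻¹, ?_, h2, ?_⟩
  · rw [C.F.mem_conjQ hx]
    have : g⁻¹ * (g * q * g⁻¹) * g = q := by group
    rw [this]; exact hq
  · rw [actG_mul C.h h1 hcg.inv_left.eq, actG_mul C.h hg hqz, actG_inv C.h hg]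

theorem Rx_le {C : Ctx D Q u z} {v : C.h.V} {x y : G} (hx : C.Lift v x) (hy : C.Lift v y) :
    C.Rx x ≤ C.Rx y := by
  obtain ⟨q, hq, rfl⟩ := hx.exists_conj hy
  intro r hr
  have h1 := Rx_conj hx.memD (C.h.comm_z q hq) hr
  rwa [actG_mem C.h hq, one_mul, inv_one, mul_one] at h1

/-- the elementary abelian 2-group attached to a singular vector -/
noncomputable def R (C : Ctx D Q u z) (v : C.h.V) : Subgroup (C.h.V ≃ₗ[ZMod 2] C.h.V) := C.Rx (C.lift v)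

theorem R_eq {C : Ctx D Q u z} {v : C.h.V} {x : G} (hx : C.Lift v x) : C.R v = C.Rx x :=
  le_antisymm (Rx_le (lift_spec hx.mem_Dl) hx) (Rx_le hx (lift_spec hx.mem_Dl))

section

variable {C : Ctx D Q u z} {v : C.h.V} {x : G}

theorem Lift.Rx_fix (hx : C.Lift v x) {r : C.h.V ≃ₗ[ZMod 2] C.h.V} (hr : r ∈ C.Rx x) : r v = v := by
  obtain ⟨q, hq, hqz, rfl⟩ := mem_Rx.1 hr
  have h1 := actG_pr C.h hqz ⟨x, hx.mem⟩ ⟨x, hx.mem⟩ (by
    show q * x * q⁻¹ = x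
    rw [hx.loc.comm_z q hq]; group)
  rwa [hx.pr] at h1

theorem Lift.Rx_sq (hx : C.Lift v x) {r : C.h.V ≃ₗ[ZMod 2] C.h.V} (hr : r ∈ C.Rx x) : r * r = 1 := by
  obtain ⟨q, hq, hqz, rfl⟩ := mem_Rx.1 hr
  rw [← actG_mul C.h hqz hqz]
  apply actG_mem
  rcases hx.loc.sq q hq with h1 | h1 <;> rw [h1]
  · exact one_mem _
  · exact hx.mem

theorem Lift.Rx_J (hx : C.Lift v x) {r : C.h.V ≃ₗ[ZMod 2] C.h.V} (hr : r ∈ C.Rx x) {w : C.h.V}
    (hw : w ∈ C.Jx x) : r w = w ∨ r w = w + v := by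
  obtain ⟨q, hq, hqz, rfl⟩ := mem_Rx.1 hr
  obtain ⟨s, hs, rfl⟩ := hw
  rcases hx.loc.comm q hq s hs with h1 | h1
  · left
    apply actG_pr C.h hqz
    rw [h1]; group
  · right
    rw [← hx.pr, ← C.h.pr_mul]
    apply actG_pr C.h hqz
    show q * s * q⁻¹ = s * x
    have h2 : Commute q x := hx.loc.comm_z q hq
    rw [h1, mul_assoc, ← h2.inv_left.eq]; group

theorem Lift.t_mem (hx : C.Lift v x) : actG C.h (u x) ∈ C.Rx x :=
  mem_Rx.2 ⟨u x, hx.loc.u_mem, hx.uz, rfl⟩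

theorem Lift.t_J (hx : C.Lift v x) {w : C.h.V} (hw : w ∈ C.Jx x) : actG C.h (u x) w = w := by
  obtain ⟨s, hs, rfl⟩ := hw
  apply actG_pr C.h hx.uz
  rw [← hx.loc.comm_u s hs]; group

theorem Lift.J_iso (hx : C.Lift v x) {w w' : C.h.V} (hw : w ∈ C.Jx x) (hw' : w' ∈ C.Jx x) :
    C.h.b w w' = 0 := by
  obtain ⟨s, hs, rfl⟩ := hw
  obtain ⟨t, ht, rfl⟩ := hw'
  rw [C.h.b_pr]
  exact hx.J_comm s.2 hs t.2 ht

end

theorem O2 [Finite G] (C : Ctx D Q u z) : Cfsg.pCore 2 C.h.act.range = ⊥ := by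
  obtain ⟨K, hK⟩ : ∃ K, K = Cfsg.pCore 2 C.h.act.range := ⟨_, rfl⟩
  have hKn : K.Normal := hK ▸ Cfsg.Agent.Lib.Cores.pCore_normal 2
  have hKp : IsPGroup 2 K := hK ▸ Cfsg.Agent.Lib.Cores.pCore_isPGroup 2
  rw [← hK]
  have hle : (K.comap C.h.act.rangeRestrict).map (Subgroup.centralizer ({z} : Set G)).subtype ≤ Q z := by
    apply C.h.core
    · rintro _ ⟨x, -, rfl⟩
      exact Subgroup.mem_centralizer_singleton_iff.1 x.2
    · rintro g hg _ ⟨x, hx, rfl⟩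
      have hgC : g ∈ Subgroup.centralizer ({z} : Set G) := Subgroup.mem_centralizer_singleton_iff.2 hg
      refine ⟨⟨g, hgC⟩ * x * ⟨g, hgC⟩⁻¹, ?_, rfl⟩
      have hx' : C.h.act.rangeRestrict x ∈ K := hx
      show C.h.act.rangeRestrict (⟨g, hgC⟩ * x * ⟨g, hgC⟩⁻¹) ∈ K
      rw [map_mul, map_mul, map_inv]
      exact hKn.conj_mem _ hx' _
    · rintro ⟨_, x, hx, rfl⟩
      have hx' : C.h.act.rangeRestrict x ∈ K := hx
      obtain ⟨k, hk⟩ := hKp ⟨_, hx'⟩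
      have h1 : C.h.act (x ^ (2 ^ k)) = 1 := by
        have h2 := congrArg Subtype.val hk
        have h3 := congrArg Subtype.val h2
        rw [map_pow]
        exact h3
      have h2 := C.h.mem_of_act _ h1
      obtain ⟨l, hl⟩ := C.h.isPGroup ⟨_, h2⟩
      refine ⟨k + l, ?_⟩
      apply Subtype.ext
      have h3 : ((x ^ (2 ^ k) : Subgroup.centralizer ({z} : Set G)) : G) ^ (2 ^ l) = 1 :=
        congrArg (fun t : Q z => (t : G)) hl
      show (x : G) ^ (2 ^ (k + l)) = 1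
      rw [pow_add, pow_mul]
      exact h3
  rw [eq_bot_iff]
  rintro ⟨_, g, rfl⟩ hg
  have h1 : (g : G) ∈ Q z := hle ⟨g, hg, rfl⟩
  rw [Subgroup.mem_bot]
  apply Subtype.ext
  exact C.h.act_mem g h1

end Ctx

end Cfsg.Agent.ClassificationK.SymplInst
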