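import Cfsg.Agent.ClassificationK.SymplInstB

/-!
# The linear algebra system, part C: counting (S1758)
-/

set_option autoImplicit false

namespace Cfsg.Agent.ClassificationK.SymplInst

open SymplSetup SymplLin

section Count

variable {G : Type*} [Group G] {Q : Subgroup G} {z u : G}

theorem nondeg (h : Symp Q z u) : h.b.Nondegenerate :=
  ⟨fun _ hv => h.b_nondeg hv, fun _ hv => h.b_nondeg fun x => by rw [h.b_comm]; exact hv x⟩

/-- a totally isotropic subspace has order at most `√|V|`. -/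
theorem card_iso [Finite Q] (h : Symp Q z u) (T : Submodule (ZMod 2) h.V)
    (hT : ∀ x ∈ T, ∀ y ∈ T, h.b x y = 0) : Nat.card T ^ 2 ≤ Nat.card h.V := by
  have : Module.Finite (ZMod 2) h.V := Module.Finite.of_finite
  have h1 : T ≤ h.b.orthogonal T := by
    intro y hy
    rw [LinearMap.BilinForm.mem_orthogonal_iff]
    intro n hn
    exact hT n hn y hy
  have h2 := LinearMap.BilinForm.finrank_orthogonal (nondeg h) T
  have h3 : Nat.card h.V = 2 ^ Module.finrank (ZMod 2) h.V := by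
    rw [Module.natCard_eq_pow_finrank (K := ZMod 2), Nat.card_zmod]
  have h4 : Nat.card T = 2 ^ Module.finrank (ZMod 2) T := by
    rw [Module.natCard_eq_pow_finrank (K := ZMod 2), Nat.card_zmod]
  rw [h3, h4, ← pow_mul]
  apply Nat.pow_le_pow_right (by norm_num)
  have h5 := Submodule.finrank_mono h1
  have h6 := Submodule.finrank_le T
  omega

/-- the image of `Q ∩ A` in `V` -/
noncomputable def img (h : Symp Q z u) (A : Subgroup G) : Submodule (ZMod 2) h.V where
  carrier := {w | ∃ s : Q, (s : G) ∈ A ∧ h.pr s = w}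
  zero_mem' := ⟨1, one_mem _, h.pr_one⟩
  add_mem' := by
    rintro _ _ ⟨s, hs, rfl⟩ ⟨t, ht, rfl⟩
    exact ⟨s * t, Subgroup.mul_mem _ hs ht, h.pr_mul s t⟩
  smul_mem' := by
    rintro c _ ⟨s, hs, rfl⟩
    have h01 : ∀ t : ZMod 2, t = 0 ∨ t = 1 := by decide
    rcases h01 c with h' | h'
    · rw [h', zero_smul]; exact ⟨1, one_mem _, h.pr_one⟩
    · rw [h', one_smul]; exact ⟨s, hs, rfl⟩

theorem mem_img {h : Symp Q z u} {A : Subgroup G} {w : h.V} :
    w ∈ img h A ↔ ∃ s : Q, (s : G) ∈ A ∧ h.pr s = w := Iff.rfl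

/-- cardinality of the kernel of a homomorphism times its range -/
theorem card_ker_range {A B : Type*} [Group A] [Group B] (f : A →* B) :
    Nat.card A = Nat.card f.ker * Nat.card f.range := by
  rw [← Subgroup.index_ker, Subgroup.card_mul_index]

theorem card_eq_two_mul [Finite Q] (h : Symp Q z u) (A : Subgroup G) (hz : z ∈ A)
    (hsq : ∀ a ∈ A, a ∈ Q → a * a = 1) : Nat.card (Q ⊓ A : Subgroup G) = 2 * Nat.card (img h A) := by
  let f : (Q ⊓ A : Subgroup G) →* Multiplicative h.V :=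
    { toFun := fun s => Multiplicative.ofAdd (h.pr ⟨s, s.2.1⟩)
      map_one' := rfl
      map_mul' := fun s t => rfl }
  have h1 := card_ker_range f
  have hfin : Finite (Q ⊓ A : Subgroup G) :=
    Finite.of_injective (Subgroup.inclusion inf_le_left) (Subgroup.inclusion_injective _)
  have h2 : Nat.card f.ker = 2 := by
    rw [Nat.card_eq_two_iff]
    refine ⟨1, ⟨⟨z, h.z_mem, hz⟩, ?_⟩, ?_, ?_⟩
    · rw [MonoidHom.mem_ker]
      exact congrArg Multiplicative.ofAdd (h.pr_eq_zero.2 (Or.inr (Or.inl rfl)))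
    · intro he
      apply h.z_ne
      have := congrArg (fun t : f.ker => ((t : (Q ⊓ A : Subgroup G)) : G)) he
      exact this.symm
    · rw [Set.eq_univ_iff_forall]
      rintro ⟨⟨s, hs⟩, hs'⟩
      have h3 : h.pr ⟨s, hs.1⟩ = 0 := Multiplicative.ofAdd.injective (MonoidHom.mem_ker.1 hs')
      have hss := hsq s hs.2 hs.1
      rcases h.pr_eq_zero.1 h3 with h4 | h4 | h4 | h4
      · left
        apply Subtype.ext; apply Subtype.ext; exact h4
      · right
        apply Subtype.ext; apply Subtype.ext; exact h4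
      · exfalso
        have h5 : s = u := h4
        rw [h5, h.u_sq] at hss
        exact h.z_ne hss
      · exfalso
        have h5 : s = u * z := h4
        apply h.z_ne
        rw [h5] at hss
        calc z = (u * u) * (z * z) := by rw [h.u_sq, h.z_sq, mul_one]
          _ = u * (u * z) * z := by group
          _ = u * (z * u) * z := by rw [h.uz]
          _ = u * z * (u * z) := by group
          _ = 1 := hss
  have h3 : Nat.card f.range = Nat.card (img h A) := by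
    apply Nat.card_congr
    refine ⟨fun w => ⟨Multiplicative.toAdd w.1, ?_⟩, fun w => ⟨Multiplicative.ofAdd w.1, ?_⟩, ?_, ?_⟩
    · obtain ⟨w, s, rfl⟩ := w
      exact ⟨⟨s, s.2.1⟩, s.2.2, rfl⟩
    · obtain ⟨w, s, hs, rfl⟩ := w
      exact ⟨⟨s, s.2, hs⟩, rfl⟩
    · intro w; rfl
    · intro w; rfl
  rw [h1, h2, h3]

theorem card_sq_le [Finite Q] (h : Symp Q z u) (A : Subgroup G) (hz : z ∈ A)
    (hsq : ∀ a ∈ A, a ∈ Q → a * a = 1) : Nat.card (Q ⊓ A : Subgroup G) ^ 2 ≤ 4 * Nat.card h.V := by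
  rw [card_eq_two_mul h A hz hsq, mul_pow]
  have h1 := card_iso h (img h A) (by
    rintro _ ⟨s, hs, rfl⟩ _ ⟨t, ht, rfl⟩
    rw [h.b_pr]
    exact comm_of_sq (hsq s hs s.2) (hsq t ht t.2)
      (hsq _ (Subgroup.mul_mem _ hs ht) (Subgroup.mul_mem _ s.2 t.2)))
  omega

/-- the centralizer of an element of `Q` in `Q` has index at most 2. -/
theorem card_le_cent [Finite Q] (h : Symp Q z u) {s : G} (hs : s ∈ Q) :
    Nat.card Q ≤ 2 * Nat.card (Q ⊓ Subgroup.centralizer {s} : Subgroup G) := by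
  let f : Q →* Multiplicative (ZMod 2) :=
    { toFun := fun q => Multiplicative.ofAdd (h.b (h.pr q) (h.pr ⟨s, hs⟩))
      map_one' := by
        rw [h.pr_one, map_zero]; rfl
      map_mul' := fun q r => by
        rw [h.pr_mul, map_add]; rfl }
  have h1 := card_ker_range f
  have h2 : Nat.card f.range ≤ 2 := by
    have h3 := Subgroup.card_le_card_group f.range
    have h4 : Nat.card (Multiplicative (ZMod 2)) = 2 := Nat.card_zmod 2
    rw [h4] at h3
    exact h3
  have h3 : Nat.card f.ker = Nat.card (Q ⊓ Subgroup.centralizer {s} : Subgroup G) := by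
    have hker : ∀ q : Q, q ∈ f.ker ↔ (q : G) * s = s * q := by
      intro q
      rw [MonoidHom.mem_ker, ← h.b_pr q ⟨s, hs⟩]
      exact ⟨fun h => Multiplicative.ofAdd.injective h, fun h => congrArg Multiplicative.ofAdd h⟩
    apply Nat.card_congr
    refine ⟨fun w => ⟨w.1.1, w.1.2, ?_⟩, fun w => ⟨⟨w.1, w.2.1⟩, ?_⟩, ?_, ?_⟩
    · exact Subgroup.mem_centralizer_singleton_iff.2 ((hker w.1).1 w.2)
    · exact (hker _).2 (Subgroup.mem_centralizer_singleton_iff.1 w.2.2)
    · intro w; rfl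
    · intro w; rfl
  rw [h1, h3, mul_comm]
  exact Nat.mul_le_mul_right _ h2

end Count

namespace Ctx

variable {G : Type*} [Group G] {D : Set G} {Q : G → Subgroup G} {u : G → G} {z : G}

theorem Jx_eq {C : Ctx D Q u z} {x : G} : C.Jx x = img C.h (Q x) := rfl

theorem card_Q [Finite G] (C : Ctx D Q u z) {a : G} (ha : a ∈ D) : Nat.card (Q a) = 4 * Nat.card C.h.V := by
  rw [← C.h.card_eq]
  obtain ⟨g, hg⟩ := C.F.trans z C.hz a ha
  rw [← hg, C.F.conjQ z C.hz g]
  exact Subgroup.card_map_of_injective (MulAut.conj g).injective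

section

variable [Finite G] {C : Ctx D Q u z} {v : C.h.V} {x : G}

theorem Lift.card_V (hx : C.Lift v x) : Nat.card hx.loc.V = Nat.card C.h.V := by
  have h1 := hx.loc.card_eq
  have h2 := C.card_Q hx.memD
  omega

theorem Lift.card_J (hx : C.Lift v x) : Nat.card (Q z ⊓ Q x : Subgroup G) = 2 * Nat.card (C.Jx x) :=
  card_eq_two_mul C.h (Q x) hx.mem' (fun _ ha ha' => hx.J_sq ha' ha)

theorem Lift.card_J_le (hx : C.Lift v x) : Nat.card (C.Jx x) ^ 2 ≤ Nat.card C.h.V :=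
  card_iso C.h (C.Jx x) fun _ hw _ hw' => hx.J_iso hw hw'

theorem Lift.card_cent (hx : C.Lift v x) :
    2 * Nat.card C.h.V ≤ Nat.card (Q x ⊓ Subgroup.centralizer {z} : Subgroup G) := by
  have h1 := card_le_cent hx.loc hx.mem'
  rw [C.card_Q hx.memD] at h1
  omega

theorem Lift.card_R (hx : C.Lift v x) : Nat.card (Q x ⊓ Subgroup.centralizer {z} : Subgroup G) =
    Nat.card (Q z ⊓ Q x : Subgroup G) * Nat.card (C.Rx x) := by
  let L : Subgroup (Subgroup.centralizer ({z} : Set G)) := (Q x).subgroupOf (Subgroup.centralizer ({z} : Set G))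
  let f : L →* (C.h.V ≃ₗ[ZMod 2] C.h.V) := C.h.act.comp L.subtype
  have h1 := card_ker_range f
  have h2 : Nat.card f.range = Nat.card (C.Rx x) := by
    have : f.range = C.Rx x := by
      show (C.h.act.comp L.subtype).range = L.map C.h.act
      rw [MonoidHom.range_comp, Subgroup.range_subtype]
    rw [this]
  have h3 : Nat.card L = Nat.card (Q x ⊓ Subgroup.centralizer {z} : Subgroup G) := by
    apply Nat.card_congr
    exact ⟨fun w => ⟨w.1.1, w.2, w.1.2⟩, fun w => ⟨⟨w.1, w.2.2⟩, w.2.1⟩, fun _ => rfl, fun _ => rfl⟩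
  have h4 : Nat.card f.ker = Nat.card (Q z ⊓ Q x : Subgroup G) := by
    have hker : ∀ q : L, q ∈ f.ker ↔ (q.1.1 : G) ∈ Q z := by
      intro q
      rw [MonoidHom.mem_ker]
      exact ⟨fun h => C.h.mem_of_act _ h, fun h => C.h.act_mem _ h⟩
    apply Nat.card_congr
    refine ⟨fun w => ⟨w.1.1.1, (hker w.1).1 w.2, w.1.2⟩,
      fun w => ⟨⟨⟨w.1, Subgroup.mem_centralizer_singleton_iff.2 (C.h.comm_z _ w.2.1)⟩, w.2.2⟩,
        (hker _).2 w.2.1⟩, fun _ => rfl, fun _ => rfl⟩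
  rw [← h3, h1, h2, h4]

theorem Lift.card_R_le (hx : C.Lift v x) : Nat.card C.h.V ≤ Nat.card (C.Rx x) ^ 2 := by
  have h1 := hx.card_cent
  rw [hx.card_R, hx.card_J] at h1
  have h2 := hx.card_J_le
  have h3 : Nat.card C.h.V ≤ Nat.card (C.Jx x) * Nat.card (C.Rx x) := by
    have : 2 * Nat.card C.h.V ≤ 2 * (Nat.card (C.Jx x) * Nat.card (C.Rx x)) := by
      rw [← mul_assoc]; exact h1
    omega
  have h4 : 0 < Nat.card C.h.V := Nat.card_pos
  have h5 : Nat.card C.h.V ^ 2 ≤ Nat.card C.h.V * Nat.card (C.Rx x) ^ 2 := by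
    calc Nat.card C.h.V ^ 2 ≤ (Nat.card (C.Jx x) * Nat.card (C.Rx x)) ^ 2 := Nat.pow_le_pow_left h3 2
      _ = Nat.card (C.Jx x) ^ 2 * Nat.card (C.Rx x) ^ 2 := mul_pow _ _ _
      _ ≤ Nat.card C.h.V * Nat.card (C.Rx x) ^ 2 := Nat.mul_le_mul_right _ h2
  rw [pow_two] at h5
  exact Nat.le_of_mul_le_mul_left h5 h4

/-- the type of a pair `a ⋆ b`. -/
theorem Lift.typeB (hx : C.Lift v x) {w : C.h.V} {y : G} (hy : C.Lift w y) (h0 : C.h.b v w = 0)
    (h : actG C.h (u x) w = v + w) :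
    y * x = x * y ∧ x * u y * x⁻¹ = u y * y ∧ y * u x * y⁻¹ = u x * x := by
  have hne : x ≠ y := by
    intro hxy
    have h1 : v = w := by
      have h2 := hx.pr
      have h3 := hy.pr
      subst hxy
      exact h2.symm.trans h3
    rw [← h1, hx.Rx_fix hx.t_mem] at h
    apply hx.ne_zero
    rw [h, C.h.add_self]
  have hyx : y * x = x * y := by
    rw [C.h.b_comm, ← hy.pr, hx.form_zero] at h0; exact h0
  refine ⟨hyx, ?_⟩
  rcases C.F.typeA_or_typeB hx.memD hy.memD hne hyx.symm with h1 | h1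
  · exfalso
    have h2 := SymplX.mem_of_typeA C.F C.hz hx.memD hy.memD hx.mem hy.mem hx.ne hy.ne h1
    have h3 := actG_pr C.h hx.uz ⟨y, hy.mem⟩ ⟨y, hy.mem⟩ (by
      show u x * y * (u x)⁻¹ = y
      rw [← hx.loc.comm_u y h2]; group)
    rw [hy.pr, h] at h3
    apply hx.ne_zero
    have h4 : v + w = 0 + w := by rw [h3, zero_add]
    exact add_right_cancel h4
  · exact h1

theorem Lift.star_half (hx : C.Lift v x) {w : C.h.V} (h0 : C.h.b v w = 0)
    (h : actG C.h (u x) w = v + w) : ∃ s : Q z, (s : G) ∈ Q x ∧ C.h.b (C.h.pr s) w = 1 := by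
  have h01 : ∀ t : ZMod 2, t = 0 ∨ t = 1 := by decide
  obtain ⟨w', hw'⟩ : ∃ w', C.h.b w' v = 1 := by
    by_contra hcon
    push Not at hcon
    apply hx.ne_zero
    apply C.h.b_nondeg
    intro w'
    rw [C.h.b_comm]
    exact (h01 _).resolve_right (hcon w')
  obtain ⟨s, hs, hs'⟩ := hx.brk w'
  refine ⟨s, hs, ?_⟩
  have h1 : C.h.b (actG C.h (u x) w') w = C.h.b w' (v + w) := by
    have h2 := b_actG C.h (u x) (actG C.h (u x) w') w
    have h3 : actG C.h (u x) (actG C.h (u x) w') = w' :=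
      congrArg (fun f : C.h.V ≃ₗ[ZMod 2] C.h.V => f w') hx.act_sq
    rw [h3, h] at h2
    exact h2.symm
  rw [hs', map_add, LinearMap.add_apply, h1, map_add, hw']
  rcases h01 (C.h.b w' w) with h4 | h4 <;> rw [h4] <;> decide

theorem Lift.star_img (hx : C.Lift v x) {w : C.h.V} {y : G} (hy : C.Lift w y) (hyx : y * x = x * y)
    {q : G} (hq : q ∈ Q x) (hqz : q * z = z * q) :
    y * (q * y * q⁻¹) ∈ Q z ∧ y * (q * y * q⁻¹) ∈ Q x ∧ (y * (q * y * q⁻¹)) * y = y * (y * (q * y * q⁻¹)) := by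
  have h1 : y * (q * y * q⁻¹) ∈ Q z := Subgroup.mul_mem _ hy.mem (C.h.conj_mem q hqz y hy.mem)
  have hyi : y⁻¹ = y := hy.loc.z_inv
  have h2 : y * (q * y * q⁻¹) ∈ Q x := by
    have h3 : y * (q * y * q⁻¹) = (y * q * y⁻¹) * q⁻¹ := by rw [hyi]; group
    rw [h3]
    exact Subgroup.mul_mem _ (hx.loc.conj_mem y hyx q hq) (inv_mem hq)
  refine ⟨h1, h2, ?_⟩
  have h3 := hx.J_sq h1 h2
  have h4 : (q * y * q⁻¹) * (q * y * q⁻¹) = 1 := by
    calc (q * y * q⁻¹) * (q * y * q⁻¹) = q * (y * y) * q⁻¹ := by group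
      _ = 1 := by rw [hy.sq]; group
  have h5 := comm_of_sq hy.sq h4 h3
  rw [mul_assoc, ← h5]

/-- the centraliser of `y` in `Q x` for `x ⋆ y`. -/
theorem Lift.card_typeB (hx : C.Lift v x) {w : C.h.V} {y : G} (hy : C.Lift w y) (hyx : y * x = x * y)
    (hB : x * u y * x⁻¹ = u y * y ∧ y * u x * y⁻¹ = u x * x) :
    Nat.card (Q x ⊓ Subgroup.centralizer {y} : Subgroup G) ^ 2 ≤ 4 * Nat.card C.h.V := by
  rw [← hx.card_V]
  have hxy : x ≠ y := by
    intro h1
    have h2 := hB.2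
    rw [← h1, hx.loc.comm_u x hx.loc.z_mem, mul_assoc, mul_inv_cancel, mul_one] at h2
    exact hx.loc.z_ne (mul_eq_left.1 h2.symm)
  apply card_sq_le hx.loc
  · exact Subgroup.mem_centralizer_singleton_iff.2 hyx.symm
  · intro q hq hqx
    have hqy := Subgroup.mem_centralizer_singleton_iff.1 hq
    have key : ∀ s, s ∈ Q x → s ∈ Q y → s * s = 1 := by
      intro s hs hs'
      rcases hx.loc.sq s hs with h1 | h1
      · exact h1
      · rcases hy.loc.sq s hs' with h2 | h2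
        · exact h2
        · exact absurd (h1.symm.trans h2) hxy
    rcases typeB_cent C.F hx.memD hy.memD hB.1 hB.2 hqx hqy with h1 | h1
    · exact key q hqx h1
    · have h2 := key (q * x) (Subgroup.mul_mem _ hqx hx.loc.z_mem) h1
      have h3 := hx.loc.comm_z q hqx
      calc q * q = q * q * (x * x) := by rw [hx.sq, mul_one]
        _ = q * (q * x) * x := by group
        _ = q * (x * q) * x := by rw [h3]
        _ = q * x * (q * x) := by group
        _ = 1 := h2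

/-- **(P7)** counting. -/
theorem Lift.star_main (hx : C.Lift v x) {w : C.h.V} {y : G} (hy : C.Lift w y) (h0 : C.h.b v w = 0)
    (h : actG C.h (u x) w = v + w) :
    (∀ s ∈ Q z, s ∈ Q x → s * y = y * s → ∃ q ∈ Q x, q * z = z * q ∧ y * (q * y * q⁻¹) = s) ∧
      Nat.card (C.Jx x) ^ 2 = Nat.card C.h.V := by
  classical
  obtain ⟨hyx, hB⟩ := hx.typeB hy h0 h
  obtain ⟨K, hK⟩ : ∃ K : Subgroup G, K = Q x ⊓ Subgroup.centralizer {z} := ⟨_, rfl⟩
  obtain ⟨Cy, hCy⟩ : ∃ K : Subgroup G, K = Q x ⊓ Subgroup.centralizer {y} := ⟨_, rfl⟩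
  obtain ⟨CJ, hCJ⟩ : ∃ K : Subgroup G, K = (Q z ⊓ Q x) ⊓ Subgroup.centralizer {y} := ⟨_, rfl⟩
  have memK : ∀ q, q ∈ K ↔ q ∈ Q x ∧ q * z = z * q := by
    intro q
    rw [hK, Subgroup.mem_inf, Subgroup.mem_centralizer_singleton_iff]
  have memCy : ∀ q, q ∈ Cy ↔ q ∈ Q x ∧ q * y = y * q := by
    intro q
    rw [hCy, Subgroup.mem_inf, Subgroup.mem_centralizer_singleton_iff]
  have memCJ : ∀ q, q ∈ CJ ↔ (q ∈ Q z ∧ q ∈ Q x) ∧ q * y = y * q := by
    intro q
    rw [hCJ, Subgroup.mem_inf, Subgroup.mem_inf, Subgroup.mem_centralizer_singleton_iff]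
  let f : G → G := fun q => y * (q * y * q⁻¹)
  let Kf : Finset G := (Set.toFinite (K : Set G)).toFinset
  have hKf : ∀ q, q ∈ Kf ↔ q ∈ K := by intro q; simp [Kf]
  have hKc : Kf.card = Nat.card K := by
    have : (K : Set G).ncard = Kf.card := Set.ncard_eq_toFinset_card _ (Set.toFinite _)
    rw [← this]; rfl
  let CJf : Finset G := (Set.toFinite (CJ : Set G)).toFinset
  have hCJf : ∀ q, q ∈ CJf ↔ q ∈ CJ := by intro q; simp [CJf]
  have hCJc : CJf.card = Nat.card CJ := by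
    have : (CJ : Set G).ncard = CJf.card := Set.ncard_eq_toFinset_card _ (Set.toFinite _)
    rw [← this]; rfl
  have hsub : Kf.image f ⊆ CJf := by
    intro s hs
    obtain ⟨q, hq, rfl⟩ := Finset.mem_image.1 hs
    have hq' := (memK q).1 ((hKf q).1 hq)
    have h1 := hx.star_img hy hyx hq'.1 hq'.2
    rw [hCJf, memCJ]
    exact ⟨⟨h1.1, h1.2.1⟩, h1.2.2⟩
  have hfib : Kf.card ≤ Nat.card Cy * (Kf.image f).card := by
    apply Finset.card_le_mul_card_image
    intro s hs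
    obtain ⟨q0, hq0, rfl⟩ := Finset.mem_image.1 hs
    have hq0' := (memK q0).1 ((hKf q0).1 hq0)
    let Cyf : Finset G := (Set.toFinite (Cy : Set G)).toFinset
    have hCyf : ∀ q, q ∈ Cyf ↔ q ∈ Cy := by intro q; simp [Cyf]
    have hCyc : Cyf.card = Nat.card Cy := by
      have : (Cy : Set G).ncard = Cyf.card := Set.ncard_eq_toFinset_card _ (Set.toFinite _)
      rw [← this]; rfl
    rw [← hCyc]
    apply Finset.card_le_card_of_injOn (fun q => q0⁻¹ * q)
    · intro q hq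
      have hq1 : q ∈ Kf ∧ f q = f q0 := Finset.mem_filter.1 hq
      have hq' := (memK q).1 ((hKf q).1 hq1.1)
      have h1 : q * y * q⁻¹ = q0 * y * q0⁻¹ := mul_left_cancel hq1.2
      rw [Finset.mem_coe, hCyf, memCy]
      refine ⟨Subgroup.mul_mem _ (inv_mem hq0'.1) hq'.1, ?_⟩
      calc q0⁻¹ * q * y = q0⁻¹ * (q * y * q⁻¹) * q := by group
        _ = y * (q0⁻¹ * q) := by rw [h1]; group
    · intro a _ b _ hab
      exact mul_left_cancel hab
  have hc1 : 2 * Nat.card C.h.V ≤ Nat.card K := hK ▸ hx.card_cent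
  have hc2 : Nat.card Cy ^ 2 ≤ 4 * Nat.card C.h.V := hCy ▸ hx.card_typeB hy hyx hB
  have hc3 : (Kf.image f).card ≤ Nat.card CJ := by
    rw [← hCJc]; exact Finset.card_le_card hsub
  have hc4 : Nat.card CJ ≤ Nat.card (C.Jx x) := by
    have hle : CJ ≤ Q z ⊓ Q x := by rw [hCJ]; exact inf_le_left
    have hne : CJ ≠ Q z ⊓ Q x := by
      intro he
      obtain ⟨s, hs, hs1⟩ := hx.star_half h0 h
      have hsJ : (s : G) ∈ CJ := by rw [he]; exact ⟨s.2, hs⟩
      have h2 := ((memCJ _).1 hsJ).2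
      have h3 := (hy.form_zero s).2 h2
      rw [h3] at hs1
      exact absurd hs1 (by decide)
    obtain ⟨m, hm⟩ := Subgroup.card_dvd_of_le hle
    rw [hx.card_J] at hm
    have hpos : 0 < Nat.card (C.Jx x) := Nat.card_pos
    have hpos' : 0 < Nat.card CJ := Nat.card_pos
    have hm0 : m ≠ 0 := by
      rintro rfl
      omega
    have hm1 : m ≠ 1 := by
      rintro rfl
      apply hne
      apply Subgroup.eq_of_le_of_card_ge hle
      rw [hx.card_J]; omega
    have hm2 : 2 ≤ m := by omega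
    have : Nat.card CJ * 2 ≤ Nat.card CJ * m := Nat.mul_le_mul_left _ hm2
    omega
  have hc5 := hx.card_J_le
  have hpos : 0 < Nat.card C.h.V := Nat.card_pos
  -- `|V| ≤ |im f|²`
  have hc6 : Nat.card C.h.V ≤ (Kf.image f).card ^ 2 := by
    have h1 : 2 * Nat.card C.h.V ≤ Nat.card Cy * (Kf.image f).card := by
      rw [← hKc] at hc1; exact hc1.trans hfib
    have h2 : (2 * Nat.card C.h.V) ^ 2 ≤ (Nat.card Cy * (Kf.image f).card) ^ 2 := Nat.pow_le_pow_left h1 2
    rw [mul_pow, mul_pow] at h2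
    have h3 : Nat.card Cy ^ 2 * (Kf.image f).card ^ 2 ≤ 4 * Nat.card C.h.V * (Kf.image f).card ^ 2 :=
      Nat.mul_le_mul_right _ hc2
    have h4 : (4 * Nat.card C.h.V) * Nat.card C.h.V ≤ (4 * Nat.card C.h.V) * (Kf.image f).card ^ 2 := by
      calc (4 * Nat.card C.h.V) * Nat.card C.h.V = 2 ^ 2 * Nat.card C.h.V ^ 2 := by ring
        _ ≤ _ := h2.trans h3
    exact Nat.le_of_mul_le_mul_left h4 (by omega)
  have hc7 : (Kf.image f).card ^ 2 ≤ Nat.card CJ ^ 2 := Nat.pow_le_pow_left hc3 2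
  have hc8 : Nat.card CJ ^ 2 ≤ Nat.card (C.Jx x) ^ 2 := Nat.pow_le_pow_left hc4 2
  refine ⟨?_, by omega⟩
  have hc9 : (Kf.image f).card ^ 2 = Nat.card CJ ^ 2 := by omega
  have hc10 : (Kf.image f).card = Nat.card CJ := (Nat.pow_left_inj (by norm_num : (2 : ℕ) ≠ 0)).1 hc9
  have heq : Kf.image f = CJf := Finset.eq_of_subset_of_card_le hsub (by rw [hc10, hCJc])
  intro s hs hs' hsy
  have hsJ : s ∈ Kf.image f := by
    rw [heq, hCJf, memCJ]
    exact ⟨⟨hs, hs'⟩, hsy⟩
  obtain ⟨q, hq, hqs⟩ := Finset.mem_image.1 hsJ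
  have hq' := (memK q).1 ((hKf q).1 hq)
  exact ⟨q, hq'.1, hq'.2, hqs⟩

end

end Ctx

end Cfsg.Agent.ClassificationK.SymplInst
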