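import Cfsg.Agent.ClassificationK.SymplInstC
import Cfsg.Agent.ClassificationK.SymplLinC

/-!
# The linear algebra system of a family, part D: the instance (S1758)
-/

set_option autoImplicit false

namespace Cfsg.Agent.ClassificationK.SymplInst

open SymplSetup SymplLin

namespace Ctx

variable {G : Type*} [Group G] {D : Set G} {Q : G → Subgroup G} {u : G → G} {z : G}

/-- **The linear algebra system** of the context `C`. -/
noncomputable def sys [Finite G] (C : Ctx D Q u z) : Sys C.h.V where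
  ω := C.h.b
  alt := C.h.b_self
  nondeg := fun v hv => C.h.b_nondeg hv
  H := C.h.act.range
  pres := by
    rintro _ ⟨g, rfl⟩ v x
    exact C.h.b_act g v x
  O2 := C.O2
  Δ := C.Dl
  zero_notMem := fun ⟨_, hx⟩ => hx.ne_zero rfl
  nonempty := by
    obtain ⟨a, ha, haQ, hne⟩ := C.hne
    exact ⟨C.h.pr ⟨a, haQ⟩, a, haQ, ha, hne, rfl⟩
  Δ_inv := by
    rintro h hh v ⟨x, hx⟩
    obtain ⟨g, hg, rfl⟩ := (mem_range_act C.h).1 hh
    exact ⟨_, hx.conj hg⟩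
  closed := by
    rintro v ⟨x, hx⟩ w ⟨y, hy⟩ hvw h0
    have hyx : y * x = x * y := by
      rw [C.h.b_comm, ← hy.pr, hx.form_zero] at h0; exact h0
    have hne : x ≠ y := by
      intro h
      apply hvw
      rw [← hx.pr, ← hy.pr]
      congr 1
      exact Subtype.ext h
    refine ⟨x * y, Subgroup.mul_mem _ hx.mem hy.mem, C.F.mul_mem hx.memD hy.memD hne hyx.symm, ?_, ?_⟩
    · intro h
      apply hvw
      have h1 : x = z * y := by
        calc x = x * y * y := by rw [mul_assoc, hy.sq, mul_one]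
          _ = z * y := by rw [h]
      rw [← hx.pr, ← hy.pr, C.h.pr_eq_pr]
      right; left
      show x = y * z
      rw [h1, hy.commz]
    · have e := C.h.pr_mul ⟨x, hx.mem⟩ ⟨y, hy.mem⟩
      rw [hx.pr, hy.pr] at e
      exact e
  t := C.t
  t_conj := by
    rintro h hh v ⟨x, hx⟩
    obtain ⟨g, hg, rfl⟩ := (mem_range_act C.h).1 hh
    rw [t_eq hx, t_eq (hx.conj hg), hx.act_conju hg]
  t_perp := by
    rintro v ⟨x, hx⟩ w hw
    rw [t_eq hx]
    exact hx.act_perp hw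
  t_form := by
    rintro v ⟨x, hx⟩ w
    rw [t_eq hx]
    exact hx.act_form w
  J := C.J
  J_mem := by
    rintro v ⟨x, hx⟩
    rw [J_eq hx]
    exact ⟨⟨x, hx.mem⟩, hx.loc.z_mem, hx.pr⟩
  J_iso := by
    rintro v ⟨x, hx⟩ w hw w' hw'
    rw [J_eq hx] at hw hw'
    exact hx.J_iso hw hw'
  J_fix := by
    rintro v ⟨x, hx⟩ w ⟨y, hy⟩ h
    rw [t_eq hx] at h
    rw [J_eq hx]
    exact ⟨⟨y, hy.mem⟩, hx.fix hy h, hy.pr⟩
  t_J := by
    rintro v ⟨x, hx⟩ w hw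
    rw [J_eq hx] at hw
    rw [t_eq hx]
    exact hx.t_J hw
  R := C.R
  R_le := by
    rintro v ⟨x, hx⟩ r hr
    rw [R_eq hx] at hr
    obtain ⟨q, -, hqz, rfl⟩ := mem_Rx.1 hr
    exact (mem_range_act C.h).2 ⟨q, hqz, rfl⟩
  R_fix := by
    rintro v ⟨x, hx⟩ r hr
    rw [R_eq hx] at hr
    exact hx.Rx_fix hr
  R_conj := by
    rintro h hh v ⟨x, hx⟩ r hr
    obtain ⟨g, hg, rfl⟩ := (mem_range_act C.h).1 hh
    rw [R_eq hx] at hr
    rw [R_eq (hx.conj hg)]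
    exact Rx_conj hx.memD hg hr
  R_sq := by
    rintro v ⟨x, hx⟩ r hr
    rw [R_eq hx] at hr
    exact hx.Rx_sq hr
  R_J := by
    rintro v ⟨x, hx⟩ r hr w hw
    rw [R_eq hx] at hr
    rw [J_eq hx] at hw
    exact hx.Rx_J hr hw
  t_mem := by
    rintro v ⟨x, hx⟩
    rw [R_eq hx, t_eq hx]
    exact hx.t_mem
  R_card := by
    rintro v ⟨x, hx⟩
    rw [R_eq hx]
    exact hx.card_R_le
  star_mem := by
    rintro v ⟨x, hx⟩ w ⟨y, hy⟩ h0 h w' hw' hw'0 hne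
    rw [t_eq hx] at h
    rw [J_eq hx] at hw'
    obtain ⟨s, hs, rfl⟩ := hw'
    have hsy : (s : G) * y = y * s := (hy.form_zero s).1 hw'0
    obtain ⟨q, hq, hqz, hqs⟩ := (hx.star_main hy h0 h).1 s s.2 hs hsy
    have hs1 : (s : G) ≠ 1 := by
      intro h1
      apply hne
      rw [C.h.pr_eq_zero]; exact Or.inl h1
    have hsz : (s : G) ≠ z := by
      intro h1
      apply hne
      rw [C.h.pr_eq_zero]; exact Or.inr (Or.inl h1)
    have hy2 : q * y * q⁻¹ ∈ D := C.F.conj_mem y hy.memD q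
    have hsq : (y * (q * y * q⁻¹)) * (y * (q * y * q⁻¹)) = 1 := by
      rw [hqs]; exact hx.J_sq s.2 hs
    have hcomm := comm_of_sq hy.sq (C.F.loc _ hy2).z_sq hsq
    have hne2 : y ≠ q * y * q⁻¹ := by
      intro h1
      apply hs1
      rw [← hqs, ← h1, hy.sq]
    refine ⟨s, s.2, ?_, hsz, rfl⟩
    rw [← hqs]
    exact C.F.mul_mem hy.memD hy2 hne2 hcomm
  star_orb := by
    rintro v ⟨x, hx⟩ w ⟨y, hy⟩ h0 h w' hw' hw'0
    rw [t_eq hx] at h
    rw [J_eq hx] at hw'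
    obtain ⟨s, hs, rfl⟩ := hw'
    have hsy : (s : G) * y = y * s := (hy.form_zero s).1 hw'0
    obtain ⟨q, hq, hqz, hqs⟩ := (hx.star_main hy h0 h).1 s s.2 hs hsy
    rw [R_eq hx]
    refine ⟨actG C.h q, mem_Rx.2 ⟨q, hq, hqz, rfl⟩, ?_⟩
    rw [← hy.pr, ← C.h.pr_mul]
    apply actG_pr C.h hqz
    show q * y * q⁻¹ = y * s
    rw [← hqs, ← mul_assoc, hy.sq, one_mul]
  star_card := by
    rintro v ⟨x, hx⟩ w ⟨y, hy⟩ h0 h
    rw [t_eq hx] at h
    rw [J_eq hx]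
    exact (hx.star_main hy h0 h).2
  star_half := by
    rintro v ⟨x, hx⟩ w ⟨y, hy⟩ h0 h
    rw [t_eq hx] at h
    obtain ⟨s, hs, hs1⟩ := hx.star_half h0 h
    refine ⟨C.h.pr s, ?_, ?_⟩
    · rw [J_eq hx]; exact ⟨s, hs, rfl⟩
    · rw [hs1]; decide
  star_img := by
    rintro v ⟨x, hx⟩ w ⟨y, hy⟩ h0 h r hr
    rw [t_eq hx] at h
    rw [R_eq hx] at hr
    obtain ⟨q, hq, hqz, rfl⟩ := mem_Rx.1 hr
    obtain ⟨hyx, -⟩ := hx.typeB hy h0 h
    obtain ⟨h1, h2, h3⟩ := hx.star_img hy hyx hq hqz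
    have h4 : actG C.h q w = C.h.pr ⟨q * y * q⁻¹, C.h.conj_mem q hqz y hy.mem⟩ := by
      have h5 := actG_pr C.h hqz ⟨y, hy.mem⟩ ⟨q * y * q⁻¹, C.h.conj_mem q hqz y hy.mem⟩ rfl
      rwa [hy.pr] at h5
    constructor
    · rw [J_eq hx]
      refine ⟨⟨y * (q * y * q⁻¹), h1⟩, h2, ?_⟩
      have e := C.h.pr_mul ⟨y, hy.mem⟩ ⟨q * y * q⁻¹, C.h.conj_mem q hqz y hy.mem⟩
      rw [hy.pr] at e
      rw [h4]
      exact e
    · rw [h4, C.h.b_comm, hy.form_zero]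
      show q * y * q⁻¹ * y = y * (q * y * q⁻¹)
      have h5 : y * (q * y * q⁻¹ * y) = y * (y * (q * y * q⁻¹)) := by rw [← h3]; group
      exact mul_left_cancel h5

/-- **`|V| ≤ 16`.** -/
theorem card_V_le [Finite G] (C : Ctx D Q u z) : Nat.card C.h.V ≤ 16 := Sys.card_le C.sys

/-- `|Q z| ≤ 64`. -/
theorem card_Q_le [Finite G] (C : Ctx D Q u z) : Nat.card (Q z) ≤ 64 := by
  rw [C.card_Q C.hz]
  have := C.card_V_le
  omega

end Ctx

end Cfsg.Agent.ClassificationK.SymplInst
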