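import Cfsg.Agent.ClassificationK.SymplTransferB
import Cfsg.Agent.ClassificationK.SymplInst

/-!
# The transfer argument of Step 5 (S1758)

Abstract form: `x ∈ D ∩ Q z`, `μ` a `C(z)`-invariant homomorphism `Q z → ZMod 2`, trivial on `D ∩ Q z`, nontrivial
on `u z`, with `μ s = 0 ↔ s ∈ ⟨z, x⟩` for `s ∈ Q z ∩ Q x`; the stabiliser `Sa` of `{x, x z}` in `C(z)` has odd index
and `N = Q z * C_{Q x}(z)` has index at most two in it.  Then `G` is not simple.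
-/

set_option autoImplicit false

namespace Cfsg.Agent.ClassificationK.SymplKill

open SymplSetup SymplInst

universe w

variable {G : Type w} [Group G] {D : Set G} {Q : G → Subgroup G} {u : G → G}

/-- the quotient of a group by a normal subgroup containing all commutators, as a commutative group. -/
theorem exists_quot {S : Subgroup G} (M : Subgroup G) (hn : ∀ s ∈ S, ∀ m ∈ M, s * m * s⁻¹ ∈ M)
    (hc : ∀ s ∈ S, ∀ t ∈ S, s * t * s⁻¹ * t⁻¹ ∈ M) :
    ∃ (A : Type w) (_ : CommGroup A) (χ : S →* A), ∀ s : S, χ s = 1 ↔ (s : G) ∈ M := by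
  have hnorm : (M.subgroupOf S).Normal := ⟨fun n hn' g => hn g g.2 n hn'⟩
  refine ⟨S ⧸ (M.subgroupOf S), { (inferInstance : Group (S ⧸ (M.subgroupOf S))) with
    mul_comm := ?_ }, QuotientGroup.mk' _, ?_⟩
  · intro a b
    induction a using QuotientGroup.induction_on with
    | H a =>
      induction b using QuotientGroup.induction_on with
      | H b =>
        show ((a * b : S) : S ⧸ (M.subgroupOf S)) = ((b * a : S) : S ⧸ (M.subgroupOf S))
        rw [QuotientGroup.eq, Subgroup.mem_subgroupOf]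
        have h1 := hc (b : G)⁻¹ (inv_mem b.2) (a : G)⁻¹ (inv_mem a.2)
        have h2 : (((a * b)⁻¹ * (b * a) : S) : G) = (b : G)⁻¹ * (a : G)⁻¹ * ((b : G)⁻¹)⁻¹ * ((a : G)⁻¹)⁻¹ := by
          show ((a : G) * b)⁻¹ * (b * a) = _
          group
        rw [h2]; exact h1
  · intro s
    show (QuotientGroup.mk' (M.subgroupOf S)) s = 1 ↔ _
    rw [QuotientGroup.mk'_apply, QuotientGroup.eq_one_iff, Subgroup.mem_subgroupOf]

/-- **the kill.** -/
theorem kill [Finite G] [IsSimpleGroup G] (hG : ¬ IsMulCommutative G) (F : Fam D Q u) {z x : G} (hz : z ∈ D)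
    (hY : ∀ a ∈ D, a * u z = u z * a → a ∈ Q z)
    (hx : x ∈ D) (hxQ : x ∈ Q z) (hxz : x ≠ z) (μ : G → ZMod 2)
    (hμ : ∀ p ∈ Q z, ∀ q ∈ Q z, μ (p * q) = μ p + μ q)
    (hμc : ∀ g, g * z = z * g → ∀ p ∈ Q z, μ (g * p * g⁻¹) = μ p)
    (hμD : ∀ d ∈ D, d ∈ Q z → μ d = 0) (hμu : μ (u z) = 1)
    (hμx : ∀ s ∈ Q z, s ∈ Q x → μ s = 0 → s = 1 ∨ s = z ∨ s = x ∨ s = x * z)
    (Sa : Subgroup G) (hSa : ∀ g, g ∈ Sa ↔ g * z = z * g ∧ (g * x * g⁻¹ = x ∨ g * x * g⁻¹ = x * z))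
    (hodd : Odd Sa.index)
    (hcyc : ∀ s ∈ Sa, ∀ t ∈ Sa, (∃ p ∈ Q z, ∃ q ∈ Q x, q * z = z * q ∧ s = p * q) ∨
      (∃ p ∈ Q z, ∃ q ∈ Q x, q * z = z * q ∧ t = p * q) ∨
      (∃ p ∈ Q z, ∃ q ∈ Q x, q * z = z * q ∧ s⁻¹ * t = p * q)) : False := by
  have lz := F.loc z hz
  have lx := F.loc x hx
  obtain ⟨hzx, g, hg1, hg2⟩ := pair F hz hx hxz hxQ
  have hxc : x * z = z * x := lz.comm_z x hxQ
  -- conjugation by `g`
  have hgQ : ∀ q ∈ Q x, g⁻¹ * q * g ∈ Q z := by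
    intro q hq
    have : q ∈ Q (g * z * g⁻¹) := by rw [hg1]; exact hq
    rwa [F.mem_conjQ hz] at this
  have hgQ' : ∀ q ∈ Q z, g⁻¹ * q * g ∈ Q x := by
    intro q hq
    have : q ∈ Q (g * x * g⁻¹) := by rw [hg2]; exact hq
    rwa [F.mem_conjQ hx] at this
  have hgz : g⁻¹ * z * g = x := by rw [← hg2]; group
  have hgx : g⁻¹ * x * g = z := by rw [← hg1]; group
  obtain ⟨ν, hνdef⟩ : ∃ ν : G → ZMod 2, ∀ q, ν q = μ (g⁻¹ * q * g) := ⟨_, fun _ => rfl⟩
  have hν : ∀ p ∈ Q x, ∀ q ∈ Q x, ν (p * q) = ν p + ν q := by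
    intro p hp q hq
    rw [hνdef, hνdef, hνdef, ← hμ _ (hgQ p hp) _ (hgQ q hq)]
    congr 1
    group
  have hνc : ∀ c, c * x = x * c → ∀ q ∈ Q x, ν (c * q * c⁻¹) = ν q := by
    intro c hc q hq
    rw [hνdef, hνdef, ← hμc (g⁻¹ * c * g) ?_ _ (hgQ q hq)]
    · congr 1; group
    · have : g⁻¹ * c * g * (g⁻¹ * x * g) = (g⁻¹ * x * g) * (g⁻¹ * c * g) := by
        calc g⁻¹ * c * g * (g⁻¹ * x * g) = g⁻¹ * (c * x) * g := by group
          _ = (g⁻¹ * x * g) * (g⁻¹ * c * g) := by rw [hc]; group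
      rwa [hgx] at this
  have hμ1 : μ 1 = 0 := by
    have := hμ 1 (one_mem _) 1 (one_mem _)
    rw [mul_one] at this
    simpa using this
  have hν1 : ν 1 = 0 := by
    rw [hνdef]
    have : g⁻¹ * 1 * g = 1 := by group
    rw [this, hμ1]
  have hμi : ∀ p ∈ Q z, μ p⁻¹ = μ p := by
    intro p hp
    have h1 := hμ p hp p⁻¹ (inv_mem hp)
    rw [mul_inv_cancel, hμ1] at h1
    have h2 : ∀ s t : ZMod 2, 0 = s + t → t = s := by decide
    exact h2 _ _ h1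
  have hνi : ∀ p ∈ Q x, ν p⁻¹ = ν p := by
    intro p hp
    have h1 := hν p hp p⁻¹ (inv_mem hp)
    rw [mul_inv_cancel, hν1] at h1
    have h2 : ∀ s t : ZMod 2, 0 = s + t → t = s := by decide
    exact h2 _ _ h1
  have hμz : μ z = 0 := hμD z hz lz.z_mem
  have hμx0 : μ x = 0 := hμD x hx hxQ
  have h0μ : ∀ s, (s = 1 ∨ s = z ∨ s = x ∨ s = x * z) → μ s = 0 := by
    rintro s (h | h | h | h) <;> rw [h]
    · exact hμ1
    · exact hμz
    · exact hμx0
    · rw [hμ x hxQ z lz.z_mem, hμx0, hμz, add_zero]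
  have h01 : ∀ t : ZMod 2, t = 0 ∨ t = 1 := by decide
  -- compatibility
  have hcompat : ∀ s ∈ Q z, s ∈ Q x → μ s = ν s := by
    intro s hs hs'
    have h1 : g⁻¹ * s * g ∈ Q z := hgQ s hs'
    have h2 : g⁻¹ * s * g ∈ Q x := hgQ' s hs
    have h3 : μ s = 0 ↔ ν s = 0 := by
      constructor
      · intro h
        rw [hνdef]
        apply h0μ
        rcases hμx s hs hs' h with h4 | h4 | h4 | h4 <;> rw [h4]
        · left; group
        · right; right; left; exact hgz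
        · right; left; exact hgx
        · right; right; right
          calc g⁻¹ * (x * z) * g = (g⁻¹ * x * g) * (g⁻¹ * z * g) := by group
            _ = z * x := by rw [hgx, hgz]
            _ = x * z := hxc.symm
      · intro h
        rw [hνdef] at h
        apply h0μ
        have e : ∀ c, g⁻¹ * s * g = c → s = g * c * g⁻¹ := by
          intro c hc; rw [← hc]; group
        rcases hμx _ h1 h2 h with h4 | h4 | h4 | h4 <;> rw [e _ h4]
        · left; group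
        · right; right; left; exact hg1
        · right; left; exact hg2
        · right; right; right
          calc g * (x * z) * g⁻¹ = (g * x * g⁻¹) * (g * z * g⁻¹) := by group
            _ = z * x := by rw [hg1, hg2]
            _ = x * z := hxc.symm
    rcases h01 (μ s) with h | h <;> rcases h01 (ν s) with h' | h'
    · rw [h, h']
    · rw [h3.1 h] at h'; exact absurd h' (by decide)
    · rw [h3.2 h'] at h; exact absurd h (by decide)
    · rw [h, h']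
  -- the subgroup `M`
  have hnorm : ∀ q, q * z = z * q → ∀ p ∈ Q z, q * p * q⁻¹ ∈ Q z := lz.conj_mem
  let M : Subgroup G :=
    { carrier := {m | ∃ p ∈ Q z, ∃ q ∈ Q x, q * z = z * q ∧ μ p = 0 ∧ ν q = 0 ∧ m = p * q}
      one_mem' := ⟨1, one_mem _, 1, one_mem _, by simp, hμ1, hν1, by simp⟩
      mul_mem' := by
        rintro _ _ ⟨p, hp, q, hq, hqz, hp0, hq0, rfl⟩ ⟨p', hp', q', hq', hqz', hp0', hq0', rfl⟩
        refine ⟨p * (q * p' * q⁻¹), Subgroup.mul_mem _ hp (hnorm q hqz p' hp'), q * q',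
          Subgroup.mul_mem _ hq hq', ?_, ?_, ?_, ?_⟩
        · exact ((show Commute q z from hqz).mul_left (show Commute q' z from hqz')).eq
        · rw [hμ _ hp _ (hnorm q hqz p' hp'), hμc q hqz p' hp', hp0, hp0', add_zero]
        · rw [hν _ hq _ hq', hq0, hq0', add_zero]
        · group
      inv_mem' := by
        rintro _ ⟨p, hp, q, hq, hqz, hp0, hq0, rfl⟩
        have hqz' : q⁻¹ * z = z * q⁻¹ := (show Commute q z from hqz).inv_left.eq
        refine ⟨q⁻¹ * p⁻¹ * (q⁻¹)⁻¹, hnorm _ hqz' _ (inv_mem hp), q⁻¹, inv_mem hq, hqz', ?_, ?_, ?_⟩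
        · rw [hμc _ hqz' _ (inv_mem hp), hμi p hp, hp0]
        · rw [hνi q hq, hq0]
        · group }
  have hM : ∀ m, m ∈ M ↔ ∃ p ∈ Q z, ∃ q ∈ Q x, q * z = z * q ∧ μ p = 0 ∧ ν q = 0 ∧ m = p * q := fun m => Iff.rfl
  have hMp : ∀ p ∈ Q z, μ p = 0 → p ∈ M := fun p hp h =>
    ⟨p, hp, 1, one_mem _, by simp, h, hν1, by simp⟩
  have hMq : ∀ q ∈ Q x, q * z = z * q → ν q = 0 → q ∈ M := fun q hq hqz h =>
    ⟨1, one_mem _, q, hq, hqz, hμ1, h, by simp⟩
  -- `Q z` normalises `M`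
  have hMQ : ∀ y ∈ Q z, ∀ m ∈ M, y * m * y⁻¹ ∈ M := by
    rintro y hy _ ⟨p, hp, q, hq, hqz, hp0, hq0, rfl⟩
    have hyz : y * z = z * y := lz.comm_z y hy
    have h1 : y * (p * q) * y⁻¹ = (y * p * y⁻¹) * (y * (q * y⁻¹ * q⁻¹)) * q := by group
    rw [h1]
    have h2 : q * y⁻¹ * q⁻¹ ∈ Q z := hnorm q hqz _ (inv_mem hy)
    refine M.mul_mem (M.mul_mem (hMp _ (hnorm y hyz p hp) ?_) (hMp _ (Subgroup.mul_mem _ hy h2) ?_))
      (hMq q hq hqz hq0)
    · rw [hμc y hyz p hp, hp0]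
    · rw [hμ y hy _ h2, hμc q hqz _ (inv_mem hy), hμi y hy]
      rcases h01 (μ y) with h | h <;> rw [h] <;> decide
  -- elements commuting with `z` and `x` normalise `M`
  have hMc : ∀ s, s * z = z * s → s * x = x * s → ∀ m ∈ M, s * m * s⁻¹ ∈ M := by
    rintro s hsz hsx _ ⟨p, hp, q, hq, hqz, hp0, hq0, rfl⟩
    have h1 : s * (p * q) * s⁻¹ = (s * p * s⁻¹) * (s * q * s⁻¹) := by group
    rw [h1]
    refine M.mul_mem (hMp _ (hnorm s hsz p hp) ?_) (hMq _ (lx.conj_mem s hsx q hq) ?_ ?_)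
    · rw [hμc s hsz p hp, hp0]
    · have h2 : Commute s z := hsz
      exact ((h2.mul_left (show Commute q z from hqz)).mul_left h2.inv_left).eq
    · rw [hνc s hsx q hq, hq0]
  -- decomposition of `Sa`
  obtain ⟨y0, hy0, hy0x⟩ := lz.exists_conj hxQ lx.z_sq lx.z_ne hxz
  have hdec : ∀ s ∈ Sa, ∃ y ∈ Q z, ∃ s', s' * z = z * s' ∧ s' * x = x * s' ∧ s = y * s' := by
    intro s hs
    obtain ⟨hsz, h1⟩ := (hSa s).1 hs
    rcases h1 with h1 | h1
    · exact ⟨1, one_mem _, s, hsz, by rw [mul_inv_eq_iff_eq_mul] at h1; exact h1, by simp⟩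
    · refine ⟨y0, hy0, y0⁻¹ * s, ?_, ?_, by group⟩
      · exact ((show Commute y0 z from lz.comm_z y0 hy0).inv_left.mul_left (show Commute s z from hsz)).eq
      · have h2 : y0⁻¹ * s * x * (y0⁻¹ * s)⁻¹ = x := by
          calc y0⁻¹ * s * x * (y0⁻¹ * s)⁻¹ = y0⁻¹ * (s * x * s⁻¹) * y0 := by group
            _ = x := by rw [h1, ← hy0x]; group
        rw [mul_inv_eq_iff_eq_mul] at h2
        exact h2
  have hMS : ∀ s ∈ Sa, ∀ m ∈ M, s * m * s⁻¹ ∈ M := by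
    intro s hs m hm
    obtain ⟨y, hy, s', hs1, hs2, rfl⟩ := hdec s hs
    have h1 := hMQ y hy _ (hMc s' hs1 hs2 m hm)
    have h2 : y * s' * m * (y * s')⁻¹ = y * (s' * m * s'⁻¹) * y⁻¹ := by group
    rw [h2]; exact h1
  -- `N = Q z * C_{Q x}(z)`
  let inN : G → Prop := fun n => ∃ p ∈ Q z, ∃ q ∈ Q x, q * z = z * q ∧ n = p * q
  have hα1 : ∀ y ∈ Q z, ∀ n, inN n → y * n * y⁻¹ * n⁻¹ ∈ M := by
    rintro y hy _ ⟨p, hp, q, hq, hqz, rfl⟩
    have h2 : q * y⁻¹ * q⁻¹ ∈ Q z := hnorm q hqz _ (inv_mem hy)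
    have h1 : y * (p * q) * y⁻¹ * (p * q)⁻¹ = y * (p * ((q * y⁻¹ * q⁻¹) * p⁻¹)) := by group
    rw [h1]
    have h3 : (q * y⁻¹ * q⁻¹) * p⁻¹ ∈ Q z := Subgroup.mul_mem _ h2 (inv_mem hp)
    have h4 : p * ((q * y⁻¹ * q⁻¹) * p⁻¹) ∈ Q z := Subgroup.mul_mem _ hp h3
    apply hMp _ (Subgroup.mul_mem _ hy h4)
    rw [hμ _ hy _ h4, hμ _ hp _ h3, hμ _ h2 _ (inv_mem hp), hμc q hqz _ (inv_mem hy), hμi y hy, hμi p hp]
    rcases h01 (μ y) with h | h <;> rcases h01 (μ p) with h' | h' <;> rw [h, h'] <;> decide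
  have hα2 : ∀ s, s * z = z * s → s * x = x * s → ∀ n, inN n → s * n * s⁻¹ * n⁻¹ ∈ M := by
    rintro s hsz hsx _ ⟨p, hp, q, hq, hqz, rfl⟩
    have hcs : Commute s z := hsz
    have hcq : Commute q z := hqz
    have h1 : s * (p * q) * s⁻¹ * (p * q)⁻¹ = (s * p * s⁻¹ * p⁻¹) * (p * (s * q * s⁻¹ * q⁻¹) * p⁻¹) := by group
    rw [h1]
    apply M.mul_mem
    · have h2 : s * p * s⁻¹ ∈ Q z := hnorm s hsz p hp
      apply hMp _ (Subgroup.mul_mem _ h2 (inv_mem hp))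
      rw [hμ _ h2 _ (inv_mem hp), hμc s hsz p hp, hμi p hp]
      rcases h01 (μ p) with h | h <;> rw [h] <;> decide
    · apply hMQ p hp
      have h2 : s * q * s⁻¹ ∈ Q x := lx.conj_mem s hsx q hq
      apply hMq _ (Subgroup.mul_mem _ h2 (inv_mem hq))
      · exact (((hcs.mul_left hcq).mul_left hcs.inv_left).mul_left hcq.inv_left).eq
      · rw [hν _ h2 _ (inv_mem hq), hνc s hsx q hq, hνi q hq]
        rcases h01 (ν q) with h | h <;> rw [h] <;> decide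
  have hα : ∀ s ∈ Sa, ∀ n, inN n → s * n * s⁻¹ * n⁻¹ ∈ M := by
    intro s hs n hn
    obtain ⟨y, hy, s', hs1, hs2, rfl⟩ := hdec s hs
    have h1 := hMQ y hy _ (hα2 s' hs1 hs2 n hn)
    have h2 := hα1 y hy n hn
    have h3 : y * s' * n * (y * s')⁻¹ * n⁻¹ = (y * (s' * n * s'⁻¹ * n⁻¹) * y⁻¹) * (y * n * y⁻¹ * n⁻¹) := by
      group
    rw [h3]
    exact M.mul_mem h1 h2
  have hcomm : ∀ s ∈ Sa, ∀ t ∈ Sa, s * t * s⁻¹ * t⁻¹ ∈ M := by
    intro s hs t ht
    rcases hcyc s hs t ht with h | h | h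
    · have h1 := hα t ht s h
      have h2 : s * t * s⁻¹ * t⁻¹ = (t * s * t⁻¹ * s⁻¹)⁻¹ := by group
      rw [h2]; exact M.inv_mem h1
    · exact hα s hs t h
    · have h1 := hMS s hs _ (hα s hs _ h)
      have h2 : s * t * s⁻¹ * t⁻¹ = s * (s * (s⁻¹ * t) * s⁻¹ * (s⁻¹ * t)⁻¹) * s⁻¹ := by group
      rw [h2]; exact h1
  -- `u z ∉ M`
  have hu : u z ∉ M := by
    rintro ⟨p, hp, q, hq, hqz, hp0, hq0, h⟩
    have h1 : q = p⁻¹ * u z := by rw [h]; group
    have h2 : q ∈ Q z := by rw [h1]; exact Subgroup.mul_mem _ (inv_mem hp) lz.u_mem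
    have h3 := hcompat q h2 hq
    rw [hq0, h1, hμ _ (inv_mem hp) _ lz.u_mem, hμi p hp, hp0, hμu] at h3
    exact absurd h3 (by decide)
  obtain ⟨A, hA, χ, hχ⟩ := exists_quot M hMS hcomm
  have hQS : Q z ≤ Sa := by
    intro p hp
    rw [hSa]
    refine ⟨lz.comm_z p hp, ?_⟩
    rcases lz.comm p hp x hxQ with h1 | h1
    · left; rw [h1]; group
    · right
      rw [h1, mul_assoc, ← (show Commute p z from lz.comm_z p hp).inv_left.eq]; group
  have h1 := chi_eq_one hG F hz hY (S := Sa) (fun s hs => ((hSa s).1 hs).1) hQS hodd χ (by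
    intro d hd hdQ
    rw [hχ]
    exact hMp d hdQ (hμD d hd hdQ))
  rw [hχ] at h1
  exact hu h1

end Cfsg.Agent.ClassificationK.SymplKill
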