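import Cfsg.Agent.ClassificationK.SymplEight
import Cfsg.Agent.J2.ExtQuot

/-!
# Reduction of S1758 (helper577)

`reduce`: `G` simple non-abelian, `F*(C(z))` of symplectic type. Then `F*(C(z))` is extraspecial, or
`F*(C(z)) = 4 ∘ 2^{1+2w}` (`∃ u, Symp Q z u`), or `C(z)` is a 2-group of symplectic type containing a
self-centralising cyclic normal subgroup of order at least eight.
-/

set_option autoImplicit false

namespace Cfsg.Agent.ClassificationK.SymplMain

open Subgroup SymplStructure SymplSetup SymplFront

theorem reduce {G : Type*} [Group G] [Finite G] [IsSimpleGroup G] (hG : ¬ IsMulCommutative G) (z : G)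
    (hz : orderOf z = 2)
    (hQ : Cfsg.IsOfSymplecticType ↥(Cfsg.generalizedFittingSubgroup ↥(centralizer ({z} : Set G)))) :
    Cfsg.IsExtraspecial 2 ↥(Cfsg.generalizedFittingSubgroup ↥(centralizer ({z} : Set G))) ∨
    (∃ u, Symp ((Cfsg.generalizedFittingSubgroup ↥(centralizer ({z} : Set G))).map
      (centralizer ({z} : Set G)).subtype) z u) ∨
    ∃ R : Subgroup G, IsCyclic R ∧ z ∈ R ∧ 8 ≤ Nat.card R ∧ IsPGroup 2 R ∧
      (∀ g, g * z = z * g → ∀ x ∈ R, g * x * g⁻¹ ∈ R) ∧
      (∀ g, g * z = z * g → (∀ x ∈ R, g * x = x * g) → g ∈ R) ∧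
      Cfsg.IsOfSymplecticType ↥(centralizer ({z} : Set G)) := by
  classical
  have : Fact (Nat.Prime 2) := ⟨Nat.prime_two⟩
  obtain ⟨g, hg1, hg2⟩ := exists_commuting hG hz
  set C := centralizer ({z} : Set G) with hC
  have memC : ∀ g, g ∈ C ↔ g * z = z * g := fun g => mem_centralizer_singleton_iff
  set t := g * z * g⁻¹ with ht
  have hzz : z * z = 1 := by rw [← pow_two, ← hz]; exact pow_orderOf_eq_one z
  have htt : t * t = 1 := by
    calc t * t = g * (z * z) * g⁻¹ := by rw [ht]; group
      _ = 1 := by rw [hzz]; group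
  have hz1 : z ≠ 1 := by
    rintro rfl
    rw [orderOf_one] at hz
    omega
  have ht1 : t ≠ 1 := by
    intro h1
    apply hz1
    calc z = g⁻¹ * t * g := by rw [ht]; group
      _ = 1 := by rw [h1]; group
  have hzC : z ∈ C := (memC z).2 rfl
  have htC : t ∈ C := (memC t).2 hg2
  set F := Cfsg.generalizedFittingSubgroup C with hF
  rcases front z hz hQ with h1 | h1 | ⟨K, R, h⟩
  · exact Or.inl h1
  · exfalso
    -- `F* = ⟨z⟩`
    have hcc : centralizer (F : Set C) ≤ F := Cfsg.Agent.S1313.centralizer_le C
    have hcen : center C ≤ F := Cfsg.Agent.S1755.center_le_gfs C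
    have hzF : (⟨z, hzC⟩ : C) ∈ F := by
      apply hcen
      rw [mem_center_iff]
      intro c
      exact Subtype.ext ((memC c).1 c.2)
    have hall : ∀ x : F, x = 1 ∨ x = ⟨⟨z, hzC⟩, hzF⟩ := by
      obtain ⟨y, -, hy⟩ := (Nat.card_eq_two_iff' (1 : F)).1 h1
      intro x
      by_cases hx : x = 1
      · exact Or.inl hx
      · right
        rw [hy x hx]
        refine (hy _ ?_).symm
        intro he
        exact hz1 (congrArg Subtype.val (congrArg Subtype.val he))
    have htF : (⟨t, htC⟩ : C) ∈ F := by
      apply hcc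
      rw [mem_centralizer_iff]
      intro x hx
      rcases hall ⟨x, hx⟩ with h2 | h2
      · have h3 : x = 1 := congrArg Subtype.val h2
        rw [h3, one_mul, mul_one]
      · have h3 : x = ⟨z, hzC⟩ := congrArg Subtype.val h2
        rw [h3]
        exact Subtype.ext hg2.symm
    rcases hall ⟨_, htF⟩ with h2 | h2
    · exact ht1 (congrArg Subtype.val (congrArg Subtype.val h2))
    · exact hg1 (congrArg Subtype.val (congrArg Subtype.val h2))
  · have hCQ : K = R → C ≤ F.map C.subtype := by
      intro hKR
      apply h.core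
      · intro x hx
        exact (memC x).1 hx
      · intro g hg x hx
        have hgC : g ∈ C := (memC g).2 hg
        exact C.mul_mem (C.mul_mem hgC hx) (C.inv_mem hgC)
      · exact h.isPGroup_centralizer hKR
    by_cases h4 : Nat.card R = 4
    · by_cases hKQ : K = F.map C.subtype
      · by_cases hKR : K = R
        · exfalso
          have htR : t ∈ R := by
            rw [← hKR, hKQ]
            exact hCQ hKR htC
          rcases h.uniq t htR htt with h2 | h2
          · exact ht1 h2
          · exact hg1 h2
        · obtain ⟨u, hu⟩ := h.symp h4 hKQ hKR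
          exact Or.inr (Or.inl ⟨u, hu⟩)
      · left
        have h5 := h.four_extraspecial h4 hKQ
        exact Cfsg.Agent.J2.ExtQuot.isExtraspecial_of_equiv
          (F.equivMapOfInjective C.subtype C.subtype_injective).symm h5
    · have h8 : 8 ≤ Nat.card R := by
        obtain ⟨c, hc, hgen⟩ := h.exists_gen
        obtain ⟨-, n, -, hn, hn2⟩ := h.R_eq hc hgen
        have hn3 : n ≠ 2 := by
          rintro rfl
          exact h4 hn
        rw [hn]
        calc 8 = 2 ^ 3 := by norm_num
          _ ≤ 2 ^ n := Nat.pow_le_pow_right (by norm_num) (by omega)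
      by_cases hKR : K = R
      · right; right
        have hCF : F = ⊤ := by
          rw [eq_top_iff]
          intro x _
          obtain ⟨y, hy, hyx⟩ := hCQ hKR x.2
          have h2 : y = x := Subtype.ext hyx
          rw [← h2]
          exact hy
        refine ⟨R, h.cyc, h.zR, h8, h.pgrp.to_le (h.RK.trans h.KQ), h.nR, ?_, ?_⟩
        · intro g hg hx
          apply h.selfK g hg
          rw [hKR]
          exact hx
        · have e : F ≃* C := (MulEquiv.subgroupCongr hCF).trans Subgroup.topEquiv
          exact symplecticType_of_equiv e hQ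
      · exact absurd (h.false_of_eight hG h8 hKR) id

end Cfsg.Agent.ClassificationK.SymplMain
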