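import Cfsg.Agent.ClassificationK.SymplKill
import Cfsg.Agent.ClassificationK.SymplInstD
import Cfsg.Agent.ClassificationK.SymplLinD

/-!
# Step 5 of S1758: the case `|V| = 16`

* `mem_of_comm`: every member of `D` commuting with `u z` lies in `Q z`;
* `full`: in a simple group all nonzero vectors are singular (all involutions of `Q z` are in `D`).
-/

set_option autoImplicit false

namespace Cfsg.Agent.ClassificationK.SymplStepFive

open SymplSetup SymplInst SymplLin SymplLin.Sys

variable {G : Type*} [Group G] {D : Set G} {Q : G → Subgroup G} {u : G → G} {z : G}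

theorem typeA_of_comm (F : Fam D Q u) {a b : G} (ha : a ∈ D) (hb : b ∈ D) (h : a * u b = u b * a) :
    u a * u b = u b * u a := by
  by_cases hne : a = b
  · rw [hne]
  have hab : a * b = b * a := F.comm_of_comm_u hb h
  rcases F.typeA_or_typeB ha hb hne hab with h1 | ⟨h1, h2⟩
  · exact h1
  · exfalso
    rw [h, mul_inv_cancel_right] at h1
    exact (F.loc b hb).z_ne (mul_eq_left.1 h1.symm)

/-- a 2-subgroup of `C(z)` fixes a singular vector. -/
theorem exists_fixed [Finite G] (C : Ctx D Q u z) (hodd : Odd (Nat.card C.Dl)) {P : Subgroup G}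
    (hP : IsPGroup 2 P) (hPz : ∀ g ∈ P, g * z = z * g) : ∃ v ∈ C.Dl, ∀ g ∈ P, actG C.h g v = v := by
  have : Fact (Nat.Prime 2) := ⟨Nat.prime_two⟩
  let act : MulAction P C.Dl :=
    { smul := fun g v => ⟨actG C.h (g : G) v.1, by
        obtain ⟨x, hx⟩ := v.2
        exact ⟨_, hx.conj (hPz g g.2)⟩⟩
      one_smul := by
        intro v
        apply Subtype.ext
        show actG C.h (1 : G) v.1 = v.1
        rw [actG_one]; rfl
      mul_smul := by
        intro g k v
        apply Subtype.ext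
        show actG C.h ((g : G) * k) v.1 = actG C.h (g : G) (actG C.h (k : G) v.1)
        rw [actG_mul C.h (hPz g g.2) (hPz k k.2)]; rfl }
  have h1 := hP.card_modEq_card_fixedPoints C.Dl
  have h2 : Nat.card (MulAction.fixedPoints P C.Dl) ≠ 0 := by
    intro h3
    rw [h3] at h1
    have h4 : 2 ∣ Nat.card C.Dl := (Nat.modEq_zero_iff_dvd).1 h1
    exact (Nat.not_even_iff_odd.2 hodd) (even_iff_two_dvd.2 h4)
  have h3 : Nonempty (MulAction.fixedPoints P C.Dl) := by
    by_contra h4
    apply h2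
    rw [not_nonempty_iff] at h4
    exact Nat.card_of_isEmpty
  obtain ⟨v, hv⟩ := h3
  refine ⟨v.1, v.2, fun g hg => ?_⟩
  exact congrArg Subtype.val (hv ⟨g, hg⟩)

theorem odd_Dl [Finite G] (C : Ctx D Q u z) (h16 : Nat.card C.h.V = 16) : Odd (Nat.card C.Dl) := by
  obtain ⟨a, ha⟩ := C.sys.nonempty
  obtain ⟨b, hb, hab, hs⟩ := exists_partner (S := C.sys) h16.ge ha
  obtain ⟨e, f, F⟩ := exists_frame (S := C.sys) ha hb hab hs
  exact F.odd_card h16

theorem mem_H [Finite G] (C : Ctx D Q u z) {g : G} (hg : g * z = z * g) : actG C.h g ∈ C.sys.H :=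
  (mem_range_act C.h).2 ⟨g, hg, rfl⟩

/-- a frame with given first vector. -/
theorem exists_frame' [Finite G] (C : Ctx D Q u z) (h16 : Nat.card C.h.V = 16) {a : C.h.V} (ha : a ∈ C.Dl) :
    ∃ b e f, C.sys.Frame a b e f := by
  obtain ⟨b, hb, hab, hs⟩ := exists_partner (S := C.sys) h16.ge (a := a) ha
  obtain ⟨e, f, F⟩ := exists_frame (S := C.sys) ha hb hab hs
  exact ⟨b, e, f, F⟩

/-- members of `D` commuting with `u z` are in `Q z`. -/
theorem mem_of_comm [Finite G] (C : Ctx D Q u z) (h16 : Nat.card C.h.V = 16) {t : G} (ht : t ∈ D)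
    (htu : t * u z = u z * t) : t ∈ Q z := by
  by_contra htQ
  have lt := C.F.loc t ht
  have hA : u t * u z = u z * u t := typeA_of_comm C.F ht C.hz htu
  have hkz : u t * z = z * u t := (SymplX.ub_comm C.F C.hz hA.symm)
  have htz : t * z = z * t := C.F.comm_of_comm_u C.hz htu
  have hP : IsPGroup 2 (Subgroup.zpowers (u t)) := by
    rintro ⟨_, n, rfl⟩
    refine ⟨2, ?_⟩
    apply Subtype.ext
    show ((u t) ^ n) ^ (2 ^ 2) = 1
    rw [← zpow_natCast, ← zpow_mul, mul_comm, zpow_mul, zpow_natCast, C.F.u_pow_four ht, one_zpow]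
  obtain ⟨v, hv, hfix⟩ := exists_fixed C (odd_Dl C h16) hP (by
    rintro _ ⟨n, rfl⟩
    exact ((show Commute (u t) z from hkz).zpow_left n).eq)
  have hv1 : actG C.h (u t) v = v := hfix _ (Subgroup.mem_zpowers _)
  obtain ⟨b, e, f, F⟩ := exists_frame' C h16 hv
  obtain ⟨x, hx⟩ := hv
  have hsq : actG C.h (u t) * actG C.h (u t) = actG C.h t := by
    rw [← actG_mul C.h hkz hkz, lt.u_sq]
  have h1 : actG C.h (u t) * actG C.h (u t) = C.sys.t v := by
    apply F.sq_eq_t h16 (mem_H C hkz) hv1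
    rw [hsq]
    intro h2
    exact htQ (mem_of_actG C.h htz h2)
  have h2 : C.sys.t v = actG C.h (u x) := Ctx.t_eq hx
  rw [hsq, h2] at h1
  -- `x` commutes with `u t`
  have hxk : u t * x * (u t)⁻¹ = x ∨ u t * x * (u t)⁻¹ = x * z := by
    have h3 := hx.conj hkz
    rw [hv1] at h3
    exact hx.eq_or h3
  have hxt : x * t = t * x := by
    have h3 : t * x * t⁻¹ = x := by
      have h4 : t * x * t⁻¹ = u t * (u t * x * (u t)⁻¹) * (u t)⁻¹ := by
        calc t * x * t⁻¹ = (u t * u t) * x * (u t * u t)⁻¹ := by rw [lt.u_sq]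
          _ = _ := by group
      rw [h4]
      rcases hxk with h5 | h5
      · rw [h5, h5]
      · have h6 : u t * z * (u t)⁻¹ = z := by rw [hkz]; group
        calc u t * (u t * x * (u t)⁻¹) * (u t)⁻¹ = u t * (x * z) * (u t)⁻¹ := by rw [h5]
          _ = (u t * x * (u t)⁻¹) * (u t * z * (u t)⁻¹) := by group
          _ = x := by rw [h5, h6, mul_assoc, C.h.z_sq, mul_one]
    rw [mul_inv_eq_iff_eq_mul] at h3
    exact h3.symm
  have hxu : x * u t = u t * x := SymplX.comm_ub C.F C.hz ht hA.symm htQ hx.mem hxt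
  have hA2 : u x * u t = u t * u x := typeA_of_comm C.F hx.memD ht hxu
  have htux : t * u x = u x * t := (C.F.comm_u_right ht hA2).symm
  -- `q = t * u x`
  have hqz : (t * u x) * z = z * (t * u x) :=
    ((show Commute t z from htz).mul_left (show Commute (u x) z from hx.uz)).eq
  have hq : t * u x ∈ Q z := by
    apply mem_of_actG C.h hqz
    rw [actG_mul C.h htz hx.uz, h1]
    exact hx.act_sq
  have hqq : (t * u x) * (t * u x) = x := by
    calc (t * u x) * (t * u x) = t * (u x * t) * u x := by group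
      _ = (t * t) * (u x * u x) := by rw [← htux]; group
      _ = x := by rw [lt.z_sq, hx.loc.u_sq, one_mul]
  rcases C.h.sq _ hq with h3 | h3
  · rw [hqq] at h3; exact hx.loc.z_ne h3
  · rw [hqq] at h3; exact hx.ne h3

open scoped Classical in
/-- the homomorphism `μ`. -/
noncomputable def mu (C : Ctx D Q u z) (l : C.h.V → ZMod 2) (g : G) : ZMod 2 :=
  if hg : g ∈ Q z then (if g * g = 1 then 0 else 1) + l (C.h.pr ⟨g, hg⟩) else 0

theorem mu_of (C : Ctx D Q u z) (l : C.h.V → ZMod 2) (p : Q z) :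
    mu C l p = Symp.val ((p : G) * p) + l (C.h.pr p) := by
  unfold mu Symp.val
  rw [dif_pos p.2]

/-- squares in `Q`. -/
theorem val_mul {Q : Subgroup G} {z u : G} (h : Symp Q z u) (p q : Q) :
    Symp.val ((p * q : G) * (p * q)) = Symp.val ((p : G) * p) + Symp.val ((q : G) * q) + h.b (h.pr p) (h.pr q) := by
  have h0 : ∀ x : Q, (x : G) * x = 1 ∨ (x : G) * x = z := fun x => h.sq x x.2
  have hpz := h.comm_z p p.2
  have hqz := h.comm_z q q.2
  have h01 : ∀ t : ZMod 2, t = 0 ∨ t = 1 := by decide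
  have vz : Symp.val z = 1 := Symp.val_of_ne h.z_ne
  have hq' : (q : G) * p = p * q ∨ (q : G) * p = p * q * z := h.comm q q.2 p p.2
  have e1 : (q : G) * p = p * q → (p * q : G) * (p * q) = (p * p) * (q * q) := by
    intro hc
    calc (p * q : G) * (p * q) = p * (q * p) * q := by group
      _ = (p * p) * (q * q) := by rw [hc]; group
  have e2 : (q : G) * p = p * q * z → (p * q : G) * (p * q) = (p * p) * (q * q) * z := by
    intro hc
    calc (p * q : G) * (p * q) = p * (q * p) * q := by group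
      _ = (p * p) * q * (z * q) := by rw [hc]; group
      _ = (p * p) * (q * q) * z := by rw [← hqz]; group
  rcases hq' with hc | hc
  · have hb : h.b (h.pr p) (h.pr q) = 0 := (h.b_pr p q).2 hc.symm
    rw [hb, add_zero, e1 hc]
    rcases h0 p with h1 | h1 <;> rcases h0 q with h2 | h2 <;> rw [h1, h2]
    · rw [one_mul, Symp.val_one, add_zero]
    · rw [one_mul, Symp.val_one, zero_add]
    · rw [mul_one, Symp.val_one, add_zero]
    · rw [h.z_sq, Symp.val_one, vz]; decide
  · have hb : h.b (h.pr p) (h.pr q) = 1 := by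
      rw [h.b_pr_one, hc, mul_assoc, h.z_sq, mul_one]
    rw [hb, e2 hc]
    rcases h0 p with h1 | h1 <;> rcases h0 q with h2 | h2 <;> rw [h1, h2]
    · rw [one_mul, one_mul, Symp.val_one, vz]; decide
    · rw [one_mul, Symp.val_one, h.z_sq, Symp.val_one, vz]; decide
    · rw [mul_one, Symp.val_one, h.z_sq, Symp.val_one, vz]; decide
    · rw [h.z_sq, one_mul, vz]; decide

theorem zmod_aux : ∀ s t w x y : ZMod 2, s + t + w + (x + y + w) = s + x + (t + y) := by decide

/-- **Step 5.** In a simple group all nonzero vectors are singular. -/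
theorem full [Finite G] [IsSimpleGroup G] (hG : ¬ IsMulCommutative G) (C : Ctx D Q u z)
    (h16 : Nat.card C.h.V = 16) : ∀ v : C.h.V, v ≠ 0 → v ∈ C.Dl := by
  by_contra hcon
  have : Fact (Nat.Prime 2) := ⟨Nat.prime_two⟩
  -- a Sylow 2-subgroup in `C(z)`
  obtain ⟨T, hQT, -, hTz⟩ := C.h.exists_sylow (K := ⊥) (IsPGroup.of_bot) (by
    intro x hx
    rw [Subgroup.mem_bot.1 hx, one_mul, mul_one])
  obtain ⟨a, ha, hfix⟩ := exists_fixed C (odd_Dl C h16) T.isPGroup' hTz
  obtain ⟨b, e, f, F⟩ := exists_frame' C h16 ha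
  obtain ⟨x, hx⟩ := ha
  have hΔ : ∀ v, v ∈ C.Dl ↔ v ≠ 0 ∧ Frame.lam C.sys a b e f v = 0 := by
    rcases F.dichotomy h16 with h | h
    · exact absurd h hcon
    · exact h
  set l : C.h.V → ZMod 2 := Frame.lam C.sys a b e f with hl
  have hladd : ∀ v w, l (v + w) = l v + l w + C.h.b v w := fun v w => F.lam_add h16 v w
  have hlinv : ∀ g, g * z = z * g → ∀ v, l (actG C.h g v) = l v := fun g hg v =>
    F.lam_inv hΔ (mem_H C hg) v
  have hl0 : l 0 = 0 := by
    have := hladd 0 0
    rw [add_zero, map_zero, add_zero] at this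
    simpa using this
  have hvx : C.h.pr ⟨x, hx.mem⟩ = a := hx.pr
  -- the stabiliser
  let Sa : Subgroup G :=
    { carrier := {g | g * z = z * g ∧ actG C.h g a = a}
      one_mem' := ⟨by simp, by rw [actG_one]; rfl⟩
      mul_mem' := by
        rintro g k ⟨hg, hga⟩ ⟨hk, hka⟩
        refine ⟨((show Commute g z from hg).mul_left (show Commute k z from hk)).eq, ?_⟩
        rw [actG_mul C.h hg hk, LinearEquiv.mul_apply, hka, hga]
      inv_mem' := by
        rintro g ⟨hg, hga⟩
        refine ⟨(show Commute g z from hg).inv_left.eq, ?_⟩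
        rw [actG_inv C.h hg]
        calc (actG C.h g)⁻¹ a = (actG C.h g)⁻¹ (actG C.h g a) := by rw [hga]
          _ = a := by simp }
  have memSa : ∀ g, g ∈ Sa ↔ g * z = z * g ∧ actG C.h g a = a := fun g => Iff.rfl
  refine SymplKill.kill hG C.F C.hz (fun t ht htu => mem_of_comm C h16 ht htu) hx.memD hx.mem hx.ne (mu C l)
    ?_ ?_ ?_ ?_ ?_ Sa ?_ ?_ ?_
  · intro p hp q hq
    have e1 := mu_of C l ⟨p, hp⟩
    have e2 := mu_of C l ⟨q, hq⟩
    have e3 := mu_of C l (⟨p, hp⟩ * ⟨q, hq⟩)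
    have e4 := val_mul C.h ⟨p, hp⟩ ⟨q, hq⟩
    have e5 := hladd (C.h.pr ⟨p, hp⟩) (C.h.pr ⟨q, hq⟩)
    change mu C l p = _ at e1
    change mu C l q = _ at e2
    change mu C l (p * q) = Symp.val ((p * q) * (p * q)) + l (C.h.pr ⟨p, hp⟩ + C.h.pr ⟨q, hq⟩) at e3
    change Symp.val ((p * q) * (p * q)) = _ at e4
    rw [e3, e4, e5, e1, e2]
    exact zmod_aux _ _ _ _ _
  · intro g hg p hp
    have e1 := mu_of C l ⟨p, hp⟩
    have e2 := mu_of C l ⟨g * p * g⁻¹, C.h.conj_mem g hg p hp⟩
    change mu C l p = Symp.val (p * p) + _ at e1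
    change mu C l (g * p * g⁻¹) = Symp.val ((g * p * g⁻¹) * (g * p * g⁻¹)) + _ at e2
    have e3 : (g * p * g⁻¹) * (g * p * g⁻¹) = p * p := by
      have h1 : (g * p * g⁻¹) * (g * p * g⁻¹) = g * (p * p) * g⁻¹ := by group
      rw [h1]
      rcases C.h.sq p hp with h2 | h2 <;> rw [h2]
      · group
      · rw [hg]; group
    have e4 := actG_pr C.h hg ⟨p, hp⟩ ⟨g * p * g⁻¹, C.h.conj_mem g hg p hp⟩ rfl
    rw [e2, e1, e3, ← e4, hlinv g hg]
  · intro d hd hdQ
    have e1 := mu_of C l ⟨d, hdQ⟩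
    change mu C l d = Symp.val (d * d) + _ at e1
    rw [e1, (C.F.loc d hd).z_sq, Symp.val_one, zero_add]
    by_cases hdz : d = z
    · have : C.h.pr ⟨d, hdQ⟩ = 0 := by
        rw [C.h.pr_eq_zero]; exact Or.inr (Or.inl hdz)
      rw [this, hl0]
    · exact ((hΔ _).1 ⟨d, hdQ, hd, hdz, rfl⟩).2
  · have e1 := mu_of C l ⟨u z, C.h.u_mem⟩
    change mu C l (u z) = Symp.val (u z * u z) + _ at e1
    have : C.h.pr ⟨u z, C.h.u_mem⟩ = 0 := by
      rw [C.h.pr_eq_zero]; exact Or.inr (Or.inr (Or.inl rfl))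
    rw [e1, this, hl0, C.h.u_sq, Symp.val_of_ne C.h.z_ne, add_zero]
  · intro s hs hsx h0
    have e1 := mu_of C l ⟨s, hs⟩
    change mu C l s = Symp.val (s * s) + _ at e1
    have hss := hx.J_sq hs hsx
    rw [e1, hss, Symp.val_one, zero_add] at h0
    have hJ : C.h.pr ⟨s, hs⟩ ∈ C.sys.J a := by
      show C.h.pr ⟨s, hs⟩ ∈ C.J a
      rw [Ctx.J_eq hx]
      exact ⟨⟨s, hs⟩, hsx, rfl⟩
    rcases F.mem_J h16 hJ with h1 | h1 | h1 | h1
    · rcases C.h.eq_or_of_pr_eq (x := ⟨s, hs⟩) (y := 1) hss (one_mul 1) (h1.trans C.h.pr_one.symm) with h2 | h2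
      · exact Or.inl h2
      · right; left
        have h3 : s = 1 * z := h2
        rw [h3, one_mul]
    · rcases C.h.eq_or_of_pr_eq (x := ⟨s, hs⟩) (y := ⟨x, hx.mem⟩) hss hx.sq (h1.trans hvx.symm) with h2 | h2
      · exact Or.inr (Or.inr (Or.inl h2))
      · exact Or.inr (Or.inr (Or.inr h2))
    · rw [h1] at h0
      have := F.lam_e
      rw [← hl, h0] at this
      exact absurd this (by decide)
    · rw [h1] at h0
      have := F.lam_ea
      rw [← hl, h0] at this
      exact absurd this (by decide)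
  · intro g
    rw [memSa]
    constructor
    · rintro ⟨hg, hga⟩
      refine ⟨hg, ?_⟩
      have h1 := hx.conj hg
      rw [hga] at h1
      exact hx.eq_or h1
    · rintro ⟨hg, h1⟩
      refine ⟨hg, ?_⟩
      have h2 := actG_pr C.h hg ⟨x, hx.mem⟩ ⟨g * x * g⁻¹, C.h.conj_mem g hg x hx.mem⟩ rfl
      rw [hvx] at h2
      refine h2.trans (Eq.trans ?_ hvx)
      rw [C.h.pr_eq_pr]
      rcases h1 with h1 | h1
      · left; exact h1
      · right; left; exact h1
  · have hTS : (T : Subgroup G) ≤ Sa := fun g hg => (memSa g).2 ⟨hTz g hg, hfix g hg⟩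
    have h1 := Subgroup.index_dvd_of_le hTS
    have h2 : ¬ 2 ∣ (T : Subgroup G).index := T.not_dvd_index
    rw [← Nat.not_even_iff_odd]
    intro h3
    exact h2 ((even_iff_two_dvd.1 h3).trans h1)
  · have key : ∀ s, s * z = z * s → actG C.h s ∈ C.sys.R a →
        ∃ p ∈ Q z, ∃ q ∈ Q x, q * z = z * q ∧ s = p * q := by
      intro s hs h1
      have h2 : actG C.h s ∈ C.R a := h1
      rw [Ctx.R_eq hx] at h2
      obtain ⟨q, hq, hqz, hqs⟩ := Ctx.mem_Rx.1 h2
      have hqz' : q⁻¹ * z = z * q⁻¹ := (show Commute q z from hqz).inv_left.eq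
      refine ⟨s * q⁻¹, ?_, q, hq, hqz, by group⟩
      apply mem_of_actG C.h
      · exact ((show Commute s z from hs).mul_left (show Commute q⁻¹ z from hqz')).eq
      · rw [actG_mul C.h hs hqz', actG_inv C.h hqz, hqs, mul_inv_cancel]
    intro s hs t ht
    obtain ⟨hsz, hsa⟩ := (memSa s).1 hs
    obtain ⟨htz, hta⟩ := (memSa t).1 ht
    have hsz' : s⁻¹ * z = z * s⁻¹ := (show Commute s z from hsz).inv_left.eq
    rcases F.stab_cases h16 (mem_H C hsz) hsa (mem_H C htz) hta with h1 | h1 | h1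
    · exact Or.inl (key s hsz h1)
    · exact Or.inr (Or.inl (key t htz h1))
    · right; right
      apply key
      · exact ((show Commute s⁻¹ z from hsz').mul_left (show Commute t z from htz)).eq
      · rw [actG_mul C.h hsz' htz, actG_inv C.h hsz]
        exact h1

end Cfsg.Agent.ClassificationK.SymplStepFive
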