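import Mathlib
import Cfsg.Prelude.Def_ClassificationK
import Cfsg.Agent.S0093
import Cfsg.Agent.S1755
import Cfsg.Agent.J2.ExtQuot
import Cfsg.Agent.ClassificationK.SymplDual

/-!
# Finite 2-groups of symplectic type (S1758, helper577)

`exists_KR`: a 2-group `Q` of symplectic type with a central involution `z` has characteristic subgroups `R ≤ K`,
`R` cyclic, `R = C_Q(K)`, `K = C_Q(R)`, `K / R` elementary abelian, `[K, K] ≤ ⟨z⟩` (`KR`).
`KR.sqR`: if `|R| ≥ 4`, then `x ∈ K → x² = r²` for some `r ∈ R`.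
-/

set_option autoImplicit false

namespace Cfsg.Agent.ClassificationK.SymplStructure

open Subgroup
open scoped commutatorElement

/-- The two characteristic subgroups of a 2-group of symplectic type. -/
structure KR {Q : Type*} [Group Q] (K R : Subgroup Q) (z : Q) : Prop where
  charK : K.Characteristic
  charR : R.Characteristic
  cyc : IsCyclic R
  le : R ≤ K
  zR : z ∈ R
  uniq : ∀ x ∈ R, x * x = 1 → x = 1 ∨ x = z
  cent : ∀ x, (∀ y ∈ K, y * x = x * y) → x ∈ R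
  mem_K : ∀ x, x ∈ K ↔ ∀ y ∈ R, y * x = x * y
  sq : ∀ x ∈ K, x * x ∈ R
  comm : ∀ x ∈ K, ∀ y ∈ K, x * y = y * x ∨ x * y = y * x * z
  comm' : ∀ y : Q, ∀ x ∈ K, ⁅y, x⁆ ∈ R

theorem exists_KR {Q : Type*} [Group Q] [Finite Q] (hQ : Cfsg.IsOfSymplecticType Q) {z : Q}
    (hz : orderOf z = 2) (hzc : z ∈ center Q) : ∃ K R : Subgroup Q, KR K R z := by
  have : Fact (Nat.Prime 2) := ⟨Nat.prime_two⟩
  obtain ⟨H, hHc, hfr, hcm, hCH⟩ := Cfsg.Agent.S0093.aux (p := 2) hQ.1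
  have hHn : H.Normal := inferInstance
  set Z := centralizer (H : Set Q) with hZ
  have hZc : Z.Characteristic := inferInstance
  have hZn : Z.Normal := inferInstance
  have hZcomm : ∀ a ∈ Z, ∀ h ∈ H, h * a = a * h := fun a ha h hh =>
    mem_centralizer_iff.mp ha h hh
  have hZab : IsMulCommutative Z := ⟨⟨fun a b => Subtype.ext (hZcomm b b.2 a (hCH a.2))⟩⟩
  have hZcyc : IsCyclic Z := hQ.2 Z hZc hZab
  have hsq : ∀ h ∈ H, h ^ 2 ∈ Z := by
    intro h hh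
    apply hfr
    exact ⟨⟨h, hh⟩ ^ 2, Cfsg.Agent.Lib.FrattiniPGroup.pow_mem_frattini (hQ.1.to_subgroup H) _, rfl⟩
  have hcomm : ∀ h ∈ H, ∀ y, ⁅h, y⁆ ∈ Z := fun h hh y =>
    (hcm (commutator_mem_commutator hh (mem_top y))).2
  -- involutions of `Z` are central in `Q`
  have hinv : ∀ a ∈ Z, a ^ 2 = 1 → a ∈ center Q := by
    intro a ha ha2
    by_cases h1 : a = 1
    · rw [h1]; exact one_mem _
    have hao : orderOf a = 2 := orderOf_eq_prime ha2 h1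
    rw [mem_center_iff]
    intro g
    have h3 : g * a * g⁻¹ ∈ Z := hZn.conj_mem a ha g
    have h5 : orderOf (g * a * g⁻¹) = 2 := by
      have := orderOf_injective (MulAut.conj g).toMonoidHom (MulAut.conj g).injective a
      simpa [hao] using this
    have h6 := Cfsg.Agent.S1755.eq_of_orderOf_two_mem hZcyc h3 ha h5 hao
    calc g * a = g * a * g⁻¹ * g := by group
      _ = a * g := by rw [h6]
  set Q0 := centralizer (Z : Set Q) with hQ0
  have hQ0n : Q0.Normal := inferInstance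
  have hQ0c : ∀ x ∈ Q0, ∀ a ∈ Z, a * x = x * a := fun x hx a ha =>
    mem_centralizer_iff.mp hx a ha
  -- general computation
  have key : ∀ u v : Q, Commute ⁅u, v⁆ u → Commute (u ^ 2) v → ⁅u, v⁆ ^ 2 = 1 := by
    intro u v h1 h2
    have h3 : u * v * u⁻¹ = ⁅u, v⁆ * v := by rw [commutatorElement_def]; group
    have h5 : u ^ 2 * v * (u ^ 2)⁻¹ = ⁅u, v⁆ ^ 2 * v := by
      calc u ^ 2 * v * (u ^ 2)⁻¹ = u * (u * v * u⁻¹) * u⁻¹ := by simp only [pow_two]; group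
        _ = u * ⁅u, v⁆ * (v * u⁻¹) := by rw [h3]; group
        _ = ⁅u, v⁆ * (u * v * u⁻¹) := by rw [← h1.eq]; group
        _ = ⁅u, v⁆ ^ 2 * v := by rw [h3, pow_two]; group
    have h6 : u ^ 2 * v * (u ^ 2)⁻¹ = v := by rw [h2.eq]; group
    rw [h6] at h5
    exact (mul_eq_right.mp h5.symm)
  have key' : ∀ u v : Q, ⁅u, v⁆ ∈ center Q → ⁅u, v⁆ ^ 2 = 1 → Commute (u ^ 2) v := by
    intro u v h1 h2
    have h3 : u * v * u⁻¹ = ⁅u, v⁆ * v := by rw [commutatorElement_def]; group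
    have h4 : Commute ⁅u, v⁆ u := (mem_center_iff.mp h1 u).symm
    have h5 : u ^ 2 * v * (u ^ 2)⁻¹ = ⁅u, v⁆ ^ 2 * v := by
      calc u ^ 2 * v * (u ^ 2)⁻¹ = u * (u * v * u⁻¹) * u⁻¹ := by simp only [pow_two]; group
        _ = u * ⁅u, v⁆ * (v * u⁻¹) := by rw [h3]; group
        _ = ⁅u, v⁆ * (u * v * u⁻¹) := by rw [← h4.eq]; group
        _ = ⁅u, v⁆ ^ 2 * v := by rw [h3, pow_two]; group
    rw [h2, one_mul] at h5
    show u ^ 2 * v = v * u ^ 2
    exact mul_inv_eq_iff_eq_mul.mp h5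
  -- step 1
  have step1 : ∀ h ∈ H, ∀ x ∈ Q0, ⁅h, x⁆ ∈ Z ∧ ⁅h, x⁆ ^ 2 = 1 := by
    intro h hh x hx
    have h1 := hcomm h hh x
    exact ⟨h1, key h x (hZcomm _ h1 h hh).symm (hQ0c x hx _ (hsq h hh))⟩
  -- step 2
  have step2 : ∀ x ∈ Q0, x ^ 2 ∈ Z := by
    intro x hx
    rw [hZ, mem_centralizer_iff]
    intro h hh
    obtain ⟨h1, h2⟩ := step1 h hh x hx
    have h3 : ⁅x, h⁆ = ⁅h, x⁆⁻¹ := (commutatorElement_inv h x).symm
    have h5 : ⁅x, h⁆ ∈ center Q := by rw [h3]; exact inv_mem (hinv _ h1 h2)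
    have h6 : ⁅x, h⁆ ^ 2 = 1 := by rw [h3, inv_pow, h2, inv_one]
    exact (key' x h h5 h6).eq.symm
  -- step 3
  have step3 : ∀ x ∈ Q0, ∀ y ∈ Q0, ⁅x, y⁆ ∈ Z := by
    have h1 : ⁅⁅Q0, H⁆, Q0⁆ = ⊥ := by
      rw [eq_bot_iff, commutator_le]
      intro a ha b hb
      have ha' : a ∈ Z := by
        have : ⁅Q0, H⁆ ≤ Z := by
          rw [commutator_le]
          intro c _ d hd
          rw [← commutatorElement_inv]
          exact inv_mem (hcomm d hd c)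
        exact this ha
      rw [mem_bot, commutatorElement_eq_one_iff_mul_comm]
      exact hQ0c b hb a ha'
    have h2 : ⁅⁅H, Q0⁆, Q0⁆ = ⊥ := by rw [commutator_comm H Q0]; exact h1
    have h3 : ⁅⁅Q0, Q0⁆, H⁆ = ⊥ := commutator_commutator_eq_bot_of_rotate h1 h2
    intro x hx y hy
    rw [hZ, mem_centralizer_iff]
    intro h hh
    have h5 : ⁅⁅x, y⁆, h⁆ ∈ ⁅⁅Q0, Q0⁆, H⁆ :=
      commutator_mem_commutator (commutator_mem_commutator hx hy) hh
    rw [h3, mem_bot, commutatorElement_eq_one_iff_mul_comm] at h5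
    exact h5.symm
  -- step 5
  have step5 : ∀ y : Q, ∀ h ∈ Q0, ⁅y, h⁆ ∈ Z := by
    intro y h hh
    have h1 : ∀ k ∈ H, (y * h * y⁻¹) * k * (y * h * y⁻¹)⁻¹ = h * k * h⁻¹ := by
      intro k hk
      obtain ⟨h1, h2⟩ := step1 k hk h hh
      have h3 : ⁅h, k⁆ = ⁅k, h⁆⁻¹ := (commutatorElement_inv k h).symm
      have h5 : ⁅h, k⁆ ∈ center Q := by rw [h3]; exact inv_mem (hinv _ h1 h2)
      have h6 : ⁅k⁻¹, y⁻¹⁆ ∈ Z := hcomm _ (inv_mem hk) _
      have h7 : y⁻¹ * k * y = k * ⁅k⁻¹, y⁻¹⁆ := by rw [commutatorElement_def]; group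
      have h8 : h * k * h⁻¹ = ⁅h, k⁆ * k := by rw [commutatorElement_def]; group
      have h9 : ⁅k⁻¹, y⁻¹⁆ * h = h * ⁅k⁻¹, y⁻¹⁆ := hQ0c h hh _ h6
      calc (y * h * y⁻¹) * k * (y * h * y⁻¹)⁻¹
          = y * h * (y⁻¹ * k * y) * h⁻¹ * y⁻¹ := by group
        _ = y * (h * k * ⁅k⁻¹, y⁻¹⁆ * h⁻¹) * y⁻¹ := by rw [h7]; group
        _ = y * (h * k * (⁅k⁻¹, y⁻¹⁆ * h) * h⁻¹ * h⁻¹) * y⁻¹ := by group
        _ = y * (h * k * (h * ⁅k⁻¹, y⁻¹⁆) * h⁻¹ * h⁻¹) * y⁻¹ := by rw [h9]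
        _ = y * (h * k * h⁻¹) * ⁅k⁻¹, y⁻¹⁆ * y⁻¹ := by
              have h10 : h * ⁅k⁻¹, y⁻¹⁆ * h⁻¹ = ⁅k⁻¹, y⁻¹⁆ := by rw [← h9]; group
              have h11 : h⁻¹ * ⁅k⁻¹, y⁻¹⁆ * h = ⁅k⁻¹, y⁻¹⁆ := by rw [mul_assoc, h9]; group
              have h12 : ⁅k⁻¹, y⁻¹⁆ * h⁻¹ = h⁻¹ * ⁅k⁻¹, y⁻¹⁆ := by
                rw [eq_comm, ← mul_inv_eq_iff_eq_mul]; simpa using h11
              rw [show h * k * (h * ⁅k⁻¹, y⁻¹⁆) * h⁻¹ * h⁻¹
                = h * k * (h * ⁅k⁻¹, y⁻¹⁆ * h⁻¹) * h⁻¹ by group, h10,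
                show h * k * ⁅k⁻¹, y⁻¹⁆ * h⁻¹ = h * k * (⁅k⁻¹, y⁻¹⁆ * h⁻¹) by group, h12]
              group
        _ = y * ⁅h, k⁆ * (k * ⁅k⁻¹, y⁻¹⁆) * y⁻¹ := by rw [h8]; group
        _ = y * ⁅h, k⁆ * (y⁻¹ * k * y) * y⁻¹ := by rw [h7]
        _ = y * ⁅h, k⁆ * y⁻¹ * k := by group
        _ = ⁅h, k⁆ * k := by rw [mem_center_iff.mp h5 y]; group
        _ = h * k * h⁻¹ := h8.symm
    have h2 : h⁻¹ * (y * h * y⁻¹) ∈ Z := by
      rw [hZ, mem_centralizer_iff]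
      intro k hk
      have h3 := h1 k hk
      have h5 : (h⁻¹ * (y * h * y⁻¹)) * k * (h⁻¹ * (y * h * y⁻¹))⁻¹ = k := by
        calc (h⁻¹ * (y * h * y⁻¹)) * k * (h⁻¹ * (y * h * y⁻¹))⁻¹
            = h⁻¹ * ((y * h * y⁻¹) * k * (y * h * y⁻¹)⁻¹) * h := by group
          _ = k := by rw [h3]; group
      exact (mul_inv_eq_iff_eq_mul.mp h5).symm
    have h3 : ⁅y, h⁆ = h * (h⁻¹ * (y * h * y⁻¹)) * h⁻¹ := by rw [commutatorElement_def]; group
    rw [h3]
    exact hZn.conj_mem _ h2 h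
  have hHQ0 : H ≤ Q0 := by
    intro h hh
    rw [hQ0, mem_centralizer_iff]
    intro a ha
    exact (hZcomm a ha h hh).symm
  have hzZ : z ∈ Z := by
    rw [hZ, mem_centralizer_iff]
    intro h _
    exact mem_center_iff.1 hzc h
  have huniq : ∀ x ∈ Z, x * x = 1 → x = 1 ∨ x = z := by
    intro x hx hxx
    by_cases h1 : x = 1
    · exact Or.inl h1
    · exact Or.inr (Cfsg.Agent.S1755.eq_of_orderOf_two_mem hZcyc hx hzZ
        (orderOf_eq_prime (by rw [pow_two]; exact hxx) h1) hz)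
  refine ⟨Q0, Z, ⟨inferInstance, hZc, hZcyc, ?_, hzZ, huniq, ?_, ?_, ?_, ?_, step5⟩⟩
  · intro a ha
    exact hHQ0 (hCH ha)
  · intro x hx
    rw [hZ, mem_centralizer_iff]
    intro h hh
    exact hx h (hHQ0 hh)
  · intro x
    rw [hQ0, mem_centralizer_iff]
    rfl
  · intro x hx
    rw [← pow_two]; exact step2 x hx
  · intro x hx y hy
    have h1 := step3 y hy x hx
    have h2 : ⁅y, x⁆ ^ 2 = 1 := by
      apply key y x
      · exact hQ0c y hy _ h1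
      · exact hQ0c x hx _ (step2 y hy)
    have h3 : ⁅x, y⁆ = ⁅y, x⁆⁻¹ := (commutatorElement_inv y x).symm
    have h4 : x * y = ⁅x, y⁆ * (y * x) := by rw [commutatorElement_def]; group
    have hzyx : z * (y * x) = y * x * z := (mem_center_iff.1 hzc (y * x)).symm
    rcases huniq _ h1 (by rw [← pow_two]; exact h2) with h5 | h5
    · left; rw [h4, h3, h5]; group
    · right
      have hzi : z⁻¹ = z := by
        rw [inv_eq_iff_mul_eq_one, ← pow_two, ← hz]; exact pow_orderOf_eq_one z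
      rw [h4, h3, h5, hzi, hzyx]

/-- Squares in a cyclic group of even order. -/
theorem cyclic_square {Q : Type*} [Group Q] {R : Subgroup Q} {c : Q}
    (hgen : ∀ x ∈ R, ∃ i : ℤ, c ^ i = x) (hc : c ∈ R) (h2 : 2 ∣ orderOf c) (i : ℤ) :
    (∃ r ∈ R, c ^ i = r * r) ↔ Even i := by
  constructor
  · rintro ⟨r, hr, h⟩
    obtain ⟨j, rfl⟩ := hgen r hr
    rw [← zpow_add] at h
    have h3 : c ^ (i - (j + j)) = 1 := by rw [zpow_sub, h, mul_inv_cancel]
    rw [← orderOf_dvd_iff_zpow_eq_one] at h3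
    have h4 : (2 : ℤ) ∣ i - (j + j) := (by exact_mod_cast h2 : (2 : ℤ) ∣ (orderOf c : ℤ)).trans h3
    rw [even_iff_two_dvd]
    omega
  · rintro ⟨j, rfl⟩
    exact ⟨c ^ j, R.zpow_mem hc j, zpow_add c j j⟩

namespace KR

variable {Q : Type*} [Group Q] {K R : Subgroup Q} {z : Q}

theorem exists_gen (h : KR K R z) : ∃ c ∈ R, ∀ x ∈ R, ∃ i : ℤ, c ^ i = x := by
  obtain ⟨⟨c, hc⟩, hgen⟩ := h.cyc.exists_generator
  refine ⟨c, hc, fun a ha => ?_⟩
  obtain ⟨k, hk⟩ := mem_zpowers_iff.mp (hgen ⟨a, ha⟩)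
  exact ⟨k, congrArg Subtype.val hk⟩

theorem zz (_h : KR K R z) (hz : orderOf z = 2) : z * z = 1 := by
  rw [← pow_two, ← hz]; exact pow_orderOf_eq_one z

/-- If `|R| ≥ 4`, then for `x ∈ K` there is `r ∈ R` with `x² = r²`. -/
theorem sqR [Finite Q] (h : KR K R z) (hQ : Cfsg.IsOfSymplecticType Q) (hz : orderOf z = 2)
    (hzc : z ∈ center Q) (hR : 4 ≤ Nat.card R) {x : Q} (hx : x ∈ K) : ∃ r ∈ R, x * x = r * r := by
  classical
  have : Fact (Nat.Prime 2) := ⟨Nat.prime_two⟩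
  obtain ⟨c, hc, hgen⟩ := h.exists_gen
  have hz1 : z ≠ 1 := by
    intro h1; rw [h1, orderOf_one] at hz; exact absurd hz (by norm_num)
  -- the order of `c`
  have hRz : R = zpowers c := by
    apply le_antisymm
    · intro y hy
      obtain ⟨i, hi⟩ := hgen y hy
      exact ⟨i, hi⟩
    · rw [zpowers_le]; exact hc
  obtain ⟨n, hn⟩ := (IsPGroup.iff_orderOf.1 hQ.1) c
  have hcard : Nat.card R = 2 ^ n := by rw [hRz, Nat.card_zpowers, hn]
  have hn2 : 2 ≤ n := by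
    by_contra hlt
    have : n = 0 ∨ n = 1 := by omega
    rcases this with rfl | rfl
    · rw [hcard] at hR; norm_num at hR
    · rw [hcard] at hR; norm_num at hR
  have h2c : 2 ∣ orderOf c := by rw [hn]; exact dvd_pow_self 2 (by omega)
  have hS2 := cyclic_square hgen hc h2c
  let S2 : Q → Prop := fun a => ∃ r ∈ R, a = r * r
  have hS2i : ∀ i : ℤ, S2 (c ^ i) ↔ Even i := hS2
  -- parity of products
  have hprod : ∀ a ∈ R, ∀ b ∈ R, S2 (a * b) ↔ (S2 a ↔ S2 b) := by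
    intro a ha b hb
    obtain ⟨i, rfl⟩ := hgen a ha
    obtain ⟨j, rfl⟩ := hgen b hb
    rw [← zpow_add, hS2i, hS2i, hS2i, Int.even_add]
  -- `z` is a square
  have hzS : S2 z := by
    have h1 : c ^ (2 ^ (n - 1) : ℕ) = z := by
      have h2 : (c ^ (2 ^ (n - 1) : ℕ)) * (c ^ (2 ^ (n - 1) : ℕ)) = 1 := by
        rw [← pow_add, ← two_mul, ← pow_succ', Nat.sub_add_cancel (by omega), ← hn]
        exact pow_orderOf_eq_one c
      rcases h.uniq _ (R.pow_mem hc _) h2 with h3 | h3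
      · exfalso
        have h4 := orderOf_dvd_of_pow_eq_one h3
        rw [hn] at h4
        have := Nat.le_of_dvd (by positivity) h4
        have h5 : 2 ^ (n - 1) < 2 ^ n := Nat.pow_lt_pow_right (by norm_num) (by omega)
        omega
      · exact h3
    have h2 : S2 (c ^ ((2 ^ (n - 1) : ℕ) : ℤ)) := by
      rw [hS2i]
      have : Even (2 ^ (n - 1)) := by
        rw [Nat.even_pow]; exact ⟨even_two, by omega⟩
      exact_mod_cast this
    rw [zpow_natCast, h1] at h2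
    exact h2
  have hzcomm : ∀ y, y * z = z * y := fun y => mem_center_iff.1 hzc y
  -- the homomorphism
  let φ : K → ZMod 2 := fun x => if S2 ((x : Q) * x) then 0 else 1
  have hφ0 : ∀ x : K, φ x = 0 ↔ S2 ((x : Q) * x) := by
    intro x
    show (if S2 ((x : Q) * x) then (0 : ZMod 2) else 1) = 0 ↔ _
    split_ifs with h1
    · exact ⟨fun _ => h1, fun _ => rfl⟩
    · exact ⟨fun h2 => absurd h2 one_ne_zero, fun h2 => absurd h2 h1⟩
  have hφ1 : ∀ x : K, φ x = 1 ↔ ¬ S2 ((x : Q) * x) := by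
    intro x
    rw [← hφ0]
    rcases SymplDual.z01 (φ x) with h1 | h1 <;> rw [h1]
    · simp
    · simp
  have hsqmul : ∀ x y : K, S2 (((x * y : K) : Q) * (x * y : K)) ↔ S2 (((x : Q) * x) * (y * y)) := by
    intro x y
    have hxx := h.sq x x.2
    have hyy := h.sq y y.2
    rcases h.comm y y.2 x x.2 with h1 | h1
    · have e : ((x * y : K) : Q) * (x * y : K) = ((x : Q) * x) * (y * y) := by
        show (x : Q) * y * (x * y) = _
        calc (x : Q) * y * (x * y) = x * (y * x) * y := by group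
          _ = _ := by rw [h1]; group
      rw [e]
    · have e : ((x * y : K) : Q) * (x * y : K) = ((x : Q) * x) * (y * y) * z := by
        show (x : Q) * y * (x * y) = _
        calc (x : Q) * y * (x * y) = x * (y * x) * y := by group
          _ = x * x * y * (z * y) := by rw [h1]; group
          _ = _ := by rw [← hzcomm]; group
      rw [e, hprod _ (R.mul_mem hxx hyy) _ h.zR]
      exact ⟨fun h2 => h2.2 hzS, fun h2 => ⟨fun _ => hzS, fun _ => h2⟩⟩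
  have hφmul : ∀ x y : K, φ (x * y) = φ x + φ y := by
    intro x y
    have h1 := (hsqmul x y).trans (hprod _ (h.sq x x.2) _ (h.sq y y.2))
    rcases SymplDual.z01 (φ x) with h2 | h2 <;> rcases SymplDual.z01 (φ y) with h3 | h3
    · rw [h2, h3, add_zero, hφ0, h1, ← hφ0, ← hφ0, h2, h3]
    · rw [h2, h3, zero_add, hφ1, h1, ← hφ0, ← hφ0, h2, h3]; simp
    · rw [h2, h3, add_zero, hφ1, h1, ← hφ0, ← hφ0, h2, h3]; simp
    · rw [h2, h3, SymplDual.z11, hφ0, h1, ← hφ0, ← hφ0, h2, h3]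
  have hφc : ∀ x ∈ center K, φ x = 0 := by
    intro x hx
    rw [hφ0]
    refine ⟨x, h.cent x fun y hy => ?_, rfl⟩
    exact congrArg Subtype.val (mem_center_iff.1 hx ⟨y, hy⟩)
  obtain ⟨k, hk⟩ := SymplDual.exists_comm_iff (K := K) (ζ := ⟨z, h.le h.zR⟩)
    (fun h1 => hz1 (congrArg Subtype.val h1)) (Subtype.ext (h.zz hz))
    (fun x => Subtype.ext (hzcomm x))
    (fun x y => by
      rcases h.comm x x.2 y y.2 with h1 | h1
      · exact Or.inl (Subtype.ext h1)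
      · exact Or.inr (Subtype.ext h1)) φ hφmul hφc
  by_contra hcon
  have hx1 : φ ⟨x, hx⟩ = 1 := (hφ1 _).2 hcon
  have hkR : (k : Q) ∉ R := by
    intro h1
    have h2 := (hk ⟨x, hx⟩).2 (Subtype.ext ((h.mem_K x).1 hx k h1))
    rw [h2] at hx1; exact zero_ne_one hx1
  have hkk : S2 ((k : Q) * k) := (hφ0 k).1 ((hk k).2 rfl)
  -- the characteristic abelian subgroup
  have hS2mul : ∀ x ∈ K, ∀ y ∈ K, S2 (x * x) → S2 (y * y) → S2 ((x * y) * (x * y)) := by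
    intro x hx y hy h1 h2
    exact (hsqmul ⟨x, hx⟩ ⟨y, hy⟩).2 ((hprod _ (h.sq x hx) _ (h.sq y hy)).2 ⟨fun _ => h2, fun _ => h1⟩)
  let A : Subgroup Q :=
    { carrier := {a | a ∈ K ∧ S2 (a * a) ∧ ∀ y ∈ K, S2 (y * y) → a * y = y * a}
      one_mem' := ⟨K.one_mem, ⟨1, R.one_mem, rfl⟩, fun y _ _ => by rw [one_mul, mul_one]⟩
      mul_mem' := by
        rintro a b ⟨ha1, ha2, ha3⟩ ⟨hb1, hb2, hb3⟩
        refine ⟨K.mul_mem ha1 hb1, hS2mul a ha1 b hb1 ha2 hb2, fun y hy hyy => ?_⟩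
        rw [mul_assoc, hb3 y hy hyy, ← mul_assoc, ha3 y hy hyy, mul_assoc]
      inv_mem' := by
        rintro a ⟨ha1, ⟨r, hr, ha2⟩, ha3⟩
        refine ⟨K.inv_mem ha1, ⟨r⁻¹, R.inv_mem hr, ?_⟩, fun y hy hyy => ?_⟩
        · rw [← mul_inv_rev, ha2, mul_inv_rev]
        · rw [inv_mul_eq_iff_eq_mul, ← mul_assoc, ha3 y hy hyy, mul_assoc, mul_inv_cancel, mul_one] }
  have hAc : A.Characteristic := by
    rw [Subgroup.characteristic_iff_le_comap]
    intro σ a ha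
    obtain ⟨ha1, ⟨r, hr, ha2⟩, ha3⟩ := ha
    have hKσ : ∀ (σ : Q ≃* Q) (y : Q), y ∈ K → σ y ∈ K := by
      intro σ y hy
      have := (Subgroup.characteristic_iff_le_comap.1 h.charK) σ hy
      exact this
    have hRσ : ∀ (σ : Q ≃* Q) (y : Q), y ∈ R → σ y ∈ R := by
      intro σ y hy
      have := (Subgroup.characteristic_iff_le_comap.1 h.charR) σ hy
      exact this
    refine ⟨hKσ σ a ha1, ⟨σ r, hRσ σ r hr, ?_⟩, fun y hy hyy => ?_⟩
    · show σ a * σ a = σ r * σ r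
      rw [← map_mul, ha2, map_mul]
    · obtain ⟨s, hs, hyy⟩ := hyy
      have h1 := ha3 (σ.symm y) (hKσ σ.symm y hy) ⟨σ.symm s, hRσ σ.symm s hs, by
        rw [← map_mul, hyy, map_mul]⟩
      have h2 := congrArg σ h1
      rw [map_mul, map_mul, MulEquiv.apply_symm_apply] at h2
      exact h2
  have hAab : IsMulCommutative A := ⟨⟨fun a b => Subtype.ext (a.2.2.2 b b.2.1 b.2.2.1)⟩⟩
  have hAcyc : IsCyclic A := hQ.2 A hAc hAab
  have hRA : ∀ r ∈ R, r ∈ A := by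
    intro r hr
    exact ⟨h.le hr, ⟨r, hr, rfl⟩, fun y hy _ => (h.mem_K y).1 hy r hr⟩
  have hkA : (k : Q) ∈ A := by
    refine ⟨k.2, hkk, fun y hy hyy => ?_⟩
    exact congrArg Subtype.val ((hk ⟨y, hy⟩).1 ((hφ0 _).2 hyy))
  obtain ⟨⟨g, hg⟩, hggen⟩ := hAcyc.exists_generator
  have hggen' : ∀ a ∈ A, ∃ i : ℤ, g ^ i = a := by
    intro a ha
    obtain ⟨i, hi⟩ := mem_zpowers_iff.mp (hggen ⟨a, ha⟩)
    exact ⟨i, congrArg Subtype.val hi⟩
  obtain ⟨j, hj⟩ := hggen' c (hRA c hc)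
  obtain ⟨m, hm⟩ := (IsPGroup.iff_orderOf.1 hQ.1) g
  rcases Int.even_or_odd j with hje | hjo
  · -- `c` is the square of an element of `A`, hence of `R`
    obtain ⟨i, rfl⟩ := hje
    have h1 : g ^ i ∈ A := A.zpow_mem hg i
    have h2 := h1.2.1
    rw [← zpow_add, hj] at h2
    have h3 : S2 (c ^ (1 : ℤ)) := by rwa [zpow_one]
    rw [hS2i] at h3
    exact absurd h3 (by decide)
  · -- `c` generates `A`
    apply hkR
    have hcop : IsCoprime j ((2 : ℤ) ^ m) := by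
      apply IsCoprime.pow_right
      obtain ⟨i, hi⟩ := hjo
      exact ⟨1, -i, by rw [hi]; ring⟩
    obtain ⟨a, b, hab⟩ := hcop
    have hgm : g ^ ((2 : ℤ) ^ m) = 1 := by
      have := pow_orderOf_eq_one g
      rw [hm] at this
      exact_mod_cast this
    have hgc : g = c ^ a := by
      rw [← hj, ← zpow_mul, mul_comm j a]
      calc g = g ^ (a * j + b * 2 ^ m) := by rw [hab, zpow_one]
        _ = g ^ (a * j) * (g ^ ((2 : ℤ) ^ m)) ^ b := by rw [zpow_add, ← zpow_mul, mul_comm b]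
        _ = g ^ (a * j) := by rw [hgm, one_zpow, mul_one]
    obtain ⟨i, hi⟩ := hggen' k hkA
    rw [← hi, hgc]
    exact R.zpow_mem (R.zpow_mem hc a) i

end KR

end Cfsg.Agent.ClassificationK.SymplStructure
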