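import Cfsg.Agent.ClassificationK.SymplIsolated

/-!
# Transfer of `u z` to a subgroup `S` with `Q z ≤ S ≤ C(z)` of odd index (S1758, helper577)

`chi_eq_one`: assume (Y): every `a ∈ D` commuting with `u z` lies in `Q z`. Then a homomorphism `χ` from `S` to an
abelian group which is trivial on `D ∩ Q z` is trivial on `u z`.
-/

set_option autoImplicit false

namespace Cfsg.Agent.ClassificationK.SymplSetup

theorem zmod_two_add_self : ∀ a : ZMod 2, a + a = 0 := by decide

/-- A product of elements of order two over a `P`-set, `P` a 2-group, only depends on the fixed points. -/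
theorem prod_eq_prod_fixed {P T A : Type*} [Group P] [MulAction P T] [Fintype T] [DecidableEq T] [CommGroup A]
    (hP : IsPGroup 2 P) (F : T → A) (hinv : ∀ (x : P) (q : T), F (x • q) = F q) (hsq : ∀ q, F q ^ 2 = 1)
    [DecidablePred (· ∈ MulAction.fixedPoints P T)] :
    ∏ q, F q = ∏ q ∈ Finset.univ.filter (· ∈ MulAction.fixedPoints P T), F q := by
  classical
  have : Fact (Nat.Prime 2) := ⟨Nat.prime_two⟩
  rw [← Finset.prod_filter_mul_prod_filter_not Finset.univ (· ∈ MulAction.fixedPoints P T) F]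
  have h1 : ∏ q ∈ Finset.univ.filter (fun q => ¬ q ∈ MulAction.fixedPoints P T), F q = 1 := by
    set s := Finset.univ.filter (fun q => ¬ q ∈ MulAction.fixedPoints P T) with hs
    have h2 := Finset.prod_comp (s := s) (fun b : A => b) F
    rw [h2]
    apply Finset.prod_eq_one
    intro b hb
    obtain ⟨q₀, -, rfl⟩ := Finset.mem_image.1 hb
    -- the fibre
    let W : SubMulAction P T :=
      { carrier := {q | F q = F q₀ ∧ q ∉ MulAction.fixedPoints P T}
        smul_mem' := by
          rintro x q ⟨h3, h4⟩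
          refine ⟨by rw [hinv, h3], fun h5 => h4 ?_⟩
          intro y
          have h6 : q = x⁻¹ • (x • q) := by rw [inv_smul_smul]
          have h7 := h5 x⁻¹
          rw [← h6] at h7
          rw [h7]
          exact h5 y |>.trans (by rw [← h7]) }
    have hW := hP.card_modEq_card_fixedPoints W
    have h3 : Nat.card (MulAction.fixedPoints P W) = 0 := by
      rw [Nat.card_eq_zero]
      left
      constructor
      rintro ⟨⟨q, hq1, hq2⟩, hq3⟩
      apply hq2
      intro x
      exact congrArg Subtype.val (hq3 x)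
    rw [h3] at hW
    have h4 : 2 ∣ Nat.card W := (Nat.modEq_zero_iff_dvd).1 hW
    have h5 : Nat.card W = (s.filter (fun q => F q = F q₀)).card := by
      have : Fintype W := Fintype.ofFinite _
      rw [Nat.card_eq_fintype_card]
      apply Fintype.card_of_subtype
      intro q
      rw [Finset.mem_filter, hs, Finset.mem_filter]
      constructor
      · rintro ⟨⟨-, h5⟩, h6⟩
        exact ⟨h6, h5⟩
      · rintro ⟨h5, h6⟩
        exact ⟨⟨Finset.mem_univ _, h6⟩, h5⟩
    rw [h5] at h4
    obtain ⟨k, hk⟩ := h4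
    have h6 : (s.filter (fun q => F q = F q₀)).card = 2 * k := hk
    rw [h6, pow_mul, hsq, one_pow]
  rw [h1, mul_one]

open MulAction in
/-- **Transfer.** -/
theorem chi_eq_one {G : Type*} [Group G] [Finite G] [IsSimpleGroup G] (hG : ¬ IsMulCommutative G) {D : Set G}
    {Q : G → Subgroup G} {u : G → G} (F : Fam D Q u) {z : G} (hz : z ∈ D)
    (hY : ∀ a ∈ D, a * u z = u z * a → a ∈ Q z)
    {S : Subgroup G} (hSz : ∀ x ∈ S, x * z = z * x) (hQS : Q z ≤ S) (hodd : Odd S.index)
    {A : Type*} [CommGroup A] (χ : S →* A) (hχ : ∀ d ∈ D, ∀ (h : d ∈ Q z), χ ⟨d, hQS h⟩ = 1) :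
    χ ⟨u z, hQS (F.loc z hz).u_mem⟩ = 1 := by
  classical
  have lz := F.loc z hz
  set U := u z with hU
  have hUS : U ∈ S := hQS lz.u_mem
  have : Fintype (G ⧸ S) := Fintype.ofFinite _
  have : Fintype (Quotient (orbitRel (Subgroup.zpowers U) (G ⧸ S))) := Fintype.ofFinite _
  have htr := SymplTransfer.hom_eq_one hG (MonoidHom.transfer χ) U
  rw [MonoidHom.transfer_eq_prod_quotient_orbitRel_zpowers_quot] at htr
  set T := Quotient (orbitRel (Subgroup.zpowers U) (G ⧸ S)) with hT
  set f : T → A := fun q => χ ⟨q.out.out⁻¹ * U ^ Function.minimalPeriod (U • ·) q.out * q.out.out,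
    QuotientGroup.out_conj_pow_minimalPeriod_mem S U q.out⟩ with hf
  -- the minimal period
  let M : G ⧸ S → ℕ := fun y => Function.minimalPeriod (U • ·) y
  have hper : ∀ (n : ℕ) (y : G ⧸ S), Function.IsPeriodicPt (U • ·) n y ↔ U ^ n • y = y := by
    intro n y
    show (U • ·)^[n] y = y ↔ _
    rw [smul_iterate]
  have hM : ∀ (h : G), h * U = U * h → ∀ y : G ⧸ S, M (h • y) = M y := by
    intro h hh y
    show Function.minimalPeriod _ _ = Function.minimalPeriod _ _
    rw [Function.minimalPeriod_eq_minimalPeriod_iff]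
    intro n
    rw [hper, hper]
    have hn : U ^ n * h = h * U ^ n := ((show Commute h U from hh).pow_right n).eq.symm
    rw [← mul_smul, hn, mul_smul]
    exact smul_left_cancel_iff h
  have hMzp : ∀ (s : Subgroup.zpowers U) (y : G ⧸ S), M (s • y) = M y := by
    intro s y
    obtain ⟨n, hn⟩ := s.2
    have hn' : U ^ n = (s : G) := hn
    have h1 : (s : G) * U = U * s := by
      rw [← hn']
      exact (Commute.zpow_left (Commute.refl U) n).eq
    exact hM (s : G) h1 y
  let mk : G ⧸ S → T := fun y => Quotient.mk'' y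
  have hout : ∀ y : G ⧸ S, ∃ s : Subgroup.zpowers U, (mk y).out = s • y := by
    intro y
    have h1 : (orbitRel (Subgroup.zpowers U) (G ⧸ S)) (mk y).out y := Quotient.exact (Quotient.out_eq (mk y))
    rw [orbitRel_apply, mem_orbit_iff] at h1
    obtain ⟨s, hs⟩ := h1
    exact ⟨s, hs.symm⟩
  have hmM : ∀ y : G ⧸ S, Function.minimalPeriod (U • ·) (mk y).out = M y := by
    intro y
    obtain ⟨s, hs⟩ := hout y
    rw [hs]; exact hMzp s y
  -- values at representatives
  have hval : ∀ g : G, ∃ h : g⁻¹ * U ^ M (g : G ⧸ S) * g ∈ S, f (mk g) = χ ⟨_, h⟩ := by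
    intro g
    obtain ⟨s, hs⟩ := hout (g : G ⧸ S)
    obtain ⟨n, hn⟩ := s.2
    have hn' : U ^ n = (s : G) := hn
    have hm : Function.minimalPeriod (U • ·) (mk g).out = M (g : G ⧸ S) := hmM g
    have h1 : (((mk g).out.out : G) : G ⧸ S) = ((U ^ n * g : G) : G ⧸ S) := by
      rw [QuotientGroup.out_eq', hs, hn']
      rfl
    rw [eq_comm, QuotientGroup.eq] at h1
    set t := (U ^ n * g)⁻¹ * (mk g).out.out with ht
    have h2 : (mk g).out.out = U ^ n * g * t := by rw [ht]; group
    have h3 := QuotientGroup.out_conj_pow_minimalPeriod_mem S U (mk g).out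
    have hc : (U ^ n)⁻¹ * U ^ M (g : G ⧸ S) * U ^ n = U ^ M (g : G ⧸ S) := by
      rw [← zpow_natCast, ← zpow_neg, ← zpow_add, ← zpow_add]
      congr 1
      omega
    have h4 : (mk g).out.out⁻¹ * U ^ Function.minimalPeriod (U • ·) (mk g).out * (mk g).out.out =
        t⁻¹ * (g⁻¹ * U ^ M (g : G ⧸ S) * g) * t := by
      rw [hm, h2]
      calc (U ^ n * g * t)⁻¹ * U ^ M (g : G ⧸ S) * (U ^ n * g * t)
          = t⁻¹ * (g⁻¹ * ((U ^ n)⁻¹ * U ^ M (g : G ⧸ S) * U ^ n) * g) * t := by group
        _ = _ := by rw [hc]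
    have h5 : g⁻¹ * U ^ M (g : G ⧸ S) * g ∈ S := by
      have h6 := h3
      rw [h4] at h6
      have h7 := S.mul_mem (S.mul_mem h1 h6) (S.inv_mem h1)
      have e : t * (t⁻¹ * (g⁻¹ * U ^ M (g : G ⧸ S) * g) * t) * t⁻¹ = g⁻¹ * U ^ M (g : G ⧸ S) * g := by group
      rwa [e] at h7
    refine ⟨h5, ?_⟩
    have h8 : (⟨_, h3⟩ : S) = ⟨t, h1⟩⁻¹ * ⟨_, h5⟩ * ⟨t, h1⟩ := Subtype.ext h4
    show χ ⟨_, h3⟩ = _
    rw [h8, map_mul, map_mul, map_inv, mul_comm, mul_inv_cancel_left]
  have hM4 : ∀ y, M y = 1 ∨ M y = 2 ∨ M y = 4 := by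
    intro y
    have hd : M y ∣ 4 := by
      apply Function.IsPeriodicPt.minimalPeriod_dvd
      rw [hper]
      have h4 : U ^ 4 = 1 := F.u_pow_four hz
      rw [h4, one_smul]
    have hle : M y ≤ 4 := Nat.le_of_dvd (by norm_num) hd
    interval_cases h : M y
    · exact absurd (Nat.eq_zero_of_zero_dvd hd) (by norm_num)
    · left; rfl
    · right; left; rfl
    · exact absurd hd (by decide)
    · right; right; rfl
  have hmk : ∀ q : T, ∃ g : G, q = mk g := by
    intro q
    refine ⟨q.out.out, ?_⟩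
    show q = mk ((q.out.out : G) : G ⧸ S)
    rw [QuotientGroup.out_eq']
    exact (Quotient.out_eq q).symm
  have hchi : ∀ x y (hx : x ∈ S) (hy : y ∈ S), x = y → χ ⟨x, hx⟩ = χ ⟨y, hy⟩ := by
    rintro x y hx hy rfl; rfl
  have hconj : ∀ g : G, g⁻¹ * z * g ∈ D := by
    intro g
    have := F.conj_mem z hz g⁻¹
    rwa [inv_inv] at this
  -- (i) squares
  have hsq : ∀ q : T, f q ^ 2 = 1 := by
    intro q
    obtain ⟨g, rfl⟩ := hmk q
    obtain ⟨h, hfg⟩ := hval g
    rw [hfg, ← map_pow]
    have hzz : z ^ 2 = 1 := by rw [pow_two]; exact lz.z_sq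
    rcases hM4 (g : G ⧸ S) with hm | hm | hm
    · -- `g⁻¹ U g ∈ S`
      have h1 : g⁻¹ * U * g ∈ S := by
        have := h
        rw [hm, pow_one] at this
        exact this
      have h2 : (g * z * g⁻¹) ∈ D := F.conj_mem z hz g
      have h3 : (g * z * g⁻¹) * U = U * (g * z * g⁻¹) := by
        have := hSz _ h1
        calc (g * z * g⁻¹) * U = g * (z * (g⁻¹ * U * g)) * g⁻¹ := by group
          _ = g * ((g⁻¹ * U * g) * z) * g⁻¹ := by rw [this]
          _ = U * (g * z * g⁻¹) := by group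
      have h4 := F.mem_symm hz h2 (hY _ h2 h3)
      rw [F.mem_conjQ hz] at h4
      have e : (g⁻¹ * U ^ M (g : G ⧸ S) * g) ^ 2 = g⁻¹ * z * g := by
        rw [hm, pow_one, pow_two]
        calc g⁻¹ * U * g * (g⁻¹ * U * g) = g⁻¹ * (U * U) * g := by group
          _ = _ := by rw [lz.u_sq]
      have h5 := hχ _ (hconj g) h4
      rw [← h5]
      exact hchi _ _ _ _ e
    · have e : (g⁻¹ * U ^ M (g : G ⧸ S) * g) ^ 2 = 1 := by
        rw [hm, pow_two U, lz.u_sq, pow_two]
        calc g⁻¹ * z * g * (g⁻¹ * z * g) = g⁻¹ * (z * z) * g := by group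
          _ = 1 := by rw [lz.z_sq]; group
      have h5 : (⟨g⁻¹ * U ^ M (g : G ⧸ S) * g, h⟩ : S) ^ 2 = 1 := Subtype.ext e
      rw [h5, map_one]
    · have e : g⁻¹ * U ^ M (g : G ⧸ S) * g = 1 := by
        rw [hm]
        have h4 : U ^ 4 = 1 := F.u_pow_four hz
        rw [h4]; group
      have h5 : (⟨g⁻¹ * U ^ M (g : G ⧸ S) * g, h⟩ : S) = 1 := Subtype.ext e
      rw [h5, one_pow, map_one]
  -- the action of `Q z` on `T`
  have hQU : ∀ x : Q z, (x : G) * U = U * x := fun x => lz.comm_u x x.2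
  have hsm : ∀ (x : Q z) (y y' : G ⧸ S), (orbitRel (Subgroup.zpowers U) (G ⧸ S)) y y' →
      (orbitRel (Subgroup.zpowers U) (G ⧸ S)) ((x : G) • y) ((x : G) • y') := by
    intro x y y' h
    rw [orbitRel_apply, mem_orbit_iff] at h ⊢
    obtain ⟨s, hs⟩ := h
    refine ⟨s, ?_⟩
    rw [← hs]
    obtain ⟨n, hn⟩ := s.2
    have hn' : U ^ n = (s : G) := hn
    show (s : G) • (x : G) • y' = (x : G) • (s : G) • y'
    rw [← mul_smul, ← mul_smul, ← hn', ((show Commute (x : G) U from hQU x).zpow_right n).eq]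
  let act : MulAction (Q z) T :=
    { smul := fun x => Quotient.map' (fun y => (x : G) • y) (fun y y' h => hsm x y y' h)
      one_smul := by
        intro q
        induction q using Quotient.inductionOn' with
        | h y =>
          show Quotient.mk'' (((1 : Q z) : G) • y) = Quotient.mk'' y
          rw [Subgroup.coe_one, one_smul]
      mul_smul := by
        intro x x' q
        induction q using Quotient.inductionOn' with
        | h y =>
          show Quotient.mk'' (((x * x' : Q z) : G) • y) = Quotient.mk'' ((x : G) • (x' : G) • y)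
          rw [Subgroup.coe_mul, mul_smul] }
  have hsmul : ∀ (x : Q z) (y : G ⧸ S), x • mk y = mk ((x : G) • y) := fun x y => rfl
  have hinv : ∀ (x : Q z) (q : T), f (x • q) = f q := by
    intro x q
    obtain ⟨g, rfl⟩ := hmk q
    have e1 : x • mk (g : G ⧸ S) = mk (((x : G) * g : G) : G ⧸ S) := hsmul x g
    rw [e1]
    obtain ⟨h, hfg⟩ := hval g
    obtain ⟨h', hfg'⟩ := hval ((x : G) * g)
    rw [hfg, hfg']
    apply hchi
    have e2 : M (((x : G) * g : G) : G ⧸ S) = M (g : G ⧸ S) := hM x (hQU x) (g : G ⧸ S)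
    have e3 : (x : G)⁻¹ * U ^ M (g : G ⧸ S) * x = U ^ M (g : G ⧸ S) := by
      have : (x : G) * U ^ M (g : G ⧸ S) = U ^ M (g : G ⧸ S) * x :=
        ((show Commute (x : G) U from hQU x).pow_right _).eq
      rw [mul_assoc, ← this]; group
    rw [e2]
    calc ((x : G) * g)⁻¹ * U ^ M (g : G ⧸ S) * (x * g) = g⁻¹ * ((x : G)⁻¹ * U ^ M (g : G ⧸ S) * x) * g := by group
      _ = _ := by rw [e3]
  -- (ii) the fixed points of `Q z`
  have hfixed : ∀ g : G, mk g ∈ MulAction.fixedPoints (Q z) T → g * z * g⁻¹ = z := by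
    intro g hg
    set a := g * z * g⁻¹ with ha
    have haD : a ∈ D := F.conj_mem z hz g
    have h1 : ∀ x ∈ Q z, ∃ n : ℤ, (U ^ n * x) * a = a * (U ^ n * x) := by
      intro x hx
      have h2 : mk (((x * g : G) : G) : G ⧸ S) = mk g := hg ⟨x, hx⟩
      have h3 : (orbitRel (Subgroup.zpowers U) (G ⧸ S)) (g : G ⧸ S) ((x * g : G) : G ⧸ S) :=
        (Quotient.exact h2.symm)
      rw [orbitRel_apply, mem_orbit_iff] at h3
      obtain ⟨s, hs⟩ := h3
      obtain ⟨n, hn⟩ := s.2
      have hn' : U ^ n = (s : G) := hn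
      have h4 : ((U ^ n * (x * g) : G) : G ⧸ S) = (g : G ⧸ S) := by
        rw [hn']; exact hs
      rw [eq_comm, QuotientGroup.eq] at h4
      refine ⟨n, ?_⟩
      have h5 := hSz _ h4
      rw [ha]
      calc U ^ n * x * (g * z * g⁻¹) = g * ((g⁻¹ * (U ^ n * (x * g))) * z) * g⁻¹ := by group
        _ = g * (z * (g⁻¹ * (U ^ n * (x * g)))) * g⁻¹ := by rw [h5]
        _ = g * z * g⁻¹ * (U ^ n * x) := by group
    by_contra hne
    have hUn : ∀ n : ℤ, U ^ n ∈ Q z := fun n => Subgroup.zpow_mem _ lz.u_mem n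
    by_cases hc : a * U = U * a
    · have h2 : ∀ x ∈ Q z, a * x = x * a := by
        intro x hx
        obtain ⟨n, h3⟩ := h1 x hx
        have h4 : U ^ n * a = a * U ^ n := ((show Commute a U from hc).zpow_right n).eq.symm
        rw [mul_assoc, ← mul_assoc a, ← h4, mul_assoc (U ^ n) a x] at h3
        exact (mul_left_cancel h3).symm
      have la := F.loc a haD
      rcases lz.cent a (hY a haD hc) h2 with h3 | h3 | h3 | h3
      · exact la.z_ne h3
      · exact hne h3
      · have h4 := la.z_sq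
        rw [h3, lz.u_sq] at h4
        exact lz.z_ne h4
      · have h4 := la.z_sq
        rw [h3] at h4
        apply lz.z_ne
        calc z = (U * U) * (z * z) := by rw [lz.u_sq, lz.z_sq, mul_one]
          _ = U * (U * z) * z := by group
          _ = U * (z * U) * z := by rw [lz.uz]
          _ = U * z * (U * z) := by group
          _ = 1 := h4
    · have h2 : ∀ c ∈ Q z, ∀ c' ∈ Q z, c * a = a * c → c' * a = a * c' → c * c' = c' * c := by
        intro c hcQ c' hcQ' hca hca'
        by_cases haz : a * z = z * a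
        · rcases F.typeA_or_typeB haD hz hne haz with h3 | ⟨-, h3⟩
          · exact absurd (F.comm_u_left haD h3) hc
          · exact F.comm_of_typeB haD hz h3 hcQ hca hcQ' hca'
        · rcases lz.comm c hcQ c' hcQ' with h3 | h3
          · exact h3
          · exfalso
            apply haz
            have h4 : z = (c' * c)⁻¹ * (c * c') := by rw [h3]; group
            have h5 : Commute a c := (show Commute c a from hca).symm
            have h6 : Commute a c' := (show Commute c' a from hca').symm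
            have h7 : Commute a ((c' * c)⁻¹ * (c * c')) := ((h6.mul_right h5).inv_right).mul_right (h5.mul_right h6)
            rw [← h4] at h7
            exact h7.eq
      obtain ⟨x, hx, y, hy, hxy⟩ := lz.nonab
      apply hxy
      obtain ⟨n, hn⟩ := h1 x hx
      obtain ⟨m, hm⟩ := h1 y hy
      have h3 := h2 _ (Subgroup.mul_mem _ (hUn n) hx) _ (Subgroup.mul_mem _ (hUn m) hy) hn hm
      have hxm : U ^ m * x = x * U ^ m := ((lz.commu hx).zpow_right m).eq.symm
      have hyn : U ^ n * y = y * U ^ n := ((lz.commu hy).zpow_right n).eq.symm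
      have h4 : U ^ n * x * (U ^ m * y) = U ^ n * U ^ m * (x * y) := by
        calc U ^ n * x * (U ^ m * y) = U ^ n * (x * U ^ m) * y := by group
          _ = U ^ n * U ^ m * (x * y) := by rw [← hxm]; group
      have h5 : U ^ m * y * (U ^ n * x) = U ^ n * U ^ m * (y * x) := by
        calc U ^ m * y * (U ^ n * x) = U ^ m * (y * U ^ n) * x := by group
          _ = U ^ m * U ^ n * (y * x) := by rw [← hyn]; group
          _ = U ^ n * U ^ m * (y * x) := by rw [← zpow_add, ← zpow_add, add_comm]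
      rw [h4, h5] at h3
      exact mul_left_cancel h3
  have hχz : χ ⟨z, hQS lz.z_mem⟩ = 1 := hχ z hz lz.z_mem
  have hfixval : ∀ g : G, g * z * g⁻¹ = z → M (g : G ⧸ S) = 1 ∧ f (mk g) = χ ⟨U, hUS⟩ := by
    intro g hg
    have hg' : g⁻¹ * z = z * g⁻¹ := by
      calc g⁻¹ * z = g⁻¹ * (g * z * g⁻¹) := by rw [hg]
        _ = z * g⁻¹ := by group
    have h1 := lz.conj_u hg'
    rw [inv_inv] at h1
    have h2 : g⁻¹ * U * g ∈ S := by
      rcases h1 with h1 | h1 <;> rw [h1]
      · exact hUS
      · exact hQS (Subgroup.mul_mem _ lz.u_mem lz.z_mem)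
    have h3 : M (g : G ⧸ S) = 1 := by
      have h4 : Function.minimalPeriod (U • ·) (g : G ⧸ S) ∣ 1 := by
        apply Function.IsPeriodicPt.minimalPeriod_dvd
        rw [hper, pow_one]
        show ((U * g : G) : G ⧸ S) = (g : G ⧸ S)
        rw [eq_comm, QuotientGroup.eq, ← mul_assoc]
        exact h2
      exact Nat.dvd_one.1 h4
    refine ⟨h3, ?_⟩
    obtain ⟨h4, h5⟩ := hval g
    rw [h5]
    have h6 : χ ⟨_, h4⟩ = χ ⟨_, h2⟩ := hchi _ _ _ _ (by rw [h3, pow_one])
    rw [h6]
    rcases h1 with h1 | h1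
    · exact hchi _ _ _ _ h1
    · have h7 : χ ⟨_, h2⟩ = χ (⟨U, hUS⟩ * ⟨z, hQS lz.z_mem⟩) := hchi _ _ _ _ h1
      rw [h7, map_mul, hχz, mul_one]
  -- the product
  have hp := prod_eq_prod_fixed (P := Q z) (T := T) lz.isPGroup f hinv hsq
  have hfT : ∀ q ∈ Finset.univ.filter (· ∈ MulAction.fixedPoints (Q z) T), f q = χ ⟨U, hUS⟩ := by
    intro q hq
    rw [Finset.mem_filter] at hq
    obtain ⟨g, rfl⟩ := hmk q
    exact (hfixval g (hfixed g hq.2)).2
  rw [Finset.prod_congr rfl hfT, Finset.prod_const] at hp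
  have hp' : ∏ q : T, f q = 1 := by convert htr
  rw [hp'] at hp
  -- the number of fixed points
  have hcount : Odd (Finset.univ.filter (· ∈ MulAction.fixedPoints (Q z) T)).card := by
    have h1 := prod_eq_prod_fixed (P := Q z) (T := T) lz.isPGroup
      (fun q => Multiplicative.ofAdd ((Function.minimalPeriod (U • ·) q.out : ℕ) : ZMod 2)) (by
        intro x q
        obtain ⟨g, rfl⟩ := hmk q
        show Multiplicative.ofAdd ((Function.minimalPeriod (U • ·) (mk ((x : G) • (g : G ⧸ S))).out : ℕ) : ZMod 2) =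
          Multiplicative.ofAdd ((Function.minimalPeriod (U • ·) (mk (g : G ⧸ S)).out : ℕ) : ZMod 2)
        rw [hmM, hmM, hM x (hQU x)]) (by
        intro q
        rw [← ofAdd_nsmul, two_nsmul]
        have : ∀ a : ZMod 2, a + a = 0 := zmod_two_add_self
        rw [this]; rfl)
    have h2 : ∀ q ∈ Finset.univ.filter (· ∈ MulAction.fixedPoints (Q z) T),
        Multiplicative.ofAdd ((Function.minimalPeriod (U • ·) q.out : ℕ) : ZMod 2) =
          Multiplicative.ofAdd (1 : ZMod 2) := by
      intro q hq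
      rw [Finset.mem_filter] at hq
      obtain ⟨g, rfl⟩ := hmk q
      rw [hmM, (hfixval g (hfixed g hq.2)).1]
      rfl
    rw [Finset.prod_congr rfl h2, Finset.prod_const] at h1
    have h3 : ∏ q : T, Multiplicative.ofAdd ((Function.minimalPeriod (U • ·) q.out : ℕ) : ZMod 2) =
        Multiplicative.ofAdd ((S.index : ℕ) : ZMod 2) := by
      rw [S.index_eq_sum_minimalPeriod U, Nat.cast_sum, ofAdd_sum]
    rw [h3, ← ofAdd_nsmul] at h1
    have h4 : ((S.index : ℕ) : ZMod 2) = (Finset.univ.filter (· ∈ MulAction.fixedPoints (Q z) T)).card • (1 : ZMod 2) :=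
      Multiplicative.ofAdd.injective h1
    rw [nsmul_one] at h4
    rw [Nat.odd_iff]
    have h5 := (ZMod.natCast_eq_natCast_iff _ _ _).1 h4
    rw [Nat.ModEq, (Nat.odd_iff.1 hodd)] at h5
    exact h5.symm
  obtain ⟨k, hk⟩ := hcount
  have hU2 : χ ⟨U, hUS⟩ ^ 2 = 1 := by
    rw [← map_pow, ← hχz]
    exact hchi _ _ _ _ (by rw [pow_two]; exact lz.u_sq)
  rw [hk, pow_add, pow_mul, hU2, one_pow, one_mul, pow_one] at hp
  exact hp.symm

end Cfsg.Agent.ClassificationK.SymplSetup
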