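import Mathlib

/-!
# Two facts about unipotent isometries of order 4 over `𝔽₂` (S1758, helper687)

`V` a vector space over `ZMod 2` with a non-degenerate alternating form `b`, `η` an isometry.
* `sq_eq_of_rank_le_one`: `η²` is never a transvection;
* `sq_eq_of_atype`: if `η⁴ = 1`, `η - 1` takes at most one non-zero value on `ker (η - 1)²` and `b v (η² v) = 0` for all
  `v`, then `η² = 1`.
-/

set_option autoImplicit false

namespace Cfsg.Agent.ClassificationK.SymplXLin

variable {V : Type*} [AddCommGroup V] [Module (ZMod 2) V]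

theorem add_self (v : V) : v + v = 0 := by
  have h : (2 : ZMod 2) • v = 0 := by
    rw [show (2 : ZMod 2) = 0 from rfl, zero_smul]
  rwa [two_smul] at h

theorem z2 (t : ZMod 2) : t + t = 0 := CharTwo.add_self_eq_zero t

theorem sq_eq_of_rank_le_one (b : LinearMap.BilinForm (ZMod 2) V) (hself : ∀ v, b v v = 0)
    (hsymm : ∀ v w, b v w = b w v) (hnd : ∀ v, (∀ w, b v w = 0) → v = 0)
    (η : V ≃ₗ[ZMod 2] V) (hη : ∀ v w, b (η v) (η w) = b v w) (r : V)
    (h : ∀ v, η (η v) = v ∨ η (η v) = v + r) : ∀ v, η (η v) = v := by
  by_contra hcon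
  push Not at hcon
  obtain ⟨v0, hv0⟩ := hcon
  have hv0' : η (η v0) = v0 + r := (h v0).resolve_left hv0
  have hr : r ≠ 0 := by
    rintro rfl
    exact hv0 (by rw [hv0', add_zero])
  have hηr : η r = r := by
    have e : η (η (η v0)) = η v0 + η r := by rw [hv0', map_add]
    rcases h (η v0) with h1 | h1
    · exfalso
      rw [e] at h1
      have : η r = 0 := by
        have := add_left_cancel (a := η v0) (b := η r) (c := 0) (by rw [h1, add_zero])
        exact this
      exact hr (by rwa [LinearEquiv.map_eq_zero_iff] at this)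
    · rw [e] at h1
      exact add_left_cancel h1
  have key : ∀ v, η (η v) = v + r → b v r = 0 := by
    intro v hv
    have e1 : b (η v + v) (η (η v) + η v) = b v r := by
      have h1 : b (η v) (η (η v)) = b v (η v) := hη _ _
      have h2 : b v (η (η v)) = b v r := by rw [hv, map_add, hself, zero_add]
      have h3 : b (η v + v) (η (η v) + η v) =
          b (η v) (η (η v)) + b (η v) (η v) + (b v (η (η v)) + b v (η v)) := by
        simp only [map_add, LinearMap.add_apply]; ring
      rw [h3, h1, h2, hself]
      have := z2 (b v (η v))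
      linear_combination this
    have e2 : b (η v + v) (η (η v) + η v) = 0 := by
      have h1 : η (η v) + η v = (η v + v) + r := by rw [hv]; abel
      have h2 : b (η v) r = b v r := by
        conv_lhs => rw [← hηr]
        exact hη _ _
      have h3 : b (η v + v) ((η v + v) + r) = b (η v + v) (η v + v) + (b (η v) r + b v r) := by
        rw [map_add (b (η v + v)), map_add b, LinearMap.add_apply (b (η v)) (b v) r]
      rw [h1, h3, hself, h2, zero_add]
      exact z2 _
    rw [← e1, e2]
  apply hr
  apply hnd
  intro w
  rw [hsymm]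
  rcases h w with h1 | h1
  · have h2 : η (η (w + v0)) = (w + v0) + r := by
      rw [map_add, map_add, h1, hv0']; abel
    have h3 := key _ h2
    have h4 := key _ hv0'
    rw [map_add, LinearMap.add_apply, h4, add_zero] at h3
    exact h3
  · exact key _ h1

theorem sq_eq_of_atype (b : LinearMap.BilinForm (ZMod 2) V) (hself : ∀ v, b v v = 0)
    (hsymm : ∀ v w, b v w = b w v) (hnd : ∀ v, (∀ w, b v w = 0) → v = 0)
    (η : V ≃ₗ[ZMod 2] V) (hη : ∀ v w, b (η v) (η w) = b v w)
    (h4 : ∀ v, η (η (η (η v))) = v)
    (hP : ∀ v w, η (η v) = v → η (η w) = w → η v ≠ v → η w ≠ w → η v + v = η w + w)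
    (ha : ∀ v, b v (η (η v)) = 0) : ∀ v, η (η v) = v := by
  have ne_iff : ∀ x y : V, x + y = 0 ↔ x = y := by
    intro x y
    constructor
    · intro h
      have := congrArg (· + y) h
      simpa [add_assoc, add_self] using this
    · rintro rfl; exact add_self _
  -- Step A
  have hA : ∀ v, η (η (η v) + v) = η (η v) + v := by
    by_contra hcon
    push Not at hcon
    obtain ⟨v1, hv1⟩ := hcon
    obtain ⟨w1, hw1⟩ : ∃ w1, w1 = η (η v1) + v1 := ⟨_, rfl⟩
    rw [← hw1] at hv1
    obtain ⟨r, hr⟩ : ∃ r, r = η w1 + w1 := ⟨_, rfl⟩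
    have hr0 : r ≠ 0 := by
      rw [hr, Ne, ne_iff]; exact hv1
    have hww : ∀ v, η (η (η (η v) + v)) = η (η v) + v := by
      intro v
      rw [map_add, map_add, h4]; abel
    have hηr : η r = r := by
      rw [hr, map_add, hw1, hww]; abel
    have key : ∀ v, η (η (η v) + v) ≠ η (η v) + v → b v r = 0 := by
      intro v hv
      have h1 : η (η (η v) + v) + (η (η v) + v) = r := by
        rw [hr]
        exact hP _ _ (hww v) (by rw [hw1]; exact hww v1) hv hv1
      have h2 : b (η v + v) (η (η v) + v) = 0 := by
        have e : b (η v + v) (η (η v) + v) =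
            b (η v) (η (η v)) + b (η v) v + (b v (η (η v)) + b v v) := by
          simp only [map_add, LinearMap.add_apply]; ring
        rw [e, hη, ha, hself, hsymm (η v) v]
        have := z2 (b v (η v))
        linear_combination this
      have h3 : b (η v + v) (η (η v) + v) = b v r := by
        have e : b (η v + v) (η (η v) + v) = b (η v) (η (η v) + v) + b v (η (η v) + v) := by
          simp only [map_add, LinearMap.add_apply]; ring
        rw [e, ← hη v (η (η v) + v), ← map_add (b (η v)), add_comm, h1]
        conv_lhs => rw [← hηr]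
        exact hη _ _
      rw [← h3, h2]
    apply hr0
    apply hnd
    intro w
    rw [hsymm]
    by_cases hw : η (η (η w) + w) = η (η w) + w
    · have h5 : η (η (η (w + v1)) + (w + v1)) ≠ η (η (w + v1)) + (w + v1) := by
        intro h6
        apply hv1
        have e1 : η (η (w + v1)) + (w + v1) = (η (η w) + w) + w1 := by
          rw [map_add, map_add, hw1]; abel
        rw [e1, map_add, hw] at h6
        exact add_left_cancel h6
      have h7 := key _ h5
      have h8 : b v1 r = 0 := key v1 (by rw [← hw1]; exact hv1)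
      rw [map_add, LinearMap.add_apply, h8, add_zero] at h7
      exact h7
    · exact key _ hw
  -- Step B
  by_contra hcon
  push Not at hcon
  obtain ⟨v2, hv2⟩ := hcon
  have hyy : ∀ v, η (η (η v + v)) = η v + v := by
    intro v
    have h1 := hA v
    rw [map_add] at h1
    rw [map_add, map_add]
    -- η η η v + η η v = η v + v
    have h2 : η (η (η v)) + η v + (η (η v) + v) = 0 := by rw [h1]; exact add_self _
    rw [← ne_iff]
    rw [← h2]; abel
  have hyN : ∀ v, η (η v + v) + (η v + v) = η (η v) + v := by
    intro v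
    rw [map_add]
    have := add_self (η v)
    calc η (η v) + η v + (η v + v) = η (η v) + (η v + η v) + v := by abel
      _ = η (η v) + v := by rw [this, add_zero]
  obtain ⟨r, hr⟩ : ∃ r, r = η (η v2) + v2 := ⟨_, rfl⟩
  have hr0 : r ≠ 0 := by
    rw [hr, Ne, ne_iff]; exact hv2
  have hne : ∀ v, η (η v) ≠ v → η (η v + v) ≠ η v + v := by
    intro v hv h1
    apply hv
    rw [← ne_iff, ← hyN, h1]
    exact add_self _
  have key : ∀ v, η (η v) ≠ v → b v r = 0 := by
    intro v hv
    have h1 := hP _ _ (hyy v) (hyy v2) (hne v hv) (hne v2 hv2)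
    rw [hyN, hyN, ← hr] at h1
    rw [← h1, map_add, ha, hself, add_zero]
  apply hr0
  apply hnd
  intro w
  rw [hsymm]
  by_cases hw : η (η w) = w
  · have h5 : η (η (w + v2)) ≠ w + v2 := by
      intro h6
      rw [map_add, map_add, hw] at h6
      exact hv2 (add_left_cancel h6)
    have h7 := key _ h5
    rw [map_add, LinearMap.add_apply, key v2 hv2, add_zero] at h7
    exact h7
  · exact key _ hw

end Cfsg.Agent.ClassificationK.SymplXLin
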