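import Cfsg.Agent.ClassificationK.SymplClosure
import Cfsg.Agent.ClassificationK.SymplXLin

/-!
# Commuting pairs of type A in the class `D` (S1758, helper687)

`F : Fam D Q u`, `a, b ∈ D` distinct, commuting, `u a` and `u b` commute (type A).
* `exists_mem_of_typeA`: if `b ∉ Q a`, then `D ∩ Q a ≠ {a}`;
* `mem_of_typeA`: if `a, b ∈ D ∩ Q z` (`z ∈ D`), then `b ∈ Q a`.
-/

set_option autoImplicit false

namespace Cfsg.Agent.ClassificationK.SymplX

open Cfsg.Agent.ClassificationK.SymplSetup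

variable {G : Type*} [Group G] {D : Set G} {Q : G → Subgroup G} {u : G → G}

theorem inv_comm {g a : G} (h : g * a = a * g) : g⁻¹ * a = a * g⁻¹ :=
  (show Commute g a from h).inv_left.eq

theorem conj_mem' (F : Fam D Q u) {a g x : G} (ha : a ∈ D) (hg : g * a = a * g) (hx : x ∈ Q a) :
    g⁻¹ * x * g ∈ Q a := by
  have := (F.loc a ha).conj_mem g⁻¹ (inv_comm hg) x hx
  rwa [inv_inv] at this

/-- `u b` commutes with `a` in type A. -/
theorem ub_comm (F : Fam D Q u) {a b : G} (ha : a ∈ D) (hA : u a * u b = u b * u a) :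
    u b * a = a * u b := F.comm_of_comm_u ha hA.symm

/-- In type A with `b ∉ Q a`, an element of `Q a` commuting with `b` commutes with `u b`. -/
theorem comm_ub (F : Fam D Q u) {a b : G} (ha : a ∈ D) (hb : b ∈ D) (hA : u a * u b = u b * u a)
    (hbQ : b ∉ Q a) {x : G} (hx : x ∈ Q a) (hxb : x * b = b * x) : x * u b = u b * x := by
  rcases F.conj_u hb hxb with h | h
  · exact h
  · exfalso
    apply hbQ
    have h1 : (u b)⁻¹ * x * u b ∈ Q a := conj_mem' F ha (ub_comm F ha hA) hx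
    have h2 : (u b)⁻¹ * x * u b * x⁻¹ = b := by
      calc (u b)⁻¹ * x * u b * x⁻¹ = (u b)⁻¹ * (x * u b * x⁻¹) := by group
        _ = b := by rw [h]; group
    rw [← h2]
    exact mul_mem h1 (inv_mem hx)

/-- If `b` (an involution commuting with `u a`) fixes the image of `x ∈ Q a`, it centralises `x` up to `a`. -/
theorem fix_or (F : Fam D Q u) {a b : G} (ha : a ∈ D) (hb : b * b = 1) (hbu : b * u a = u a * b)
    {x y : Q a} (hy : (y : G) = b * x * b⁻¹) (hxy : (F.loc a ha).pr y = (F.loc a ha).pr x) :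
    b * (x : G) * b⁻¹ = x ∨ b * (x : G) * b⁻¹ = x * a := by
  have h := F.loc a ha
  have hba : b * a = a * b := F.comm_of_comm_u ha hbu
  have hbi : b⁻¹ = b := inv_eq_of_mul_eq_one_left hb
  have h2 : b * (b * (x : G) * b⁻¹) * b⁻¹ = x := by
    calc b * (b * (x : G) * b⁻¹) * b⁻¹ = (b * b) * x * (b * b)⁻¹ := by group
      _ = x := by rw [hb]; group
  rcases h.pr_eq_pr.1 hxy with h1 | h1 | h1 | h1
  · left; rw [← hy, h1]
  · right; rw [← hy, h1]
  · exfalso
    rw [hy] at h1
    rw [h1] at h2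
    apply h.z_ne
    have h3 : b * ((x : G) * u a) * b⁻¹ = (b * x * b⁻¹) * (b * u a * b⁻¹) := by group
    have h4 : b * u a * b⁻¹ = u a := by rw [hbu]; group
    rw [h3, h1, h4, mul_assoc, h.u_sq] at h2
    exact mul_eq_left.1 h2
  · exfalso
    rw [hy] at h1
    rw [h1] at h2
    apply h.z_ne
    have h3 : b * ((x : G) * (u a * a)) * b⁻¹ = (b * x * b⁻¹) * ((b * u a * b⁻¹) * (b * a * b⁻¹)) := by group
    have h4 : b * u a * b⁻¹ = u a := by rw [hbu]; group
    have h5 : b * a * b⁻¹ = a := by rw [hba]; group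
    rw [h3, h1, h4, h5] at h2
    have h6 : (x : G) * (u a * a) * (u a * a) = x * a := by
      calc (x : G) * (u a * a) * (u a * a) = x * (u a * (a * u a) * a) := by group
        _ = x * (u a * (u a * a) * a) := by rw [h.uz]
        _ = x * ((u a * u a) * (a * a)) := by group
        _ = x * a := by rw [h.u_sq, h.z_sq, mul_one]
    rw [h6] at h2
    exact mul_eq_left.1 h2

/-- the abstract braid computation -/
theorem braid {L : Type*} [Group L] {X q B Γ : L} (hX : X * X = 1) (hq : q * q = 1) (hΓ : Γ * Γ = 1)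
    (hXB : X * B * X = Γ * B) (hqB : q * B * q = B) (hXΓ : X * Γ * X = Γ)
    (h3B : (X * q) ^ 3 * B = B * (X * q) ^ 3) (h3Γ : (X * q) ^ 3 * Γ = Γ * (X * q) ^ 3) :
    X * ((q * Γ * q * Γ) * B) * X = (q * Γ * q * Γ) * B := by
  have hXi : X⁻¹ = X := inv_eq_of_mul_eq_one_left hX
  have hqi : q⁻¹ = q := inv_eq_of_mul_eq_one_left hq
  obtain ⟨c, hcdef⟩ : ∃ c : L →* L, c = (MulAut.conj (X * q)).toMonoidHom := ⟨_, rfl⟩
  have hc : ∀ t, c t = X * (q * t * q) * X := by
    intro t
    rw [hcdef]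
    show (X * q) * t * (X * q)⁻¹ = _
    rw [mul_inv_rev, hXi, hqi]; group
  have cB : c B = Γ * B := by rw [hc, hqB, hXB]
  have c3 : ∀ t, (X * q) ^ 3 * t = t * (X * q) ^ 3 → c (c (c t)) = t := by
    intro t ht
    rw [hcdef]
    show (X * q) * ((X * q) * ((X * q) * t * (X * q)⁻¹) * (X * q)⁻¹) * (X * q)⁻¹ = t
    calc (X * q) * ((X * q) * ((X * q) * t * (X * q)⁻¹) * (X * q)⁻¹) * (X * q)⁻¹
        = (X * q) ^ 3 * t * ((X * q) ^ 3)⁻¹ := by
          rw [pow_succ, pow_two]
          simp only [mul_inv_rev, mul_assoc]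
      _ = t := by rw [ht, mul_assoc, mul_inv_cancel, mul_one]
  have h3B' := c3 B h3B
  have h3Γ' := c3 Γ h3Γ
  rw [cB, map_mul, cB, map_mul, map_mul, cB] at h3B'
  have cinj : ∀ s t, c s = c t → s = t := by
    intro s t hst
    rw [hcdef] at hst
    exact (MulAut.conj (X * q)).injective hst
  -- `c² Γ = q Γ q`
  have hK : c (c Γ) = q * Γ * q := by
    apply cinj
    rw [h3Γ', hc]
    calc Γ = X * Γ * X := hXΓ.symm
      _ = X * ((q * q) * Γ * (q * q)) * X := by rw [hq, one_mul, mul_one]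
      _ = X * (q * (q * Γ * q) * q) * X := by group
  rw [hK] at h3B'
  have h4 : (q * Γ * q) * c Γ * Γ = 1 := by
    have : (q * Γ * q) * c Γ * Γ * B = 1 * B := by
      rw [one_mul]
      calc (q * Γ * q) * c Γ * Γ * B = q * Γ * q * (c Γ * (Γ * B)) := by group
        _ = B := by rw [← mul_assoc] at h3B'; rw [← mul_assoc]; exact h3B'
    exact mul_right_cancel this
  have hKK : (q * Γ * q) * (q * Γ * q) = 1 := by
    calc (q * Γ * q) * (q * Γ * q) = q * Γ * (q * q) * Γ * q := by group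
      _ = q * (Γ * Γ) * q := by rw [hq]; group
      _ = 1 := by rw [hΓ, mul_one, hq]
  have h5 : X * (q * Γ * q) * X = q * Γ * q * Γ := by
    rw [← hc]
    have h6 : (q * Γ * q) * ((q * Γ * q) * c Γ * Γ) * Γ = q * Γ * q * Γ := by
      rw [h4, mul_one]
    calc c Γ = ((q * Γ * q) * (q * Γ * q)) * c Γ * (Γ * Γ) := by
          rw [hKK, hΓ, one_mul, mul_one]
      _ = (q * Γ * q) * ((q * Γ * q) * c Γ * Γ) * Γ := by
          simp only [mul_assoc]
      _ = q * Γ * q * Γ := h6
  calc X * ((q * Γ * q * Γ) * B) * X = (X * (q * Γ * q) * (X * X) * Γ * (X * X) * B * X) := by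
        rw [hX, mul_one, mul_one]; simp only [mul_assoc]
    _ = (X * (q * Γ * q) * X) * (X * Γ * X) * (X * B * X) := by simp only [mul_assoc]
    _ = (q * Γ * q * Γ) * Γ * (Γ * B) := by rw [h5, hXΓ, hXB]
    _ = (q * Γ * q) * (Γ * Γ) * (Γ * B) := by simp only [mul_assoc]
    _ = (q * Γ * q * Γ) * B := by rw [hΓ]; simp only [mul_assoc, one_mul]

/-! ### `D ∩ Q a ≠ {a}` -/

/-- If `D ∩ Q a = {a}` and `x ∈ Q a`, `(b x b⁻¹ x⁻¹)² = 1`, then `b` fixes the image of `x`. -/
theorem act_fix [Finite G] (F : Fam D Q u) {a b : G} (ha : a ∈ D) (hb : b ∈ D) (hba : b * a = a * b)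
    (hcon : ∀ c ∈ D, c ∈ Q a → c = a) (x y : Q a) (hy : (y : G) = b * x * b⁻¹)
    (hsq : (b * x * b⁻¹ * (x : G)⁻¹) * (b * x * b⁻¹ * (x : G)⁻¹) = 1) :
    (F.loc a ha).pr y = (F.loc a ha).pr x := by
  have h := F.loc a ha
  have lb := F.loc b hb
  have hbi : b⁻¹ = b := lb.z_inv
  have hb' : (x : G) * b * (x : G)⁻¹ ∈ D := F.conj_mem b hb x
  have hxa : b * a * b⁻¹ = a := by rw [hba]; group
  have e1 : b * ((x : G) * b * (x : G)⁻¹) = b * x * b⁻¹ * (x : G)⁻¹ := by rw [hbi]; group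
  have hQ : b * x * b⁻¹ * (x : G)⁻¹ ∈ Q a := mul_mem (h.conj_mem b hba x x.2) (inv_mem x.2)
  have e2 : (b * x * b⁻¹ * (x : G)⁻¹) * (x : G) = y := by rw [hy]; group
  by_cases hne : b = (x : G) * b * (x : G)⁻¹
  · have h1 : b * x * b⁻¹ * (x : G)⁻¹ = 1 := by rw [← e1, ← hne]; exact lb.z_sq
    rw [h1, one_mul] at e2
    congr 1
    exact Subtype.ext e2.symm
  · have hcomm : b * ((x : G) * b * (x : G)⁻¹) = ((x : G) * b * (x : G)⁻¹) * b := by
      have l' := F.loc _ hb'
      rw [← e1] at hsq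
      calc b * ((x : G) * b * (x : G)⁻¹) = (b * ((x : G) * b * (x : G)⁻¹))⁻¹ := by
            rw [eq_inv_iff_mul_eq_one]; exact hsq
        _ = ((x : G) * b * (x : G)⁻¹) * b := by rw [mul_inv_rev, lb.z_inv, l'.z_inv]
    have hD := F.mul_mem hb hb' hne hcomm
    rw [e1] at hD
    have h1 := hcon _ hD hQ
    rw [h1] at e2
    rw [h.pr_eq_pr]
    right; left
    rw [← e2]
    exact (h.comm_z x x.2).symm

theorem exists_mem_of_typeA [Finite G] (F : Fam D Q u) {a b : G} (ha : a ∈ D) (hb : b ∈ D)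
    (hA : u a * u b = u b * u a) (hbQ : b ∉ Q a) : ∃ c ∈ D, c ∈ Q a ∧ c ≠ a := by
  classical
  by_contra hcon
  push Not at hcon
  have h := F.loc a ha
  have lb := F.loc b hb
  have hub : u b * a = a * u b := ub_comm F ha hA
  have hba : b * a = a * b := F.comm_of_comm_u ha (F.comm_u_right hb hA).symm
  obtain ⟨cu, hcu⟩ : ∃ cu : Subgroup.centralizer ({a} : Set G), (cu : G) = u b :=
    ⟨⟨u b, Subgroup.mem_centralizer_singleton_iff.2 hub⟩, rfl⟩
  obtain ⟨cb, hcb⟩ : ∃ cb : Subgroup.centralizer ({a} : Set G), (cb : G) = b :=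
    ⟨⟨b, Subgroup.mem_centralizer_singleton_iff.2 hba⟩, rfl⟩
  have hcc : cb = cu * cu := by
    apply Subtype.ext
    rw [Subgroup.coe_mul, hcu, hcb, lb.u_sq]
  have hτη : ∀ v, h.act cb v = h.act cu (h.act cu v) := by
    intro v; rw [hcc, map_mul]; rfl
  have hτ2 : ∀ v, h.act cb (h.act cb v) = v := by
    intro v
    have e : cb * cb = 1 := by
      apply Subtype.ext
      rw [Subgroup.coe_mul, hcb, lb.z_sq]; rfl
    have : h.act (cb * cb) v = v := by rw [e, map_one]; rfl
    rw [map_mul] at this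
    exact this
  -- fixed vectors
  have hfix : ∀ x : Q a, (b * x * b⁻¹ * (x : G)⁻¹) * (b * x * b⁻¹ * (x : G)⁻¹) = 1 →
      h.act cb (h.pr x) = h.pr x := by
    intro x hx
    rw [h.act_pr]
    refine act_fix F ha hb hba hcon x _ ?_ hx
    rw [h.conjQ_coe, hcb]
  -- product of two moved elements
  have hmove : ∀ x y : Q a, (b * x * b⁻¹ * (x : G)⁻¹) * (b * x * b⁻¹ * (x : G)⁻¹) = a →
      (b * y * b⁻¹ * (y : G)⁻¹) * (b * y * b⁻¹ * (y : G)⁻¹) = a →
      h.act cb (h.pr (x * y)) = h.pr (x * y) := by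
    intro x y hx hy
    apply hfix
    obtain ⟨gx, hgx⟩ : ∃ gx : Q a, (gx : G) = b * x * b⁻¹ * (x : G)⁻¹ :=
      ⟨⟨_, mul_mem (h.conj_mem b hba x x.2) (inv_mem x.2)⟩, rfl⟩
    obtain ⟨gy, hgy⟩ : ∃ gy : Q a, (gy : G) = b * y * b⁻¹ * (y : G)⁻¹ :=
      ⟨⟨_, mul_mem (h.conj_mem b hba y y.2) (inv_mem y.2)⟩, rfl⟩
    have hprx : ∀ (t gt : Q a), (gt : G) = b * t * b⁻¹ * (t : G)⁻¹ → h.pr gt = h.act cb (h.pr t) + h.pr t := by
      intro t gt hgt
      have e : h.conjQ cb t = gt * t := by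
        apply Subtype.ext
        rw [h.conjQ_coe, Subgroup.coe_mul, hcb, hgt]; group
      rw [h.act_pr, e, h.pr_mul, add_assoc, h.add_self, add_zero]
    have hcomm : (gx : G) * gy = gy * gx := by
      rw [← h.b_pr, hprx x gx hgx, hprx y gy hgy]
      have e1 : h.b (h.act cb (h.pr x)) (h.act cb (h.pr y)) = h.b (h.pr x) (h.pr y) := h.b_act cb _ _
      have e2 : h.b (h.pr x) (h.act cb (h.pr y)) = h.b (h.act cb (h.pr x)) (h.pr y) := by
        conv_lhs => rw [← h.b_act cb]
        rw [hτ2]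
      have e3 : h.b (h.act cb (h.pr x) + h.pr x) (h.act cb (h.pr y) + h.pr y) =
          h.b (h.act cb (h.pr x)) (h.act cb (h.pr y)) + h.b (h.act cb (h.pr x)) (h.pr y) +
            (h.b (h.pr x) (h.act cb (h.pr y)) + h.b (h.pr x) (h.pr y)) := by
        rw [map_add h.b, LinearMap.add_apply, map_add, map_add]
      rw [e3, e1, e2]
      have z1 := SymplXLin.z2 (h.b (h.pr x) (h.pr y))
      have z2 := SymplXLin.z2 (h.b (h.act cb (h.pr x)) (h.pr y))
      linear_combination z1 + z2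
    rw [← hgx] at hx
    rw [← hgy] at hy
    have e4 : b * ((x * y : Q a) : G) * b⁻¹ * ((x * y : Q a) : G)⁻¹ = gx * ((x : G) * gy * (x : G)⁻¹) := by
      rw [Subgroup.coe_mul, hgx, hgy]; group
    rw [e4]
    have hxa : (x : G) * a * (x : G)⁻¹ = a := by rw [h.comm_z x x.2]; group
    have hg2 : ((x : G) * gy * (x : G)⁻¹) * ((x : G) * gy * (x : G)⁻¹) = a := by
      calc ((x : G) * gy * (x : G)⁻¹) * ((x : G) * gy * (x : G)⁻¹) = x * (gy * gy) * (x : G)⁻¹ := by group
        _ = a := by rw [hy, hxa]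
    have hcomm2 : (gx : G) * ((x : G) * gy * (x : G)⁻¹) = ((x : G) * gy * (x : G)⁻¹) * gx := by
      rcases h.comm x x.2 gy gy.2 with h1 | h1
      · have e5 : (x : G) * gy * (x : G)⁻¹ = gy := by rw [h1]; group
        rw [e5]; exact hcomm
      · have e5 : (x : G) * gy * (x : G)⁻¹ = gy * a := by
          rw [h1, mul_assoc _ a, ← (h.commz x.2).inv_left.eq]; group
        rw [e5, ← mul_assoc, hcomm, mul_assoc, h.comm_z gx gx.2, ← mul_assoc]
    calc gx * ((x : G) * gy * (x : G)⁻¹) * (gx * ((x : G) * gy * (x : G)⁻¹))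
        = gx * (((x : G) * gy * (x : G)⁻¹) * gx) * ((x : G) * gy * (x : G)⁻¹) := by group
      _ = (gx * gx) * (((x : G) * gy * (x : G)⁻¹) * ((x : G) * gy * (x : G)⁻¹)) := by
          rw [← hcomm2]; group
      _ = 1 := by rw [hx, hg2, h.z_sq]
  have hdich : ∀ x : Q a, h.act cb (h.pr x) ≠ h.pr x →
      (b * x * b⁻¹ * (x : G)⁻¹) * (b * x * b⁻¹ * (x : G)⁻¹) = a := by
    intro x hx
    rcases h.sq (b * x * b⁻¹ * (x : G)⁻¹) (mul_mem (h.conj_mem b hba x x.2) (inv_mem x.2)) with h1 | h1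
    · exact absurd (hfix x h1) hx
    · exact h1
  have hone : ∀ v, h.act cb v = v := by
    by_cases hall : ∀ v, h.act cb v = v
    · exact hall
    · push Not at hall
      obtain ⟨v0, hv0⟩ := hall
      obtain ⟨x0, rfl⟩ := h.pr_surjective v0
      have h0 := hdich x0 hv0
      have key := SymplXLin.sq_eq_of_rank_le_one h.b h.b_self h.b_comm (fun v hv => h.b_nondeg hv)
        (h.act cu) (h.b_act cu) (h.act cb (h.pr x0) + h.pr x0) (by
          intro v
          rw [← hτη]
          by_cases hv : h.act cb v = v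
          · exact Or.inl hv
          · right
            obtain ⟨y, rfl⟩ := h.pr_surjective v
            have h1 := hmove x0 y h0 (hdich y hv)
            rw [h.pr_mul, map_add] at h1
            calc h.act cb (h.pr y) = (h.act cb (h.pr x0) + h.act cb (h.pr x0)) + h.act cb (h.pr y) := by
                  rw [h.add_self, zero_add]
              _ = h.act cb (h.pr x0) + (h.act cb (h.pr x0) + h.act cb (h.pr y)) := by rw [add_assoc]
              _ = h.act cb (h.pr x0) + (h.pr x0 + h.pr y) := by rw [h1]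
              _ = h.pr y + (h.act cb (h.pr x0) + h.pr x0) := by abel)
      intro v
      rw [hτη]
      exact key v
  apply hbQ
  rw [← hcb]
  apply h.mem_of_act
  ext v
  exact hone v

/-! ### the four-group `⟨z, a⟩` -/

/-- For `a ∈ Q z`: `Q z ⊓ Q a ≤ Q (z * a)`. -/
theorem mem_mul_of_mem (F : Fam D Q u) {z a : G} (hz : z ∈ D) (ha : a ∈ D) (hne : a ≠ z) (haz : a ∈ Q z)
    {y : G} (hyz : y ∈ Q z) (hya : y ∈ Q a) : y ∈ Q (z * a) := by
  have la := F.loc a ha
  have lz := F.loc z hz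
  obtain ⟨x, hx, h1⟩ := la.exists_conj (F.mem_symm hz ha haz) lz.z_sq lz.z_ne hne.symm
  rw [← h1, F.mem_conjQ hz]
  rcases la.comm x hx y hya with h2 | h2
  · have e : x⁻¹ * y * x = y := by rw [mul_assoc, ← h2]; group
    rwa [e]
  · have e : x⁻¹ * y * x = y * a := by
      have h3 : y * x = x * y * a := by
        rw [h2, mul_assoc (y * x), la.z_sq, mul_one]
      rw [mul_assoc, h3]; group
    rw [e]
    exact mul_mem hyz haz

theorem comm_of_mem_inf (F : Fam D Q u) {z a : G} (hz : z ∈ D) (ha : a ∈ D) (hne : a ≠ z)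
    {y w : G} (hyz : y ∈ Q z) (hya : y ∈ Q a) (hwz : w ∈ Q z) (hwa : w ∈ Q a) : y * w = w * y := by
  rcases (F.loc z hz).comm y hyz w hwz with h1 | h1
  · exact h1
  · rcases (F.loc a ha).comm y hya w hwa with h2 | h2
    · exact h2
    · exfalso
      apply hne
      rw [h1] at h2
      exact (mul_left_cancel h2).symm

theorem sq_of_mem_inf (F : Fam D Q u) {z a : G} (hz : z ∈ D) (ha : a ∈ D) (hne : a ≠ z)
    {y : G} (hyz : y ∈ Q z) (hya : y ∈ Q a) : y * y = 1 := by
  rcases (F.loc z hz).sq y hyz with h1 | h1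
  · exact h1
  · rcases (F.loc a ha).sq y hya with h2 | h2
    · exact h2
    · exfalso
      apply hne
      rw [← h1, ← h2]

/-- `b ∈ D ∩ Q z`, `x ∈ Q z`, `x b x⁻¹ = b z`: `x` does not commute with `u_b x u_b⁻¹`. -/
theorem not_comm (F : Fam D Q u) {z b x : G} (hz : z ∈ D) (hb : b ∈ D) (hbz : b ∈ Q z) (hne : b ≠ z)
    (hx : x ∈ Q z) (hxb : x * b * x⁻¹ = b * z) :
    x * (u b * x * (u b)⁻¹) ≠ (u b * x * (u b)⁻¹) * x := by
  intro hcomm
  have lz := F.loc z hz
  have lb := F.loc b hb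
  have hzb : z ∈ Q b := F.mem_symm hz hb hbz
  have hbz' : b * z = z * b := lz.comm_z b hbz
  have huz : z * u b = u b * z := lb.comm_u z hzb
  have hD : b * z ∈ D := (F.mem_Q_mul hb hz hne.symm hzb).1
  have lbz := F.loc _ hD
  have hbzQ : b * z ∈ Q b := mul_mem lb.z_mem hzb
  have hne1 : b ≠ b * z := fun h1 => lz.z_ne (mul_eq_left.1 h1.symm)
  have hc : (b * z) * u b = u b * (b * z) := lb.comm_u _ hbzQ
  -- `u b` commutes with `u (b z)`
  have h1 : u b * u (b * z) = u (b * z) * u b := by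
    rcases F.typeA_or_typeB hb hD hne1 (lb.comm_z _ hbzQ).symm with h1 | ⟨-, h1⟩
    · exact h1
    · exfalso
      rw [hc, mul_inv_cancel_right] at h1
      exact lb.z_ne (mul_eq_left.1 h1.symm)
  -- hence with `v = x u_b x⁻¹`
  have h2 : u b * (x * u b * x⁻¹) = (x * u b * x⁻¹) * u b := by
    have h3 := F.conju hb x
    rw [hxb] at h3
    rcases h3 with h3 | h3
    · rw [← h3]; exact h1
    · have h4 : x * u b * x⁻¹ = (u (b * z))⁻¹ := by rw [h3, inv_inv]
      rw [h4]
      exact (show Commute (u b) (u (b * z)) from h1).inv_right.eq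
  have h3 : (x * u b * x⁻¹) * (x * u b * x⁻¹) = b * z := by
    calc (x * u b * x⁻¹) * (x * u b * x⁻¹) = x * (u b * u b) * x⁻¹ := by group
      _ = b * z := by rw [lb.u_sq, hxb]
  obtain ⟨y, hy⟩ : ∃ y, y = u b * x * (u b)⁻¹ := ⟨_, rfl⟩
  rw [← hy] at hcomm
  -- `g = v u_b⁻¹ = x y⁻¹`, `g² = z`
  have hg1 : (x * u b * x⁻¹) * (u b)⁻¹ = x * y⁻¹ := by rw [hy]; group
  have hg2 : ((x * u b * x⁻¹) * (u b)⁻¹) * ((x * u b * x⁻¹) * (u b)⁻¹) = z := by
    have h4 : (u b)⁻¹ * (x * u b * x⁻¹) = (x * u b * x⁻¹) * (u b)⁻¹ :=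
      (show Commute (u b) (x * u b * x⁻¹) from h2).inv_left.eq
    calc ((x * u b * x⁻¹) * (u b)⁻¹) * ((x * u b * x⁻¹) * (u b)⁻¹)
        = (x * u b * x⁻¹) * ((u b)⁻¹ * (x * u b * x⁻¹)) * (u b)⁻¹ := by group
      _ = ((x * u b * x⁻¹) * (x * u b * x⁻¹)) * (u b * u b)⁻¹ := by rw [h4]; group
      _ = z := by rw [h3, lb.u_sq, hbz']; group
  have hyy : y * y = x * x := by
    have : y * y = u b * (x * x) * (u b)⁻¹ := by rw [hy]; group
    rw [this]
    rcases lz.sq x hx with h4 | h4 <;> rw [h4]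
    · group
    · rw [← huz]; group
  have hg3 : (x * y⁻¹) * (x * y⁻¹) = 1 := by
    have h4 : y⁻¹ * x = x * y⁻¹ := (show Commute x y from hcomm).inv_right.eq.symm
    calc (x * y⁻¹) * (x * y⁻¹) = x * (y⁻¹ * x) * y⁻¹ := by group
      _ = (x * x) * (y * y)⁻¹ := by rw [h4]; group
      _ = 1 := by rw [hyy, mul_inv_cancel]
  rw [hg1, hg3] at hg2
  exact lz.z_ne hg2.symm

/-- In the situation `a, b ∈ Q z`, `u_a` and `u_b` commuting, `b` centralises `Q z ⊓ Q a`. -/
theorem comm_inf (F : Fam D Q u) {z a b : G} (hz : z ∈ D) (ha : a ∈ D) (hb : b ∈ D) (hbz : b ∈ Q z)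
    (hne : a ≠ z) (hneb : b ≠ z) (hA : u a * u b = u b * u a) {y : G} (hyz : y ∈ Q z) (hya : y ∈ Q a) :
    y * b = b * y := by
  have lz := F.loc z hz
  have la := F.loc a ha
  have lb := F.loc b hb
  rcases lz.comm y hyz b hbz with h1 | h1
  · exact h1
  · exfalso
    have h2 : y * b * y⁻¹ = b * z := by
      rw [h1, mul_assoc _ z, ← (lz.commz hyz).inv_left.eq]; group
    apply not_comm F hz hb hbz hneb hyz h2
    have huz : z * u b = u b * z := lb.comm_u z (F.mem_symm hz hb hbz)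
    exact comm_of_mem_inf F hz ha hne hyz hya (lz.conj_mem _ huz.symm y hyz)
      (la.conj_mem _ (ub_comm F ha hA) y hya)

/-! ### the involutions `x b x⁻¹ b` -/

theorem mem_normalizer_of_mem (F : Fam D Q u) {z a : G} (_hz : z ∈ D) (ha : a ∈ D)
    (haz : a ∈ Q z) {x : G} (hx : x ∈ Q a) : x ∈ Subgroup.normalizer ((Q z ⊓ Q a : Subgroup G) : Set G) := by
  have la := F.loc a ha
  have key : ∀ y ∈ Q a, x * y * x⁻¹ ∈ Q a ∧ (y ∈ Q z ↔ x * y * x⁻¹ ∈ Q z) := by
    intro y hy
    refine ⟨mul_mem (mul_mem hx hy) (inv_mem hx), ?_⟩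
    rcases la.comm x hx y hy with h1 | h1
    · have e : x * y * x⁻¹ = y := by rw [h1]; group
      rw [e]
    · have e : x * y * x⁻¹ = y * a := by
        rw [h1, mul_assoc _ a, ← (la.commz hx).inv_left.eq]; group
      rw [e]
      constructor
      · intro h; exact mul_mem h haz
      · intro h
        have := mul_mem h (inv_mem haz)
        rwa [mul_inv_cancel_right] at this
  rw [Subgroup.mem_normalizer_iff]
  intro y
  rw [Subgroup.mem_inf, Subgroup.mem_inf]
  constructor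
  · rintro ⟨h1, h2⟩
    exact ⟨(key y h2).2.1 h1, (key y h2).1⟩
  · rintro ⟨h1, h2⟩
    have h3 : y ∈ Q a := by
      have := mul_mem (mul_mem (inv_mem hx) h2) hx
      have e : x⁻¹ * (x * y * x⁻¹) * x = y := by group
      rwa [e] at this
    exact ⟨(key y h3).2.2 h1, h3⟩

/-- **Lemma E.** -/
theorem sq_one (F : Fam D Q u) {z a b : G} (hz : z ∈ D) (ha : a ∈ D) (hb : b ∈ D) (haz : a ∈ Q z)
    (hbz : b ∈ Q z) (hne : a ≠ z) (hneb : b ≠ z) (hA : u a * u b = u b * u a) {x : G} (hx : x ∈ Q a) :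
    (x * b * x⁻¹ * b) * (x * b * x⁻¹ * b) = 1 := by
  have lz := F.loc z hz
  have la := F.loc a ha
  have lb := F.loc b hb
  have hza : z ∈ Q a := F.mem_symm hz ha haz
  have hab : b * a = a * b := F.comm_of_comm_u ha (F.comm_u_right hb hA).symm
  have hbz' : b * z = z * b := lz.comm_z b hbz
  have haz' : a * z = z * a := lz.comm_z a haz
  have hbi : b⁻¹ = b := lb.z_inv
  obtain ⟨g, hg⟩ : ∃ g, g = x * b * x⁻¹ * b := ⟨_, rfl⟩
  rw [← hg]
  have hgQ : g ∈ Q a := by
    have e : g = x * (b * x⁻¹ * b⁻¹) := by rw [hg, hbi]; group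
    rw [e]
    exact mul_mem hx (la.conj_mem b hab _ (inv_mem hx))
  rcases la.comm x hx z hza with h1 | h1
  · -- `x` commutes with `z`
    have hgz : g ∈ Q z := by
      rw [hg]
      exact mul_mem (lz.conj_mem x h1 b hbz) hbz
    exact sq_of_mem_inf F hz ha hne hgz hgQ
  · -- `x z x⁻¹ = z a`
    by_contra hgg
    have hga : g * g = a := (la.sq g hgQ).resolve_left hgg
    have hxz : x * z * x⁻¹ = z * a := by
      rw [h1, mul_assoc _ a, ← (la.commz hx).inv_left.eq]; group
    have hxa : x * a * x⁻¹ = a := by rw [la.comm_z x hx]; group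
    have hza1 : z * a ∈ D := (F.mem_Q_mul hz ha hne haz).1
    have lza := F.loc _ hza1
    have hzaz : z * a ∈ Q z := mul_mem lz.z_mem haz
    have hzane : z * a ≠ z := fun h2 => la.z_ne (mul_eq_left.1 h2)
    have hzaa : z * a ∈ Q a := mul_mem hza la.z_mem
    have hzane' : z * a ≠ a := fun h2 => lz.z_ne (mul_eq_right.1 h2)
    -- `Q z ⊓ Q (z a) ≤ Q a`, `Q a ⊓ Q (z a) ≤ Q z`
    have inter1 : ∀ y, y ∈ Q z → y ∈ Q (z * a) → y ∈ Q a := by
      intro y h2 h3
      have := mem_mul_of_mem F hz hza1 hzane hzaz h2 h3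
      rwa [← mul_assoc, lz.z_sq, one_mul] at this
    have inter2 : ∀ y, y ∈ Q a → y ∈ Q (z * a) → y ∈ Q z := by
      intro y h2 h3
      have := mem_mul_of_mem F ha hza1 hzane' hzaa h2 h3
      rwa [← haz', ← mul_assoc, la.z_sq, one_mul] at this
    -- `g` commutes with `z`
    have hgz : g * z = z * g := by
      have h2 : (x * b * x⁻¹) * z = z * (x * b * x⁻¹) := by
        have h3 : (x * b * x⁻¹) * (z * a) = (z * a) * (x * b * x⁻¹) := by
          rw [← hxz]
          calc (x * b * x⁻¹) * (x * z * x⁻¹) = x * (b * z) * x⁻¹ := by group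
            _ = _ := by rw [hbz']; group
        have h4 : (x * b * x⁻¹) * a = a * (x * b * x⁻¹) := by
          calc (x * b * x⁻¹) * a = (x * b * x⁻¹) * (x * a * x⁻¹) := by rw [hxa]
            _ = x * (b * a) * x⁻¹ := by group
            _ = (x * a * x⁻¹) * (x * b * x⁻¹) := by rw [hab]; group
            _ = _ := by rw [hxa]
        have h5 : (x * b * x⁻¹) * z * a = z * (x * b * x⁻¹) * a := by
          rw [mul_assoc, h3, mul_assoc z a, ← h4, mul_assoc z]
        exact mul_right_cancel h5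
      rw [hg, mul_assoc, hbz', ← mul_assoc, h2, mul_assoc]
    have hga' : g * a = a * g := la.comm_z g hgQ
    -- `b g b⁻¹ = g a`
    have hbg : b * g * b⁻¹ = g * a := by
      have e1 : b * g * b⁻¹ = b * (x * b * x⁻¹) := by rw [hg]; group
      have e2 : (b * (x * b * x⁻¹)) * g = 1 := by
        rw [hg]
        calc (b * (x * b * x⁻¹)) * (x * b * x⁻¹ * b) = b * (x * (b * b) * x⁻¹) * b := by group
          _ = 1 := by rw [lb.z_sq, mul_one, mul_inv_cancel, mul_one, lb.z_sq]
      rw [e1, eq_comm]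
      calc g * a = (b * (x * b * x⁻¹)) * g * (g * a) := by rw [e2, one_mul]
        _ = (b * (x * b * x⁻¹)) * ((g * g) * a) := by group
        _ = b * (x * b * x⁻¹) := by rw [hga, la.z_sq, mul_one]
    -- `q`
    obtain ⟨q, hq, hqa⟩ := lz.exists_conj haz la.z_sq la.z_ne hne
    have hqz : q * z * q⁻¹ = z := by rw [lz.comm_z q hq]; group
    -- normaliser
    have hNz : ∀ y, y ∈ Q z → y ∈ Subgroup.normalizer ((Q z ⊓ Q a : Subgroup G) : Set G) := by
      intro y hy
      have := mem_normalizer_of_mem F ha hz hza hy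
      rwa [inf_comm] at this
    have hNa : ∀ y, y ∈ Q a → y ∈ Subgroup.normalizer ((Q z ⊓ Q a : Subgroup G) : Set G) :=
      fun y hy => mem_normalizer_of_mem F hz ha haz hy
    obtain ⟨J, hJ⟩ : ∃ J : Subgroup G, J = Q z ⊓ Q a := ⟨_, rfl⟩
    rw [← hJ] at hNz hNa
    have hJz : ∀ y, y ∈ J → y ∈ Q z := fun y hy => by rw [hJ] at hy; exact hy.1
    have hJa : ∀ y, y ∈ J → y ∈ Q a := fun y hy => by rw [hJ] at hy; exact hy.2
    have hJmk : ∀ y, y ∈ Q z → y ∈ Q a → y ∈ J := fun y h1 h2 => by rw [hJ]; exact ⟨h1, h2⟩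
    obtain ⟨N, hN⟩ : ∃ N : Subgroup G, N = Subgroup.normalizer (J : Set G) := ⟨_, rfl⟩
    rw [← hN] at hNz hNa
    have hnorm : (J.subgroupOf N).Normal := by rw [hN]; infer_instance
    let φ : N →* N ⧸ J.subgroupOf N := QuotientGroup.mk' _
    have hφ : ∀ s t : N, (s : G)⁻¹ * t ∈ J → φ s = φ t := by
      intro s t h2
      show (QuotientGroup.mk s : N ⧸ J.subgroupOf N) = QuotientGroup.mk t
      rw [QuotientGroup.eq, Subgroup.mem_subgroupOf]
      exact h2
    have hφ' : ∀ s t : N, φ s = φ t → (s : G)⁻¹ * t ∈ J := by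
      intro s t h2
      have h3 : (QuotientGroup.mk s : N ⧸ J.subgroupOf N) = QuotientGroup.mk t := h2
      rw [QuotientGroup.eq, Subgroup.mem_subgroupOf] at h3
      exact h3
    have hφ1 : ∀ s : N, (s : G) ∈ J → φ s = 1 := by
      intro s h2
      rw [← map_one φ]
      apply hφ
      show (s : G)⁻¹ * 1 ∈ J
      rw [mul_one]; exact inv_mem h2
    have hzJ : z ∈ J := hJmk z lz.z_mem hza
    have haJ : a ∈ J := hJmk a haz la.z_mem
    let X : N := ⟨x, hNa x hx⟩
    let q' : N := ⟨q, hNz q hq⟩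
    let B : N := ⟨b, hNz b hbz⟩
    let Γ : N := ⟨g, hNa g hgQ⟩
    have hXX : φ X * φ X = 1 := by
      rw [← map_mul]
      apply hφ1
      show x * x ∈ J
      rcases la.sq x hx with h2 | h2 <;> rw [h2]
      · exact one_mem _
      · exact haJ
    have hqq : φ q' * φ q' = 1 := by
      rw [← map_mul]
      apply hφ1
      show q * q ∈ J
      rcases lz.sq q hq with h2 | h2 <;> rw [h2]
      · exact one_mem _
      · exact hzJ
    have hΓΓ : φ Γ * φ Γ = 1 := by
      rw [← map_mul]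
      apply hφ1
      show g * g ∈ J
      rw [hga]; exact haJ
    have hXi : (φ X)⁻¹ = φ X := inv_eq_of_mul_eq_one_left hXX
    have hqi : (φ q')⁻¹ = φ q' := inv_eq_of_mul_eq_one_left hqq
    have hΓi : (φ Γ)⁻¹ = φ Γ := inv_eq_of_mul_eq_one_left hΓΓ
    have hXB : φ X * φ B * φ X = φ Γ * φ B := by
      have e : X * B * X⁻¹ = Γ * B := by
        apply Subtype.ext
        show x * b * x⁻¹ = g * b
        rw [hg, mul_assoc _ b b, lb.z_sq, mul_one]
      have := congrArg φ e
      rw [map_mul, map_mul, map_inv, map_mul, hXi] at this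
      exact this
    -- commuting modulo J
    have hcommJ : ∀ s t : N, (s : G) * t = t * s ∨ (s : G) * t = t * s * z ∨ (s : G) * t = t * s * a →
        φ s * φ t = φ t * φ s := by
      intro s t h2
      rw [← map_mul, ← map_mul]
      apply hφ
      show ((s : G) * t)⁻¹ * (t * s) ∈ J
      rcases h2 with h2 | h2 | h2 <;> rw [h2]
      · rw [inv_mul_cancel]; exact one_mem _
      · have e : ((t : G) * s * z)⁻¹ * (t * s) = z⁻¹ := by group
        rw [e]; exact inv_mem hzJ
      · have e : ((t : G) * s * a)⁻¹ * (t * s) = a⁻¹ := by group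
        rw [e]; exact inv_mem haJ
    have hqB : φ q' * φ B * φ q' = φ B := by
      have h2 : φ q' * φ B = φ B * φ q' := by
        apply hcommJ
        rcases lz.comm q hq b hbz with h3 | h3
        · exact Or.inl h3
        · exact Or.inr (Or.inl h3)
      rw [h2, mul_assoc, hqq, mul_one]
    have hXΓ : φ X * φ Γ * φ X = φ Γ := by
      have h2 : φ X * φ Γ = φ Γ * φ X := by
        apply hcommJ
        rcases la.comm x hx g hgQ with h3 | h3
        · exact Or.inl h3
        · exact Or.inr (Or.inr h3)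
      rw [h2, mul_assoc, hXX, mul_one]
    -- the element `m`
    obtain ⟨M, hM⟩ : ∃ M : N, M = X⁻¹ * q' * X * (q' * X * q'⁻¹) := ⟨_, rfl⟩
    have hMφ : (φ X * φ q') ^ 3 = φ M := by
      rw [hM]
      simp only [map_mul, map_inv, hXi, hqi, pow_succ, pow_zero, one_mul, mul_assoc]
    have hMc : (M : G) = x⁻¹ * q * x * (q * x * q⁻¹) := by rw [hM]; rfl
    have hMza : (M : G) ∈ Q (z * a) := by
      rw [hMc]
      apply mul_mem
      · have e : z * a = x⁻¹ * z * (x⁻¹)⁻¹ := by
          have h2 : x * (z * a) * x⁻¹ = z := by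
            calc x * (z * a) * x⁻¹ = (x * z * x⁻¹) * (x * a * x⁻¹) := by group
              _ = z := by rw [hxz, hxa, mul_assoc, la.z_sq, mul_one]
          calc z * a = x⁻¹ * (x * (z * a) * x⁻¹) * x := by group
            _ = _ := by rw [h2, inv_inv]
        rw [e, F.mem_conjQ hz]
        have e2 : (x⁻¹)⁻¹ * (x⁻¹ * q * x) * x⁻¹ = q := by group
        rw [e2]; exact hq
      · rw [← haz', ← hqa, F.mem_conjQ ha]
        have e2 : q⁻¹ * (q * x * q⁻¹) * q = x := by group
        rw [e2]; exact hx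
    have hMz : (M : G) * z = z * M := by
      have h2 : (q * x * q⁻¹) * z * (q * x * q⁻¹)⁻¹ = a := by
        have hqz' : q⁻¹ * z * q = z := by
          rw [mul_assoc, ← lz.comm_z q hq]; group
        calc (q * x * q⁻¹) * z * (q * x * q⁻¹)⁻¹ = q * (x * (q⁻¹ * z * q) * x⁻¹) * q⁻¹ := by group
          _ = q * (z * a) * q⁻¹ := by rw [hqz', hxz]
          _ = (q * z * q⁻¹) * (q * a * q⁻¹) := by group
          _ = z * (a * z) := by rw [hqz, hqa]
          _ = a := by rw [haz', ← mul_assoc, lz.z_sq, one_mul]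
      have hxa' : x⁻¹ * a * x = a := by rw [mul_assoc, ← la.comm_z x hx]; group
      have h3 : (x⁻¹ * q * x) * a * (x⁻¹ * q * x)⁻¹ = z := by
        have h4 : x⁻¹ * (z * a) * x = z := by
          calc x⁻¹ * (z * a) * x = x⁻¹ * (x * z * x⁻¹) * x := by rw [hxz]
            _ = z := by group
        calc (x⁻¹ * q * x) * a * (x⁻¹ * q * x)⁻¹ = x⁻¹ * (q * (x * a * x⁻¹) * q⁻¹) * x := by group
          _ = x⁻¹ * (z * a) * x := by rw [hxa, hqa, haz']
          _ = z := h4
      have h4 : (M : G) * z * (M : G)⁻¹ = z := by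
        rw [hMc]
        calc x⁻¹ * q * x * (q * x * q⁻¹) * z * (x⁻¹ * q * x * (q * x * q⁻¹))⁻¹
            = (x⁻¹ * q * x) * ((q * x * q⁻¹) * z * (q * x * q⁻¹)⁻¹) * (x⁻¹ * q * x)⁻¹ := by group
          _ = z := by rw [h2, h3]
      rwa [mul_inv_eq_iff_eq_mul] at h4
    have hMa : (M : G) * a = a * M := by
      have h2 : (M : G) * (z * a) = (z * a) * M := lza.comm_z _ hMza
      have h3 : z * ((M : G) * a) = z * (a * M) := by
        rw [← mul_assoc, ← hMz, mul_assoc, h2, mul_assoc]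
      exact mul_left_cancel h3
    -- `M` commutes with `B`, `Γ` modulo `J`
    have h3B : (φ X * φ q') ^ 3 * φ B = φ B * (φ X * φ q') ^ 3 := by
      rw [hMφ]
      have h2 : (M : G) * b * (M : G)⁻¹ * b⁻¹ ∈ J := by
        have h3 : (M : G) * b * (M : G)⁻¹ * b⁻¹ ∈ Q z := mul_mem (lz.conj_mem _ hMz b hbz) (inv_mem hbz)
        have h4 : (M : G) * b * (M : G)⁻¹ * b⁻¹ ∈ Q (z * a) := by
          have e : (M : G) * b * (M : G)⁻¹ * b⁻¹ = M * (b * (M : G)⁻¹ * b⁻¹) := by group
          rw [e]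
          refine mul_mem hMza (lza.conj_mem b ?_ _ (inv_mem hMza))
          rw [← mul_assoc, hbz', mul_assoc, hab, mul_assoc]
        exact hJmk _ h3 (inter1 _ h3 h4)
      have h3 : φ (M * B * M⁻¹ * B⁻¹) = 1 := hφ1 _ h2
      rw [map_mul, map_mul, map_mul, map_inv, map_inv, mul_inv_eq_one, mul_inv_eq_iff_eq_mul] at h3
      exact h3
    have h3Γ : (φ X * φ q') ^ 3 * φ Γ = φ Γ * (φ X * φ q') ^ 3 := by
      rw [hMφ]
      have h2 : (M : G) * g * (M : G)⁻¹ * g⁻¹ ∈ J := by
        have h3 : (M : G) * g * (M : G)⁻¹ * g⁻¹ ∈ Q a := mul_mem (la.conj_mem _ hMa g hgQ) (inv_mem hgQ)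
        have h4 : (M : G) * g * (M : G)⁻¹ * g⁻¹ ∈ Q (z * a) := by
          have e : (M : G) * g * (M : G)⁻¹ * g⁻¹ = M * (g * (M : G)⁻¹ * g⁻¹) := by group
          rw [e]
          refine mul_mem hMza (lza.conj_mem g ?_ _ (inv_mem hMza))
          rw [← mul_assoc, hgz, mul_assoc, hga', mul_assoc]
        exact hJmk _ (inter2 _ h3 h4) h3
      have h3 : φ (M * Γ * M⁻¹ * Γ⁻¹) = 1 := hφ1 _ h2
      rw [map_mul, map_mul, map_mul, map_inv, map_inv, mul_inv_eq_one, mul_inv_eq_iff_eq_mul] at h3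
      exact h3
    have hfin := braid hXX hqq hΓΓ hXB hqB hXΓ h3B h3Γ
    -- `e = q g q⁻¹ g⁻¹ b`
    obtain ⟨E, hE⟩ : ∃ E : N, E = q' * Γ * q'⁻¹ * Γ⁻¹ * B := ⟨_, rfl⟩
    have hEφ : φ q' * φ Γ * φ q' * φ Γ * φ B = φ E := by
      rw [hE]; simp only [map_mul, map_inv, hqi, hΓi]
    rw [hEφ] at hfin
    have hEc : (E : G) = q * g * q⁻¹ * g⁻¹ * b := by rw [hE]; rfl
    have hEz : (E : G) ∈ Q z := by
      have e : q * g * q⁻¹ * g⁻¹ * b = q * (g * q⁻¹ * g⁻¹) * b := by group
      rw [hEc, e]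
      exact mul_mem (mul_mem hq (lz.conj_mem g hgz _ (inv_mem hq))) hbz
    have h5 : φ (X * E * X⁻¹) = φ E := by
      rw [map_mul, map_mul, map_inv, hXi]; exact hfin
    have h6 := hφ' _ _ h5.symm
    have h7 : x * (E : G) * x⁻¹ ∈ Q z := by
      have := mul_mem hEz (hJz _ h6)
      have e : (E : G) * ((E : G)⁻¹ * ((X * E * X⁻¹ : N) : G)) = x * (E : G) * x⁻¹ := by
        rw [mul_inv_cancel_left]; rfl
      rwa [e] at this
    have h8 : x * (E : G) * x⁻¹ ∈ Q (z * a) := by
      rw [← hxz, F.mem_conjQ hz]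
      have e : x⁻¹ * (x * (E : G) * x⁻¹) * x = E := by group
      rw [e]; exact hEz
    have h9 : (E : G) ∈ Q a := by
      have := inter1 _ h7 h8
      have h10 := mul_mem (mul_mem (inv_mem hx) this) hx
      have e : x⁻¹ * (x * (E : G) * x⁻¹) * x = E := by group
      rwa [e] at h10
    have h10 : (E : G) * b = b * E := comm_inf F hz ha hb hbz hne hneb hA hEz h9
    rw [hEc] at h10
    have h11 : (q * g * q⁻¹ * g⁻¹) * b = b * (q * g * q⁻¹ * g⁻¹) := by
      have : (q * g * q⁻¹ * g⁻¹) * b * b = b * (q * g * q⁻¹ * g⁻¹) * b := by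
        rw [h10]; group
      exact mul_right_cancel this
    -- but conjugation by `b` gives a factor `z`
    have h12 : b * (q * g * q⁻¹ * g⁻¹) * b⁻¹ = (q * g * q⁻¹ * g⁻¹) * z := by
      have hgai : (g * a)⁻¹ = g⁻¹ * a := by rw [mul_inv_rev, la.z_inv, (show Commute g a from hga').inv_left.eq]
      have hbq : (b * q * b⁻¹) * (g * a) * (b * q * b⁻¹)⁻¹ = q * (g * a) * q⁻¹ := by
        rcases lz.comm b hbz q hq with h13 | h13
        · have e : b * q * b⁻¹ = q := by rw [h13]; group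
          rw [e]
        · have e : b * q * b⁻¹ = q * z := by
            rw [h13, mul_assoc _ z, ← (lz.commz hbz).inv_left.eq]; group
          rw [e]
          calc q * z * (g * a) * (q * z)⁻¹ = q * (z * g) * a * z⁻¹ * q⁻¹ := by group
            _ = q * g * (z * a) * z⁻¹ * q⁻¹ := by rw [← hgz]; group
            _ = _ := by rw [← haz']; group
      calc b * (q * g * q⁻¹ * g⁻¹) * b⁻¹
          = ((b * q * b⁻¹) * (b * g * b⁻¹) * (b * q * b⁻¹)⁻¹) * (b * g * b⁻¹)⁻¹ := by group
        _ = q * (g * a) * q⁻¹ * (g⁻¹ * a) := by rw [hbg, hbq, hgai]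
        _ = (q * g * q⁻¹) * ((q * a * q⁻¹) * (g⁻¹ * a)) := by group
        _ = (q * g * q⁻¹) * (a * z * (g⁻¹ * a)) := by rw [hqa]
        _ = (q * g * q⁻¹) * (g⁻¹ * (a * a) * z) := by
            have e1 : z * g⁻¹ = g⁻¹ * z := (show Commute g z from hgz).inv_left.eq.symm
            have e2 : a * g⁻¹ = g⁻¹ * a := (show Commute g a from hga').inv_left.eq.symm
            calc (q * g * q⁻¹) * (a * z * (g⁻¹ * a)) = (q * g * q⁻¹) * (a * (z * g⁻¹) * a) := by group
              _ = (q * g * q⁻¹) * ((a * g⁻¹) * (z * a)) := by rw [e1]; group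
              _ = (q * g * q⁻¹) * (g⁻¹ * (a * a) * z) := by rw [e2, ← haz']; group
        _ = (q * g * q⁻¹ * g⁻¹) * z := by rw [la.z_sq]; group
    apply lz.z_ne
    rw [← h11, mul_inv_cancel_right] at h12
    exact mul_eq_left.1 h12.symm

/-- **Step 2** of S1758: if `a, b ∈ D ∩ Q z` are of type A, then `b ∈ Q a`. -/
theorem mem_of_typeA [Finite G] (F : Fam D Q u) {z a b : G} (hz : z ∈ D) (ha : a ∈ D) (hb : b ∈ D)
    (haz : a ∈ Q z) (hbz : b ∈ Q z) (hne : a ≠ z) (hneb : b ≠ z) (hA : u a * u b = u b * u a) :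
    b ∈ Q a := by
  classical
  by_contra hbQ
  apply hbQ
  have h := F.loc a ha
  have lb := F.loc b hb
  have hub : u b * a = a * u b := ub_comm F ha hA
  have hbu : b * u a = u a * b := (F.comm_u_right hb hA).symm
  have hba : b * a = a * b := F.comm_of_comm_u ha hbu
  have hbi : b⁻¹ = b := lb.z_inv
  obtain ⟨cu, hcu⟩ : ∃ cu : Subgroup.centralizer ({a} : Set G), (cu : G) = u b :=
    ⟨⟨u b, Subgroup.mem_centralizer_singleton_iff.2 hub⟩, rfl⟩
  obtain ⟨cb, hcb⟩ : ∃ cb : Subgroup.centralizer ({a} : Set G), (cb : G) = b :=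
    ⟨⟨b, Subgroup.mem_centralizer_singleton_iff.2 hba⟩, rfl⟩
  have hcc : cb = cu * cu := by
    apply Subtype.ext
    rw [Subgroup.coe_mul, hcu, hcb, lb.u_sq]
  have hτη : ∀ v, h.act cb v = h.act cu (h.act cu v) := by
    intro v; rw [hcc, map_mul]; rfl
  have hτ2 : ∀ v, h.act cb (h.act cb v) = v := by
    intro v
    have e : cb * cb = 1 := by
      apply Subtype.ext
      rw [Subgroup.coe_mul, hcb, lb.z_sq]; rfl
    have : h.act (cb * cb) v = v := by rw [e, map_one]; rfl
    rw [map_mul] at this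
    exact this
  -- an element of `Q a` with image fixed by `b` and moved by `u b` satisfies `b x b⁻¹ = x a`
  have hmv : ∀ x : Q a, h.act cu (h.act cu (h.pr x)) = h.pr x → h.act cu (h.pr x) ≠ h.pr x →
      b * (x : G) * b⁻¹ = x * a := by
    intro x hx hx1
    rw [← hτη, h.act_pr] at hx
    rcases fix_or F ha lb.z_sq hbu (x := x) (y := h.conjQ cb x) (by rw [h.conjQ_coe, hcb]) hx with h1 | h1
    · exfalso
      apply hx1
      have h2 : (x : G) * b = b * x := by rw [mul_inv_eq_iff_eq_mul] at h1; exact h1.symm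
      have h3 := comm_ub F ha hb hA hbQ x.2 h2
      rw [h.act_pr]
      congr 1
      apply Subtype.ext
      rw [h.conjQ_coe, hcu, ← h3]; group
    · exact h1
  have key := SymplXLin.sq_eq_of_atype h.b h.b_self h.b_comm (fun v hv => h.b_nondeg hv)
    (h.act cu) (h.b_act cu) (by intro v; rw [← hτη, ← hτη, hτ2])
    (by
      intro v w hv hw hv1 hw1
      obtain ⟨x, rfl⟩ := h.pr_surjective v
      obtain ⟨y, rfl⟩ := h.pr_surjective w
      have h1 := hmv x hv hv1
      have h2 := hmv y hw hw1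
      have h3 : ((x * y : Q a) : G) * b = b * ((x * y : Q a) : G) := by
        have h4 : b * ((x * y : Q a) : G) * b⁻¹ = ((x * y : Q a) : G) := by
          calc b * ((x * y : Q a) : G) * b⁻¹ = (b * x * b⁻¹) * (b * y * b⁻¹) := by
                rw [Subgroup.coe_mul]; group
            _ = x * a * (y * a) := by rw [h1, h2]
            _ = x * (a * y) * a := by group
            _ = x * y * (a * a) := by rw [← h.comm_z y y.2]; group
            _ = ((x * y : Q a) : G) := by rw [h.z_sq, mul_one]; rfl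
        rw [mul_inv_eq_iff_eq_mul] at h4
        exact h4.symm
      have h4 := comm_ub F ha hb hA hbQ (x * y).2 h3
      have h5 : h.act cu (h.pr (x * y)) = h.pr (x * y) := by
        rw [h.act_pr]
        congr 1
        apply Subtype.ext
        rw [h.conjQ_coe, hcu, ← h4]; group
      rw [h.pr_mul, map_add] at h5
      calc h.act cu (h.pr x) + h.pr x = (h.act cu (h.pr x) + h.act cu (h.pr y)) + (h.act cu (h.pr y) + h.pr x) := by
            have := h.add_self (h.act cu (h.pr y))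
            calc h.act cu (h.pr x) + h.pr x = h.act cu (h.pr x) + (h.act cu (h.pr y) + h.act cu (h.pr y)) + h.pr x := by
                  rw [this, add_zero]
              _ = _ := by abel
        _ = (h.pr x + h.pr y) + (h.act cu (h.pr y) + h.pr x) := by rw [h5]
        _ = (h.pr x + h.pr x) + (h.act cu (h.pr y) + h.pr y) := by abel
        _ = h.act cu (h.pr y) + h.pr y := by rw [h.add_self, zero_add])
    (by
      intro v
      rw [← hτη]
      obtain ⟨x, rfl⟩ := h.pr_surjective v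
      rw [h.act_pr, h.b_pr, h.conjQ_coe, hcb]
      obtain ⟨y, hy⟩ : ∃ y, y = b * (x : G) * b⁻¹ := ⟨_, rfl⟩
      rw [← hy]
      have hyQ : y ∈ Q a := by rw [hy]; exact h.conj_mem b hba x x.2
      rcases h.comm x x.2 y hyQ with h1 | h1
      · exact h1
      · exfalso
        have h2 := sq_one F hz ha hb haz hbz hne hneb hA x.2
        have h3 : (x : G) * b * (x : G)⁻¹ * b = x * y⁻¹ := by
          rw [hy]
          calc (x : G) * b * (x : G)⁻¹ * b = x * (b * (x : G)⁻¹ * b⁻¹) := by rw [hbi]; group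
            _ = _ := by group
        rw [h3] at h2
        have hyy : y * y = x * x := by
          have : y * y = b * (x * x) * b⁻¹ := by rw [hy]; group
          rw [this]
          rcases h.sq x x.2 with h4 | h4 <;> rw [h4]
          · group
          · rw [hba]; group
        have hya : y * a = a * y := h.comm_z y hyQ
        have hyx : y⁻¹ * x = x * y⁻¹ * a := by
          have h5 : (x : G) = y * (x * y⁻¹ * a) := by
            calc (x : G) = (x * y) * y⁻¹ := by group
              _ = y * x * a * y⁻¹ := by rw [h1]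
              _ = y * x * (a * y⁻¹) := by group
              _ = y * x * (y⁻¹ * a) := by rw [(show Commute y a from hya).inv_left.eq]
              _ = _ := by group
          calc y⁻¹ * x = y⁻¹ * (y * (x * y⁻¹ * a)) := by rw [← h5]
            _ = _ := by group
        apply h.z_ne
        calc a = (x * x) * (y * y)⁻¹ * a := by rw [hyy, mul_inv_cancel, one_mul]
          _ = x * (x * y⁻¹) * (y⁻¹ * a) := by group
          _ = x * (x * y⁻¹) * (a * y⁻¹) := by rw [(show Commute y a from hya).inv_left.eq]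
          _ = x * (x * y⁻¹ * a) * y⁻¹ := by group
          _ = (x * y⁻¹) * (x * y⁻¹) := by rw [← hyx]; group
          _ = 1 := h2)
  rw [← hcb]
  apply h.mem_of_act
  ext v
  show h.act cb v = v
  rw [hτη]
  exact key v

end Cfsg.Agent.ClassificationK.SymplX
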