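import Mathlib
import Cfsg.Prelude.Def_ClassificationK
import Cfsg.Agent.S0093
import Cfsg.Agent.S1755

/-!
# 2-groups of symplectic type and exponent dividing 4

If every characteristic abelian subgroup of the finite 2-group `Q` is cyclic and `q ^ 4 = 1` for all `q`, then
commutators and squares lie in `{1, z}` where `z` is the involution of the centre
(so `Q` is extraspecial, or a central product of an extraspecial group with a cyclic group of order `4`,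
or cyclic of order at most `4`).
-/

set_option autoImplicit false

namespace Cfsg.Agent.ClassificationK.SymplecticExpFour

open Subgroup
open scoped commutatorElement

/-- Commutators are central of order at most two. -/
theorem commutator_central {Q : Type*} [Group Q] [Finite Q] (hQ : Cfsg.IsOfSymplecticType Q)
    (h4 : ∀ q : Q, q ^ 4 = 1) (x y : Q) : ⁅x, y⁆ ∈ center Q ∧ ⁅x, y⁆ ^ 2 = 1 := by
  have : Fact (Nat.Prime 2) := ⟨Nat.prime_two⟩
  obtain ⟨H, hHc, hfr, hcm, hCH⟩ := Cfsg.Agent.S0093.aux (p := 2) hQ.1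
  have hHn : H.Normal := inferInstance
  set Z := centralizer (H : Set Q) with hZ
  have hZc : Z.Characteristic := inferInstance
  have hZn : Z.Normal := inferInstance
  have hZcomm : ∀ a ∈ Z, ∀ h ∈ H, h * a = a * h := fun a ha h hh =>
    mem_centralizer_iff.mp ha h hh
  have hZab : IsMulCommutative Z := ⟨⟨fun a b => Subtype.ext (hZcomm b b.2 a (hCH a.2))⟩⟩
  have hZcyc : IsCyclic Z := hQ.2 Z hZc hZab
  have hsq : ∀ h ∈ H, h ^ 2 ∈ Z := by
    intro h hh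
    apply hfr
    exact ⟨⟨h, hh⟩ ^ 2, Cfsg.Agent.Lib.FrattiniPGroup.pow_mem_frattini (hQ.1.to_subgroup H) _, rfl⟩
  have hcomm : ∀ h ∈ H, ∀ y, ⁅h, y⁆ ∈ Z := fun h hh y =>
    (hcm (commutator_mem_commutator hh (mem_top y))).2
  -- involutions of `Z` are central in `Q`
  have hinv : ∀ a ∈ Z, a ^ 2 = 1 → a ∈ center Q := by
    intro a ha ha2
    by_cases h1 : a = 1
    · rw [h1]; exact one_mem _
    have hao : orderOf a = 2 := orderOf_eq_prime ha2 h1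
    rw [mem_center_iff]
    intro g
    have h3 : g * a * g⁻¹ ∈ Z := hZn.conj_mem a ha g
    have h5 : orderOf (g * a * g⁻¹) = 2 := by
      have := orderOf_injective (MulAut.conj g).toMonoidHom (MulAut.conj g).injective a
      simpa [hao] using this
    have h6 := Cfsg.Agent.S1755.eq_of_orderOf_two_mem hZcyc h3 ha h5 hao
    calc g * a = g * a * g⁻¹ * g := by group
      _ = a * g := by rw [h6]
  set Q0 := centralizer (Z : Set Q) with hQ0
  have hQ0n : Q0.Normal := inferInstance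
  have hQ0c : ∀ x ∈ Q0, ∀ a ∈ Z, a * x = x * a := fun x hx a ha =>
    mem_centralizer_iff.mp hx a ha
  -- general computation
  have key : ∀ u v : Q, Commute ⁅u, v⁆ u → Commute (u ^ 2) v → ⁅u, v⁆ ^ 2 = 1 := by
    intro u v h1 h2
    have h3 : u * v * u⁻¹ = ⁅u, v⁆ * v := by rw [commutatorElement_def]; group
    have h5 : u ^ 2 * v * (u ^ 2)⁻¹ = ⁅u, v⁆ ^ 2 * v := by
      calc u ^ 2 * v * (u ^ 2)⁻¹ = u * (u * v * u⁻¹) * u⁻¹ := by simp only [pow_two]; group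
        _ = u * ⁅u, v⁆ * (v * u⁻¹) := by rw [h3]; group
        _ = ⁅u, v⁆ * (u * v * u⁻¹) := by rw [← h1.eq]; group
        _ = ⁅u, v⁆ ^ 2 * v := by rw [h3, pow_two]; group
    have h6 : u ^ 2 * v * (u ^ 2)⁻¹ = v := by rw [h2.eq]; group
    rw [h6] at h5
    exact (mul_eq_right.mp h5.symm)
  have key' : ∀ u v : Q, ⁅u, v⁆ ∈ center Q → ⁅u, v⁆ ^ 2 = 1 → Commute (u ^ 2) v := by
    intro u v h1 h2
    have h3 : u * v * u⁻¹ = ⁅u, v⁆ * v := by rw [commutatorElement_def]; group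
    have h4 : Commute ⁅u, v⁆ u := (mem_center_iff.mp h1 u).symm
    have h5 : u ^ 2 * v * (u ^ 2)⁻¹ = ⁅u, v⁆ ^ 2 * v := by
      calc u ^ 2 * v * (u ^ 2)⁻¹ = u * (u * v * u⁻¹) * u⁻¹ := by simp only [pow_two]; group
        _ = u * ⁅u, v⁆ * (v * u⁻¹) := by rw [h3]; group
        _ = ⁅u, v⁆ * (u * v * u⁻¹) := by rw [← h4.eq]; group
        _ = ⁅u, v⁆ ^ 2 * v := by rw [h3, pow_two]; group
    rw [h2, one_mul] at h5
    show u ^ 2 * v = v * u ^ 2
    exact mul_inv_eq_iff_eq_mul.mp h5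
  -- step 1
  have step1 : ∀ h ∈ H, ∀ x ∈ Q0, ⁅h, x⁆ ∈ Z ∧ ⁅h, x⁆ ^ 2 = 1 := by
    intro h hh x hx
    have h1 := hcomm h hh x
    exact ⟨h1, key h x (hZcomm _ h1 h hh).symm (hQ0c x hx _ (hsq h hh))⟩
  -- step 2
  have step2 : ∀ x ∈ Q0, x ^ 2 ∈ Z := by
    intro x hx
    rw [hZ, mem_centralizer_iff]
    intro h hh
    obtain ⟨h1, h2⟩ := step1 h hh x hx
    have h3 : ⁅x, h⁆ = ⁅h, x⁆⁻¹ := (commutatorElement_inv h x).symm
    have h5 : ⁅x, h⁆ ∈ center Q := by rw [h3]; exact inv_mem (hinv _ h1 h2)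
    have h6 : ⁅x, h⁆ ^ 2 = 1 := by rw [h3, inv_pow, h2, inv_one]
    exact (key' x h h5 h6).eq.symm
  -- step 3
  have step3 : ∀ x ∈ Q0, ∀ y ∈ Q0, ⁅x, y⁆ ∈ Z := by
    have h1 : ⁅⁅Q0, H⁆, Q0⁆ = ⊥ := by
      rw [eq_bot_iff, commutator_le]
      intro a ha b hb
      have ha' : a ∈ Z := by
        have : ⁅Q0, H⁆ ≤ Z := by
          rw [commutator_le]
          intro c _ d hd
          rw [← commutatorElement_inv]
          exact inv_mem (hcomm d hd c)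
        exact this ha
      rw [mem_bot, commutatorElement_eq_one_iff_mul_comm]
      exact hQ0c b hb a ha'
    have h2 : ⁅⁅H, Q0⁆, Q0⁆ = ⊥ := by rw [commutator_comm H Q0]; exact h1
    have h3 : ⁅⁅Q0, Q0⁆, H⁆ = ⊥ := commutator_commutator_eq_bot_of_rotate h1 h2
    intro x hx y hy
    rw [hZ, mem_centralizer_iff]
    intro h hh
    have h5 : ⁅⁅x, y⁆, h⁆ ∈ ⁅⁅Q0, Q0⁆, H⁆ :=
      commutator_mem_commutator (commutator_mem_commutator hx hy) hh
    rw [h3, mem_bot, commutatorElement_eq_one_iff_mul_comm] at h5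
    exact h5.symm
  -- step 5
  have step5 : ∀ y : Q, ∀ h ∈ Q0, ⁅y, h⁆ ∈ Z := by
    intro y h hh
    have h1 : ∀ k ∈ H, (y * h * y⁻¹) * k * (y * h * y⁻¹)⁻¹ = h * k * h⁻¹ := by
      intro k hk
      obtain ⟨h1, h2⟩ := step1 k hk h hh
      have h3 : ⁅h, k⁆ = ⁅k, h⁆⁻¹ := (commutatorElement_inv k h).symm
      have h5 : ⁅h, k⁆ ∈ center Q := by rw [h3]; exact inv_mem (hinv _ h1 h2)
      have h6 : ⁅k⁻¹, y⁻¹⁆ ∈ Z := hcomm _ (inv_mem hk) _
      have h7 : y⁻¹ * k * y = k * ⁅k⁻¹, y⁻¹⁆ := by rw [commutatorElement_def]; group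
      have h8 : h * k * h⁻¹ = ⁅h, k⁆ * k := by rw [commutatorElement_def]; group
      have h9 : ⁅k⁻¹, y⁻¹⁆ * h = h * ⁅k⁻¹, y⁻¹⁆ := hQ0c h hh _ h6
      calc (y * h * y⁻¹) * k * (y * h * y⁻¹)⁻¹
          = y * h * (y⁻¹ * k * y) * h⁻¹ * y⁻¹ := by group
        _ = y * (h * k * ⁅k⁻¹, y⁻¹⁆ * h⁻¹) * y⁻¹ := by rw [h7]; group
        _ = y * (h * k * (⁅k⁻¹, y⁻¹⁆ * h) * h⁻¹ * h⁻¹) * y⁻¹ := by group
        _ = y * (h * k * (h * ⁅k⁻¹, y⁻¹⁆) * h⁻¹ * h⁻¹) * y⁻¹ := by rw [h9]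
        _ = y * (h * k * h⁻¹) * ⁅k⁻¹, y⁻¹⁆ * y⁻¹ := by
              have h10 : h * ⁅k⁻¹, y⁻¹⁆ * h⁻¹ = ⁅k⁻¹, y⁻¹⁆ := by rw [← h9]; group
              have h11 : h⁻¹ * ⁅k⁻¹, y⁻¹⁆ * h = ⁅k⁻¹, y⁻¹⁆ := by rw [mul_assoc, h9]; group
              have h12 : ⁅k⁻¹, y⁻¹⁆ * h⁻¹ = h⁻¹ * ⁅k⁻¹, y⁻¹⁆ := by
                rw [eq_comm, ← mul_inv_eq_iff_eq_mul]; simpa using h11
              rw [show h * k * (h * ⁅k⁻¹, y⁻¹⁆) * h⁻¹ * h⁻¹
                = h * k * (h * ⁅k⁻¹, y⁻¹⁆ * h⁻¹) * h⁻¹ by group, h10,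
                show h * k * ⁅k⁻¹, y⁻¹⁆ * h⁻¹ = h * k * (⁅k⁻¹, y⁻¹⁆ * h⁻¹) by group, h12]
              group
        _ = y * ⁅h, k⁆ * (k * ⁅k⁻¹, y⁻¹⁆) * y⁻¹ := by rw [h8]; group
        _ = y * ⁅h, k⁆ * (y⁻¹ * k * y) * y⁻¹ := by rw [h7]
        _ = y * ⁅h, k⁆ * y⁻¹ * k := by group
        _ = ⁅h, k⁆ * k := by rw [mem_center_iff.mp h5 y]; group
        _ = h * k * h⁻¹ := h8.symm
    have h2 : h⁻¹ * (y * h * y⁻¹) ∈ Z := by
      rw [hZ, mem_centralizer_iff]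
      intro k hk
      have h3 := h1 k hk
      have h5 : (h⁻¹ * (y * h * y⁻¹)) * k * (h⁻¹ * (y * h * y⁻¹))⁻¹ = k := by
        calc (h⁻¹ * (y * h * y⁻¹)) * k * (h⁻¹ * (y * h * y⁻¹))⁻¹
            = h⁻¹ * ((y * h * y⁻¹) * k * (y * h * y⁻¹)⁻¹) * h := by group
          _ = k := by rw [h3]; group
      exact (mul_inv_eq_iff_eq_mul.mp h5).symm
    have h3 : ⁅y, h⁆ = h * (h⁻¹ * (y * h * y⁻¹)) * h⁻¹ := by rw [commutatorElement_def]; group
    rw [h3]
    exact hZn.conj_mem _ h2 h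
  -- step 6
  have step6 : ∀ y : Q, ∀ h ∈ Q0, ⁅y, h⁆ ∈ center Q ∧ ⁅y, h⁆ ^ 2 = 1 := by
    intro y h hh
    have h1 := step5 y h hh
    have h2 : h ^ 2 ∈ center Q := hinv _ (step2 h hh) (by rw [← pow_mul]; exact h4 h)
    have h3 : ⁅y, h⁆ ^ 2 = 1 := by
      have h5 : ⁅h, y⁆ ^ 2 = 1 := by
        refine key h y ?_ (mem_center_iff.mp h2 y).symm
        rw [← commutatorElement_inv]
        exact (Commute.inv_left (hQ0c h hh _ h1))
      rw [← commutatorElement_inv, inv_pow, h5, inv_one]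
    exact ⟨hinv _ h1 h3, h3⟩
  -- step 7
  by_cases hy : y ∈ Q0
  · exact step6 x y hy
  by_cases hx : x ∈ Q0
  · have h1 := step6 y x hx
    rw [← commutatorElement_inv]
    exact ⟨inv_mem h1.1, by rw [inv_pow, h1.2, inv_one]⟩
  obtain ⟨⟨c, hc⟩, hgen⟩ := hZcyc.exists_generator
  have hgen' : ∀ a ∈ Z, ∃ k : ℤ, c ^ k = a := by
    intro a ha
    obtain ⟨k, hk⟩ := mem_zpowers_iff.mp (hgen ⟨a, ha⟩)
    exact ⟨k, congrArg Subtype.val hk⟩
  have hin : ∀ w, w * c * w⁻¹ = c → w ∈ Q0 := by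
    intro w hw
    rw [hQ0, mem_centralizer_iff]
    intro a ha
    obtain ⟨k, rfl⟩ := hgen' a ha
    have h1 : Commute w c := mul_inv_eq_iff_eq_mul.mp hw
    exact (h1.zpow_right k).eq.symm
  have hout : ∀ w, w ∉ Q0 → w * c * w⁻¹ = c⁻¹ := by
    intro w hw
    have h1 : w * c * w⁻¹ ∈ Z := hZn.conj_mem c hc w
    obtain ⟨k, hk⟩ := hgen' _ h1
    have hc4 : c ^ (4 : ℤ) = 1 := by exact_mod_cast h4 c
    have h2 : c ^ k = c ^ (k % 4) := by
      conv_lhs => rw [← Int.emod_add_mul_ediv k 4]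
      rw [zpow_add, zpow_mul, hc4, one_zpow, mul_one]
    rw [h2] at hk
    have hne : w * c * w⁻¹ ≠ c := fun h => hw (hin w h)
    have h5 : k % 4 = 0 ∨ k % 4 = 1 ∨ k % 4 = 2 ∨ k % 4 = 3 := by omega
    rcases h5 with h5 | h5 | h5 | h5
    · rw [h5, zpow_zero] at hk
      exfalso; apply hne
      have : c = 1 := by
        have h6 := hk.symm
        rw [mul_inv_eq_one] at h6
        simpa using h6
      rw [this]; group
    · rw [h5, zpow_one] at hk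
      exact absurd hk.symm hne
    · rw [h5] at hk
      exfalso
      have h6 : c ^ (2 : ℤ) = 1 := by
        have h7 : w * c ^ (2 : ℤ) * w⁻¹ = 1 := by
          calc w * c ^ (2 : ℤ) * w⁻¹ = (w * c * w⁻¹) * (w * c * w⁻¹) := by
                rw [show (2 : ℤ) = 1 + 1 from rfl, zpow_add, zpow_one]; group
            _ = 1 := by rw [← hk, ← zpow_add]; exact hc4
        rw [mul_inv_eq_one] at h7
        simpa using h7
      rw [h6] at hk
      apply hne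
      have : c = 1 := by
        have h6 := hk.symm
        rw [mul_inv_eq_one] at h6
        simpa using h6
      rw [this]; group
    · rw [h5] at hk
      rw [← hk]
      have : c ^ (3 : ℤ) * c = 1 := by rw [← zpow_add_one]; exact hc4
      exact eq_inv_of_mul_eq_one_left this
  have hxc := hout x hx
  have hyc := hout y hy
  have hh : x⁻¹ * y ∈ Q0 := by
    apply hin
    have h1 : x⁻¹ * c⁻¹ * x = c := by
      rw [← hxc]; group
    calc x⁻¹ * y * c * (x⁻¹ * y)⁻¹ = x⁻¹ * (y * c * y⁻¹) * x := by group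
      _ = c := by rw [hyc, h1]
  have h1 := step6 x _ hh
  have h2 : ⁅x, y⁆ = x * ⁅x, x⁻¹ * y⁆ * x⁻¹ := by
    simp only [commutatorElement_def]; group
  have h3 : ⁅x, y⁆ = ⁅x, x⁻¹ * y⁆ := by
    rw [h2, mem_center_iff.mp h1.1 x]; group
  rw [h3]
  exact h1

/-- Structure of 2-groups of symplectic type and exponent dividing 4. -/
theorem structure_exp_four {Q : Type*} [Group Q] [Finite Q] (hQ : Cfsg.IsOfSymplecticType Q)
    (h4 : ∀ q : Q, q ^ 4 = 1) {z : Q} (hz : orderOf z = 2) (hzc : z ∈ center Q) :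
    (∀ x y : Q, ⁅x, y⁆ = 1 ∨ ⁅x, y⁆ = z) ∧ (∀ x : Q, x ^ 2 = 1 ∨ x ^ 2 = z) ∧
      (∀ x ∈ center Q, x ^ 2 = 1 → x = 1 ∨ x = z) := by
  have h3 : ∀ x ∈ center Q, x ^ 2 = 1 → x = 1 ∨ x = z := by
    intro x hx hx2
    by_cases h1 : x = 1
    · exact Or.inl h1
    · exact Or.inr (Cfsg.Agent.S1755.eq_central hQ hz hzc (B := center Q) inferInstance inferInstance
        hx (orderOf_eq_prime hx2 h1))
  have h2 : ∀ x : Q, x ^ 2 ∈ center Q := by
    intro x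
    rw [mem_center_iff]
    intro v
    obtain ⟨h1, h2⟩ := commutator_central hQ h4 x v
    have h3 : x * v * x⁻¹ = ⁅x, v⁆ * v := by rw [commutatorElement_def]; group
    have h4 : Commute ⁅x, v⁆ x := (mem_center_iff.mp h1 x).symm
    have h5 : x ^ 2 * v * (x ^ 2)⁻¹ = ⁅x, v⁆ ^ 2 * v := by
      calc x ^ 2 * v * (x ^ 2)⁻¹ = x * (x * v * x⁻¹) * x⁻¹ := by simp only [pow_two]; group
        _ = x * ⁅x, v⁆ * (v * x⁻¹) := by rw [h3]; group
        _ = ⁅x, v⁆ * (x * v * x⁻¹) := by rw [← h4.eq]; group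
        _ = ⁅x, v⁆ ^ 2 * v := by rw [h3, pow_two]; group
    rw [h2, one_mul] at h5
    exact (mul_inv_eq_iff_eq_mul.mp h5).symm
  refine ⟨fun x y => ?_, fun x => ?_, h3⟩
  · obtain ⟨h1, h2⟩ := commutator_central hQ h4 x y
    exact h3 _ h1 h2
  · exact h3 _ (h2 x) (by rw [← pow_mul]; exact h4 x)

end Cfsg.Agent.ClassificationK.SymplecticExpFour
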