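import Mathlib.GroupTheory.Sylow
import Mathlib.GroupTheory.Nilpotent
import Mathlib.GroupTheory.PGroup
import Mathlib.Tactic

/-!
# Families of TI-subgroups of a finite 2-group

`commute_of_family`: let `S` be a finite 2-group, `Δ` an `S`-invariant family of subgroups of the same
order, no member of exponent dividing 2, any two distinct members meeting trivially. Then distinct
members of `Δ` commute elementwise.
-/

set_option autoImplicit false

open scoped commutatorElement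

namespace Cfsg.Agent.ClassificationK.TIFamily

variable {S : Type*} [Group S]

theorem mem_cj (g x : S) (R : Subgroup S) :
    x ∈ R.map (MulAut.conj g).toMonoidHom ↔ g⁻¹ * x * g ∈ R := by
  constructor
  · rintro ⟨y, hy, rfl⟩
    simpa [mul_assoc] using hy
  · intro h
    exact ⟨g⁻¹ * x * g, h, by simp [mul_assoc]⟩

theorem cj_mul (g h : S) (R : Subgroup S) :
    R.map (MulAut.conj (g * h)).toMonoidHom =
      (R.map (MulAut.conj h).toMonoidHom).map (MulAut.conj g).toMonoidHom := by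
  ext x
  rw [mem_cj, mem_cj, mem_cj]
  simp [mul_assoc]

theorem cj_one (R : Subgroup S) : R.map (MulAut.conj (1 : S)).toMonoidHom = R := by
  ext x
  rw [mem_cj]
  simp

theorem cj_inj {g : S} {R T : Subgroup S}
    (h : R.map (MulAut.conj g).toMonoidHom = T.map (MulAut.conj g).toMonoidHom) : R = T :=
  Subgroup.map_injective (MulAut.conj g).injective h

theorem cj_inv_of_eq {g : S} {R : Subgroup S} (h : R.map (MulAut.conj g).toMonoidHom = R) :
    R.map (MulAut.conj g⁻¹).toMonoidHom = R := by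
  apply cj_inj (g := g)
  rw [← cj_mul, mul_inv_cancel, cj_one, h]

theorem cj_mul_of_eq {g h : S} {R : Subgroup S} (hg : R.map (MulAut.conj g).toMonoidHom = R)
    (hh : R.map (MulAut.conj h).toMonoidHom = R) :
    R.map (MulAut.conj (g * h)).toMonoidHom = R := by
  rw [cj_mul, hh, hg]

theorem cj_of_mem {g : S} {R : Subgroup S} (h : g ∈ R) : R.map (MulAut.conj g).toMonoidHom = R := by
  ext x
  rw [mem_cj]
  rw [R.mul_mem_cancel_right h, R.mul_mem_cancel_left (R.inv_mem h)]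

/-- an element commuting with every element of `R` normalizes `R` -/
theorem cj_of_commute {g : S} {R : Subgroup S} (h : ∀ x ∈ R, x * g = g * x) :
    R.map (MulAut.conj g).toMonoidHom = R := by
  have key : ∀ x ∈ R, g * x * g⁻¹ = x := fun x hx => by
    rw [← h x hx, mul_inv_cancel_right]
  ext x
  constructor
  · rintro ⟨y, hy, rfl⟩
    have : (MulAut.conj g).toMonoidHom y = g * y * g⁻¹ := rfl
    rw [this, key y hy]
    exact hy
  · intro hx
    exact ⟨x, hx, key x hx⟩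

theorem conj_mem_of_cj_eq {g x : S} {R : Subgroup S} (h : R.map (MulAut.conj g).toMonoidHom = R)
    (hx : x ∈ R) : g * x * g⁻¹ ∈ R := by
  rw [← h]
  exact ⟨x, hx, rfl⟩

theorem conj_mem_cj {g x : S} {R : Subgroup S} (hx : x ∈ R) :
    g * x * g⁻¹ ∈ R.map (MulAut.conj g).toMonoidHom := ⟨x, hx, rfl⟩

/-- The TI property in element form. -/
def TI (R : Subgroup S) : Prop :=
  ∀ g : S, R.map (MulAut.conj g).toMonoidHom = R ∨ R.map (MulAut.conj g).toMonoidHom ⊓ R = ⊥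

theorem TI.eq_of_mem {R : Subgroup S} (hR : TI R) {g x : S} (hx : x ≠ 1) (h1 : x ∈ R)
    (h2 : g * x * g⁻¹ = x) : R.map (MulAut.conj g).toMonoidHom = R := by
  rcases hR g with h | h
  · exact h
  · exfalso
    apply hx
    have : x ∈ R.map (MulAut.conj g).toMonoidHom ⊓ R := ⟨h2 ▸ conj_mem_cj h1, h1⟩
    rw [h] at this
    exact Subgroup.mem_bot.mp this

/-- the basic commutator step -/
theorem step {R T : Subgroup S} (hR : TI R) {v t : S} (hv : v ∈ R) (hv1 : v ≠ 1)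
    (hvT : T.map (MulAut.conj v).toMonoidHom = T) (ht : t ∈ T)
    (htR : R.map (MulAut.conj t).toMonoidHom ≠ R)
    (hcomm : ∀ x ∈ R, ∀ y ∈ R.map (MulAut.conj t).toMonoidHom, x * y = y * x) :
    v⁻¹ * (t * v * t⁻¹) ∈ T ∧ v⁻¹ * (t * v * t⁻¹) ≠ 1 ∧
      R.map (MulAut.conj (v⁻¹ * (t * v * t⁻¹))).toMonoidHom = R := by
  refine ⟨?_, ?_, ?_⟩
  · have h1 : v⁻¹ * t * v ∈ T := by
      have := conj_mem_of_cj_eq (cj_inv_of_eq hvT) ht
      simpa using this
    have h2 : v⁻¹ * (t * v * t⁻¹) = (v⁻¹ * t * v) * t⁻¹ := by group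
    rw [h2]
    exact T.mul_mem h1 (T.inv_mem ht)
  · intro h
    apply htR
    refine hR.eq_of_mem hv1 hv ?_
    exact (inv_mul_eq_one.mp h).symm
  · apply cj_mul_of_eq
    · exact cj_of_mem (R.inv_mem hv)
    · exact cj_of_commute (fun x hx => hcomm x hx _ (conj_mem_cj hv))

/-- Case A1 -/
theorem caseA1 [Group.IsNilpotent S] {R T : Subgroup S} (hR : TI R) (hT : TI T)
    {t : S} (ht : t ∈ T) (htR : R.map (MulAut.conj t).toMonoidHom ≠ R)
    (hRcomm : ∀ x ∈ R, ∀ y ∈ R.map (MulAut.conj t).toMonoidHom, x * y = y * x)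
    {s : S} (hs : s ∈ R) (hsT : T.map (MulAut.conj s).toMonoidHom ≠ T)
    (hTcomm : ∀ x ∈ T, ∀ y ∈ T.map (MulAut.conj s).toMonoidHom, x * y = y * x)
    {v : S} (hv : v ∈ R) (hv1 : v ≠ 1)
    (hvT : T.map (MulAut.conj v).toMonoidHom = T) : False := by
  have key : ∀ n : ℕ, ∃ w ∈ R, w ≠ 1 ∧ T.map (MulAut.conj w).toMonoidHom = T ∧
      w ∈ Subgroup.lowerCentralSeries (⊤ : Subgroup S) n := by
    intro n
    induction n with
    | zero => exact ⟨v, hv, hv1, hvT, by simp⟩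
    | succ n ih =>
      obtain ⟨w, hw, hw1, hwT, hwn⟩ := ih
      obtain ⟨h1, h2, h3⟩ := step hR hw hw1 hwT ht htR hRcomm
      obtain ⟨h4, h5, h6⟩ := step hT h1 h2 h3 hs hsT hTcomm
      refine ⟨_, h4, h5, h6, ?_⟩
      have e1 : w⁻¹ * (t * w * t⁻¹) ∈ Subgroup.lowerCentralSeries (⊤ : Subgroup S) (n + 1) := by
        have : w⁻¹ * (t * w * t⁻¹) = ⁅w⁻¹, t⁆ := by rw [commutatorElement_def]; group
        rw [this]
        exact Subgroup.commutator_mem_commutator ((Subgroup.lowerCentralSeries (⊤ : Subgroup S) n).inv_mem hwn) (Subgroup.mem_top t)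
      generalize w⁻¹ * (t * w * t⁻¹) = u at *
      have e2 : u⁻¹ * (s * u * s⁻¹) = ⁅u⁻¹, s⁆ := by rw [commutatorElement_def]; group
      rw [e2]
      exact Subgroup.lowerCentralSeries_antitone _ (Nat.le_succ (n + 1))
        (Subgroup.commutator_mem_commutator ((Subgroup.lowerCentralSeries (⊤ : Subgroup S) (n + 1)).inv_mem e1) (Subgroup.mem_top s))
  obtain ⟨n, hn⟩ := Subgroup.nilpotent_iff_lowerCentralSeries.mp (inferInstance : Group.IsNilpotent S)
  obtain ⟨w, _, hw1, _, hw⟩ := key n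
  rw [hn] at hw
  exact hw1 (Subgroup.mem_bot.mp hw)

/-- Case A2 -/
theorem caseA2 [Finite S] {R T : Subgroup S} (hR : TI R) (hcard : Nat.card R = Nat.card T)
    (hall : ∀ v ∈ R, T.map (MulAut.conj v).toMonoidHom = T)
    {t : S} (ht : t ∈ T) (htR : R.map (MulAut.conj t).toMonoidHom ≠ R)
    (hRcomm : ∀ x ∈ R, ∀ y ∈ R.map (MulAut.conj t).toMonoidHom, x * y = y * x) : False := by
  have hmem : ∀ v : R, (v : S)⁻¹ * (t * v * t⁻¹) ∈ T := by
    intro v
    by_cases hv : (v : S) = 1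
    · simp [hv]
    · exact (step hR v.2 hv (hall v v.2) ht htR hRcomm).1
  have hnorm : ∀ v : R, R.map (MulAut.conj ((v : S)⁻¹ * (t * v * t⁻¹))).toMonoidHom = R := by
    intro v
    by_cases hv : (v : S) = 1
    · rw [hv]
      simpa using cj_one R
    · exact (step hR v.2 hv (hall v v.2) ht htR hRcomm).2.2
  let f : R → T := fun v => ⟨(v : S)⁻¹ * (t * v * t⁻¹), hmem v⟩
  have hinj : Function.Injective f := by
    intro v w hvw
    by_contra hne
    have h1 : (v : S)⁻¹ * (t * v * t⁻¹) = (w : S)⁻¹ * (t * w * t⁻¹) := congrArg Subtype.val hvw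
    apply htR
    refine hR.eq_of_mem (x := (w : S) * (v : S)⁻¹) ?_ (R.mul_mem w.2 (R.inv_mem v.2)) ?_
    · intro h
      exact hne (Subtype.ext (mul_inv_eq_one.mp h).symm)
    · have h2 : (t * v * t⁻¹) = (v : S) * ((w : S)⁻¹ * (t * w * t⁻¹)) := by
        rw [← h1]; group
      have h3 : t * ((w : S) * (v : S)⁻¹) * t⁻¹ = (t * w * t⁻¹) * (t * v * t⁻¹)⁻¹ := by group
      rw [h3, h2]
      group
  have hbij : Function.Surjective f :=
    ((Nat.bijective_iff_injective_and_card f).mpr ⟨hinj, hcard⟩).2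
  obtain ⟨v, hv⟩ := hbij ⟨t, ht⟩
  have h1 : (v : S)⁻¹ * (t * v * t⁻¹) = t := congrArg Subtype.val hv
  apply htR
  have := hnorm v
  rwa [h1] at this

/-- Case B -/
theorem caseB {R T : Subgroup S} (hR : TI R)
    (hRcomm : ∀ g ∈ T, R.map (MulAut.conj g).toMonoidHom ≠ R →
      ∀ x ∈ R, ∀ y ∈ R.map (MulAut.conj g).toMonoidHom, x * y = y * x)
    (hTcomm : ∀ g ∈ R, T.map (MulAut.conj g).toMonoidHom ≠ T →
      ∀ x ∈ T, ∀ y ∈ T.map (MulAut.conj g).toMonoidHom, x * y = y * x)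
    (hU : ∀ g ∈ T, g ≠ 1 → R.map (MulAut.conj g).toMonoidHom ≠ R)
    (hV : ∀ g ∈ R, g ≠ 1 → T.map (MulAut.conj g).toMonoidHom ≠ T)
    {t r : S} (ht : t ∈ T) (hr : r ∈ R) (ht2 : t ^ 2 ≠ 1) (hr2 : r ^ 2 ≠ 1) (hr4 : r ^ 4 = 1) :
    False := by
  have ht1 : t ≠ 1 := fun h => ht2 (by rw [h, one_pow])
  have hr1 : r ≠ 1 := fun h => hr2 (by rw [h, one_pow])
  have hT' := hTcomm r⁻¹ (R.inv_mem hr) (hV _ (R.inv_mem hr) (inv_ne_one.mpr hr1)) t ht
    (r⁻¹ * t * r⁻¹⁻¹) (conj_mem_cj ht)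
  rw [inv_inv] at hT'
  -- `a = r`, `b = t r t⁻¹`, `c = t² r t⁻²`
  obtain ⟨b, hb⟩ : ∃ b, b = t * r * t⁻¹ := ⟨_, rfl⟩
  obtain ⟨c, hc⟩ : ∃ c, c = t * b * t⁻¹ := ⟨_, rfl⟩
  have hbR : b ∈ R.map (MulAut.conj t).toMonoidHom := hb ▸ conj_mem_cj hr
  have hcR : c ∈ R.map (MulAut.conj (t ^ 2)).toMonoidHom := by
    rw [mem_cj, hc, hb]
    have : (t ^ 2)⁻¹ * (t * (t * r * t⁻¹) * t⁻¹) * t ^ 2 = r := by group
    rw [this]; exact hr
  have hab : r * b = b * r := hRcomm t ht (hU t ht ht1) r hr b hbR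
  have hac : r * c = c * r := hRcomm (t ^ 2) (T.pow_mem ht 2) (hU _ (T.pow_mem ht 2) ht2) r hr c hcR
  -- `b⁻¹ c = r⁻¹ b`
  have h1 : b⁻¹ * c = r⁻¹ * b := by
    have e1 : r⁻¹ * t * r = (r⁻¹ * b) * t := by rw [hb]; group
    rw [e1] at hT'
    have e2 : t * (r⁻¹ * b) * t⁻¹ = b⁻¹ * c := by rw [hc, hb]; group
    rw [← e2, mul_inv_eq_iff_eq_mul]
    have := congrArg (fun z => z * t⁻¹) hT'
    simp only [mul_assoc, mul_inv_cancel, mul_one] at this ⊢
    have e3 : t * (r⁻¹ * b) = r⁻¹ * (b * t) := by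
      have := congrArg (fun z => z * t⁻¹) hT'
      simpa [mul_assoc] using this
    simpa [mul_assoc] using e3
  have h2 : r * c = b * b := by
    have : c = b * (r⁻¹ * b) := by rw [← h1]; group
    rw [this, ← mul_assoc, hab]
    group
  have h3 : b ^ 4 = 1 := by
    rw [hb]
    have : (t * r * t⁻¹) ^ 4 = t * r ^ 4 * t⁻¹ := conj_pow
    rw [this, hr4]; group
  have h4 : r ^ 2 * c ^ 2 = 1 := by
    have hcomm : Commute r c := hac
    have : r ^ 2 * c ^ 2 = (r * c) ^ 2 := (hcomm.mul_pow 2).symm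
    rw [this, h2, ← pow_two, ← pow_mul, h3]
  have h5 : r ^ 2 ∈ R.map (MulAut.conj (t ^ 2)).toMonoidHom := by
    rw [eq_inv_of_mul_eq_one_left h4]
    exact Subgroup.inv_mem _ (Subgroup.pow_mem _ hcR 2)
  rcases hR (t ^ 2) with h | h
  · exact hU _ (T.pow_mem ht 2) ht2 h
  · apply hr2
    have h6 : r ^ 2 ∈ R.map (MulAut.conj (t ^ 2)).toMonoidHom ⊓ R := ⟨h5, R.pow_mem hr 2⟩
    rw [h] at h6
    exact Subgroup.mem_bot.mp h6

/-- an element of order 4 -/
theorem exists_order_four (hS : IsPGroup 2 S) {R : Subgroup S} {r : S} (hr : r ∈ R) (hr2 : r ^ 2 ≠ 1) :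
    ∃ x ∈ R, x ^ 2 ≠ 1 ∧ x ^ 4 = 1 := by
  obtain ⟨k, hk⟩ := hS r
  -- find the smallest `k` with `r ^ 2 ^ k = 1`
  classical
  have hex : ∃ k, r ^ 2 ^ k = 1 := ⟨k, hk⟩
  have hk0 := Nat.find_spec hex
  obtain ⟨m, hm⟩ : ∃ m, m = Nat.find hex := ⟨_, rfl⟩
  rw [← hm] at hk0
  have hm2 : 2 ≤ m := by
    by_contra hlt
    interval_cases m
    · apply hr2
      have : r = 1 := by simpa using hk0
      rw [this, one_pow]
    · apply hr2
      simpa using hk0
  obtain ⟨j, rfl⟩ := Nat.exists_eq_add_of_le' hm2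
  refine ⟨r ^ 2 ^ j, R.pow_mem hr _, ?_, ?_⟩
  · intro h
    rw [← pow_mul, ← pow_succ] at h
    exact Nat.find_min hex (m := j + 1) (by omega) h
  · rw [← pow_mul]
    have : 2 ^ j * 4 = 2 ^ (j + 2) := by rw [pow_add]; norm_num
    rw [this]
    exact hk0

/-- The two members commute, assuming all members commute with their distinct conjugates in `⟨R, T⟩`. -/
theorem commute_of_min [Finite S] (hS : IsPGroup 2 S) {R T : Subgroup S} (hR : TI R) (hT : TI T)
    (hRT : R ⊓ T = ⊥)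
    (hcard : Nat.card R = Nat.card T)
    (hR2 : ∃ r ∈ R, r ^ 2 ≠ 1) (hT2 : ∃ t ∈ T, t ^ 2 ≠ 1)
    (hRcomm : ∀ g ∈ T, R.map (MulAut.conj g).toMonoidHom ≠ R →
      ∀ x ∈ R, ∀ y ∈ R.map (MulAut.conj g).toMonoidHom, x * y = y * x)
    (hTcomm : ∀ g ∈ R, T.map (MulAut.conj g).toMonoidHom ≠ T →
      ∀ x ∈ T, ∀ y ∈ T.map (MulAut.conj g).toMonoidHom, x * y = y * x) :
    ∀ x ∈ R, ∀ y ∈ T, x * y = y * x := by
  have : Fact (Nat.Prime 2) := ⟨Nat.prime_two⟩
  have : Group.IsNilpotent S := hS.isNilpotent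
  by_cases h1 : ∀ g ∈ T, R.map (MulAut.conj g).toMonoidHom = R
  · by_cases h2 : ∀ g ∈ R, T.map (MulAut.conj g).toMonoidHom = T
    · intro x hx y hy
      have e1 : x * y * x⁻¹ * y⁻¹ ∈ R := by
        have : x * y * x⁻¹ * y⁻¹ = x * (y * x⁻¹ * y⁻¹) := by group
        rw [this]
        exact R.mul_mem hx (conj_mem_of_cj_eq (h1 y hy) (R.inv_mem hx))
      have e2 : x * y * x⁻¹ * y⁻¹ ∈ T := T.mul_mem (conj_mem_of_cj_eq (h2 x hx) hy) (T.inv_mem hy)
      have e3 : x * y * x⁻¹ * y⁻¹ ∈ R ⊓ T := ⟨e1, e2⟩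
      rw [hRT] at e3
      have := Subgroup.mem_bot.mp e3
      rw [mul_inv_eq_one, mul_inv_eq_iff_eq_mul] at this
      exact this
    · exfalso
      push Not at h2
      obtain ⟨s, hs, hsT⟩ := h2
      exact caseA2 hT hcard.symm h1 hs hsT (hTcomm s hs hsT)
  · push Not at h1
    obtain ⟨t, ht, htR⟩ := h1
    exfalso
    by_cases h2 : ∀ g ∈ R, T.map (MulAut.conj g).toMonoidHom = T
    · exact caseA2 hR hcard h2 ht htR (hRcomm t ht htR)
    · push Not at h2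
      obtain ⟨s, hs, hsT⟩ := h2
      by_cases h3 : ∀ g ∈ R, g ≠ 1 → T.map (MulAut.conj g).toMonoidHom ≠ T
      · by_cases h4 : ∀ g ∈ T, g ≠ 1 → R.map (MulAut.conj g).toMonoidHom ≠ R
        · obtain ⟨r, hr, hr2⟩ := hR2
          obtain ⟨r', hr', hr'2, hr'4⟩ := exists_order_four hS hr hr2
          obtain ⟨t', ht', ht'2⟩ := hT2
          exact caseB hR hRcomm hTcomm h4 h3 ht' hr' ht'2 hr'2 hr'4
        · push Not at h4
          obtain ⟨u, hu, hu1, huR⟩ := h4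
          exact caseA1 hT hR hs hsT (hTcomm s hs hsT) ht htR (hRcomm t ht htR) hu hu1 huR
      · push Not at h3
        obtain ⟨v, hv, hv1, hvT⟩ := h3
        exact caseA1 hR hT ht htR (hRcomm t ht htR) hs hsT (hTcomm s hs hsT) hv hv1 hvT

/-- In a finite 2-group, a proper subgroup `R` of `H` is contained, with all its `H`-conjugates, in a
proper subgroup of `H`. -/
theorem exists_proper [Finite S] (hS : IsPGroup 2 S) {R H : Subgroup S} (hRH : R < H) :
    ∃ M : Subgroup S, R ≤ M ∧ M < H ∧ ∀ g ∈ H, R.map (MulAut.conj g).toMonoidHom ≤ M := by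
  have : Fact (Nat.Prime 2) := ⟨Nat.prime_two⟩
  have : Group.IsNilpotent H := (hS.to_subgroup H).isNilpotent
  have hne : R.subgroupOf H ≠ ⊤ := by
    intro h
    rw [Subgroup.subgroupOf_eq_top] at h
    exact absurd (le_antisymm h hRH.le) hRH.ne'
  obtain ⟨M, hM, hRM⟩ := (eq_top_or_exists_le_coatom (R.subgroupOf H)).resolve_left hne
  have hMn : M.Normal :=
    Subgroup.NormalizerCondition.normal_of_coatom M Group.normalizerCondition_of_isNilpotent hM
  have hRM' : ∀ x (hx : x ∈ R), (⟨x, hRH.le hx⟩ : H) ∈ M := fun x hx => hRM (by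
    rw [Subgroup.mem_subgroupOf]; exact hx)
  refine ⟨M.map H.subtype, ?_, ?_, ?_⟩
  · intro x hx
    exact ⟨⟨x, hRH.le hx⟩, hRM' x hx, rfl⟩
  · refine lt_of_le_of_ne (Subgroup.map_subtype_le M) ?_
    intro h
    apply hM.1
    rw [eq_top_iff]
    intro x _
    have h3 : (x : S) ∈ M.map H.subtype := by
      rw [h]; exact x.2
    obtain ⟨y, hy, hyx⟩ := h3
    have : y = x := Subtype.ext hyx
    exact this ▸ hy
  · rintro g hg _ ⟨x, hx, rfl⟩
    exact ⟨⟨g, hg⟩ * ⟨x, hRH.le hx⟩ * (⟨g, hg⟩ : H)⁻¹, hMn.conj_mem _ (hRM' x hx) _, rfl⟩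

/-- **Main theorem.** -/
theorem commute_of_family [Finite S] (hS : IsPGroup 2 S) (Δ : Set (Subgroup S))
    (hinv : ∀ s : S, ∀ R ∈ Δ, R.map (MulAut.conj s).toMonoidHom ∈ Δ)
    (hsq : ∀ R ∈ Δ, ∃ r ∈ R, r ^ 2 ≠ 1)
    (hord : ∀ R ∈ Δ, ∀ T ∈ Δ, Nat.card ↥R = Nat.card ↥T)
    (hti : ∀ R ∈ Δ, ∀ T ∈ Δ, R = T ∨ R ⊓ T = ⊥) :
    ∀ R ∈ Δ, ∀ T ∈ Δ, R ≠ T → ∀ x ∈ R, ∀ y ∈ T, x * y = y * x := by
  have hTI : ∀ R ∈ Δ, TI R := fun R hR g => hti _ (hinv g R hR) R hR
  have hne : ∀ R ∈ Δ, R ≠ ⊥ := by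
    rintro R hR rfl
    obtain ⟨r, hr, hr2⟩ := hsq _ hR
    apply hr2
    rw [Subgroup.mem_bot.mp hr, one_pow]
  have key : ∀ n : ℕ, ∀ R ∈ Δ, ∀ T ∈ Δ, Nat.card ↥(R ⊔ T) = n → R ≠ T →
      ∀ x ∈ R, ∀ y ∈ T, x * y = y * x := by
    intro n
    induction n using Nat.strong_induction_on with
    | _ n ih =>
      intro R hR T hT hn hRT
      have hinf : R ⊓ T = ⊥ := (hti R hR T hT).resolve_left hRT
      have hlt : ∀ R ∈ Δ, ∀ T ∈ Δ, R ≠ T → R < R ⊔ T := by
        intro R hR T hT hRT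
        refine lt_of_le_of_ne le_sup_left ?_
        intro h
        have h1 : T ≤ R := by rw [h]; exact le_sup_right
        have h2 : R ⊓ T = ⊥ := (hti R hR T hT).resolve_left hRT
        rw [inf_eq_right.mpr h1] at h2
        exact hne T hT h2
      have hcomm : ∀ R' ∈ Δ, R' < R ⊔ T → ∀ g ∈ R ⊔ T, R'.map (MulAut.conj g).toMonoidHom ≠ R' →
          ∀ x ∈ R', ∀ y ∈ R'.map (MulAut.conj g).toMonoidHom, x * y = y * x := by
        intro R' hR' hlt' g hg hg'
        obtain ⟨M, hRM, hMH, hconj⟩ := exists_proper hS hlt'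
        refine ih (Nat.card ↥(R' ⊔ R'.map (MulAut.conj g).toMonoidHom)) ?_ R' hR' _ (hinv g R' hR') rfl
          (Ne.symm hg')
        rw [← hn]
        have h1 : R' ⊔ R'.map (MulAut.conj g).toMonoidHom < R ⊔ T :=
          lt_of_le_of_lt (sup_le hRM (hconj g hg)) hMH
        exact Set.ncard_lt_ncard h1 (Set.toFinite _)
      refine commute_of_min hS (hTI R hR) (hTI T hT) hinf (hord R hR T hT) (hsq R hR) (hsq T hT) ?_ ?_
      · intro g hg
        exact hcomm R hR (hlt R hR T hT hRT) g (le_sup_right (a := R) hg)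
      · intro g hg
        refine hcomm T hT ?_ g (le_sup_left (b := T) hg)
        rw [sup_comm]
        exact hlt T hT R hR (Ne.symm hRT)
  intro R hR T hT hRT
  exact key _ R hR T hT rfl hRT

end Cfsg.Agent.ClassificationK.TIFamily
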