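import Cfsg.Agent.ClassificationK.TIFamily

/-!
# Families of TI-subgroups inside a 2-subgroup

`commute_of_family_sub` is the version of `TIFamily.commute_of_family` for a family of subgroups of an
ambient group all lying in a 2-subgroup `S` and permuted by `S`.
-/

set_option autoImplicit false

open scoped commutatorElement

namespace Cfsg.Agent.ClassificationK.TIFamilySub

open Cfsg.Agent.ClassificationK.TIFamily

variable {G : Type*} [Group G]

theorem map_subtype_conj {S : Subgroup G} (s : S) (X : Subgroup S) :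
    (X.map (MulAut.conj s).toMonoidHom).map S.subtype =
      (X.map S.subtype).map (MulAut.conj (s : G)).toMonoidHom := by
  rw [Subgroup.map_map, Subgroup.map_map]
  congr 1

/-- Version of `commute_of_family` for a family of subgroups of an ambient group. -/
theorem commute_of_family_sub [Finite G] {S : Subgroup G} (hS : IsPGroup 2 S) (Δ : Set (Subgroup G))
    (hle : ∀ R ∈ Δ, R ≤ S)
    (hinv : ∀ s ∈ S, ∀ R ∈ Δ, R.map (MulAut.conj s).toMonoidHom ∈ Δ)
    (hsq : ∀ R ∈ Δ, ∃ r ∈ R, r ^ 2 ≠ 1)
    (hord : ∀ R ∈ Δ, ∀ T ∈ Δ, Nat.card ↥R = Nat.card ↥T)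
    (hti : ∀ R ∈ Δ, ∀ T ∈ Δ, R = T ∨ R ⊓ T = ⊥) :
    ∀ R ∈ Δ, ∀ T ∈ Δ, R ≠ T → ∀ x ∈ R, ∀ y ∈ T, x * y = y * x := by
  intro R hR T hT hRT x hx y hy
  have hmap : ∀ R ∈ Δ, (R.subgroupOf S).map S.subtype = R := fun R hR =>
    Subgroup.map_subgroupOf_eq_of_le (hle R hR)
  have hcard : ∀ X : Subgroup S, Nat.card (X.map S.subtype) = Nat.card X := fun X =>
    Nat.card_congr (X.equivMapOfInjective S.subtype S.subtype_injective).symm.toEquiv
  have key := commute_of_family hS {X : Subgroup S | X.map S.subtype ∈ Δ}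
    (by
      intro s X hX
      change (X.map (MulAut.conj s).toMonoidHom).map S.subtype ∈ Δ
      rw [map_subtype_conj]
      exact hinv s s.2 _ hX)
    (by
      intro X hX
      obtain ⟨r, ⟨z, hz, rfl⟩, hr2⟩ := hsq _ hX
      refine ⟨z, hz, fun h => hr2 ?_⟩
      have := congrArg Subtype.val h
      simpa using this)
    (by
      intro X hX Y hY
      rw [← hcard X, ← hcard Y]
      exact hord _ hX _ hY)
    (by
      intro X hX Y hY
      rcases hti _ hX _ hY with h | h
      · left
        exact Subgroup.map_injective S.subtype_injective h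
      · right
        apply Subgroup.map_injective S.subtype_injective
        rw [Subgroup.map_inf _ _ _ S.subtype_injective, h, Subgroup.map_bot])
    (R.subgroupOf S) (by change (R.subgroupOf S).map S.subtype ∈ Δ; rwa [hmap R hR])
    (T.subgroupOf S) (by change (T.subgroupOf S).map S.subtype ∈ Δ; rwa [hmap T hT])
    (by
      intro h
      apply hRT
      rw [← hmap R hR, ← hmap T hT, h])
    ⟨x, hle R hR hx⟩ (by rw [Subgroup.mem_subgroupOf]; exact hx)
    ⟨y, hle T hT hy⟩ (by rw [Subgroup.mem_subgroupOf]; exact hy)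
  exact congrArg Subtype.val key

end Cfsg.Agent.ClassificationK.TIFamilySub
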