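import Mathlib.GroupTheory.Sylow
import Mathlib.GroupTheory.PGroup
import Mathlib.Tactic
import Cfsg.Agent.ClassificationK.TIFamily
import Cfsg.Agent.S1757

/-!
# TI-subgroups: local data for S1786

`TIData V Q`: `V` is an elementary abelian 2-subgroup of the finite group `G`, equal or disjoint from its
conjugates, `Q = O_2(N_G(V))` with `C_{N(V)}(Q) ≤ Q`, and `V` is a maximal abelian normal subgroup
of `N_G(V)`.
-/

set_option autoImplicit false

namespace Cfsg.Agent.ClassificationK.TIPair

open Subgroup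
open Cfsg.Agent.ClassificationK.TIFamily (mem_cj cj_mul cj_one cj_inj cj_inv_of_eq cj_mul_of_eq cj_of_mem)

variable {G : Type*} [Group G]

/-- conjugate subgroup -/
abbrev cj (g : G) (U : Subgroup G) : Subgroup G := U.map (MulAut.conj g).toMonoidHom

/-- Fixed points of a `p`-group acting by conjugation on the cosets `N / V`. -/
theorem exists_fixed_mod [Finite G] {p : ℕ} [hp : Fact p.Prime] {P V N : Subgroup G}
    (hP : IsPGroup p P) (hN : IsPGroup p N) (hne : ¬ N ≤ V)
    (hPV : ∀ x ∈ P, ∀ v ∈ V, x * v * x⁻¹ ∈ V) (hPN : ∀ x ∈ P, ∀ n ∈ N, x * n * x⁻¹ ∈ N) :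
    ∃ z ∈ N, z ∉ V ∧ ∀ x ∈ P, z⁻¹ * (x * z * x⁻¹) ∈ V := by
  classical
  let act : MulAction P (N ⧸ V.subgroupOf N) :=
    { smul := fun x => Quotient.map' (fun n : N => (⟨x.1 * n.1 * x.1⁻¹, hPN x.1 x.2 n.1 n.2⟩ : N)) (by
        intro a b hab
        rw [QuotientGroup.leftRel_apply, mem_subgroupOf] at hab ⊢
        have := hPV x.1 x.2 _ hab
        convert this using 1
        simp only [InvMemClass.coe_inv, Subgroup.coe_mul]
        group)
      one_smul := by
        intro a
        induction a using Quotient.inductionOn' with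
        | h a =>
          change Quotient.map' _ _ (Quotient.mk'' a) = _
          rw [Quotient.map'_mk'']
          congr 1
          apply Subtype.ext
          simp
      mul_smul := by
        intro x y a
        induction a using Quotient.inductionOn' with
        | h a =>
          change Quotient.map' _ _ (Quotient.mk'' a) =
            Quotient.map' _ _ (Quotient.map' _ _ (Quotient.mk'' a))
          rw [Quotient.map'_mk'', Quotient.map'_mk'', Quotient.map'_mk'']
          congr 1
          apply Subtype.ext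
          simp only [Subgroup.coe_mul]
          group }
  have hcard : p ∣ Nat.card (N ⧸ V.subgroupOf N) := by
    obtain ⟨n, hn⟩ := hN.index (V.subgroupOf N)
    have h1 : (V.subgroupOf N).index ≠ 1 := by
      intro h
      rw [Subgroup.index_eq_one] at h
      exact hne (subgroupOf_eq_top.mp h)
    change p ∣ (V.subgroupOf N).index
    rw [hn] at h1 ⊢
    have : n ≠ 0 := by
      rintro rfl
      exact h1 (pow_zero p)
    exact dvd_pow_self p this
  have hone : (Quotient.mk'' (1 : N) : N ⧸ V.subgroupOf N) ∈ MulAction.fixedPoints P (N ⧸ V.subgroupOf N) := by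
    intro x
    change Quotient.map' _ _ (Quotient.mk'' 1) = _
    rw [Quotient.map'_mk'']
    congr 1
    apply Subtype.ext
    simp
  obtain ⟨b, hb, hb1⟩ := hP.exists_fixed_point_of_prime_dvd_card_of_fixed_point _ hcard hone
  induction b using Quotient.inductionOn' with
  | h z =>
    refine ⟨z.1, z.2, ?_, ?_⟩
    · intro hz
      apply hb1
      apply Quotient.sound'
      rw [QuotientGroup.leftRel_apply, mem_subgroupOf]
      simpa using hz
    · intro x hx
      have h1 := hb ⟨x, hx⟩
      change Quotient.map' _ _ (Quotient.mk'' z) = _ at h1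
      rw [Quotient.map'_mk''] at h1
      have h2 := Quotient.exact' h1.symm
      rw [QuotientGroup.leftRel_apply, mem_subgroupOf] at h2
      simpa using h2

/-- A `p`-group normalizing a nontrivial `p`-group centralizes a nontrivial element of it. -/
theorem exists_fixed [Finite G] {p : ℕ} [hp : Fact p.Prime] {P N : Subgroup G}
    (hP : IsPGroup p P) (hN : IsPGroup p N) (hne : N ≠ ⊥)
    (hPN : ∀ x ∈ P, ∀ n ∈ N, x * n * x⁻¹ ∈ N) :
    ∃ z ∈ N, z ≠ 1 ∧ ∀ x ∈ P, x * z = z * x := by
  obtain ⟨z, hz, hz1, hz2⟩ := exists_fixed_mod (V := ⊥) hP hN (fun h => hne (le_bot_iff.mp h))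
    (by intro x _ v hv; rw [mem_bot] at hv ⊢; simp [hv]) hPN
  refine ⟨z, hz, fun h => hz1 (mem_bot.mpr h), fun x hx => ?_⟩
  have := mem_bot.mp (hz2 x hx)
  have h3 : x * z * x⁻¹ = z := (inv_mul_eq_one.mp this).symm
  calc x * z = (x * z * x⁻¹) * x := by group
    _ = z * x := by rw [h3]

/-- The local data. -/
structure TIData (V Q : Subgroup G) : Prop where
  sq : ∀ a ∈ V, a * a = 1
  comm : ∀ a ∈ V, ∀ b ∈ V, a * b = b * a
  le : V ≤ Q
  Qle : Q ≤ normalizer (V : Set G)
  Qn : ∀ m ∈ normalizer (V : Set G), ∀ x ∈ Q, m * x * m⁻¹ ∈ Q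
  Q2 : IsPGroup 2 Q
  Qc : ∀ x ∈ normalizer (V : Set G), (∀ y ∈ Q, x * y = y * x) → x ∈ Q
  Qmax : ∀ K : Subgroup G, K ≤ normalizer (V : Set G) → IsPGroup 2 K →
    (∀ m ∈ normalizer (V : Set G), ∀ x ∈ K, m * x * m⁻¹ ∈ K) → K ≤ Q
  max : ∀ A : Subgroup G, V ≤ A → A ≤ normalizer (V : Set G) → (∀ a ∈ A, ∀ b ∈ A, a * b = b * a) →
    (∀ m ∈ normalizer (V : Set G), ∀ a ∈ A, m * a * m⁻¹ ∈ A) → A = V
  ti : ∀ x : G, ∀ v ∈ V, v ≠ 1 → x * v * x⁻¹ ∈ V → x ∈ normalizer (V : Set G)

theorem mem_normalizer_cj {g x : G} {U : Subgroup G} :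
    x ∈ normalizer ((cj g U : Subgroup G) : Set G) ↔ g⁻¹ * x * g ∈ normalizer (U : Set G) := by
  rw [mem_normalizer_iff, mem_normalizer_iff]
  constructor
  · intro h y
    have := h (g * y * g⁻¹)
    rw [mem_cj, mem_cj] at this
    convert this using 2 <;> group
  · intro h y
    have := h (g⁻¹ * y * g)
    rw [mem_cj, mem_cj]
    convert this using 2; group

theorem normalizer_of_cj_eq {g : G} {U : Subgroup G} (h : cj g U = U) :
    g ∈ normalizer (U : Set G) := by
  rw [mem_normalizer_iff]
  intro y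
  constructor
  · intro hy
    rw [← h, mem_cj]
    simpa [mul_assoc] using hy
  · intro hy
    rw [← h, mem_cj] at hy
    simpa [mul_assoc] using hy

theorem cj_eq_of_mem_normalizer {g : G} {U : Subgroup G} (h : g ∈ normalizer (U : Set G)) :
    cj g U = U := by
  ext y
  rw [mem_cj, mem_normalizer_iff.mp h]
  simp [mul_assoc]

theorem TIData.cjD {V Q : Subgroup G} (h : TIData V Q) (g : G) : TIData (cj g V) (cj g Q) where
  sq a ha := by
    rw [mem_cj] at ha
    have := h.sq _ ha
    have h2 : g⁻¹ * (a * a) * g = 1 := by rw [← this]; group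
    calc a * a = g * (g⁻¹ * (a * a) * g) * g⁻¹ := by group
      _ = 1 := by rw [h2]; group
  comm a ha b hb := by
    rw [mem_cj] at ha hb
    have := h.comm _ ha _ hb
    calc a * b = g * ((g⁻¹ * a * g) * (g⁻¹ * b * g)) * g⁻¹ := by group
      _ = b * a := by rw [this]; group
  le := Subgroup.map_mono h.le
  Qle := by
    intro x hx
    rw [mem_cj] at hx
    exact mem_normalizer_cj.mpr (h.Qle hx)
  Qn m hm x hx := by
    rw [mem_cj] at hx ⊢
    have := h.Qn _ (mem_normalizer_cj.mp hm) _ hx
    convert this using 1; group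
  Q2 := h.Q2.map _
  Qc x hx hc := by
    rw [mem_cj]
    refine h.Qc _ (mem_normalizer_cj.mp hx) ?_
    intro y hy
    have := hc (g * y * g⁻¹) (by rw [mem_cj]; simpa [mul_assoc] using hy)
    calc g⁻¹ * x * g * y = g⁻¹ * (x * (g * y * g⁻¹)) * g := by group
      _ = _ := by rw [this]; group
  Qmax K hK hK2 hKn := by
    have h1 := h.Qmax (cj g⁻¹ K) ?_ (hK2.map _) ?_
    · intro x hx
      rw [mem_cj]
      apply h1
      rw [mem_cj]
      simpa [mul_assoc] using hx
    · intro x hx
      rw [mem_cj] at hx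
      have := mem_normalizer_cj.mp (hK hx)
      simpa [mul_assoc] using this
    · intro m hm x hx
      rw [mem_cj] at hx ⊢
      have := hKn (g * m * g⁻¹) (mem_normalizer_cj.mpr (by simpa [mul_assoc] using hm)) _ hx
      convert this using 1; group
  max A hVA hA hAc hAn := by
    have h1 := h.max (cj g⁻¹ A) ?_ ?_ ?_ ?_
    · rw [← h1]
      change A = (A.map (MulAut.conj g⁻¹).toMonoidHom).map (MulAut.conj g).toMonoidHom
      rw [← cj_mul, mul_inv_cancel, cj_one]
    · intro v hv
      rw [mem_cj]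
      apply hVA
      rw [mem_cj]
      simpa [mul_assoc] using hv
    · intro x hx
      rw [mem_cj] at hx
      have := mem_normalizer_cj.mp (hA hx)
      simpa [mul_assoc] using this
    · intro a ha b hb
      rw [mem_cj] at ha hb
      have := hAc _ ha _ hb
      calc a * b = g⁻¹ * ((g⁻¹⁻¹ * a * g⁻¹) * (g⁻¹⁻¹ * b * g⁻¹)) * g := by group
        _ = _ := by rw [this]; group
    · intro m hm a ha
      rw [mem_cj] at ha ⊢
      have := hAn (g * m * g⁻¹) (mem_normalizer_cj.mpr (by simpa [mul_assoc] using hm)) _ ha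
      convert this using 1; group
  ti x v hv hv1 hx := by
    rw [mem_cj] at hv hx
    refine mem_normalizer_cj.mpr (h.ti _ _ hv ?_ ?_)
    · intro h1
      apply hv1
      calc v = g * (g⁻¹ * v * g) * g⁻¹ := by group
        _ = 1 := by rw [h1]; group
    · convert hx using 1; group

end Cfsg.Agent.ClassificationK.TIPair
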