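import Cfsg.Agent.ClassificationK.TIPairBasic

/-!
# TI-subgroups: `P = C_Q(V)` has class two with `P / V` elementary abelian (for S1786)
-/

set_option autoImplicit false

namespace Cfsg.Agent.ClassificationK.TIPair

open Subgroup
open Cfsg.Agent.ClassificationK.TIFamily (mem_cj cj_mul cj_one cj_inj cj_inv_of_eq cj_mul_of_eq cj_of_mem)

variable {G : Type*} [Group G] {V Q : Subgroup G}

/-- `P = C_Q(V)`. -/
abbrev PP (V Q : Subgroup G) : Subgroup G := Q ⊓ centralizer (V : Set G)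

theorem mem_PP {x : G} : x ∈ PP V Q ↔ x ∈ Q ∧ ∀ v ∈ V, v * x = x * v := by
  rw [mem_inf, mem_centralizer_iff]
  rfl

theorem TIData.le_PP (h : TIData V Q) : V ≤ PP V Q := fun v hv =>
  mem_PP.mpr ⟨h.le hv, fun w hw => h.comm w hw v hv⟩

theorem TIData.conj_V (h : TIData V Q) {m : G} (hm : m ∈ normalizer (V : Set G)) {v : G}
    (hv : v ∈ V) : m * v * m⁻¹ ∈ V := (mem_normalizer_iff.mp hm v).mp hv

theorem TIData.conj_V' (h : TIData V Q) {m : G} (hm : m ∈ normalizer (V : Set G)) {v : G}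
    (hv : v ∈ V) : m⁻¹ * v * m ∈ V := by
  have := h.conj_V ((normalizer (V : Set G)).inv_mem hm) hv
  simpa using this

theorem TIData.PP_conj (h : TIData V Q) {m : G} (hm : m ∈ normalizer (V : Set G)) {x : G}
    (hx : x ∈ PP V Q) : m * x * m⁻¹ ∈ PP V Q := by
  rw [mem_PP] at hx ⊢
  refine ⟨h.Qn m hm x hx.1, fun v hv => ?_⟩
  have h1 := hx.2 _ (h.conj_V' hm hv)
  calc v * (m * x * m⁻¹) = m * ((m⁻¹ * v * m) * x) * m⁻¹ := by group
    _ = m * x * m⁻¹ * v := by rw [h1]; group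

theorem TIData.PP_le (h : TIData V Q) : PP V Q ≤ normalizer (V : Set G) :=
  inf_le_left.trans h.Qle

theorem TIData.PP2 (h : TIData V Q) : IsPGroup 2 (PP V Q) := h.Q2.to_le inf_le_left

/-- elements of `V` are central in `P` -/
theorem TIData.comm_VP (_h : TIData V Q) {v x : G} (hv : v ∈ V) (hx : x ∈ PP V Q) : v * x = x * v :=
  (mem_PP.mp hx).2 v hv

theorem TIData.center_le (h : TIData V Q) {x : G} (hx : x ∈ PP V Q)
    (hc : ∀ y ∈ PP V Q, x * y = y * x) : x ∈ V := by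
  have key : PP V Q ⊓ centralizer ((PP V Q : Subgroup G) : Set G) = V := by
    apply h.max
    · intro v hv
      refine mem_inf.mpr ⟨h.le_PP hv, ?_⟩
      rw [mem_centralizer_iff]
      intro y hy
      exact (h.comm_VP hv hy).symm
    · exact inf_le_left.trans h.PP_le
    · intro a ha b hb
      exact (mem_centralizer_iff.mp hb.2 a ha.1)
    · intro m hm a ha
      refine mem_inf.mpr ⟨h.PP_conj hm ha.1, ?_⟩
      rw [mem_centralizer_iff]
      intro y hy
      have h1 : m⁻¹ * y * m ∈ PP V Q := by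
        have := h.PP_conj ((normalizer (V : Set G)).inv_mem hm) hy
        simpa using this
      have h2 := mem_centralizer_iff.mp ha.2 _ h1
      calc y * (m * a * m⁻¹) = m * ((m⁻¹ * y * m) * a) * m⁻¹ := by group
        _ = m * a * m⁻¹ * y := by rw [h2]; group
  rw [← key]
  refine mem_inf.mpr ⟨hx, ?_⟩
  rw [mem_centralizer_iff]
  intro y hy
  exact (hc y hy).symm

/-- the second centre of `P` relative to `V` -/
def Z2 (h : TIData V Q) : Subgroup G where
  carrier := {z | z ∈ PP V Q ∧ ∀ y ∈ PP V Q, z * y * z⁻¹ * y⁻¹ ∈ V}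
  one_mem' := ⟨one_mem _, fun y _ => by simp⟩
  mul_mem' := by
    rintro a b ⟨ha, ha2⟩ ⟨hb, hb2⟩
    refine ⟨mul_mem ha hb, fun y hy => ?_⟩
    have h1 := hb2 y hy
    have h2 := ha2 y hy
    have h3 := h.comm_VP h1 ha
    have : a * b * y * (a * b)⁻¹ * y⁻¹ = (b * y * b⁻¹ * y⁻¹) * (a * y * a⁻¹ * y⁻¹) := by
      calc a * b * y * (a * b)⁻¹ * y⁻¹ = a * (b * y * b⁻¹ * y⁻¹) * (y * a⁻¹ * y⁻¹) := by group
        _ = (b * y * b⁻¹ * y⁻¹) * a * (y * a⁻¹ * y⁻¹) := by rw [h3]
        _ = _ := by group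
    rw [this]
    exact mul_mem h1 h2
  inv_mem' := by
    rintro a ⟨ha, ha2⟩
    refine ⟨inv_mem ha, fun y hy => ?_⟩
    have h2 := inv_mem (ha2 y hy)
    have h3 := h.comm_VP h2 (inv_mem ha)
    have : a⁻¹ * y * a⁻¹⁻¹ * y⁻¹ = (a * y * a⁻¹ * y⁻¹)⁻¹ := by
      calc a⁻¹ * y * a⁻¹⁻¹ * y⁻¹ = a⁻¹ * (a * y * a⁻¹ * y⁻¹)⁻¹ * a := by group
        _ = (a * y * a⁻¹ * y⁻¹)⁻¹ * a⁻¹ * a := by rw [h3]
        _ = _ := by group
    rw [this]
    exact h2

theorem mem_Z2 (h : TIData V Q) {z : G} :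
    z ∈ Z2 h ↔ z ∈ PP V Q ∧ ∀ y ∈ PP V Q, z * y * z⁻¹ * y⁻¹ ∈ V := Iff.rfl

theorem Z2_comm_sq (h : TIData V Q) {z x : G} (hz : z ∈ Z2 h) (hx : x ∈ PP V Q) :
    z * (x * x) = (x * x) * z := by
  have h1 := hz.2 x hx
  set c := z * x * z⁻¹ * x⁻¹ with hc
  have h2 : z * x = c * x * z := by rw [hc]; group
  have h3 := h.comm_VP h1 hx
  calc z * (x * x) = (z * x) * x := by group
    _ = (c * x * z) * x := by rw [h2]
    _ = c * x * (z * x) := by group
    _ = c * x * (c * x * z) := by rw [h2]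
    _ = c * (x * c) * x * z := by group
    _ = (c * c) * (x * x) * z := by rw [← h3]; group
    _ = (x * x) * z := by rw [h.sq c h1, one_mul]

/-- the subgroup generated by `V` and the squares of `P` -/
def SQ (V Q : Subgroup G) : Subgroup G := closure {y | y ∈ V ∨ ∃ x ∈ PP V Q, y = x * x}

theorem SQ_le (h : TIData V Q) : SQ V Q ≤ PP V Q := by
  rw [SQ, closure_le]
  rintro y (hy | ⟨x, hx, rfl⟩)
  · exact h.le_PP hy
  · exact mul_mem hx hx

theorem SQ_comm (h : TIData V Q) {s z : G} (hs : s ∈ SQ V Q) (hz : z ∈ Z2 h) : s * z = z * s := by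
  have h1 : SQ V Q ≤ centralizer ((Z2 h : Subgroup G) : Set G) := by
    rw [SQ, closure_le]
    intro y hy
    rw [SetLike.mem_coe, mem_centralizer_iff]
    intro w hw
    rcases hy with hy | ⟨x, hx, rfl⟩
    · exact (h.comm_VP hy hw.1).symm
    · exact Z2_comm_sq h hw hx
  exact (mem_centralizer_iff.mp (h1 hs) z hz).symm

theorem SQ_conj (h : TIData V Q) {m : G} (hm : m ∈ normalizer (V : Set G)) {x : G}
    (hx : x ∈ SQ V Q) : m * x * m⁻¹ ∈ SQ V Q := by
  have h1 : SQ V Q ≤ (SQ V Q).comap (MulAut.conj m).toMonoidHom := by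
    conv_lhs => rw [SQ]
    rw [closure_le]
    rintro y (hy | ⟨x, hx, rfl⟩)
    · change m * y * m⁻¹ ∈ SQ V Q
      exact subset_closure (Or.inl (h.conj_V hm hy))
    · change m * (x * x) * m⁻¹ ∈ SQ V Q
      refine subset_closure (Or.inr ⟨m * x * m⁻¹, h.PP_conj hm hx, by group⟩)
  exact h1 hx

variable [Finite G]

theorem SQ_eq (h : TIData V Q) : SQ V Q = V := by
  have hA : Z2 h ⊓ SQ V Q = V := by
    apply h.max
    · intro v hv
      refine ⟨⟨h.le_PP hv, fun y hy => ?_⟩, subset_closure (Or.inl hv)⟩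
      have : v * y * v⁻¹ * y⁻¹ = 1 := by rw [h.comm_VP hv hy]; group
      rw [this]
      exact one_mem _
    · exact (inf_le_right.trans (SQ_le h)).trans h.PP_le
    · intro a ha b hb
      exact SQ_comm h ha.2 hb.1
    · intro m hm a ha
      refine ⟨⟨h.PP_conj hm ha.1.1, fun y hy => ?_⟩, SQ_conj h hm ha.2⟩
      have h1 : m⁻¹ * y * m ∈ PP V Q := by
        have := h.PP_conj ((normalizer (V : Set G)).inv_mem hm) hy
        simpa using this
      have h2 := h.conj_V hm (ha.1.2 _ h1)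
      convert h2 using 1; group
  apply le_antisymm
  · by_contra hne
    obtain ⟨z, hz, hzV, hz2⟩ := exists_fixed_mod (p := 2) (P := PP V Q) (V := V) (N := SQ V Q) h.PP2
      (h.PP2.to_le (SQ_le h)) hne (fun x hx v hv => h.conj_V (h.PP_le hx) hv)
      (fun x hx n hn => SQ_conj h (h.PP_le hx) hn)
    apply hzV
    rw [← hA]
    refine ⟨⟨SQ_le h hz, fun y hy => ?_⟩, hz⟩
    have h1 := hz2 y hy
    set v := z⁻¹ * (y * z * y⁻¹) with hv
    have h3 : y * z * y⁻¹ = z * v := by rw [hv]; group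
    have h4 : v⁻¹ * z = z * v⁻¹ := h.comm_VP (inv_mem h1) (SQ_le h hz)
    have : z * y * z⁻¹ * y⁻¹ = v⁻¹ := by
      calc z * y * z⁻¹ * y⁻¹ = z * (y * z * y⁻¹)⁻¹ := by group
        _ = z * v⁻¹ * z⁻¹ := by rw [h3]; group
        _ = v⁻¹ * z * z⁻¹ := by rw [h4]
        _ = v⁻¹ := by group
    rw [this]
    exact inv_mem h1
  · exact fun v hv => subset_closure (Or.inl hv)

theorem TIData.sq_mem (h : TIData V Q) {x : G} (hx : x ∈ PP V Q) : x * x ∈ V := by
  rw [← SQ_eq h]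
  exact subset_closure (Or.inr ⟨x, hx, rfl⟩)

theorem TIData.comm_mem (h : TIData V Q) {x y : G} (hx : x ∈ PP V Q) (hy : y ∈ PP V Q) :
    x * y * x⁻¹ * y⁻¹ ∈ V := by
  have h1 := h.sq_mem (mul_mem hx hy)
  have h2 := h.sq_mem (mul_mem (mul_mem (inv_mem hy) (inv_mem hx)) hy)
  have h3 := h.sq_mem (inv_mem hy)
  have : x * y * x⁻¹ * y⁻¹ = (x * y * (x * y)) * ((y⁻¹ * x⁻¹ * y) * (y⁻¹ * x⁻¹ * y)) * (y⁻¹ * y⁻¹) := by
    group
  rw [this]
  exact mul_mem (mul_mem h1 h2) h3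

/-- conjugates of `V` meet trivially or are equal -/
theorem TIData.cj_eq (h : TIData V Q) {a b w : G} (hw : w ≠ 1) (ha : w ∈ cj a V) (hb : w ∈ cj b V) :
    cj a V = cj b V := by
  rw [mem_cj] at ha hb
  have h1 : b⁻¹ * a ∈ normalizer (V : Set G) := by
    refine h.ti _ _ ha ?_ ?_
    · intro h1
      apply hw
      calc w = a * (a⁻¹ * w * a) * a⁻¹ := by group
        _ = 1 := by rw [h1]; group
    · convert hb using 1; group
  have h2 := cj_eq_of_mem_normalizer h1
  calc cj a V = cj (b * (b⁻¹ * a)) V := by rw [mul_inv_cancel_left]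
    _ = cj b (cj (b⁻¹ * a) V) := cj_mul _ _ _
    _ = cj b V := by rw [h2]

/-- `U` is a conjugate of `V` different from `V` and contained in `P`. -/
structure Other (V Q U : Subgroup G) : Prop where
  ex : ∃ k : G, U = cj k V
  ne : U ≠ V
  le : U ≤ PP V Q

theorem card_cj (k : G) (V : Subgroup G) : Nat.card (cj k V) = Nat.card V :=
  Subgroup.card_map_of_injective (MulAut.conj k).injective

theorem Other.card {U : Subgroup G} (hU : Other V Q U) : Nat.card U = Nat.card V := by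
  obtain ⟨k, rfl⟩ := hU.ex
  exact card_cj k V

theorem Other.inter {U : Subgroup G} (h : TIData V Q) (hU : Other V Q U) {w : G} (h1 : w ∈ U)
    (h2 : w ∈ V) : w = 1 := by
  by_contra hw
  obtain ⟨k, hk⟩ := hU.ex
  apply hU.ne
  rw [hk] at h1 ⊢
  have := h.cj_eq hw h1 (b := 1) (by rw [mem_cj]; simpa using h2)
  rw [this]
  exact cj_one V

theorem Other.conj {U : Subgroup G} (h : TIData V Q) (hU : Other V Q U) {m : G}
    (hm : m ∈ normalizer (V : Set G)) : Other V Q (cj m U) where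
  ex := by
    obtain ⟨k, hk⟩ := hU.ex
    exact ⟨m * k, by rw [hk]; exact (cj_mul m k V).symm⟩
  ne := by
    intro h1
    apply hU.ne
    apply cj_inj (g := m)
    change cj m U = cj m V
    rw [h1, cj_eq_of_mem_normalizer hm]
  le := by
    intro x hx
    rw [mem_cj] at hx
    have := h.PP_conj hm (hU.le hx)
    simpa [mul_assoc] using this

/-- an element of `P` centralizing one nontrivial element of `U` centralizes `U` -/
theorem Other.comm_of_comm {U : Subgroup G} (h : TIData V Q) (hU : Other V Q U) {x u w : G}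
    (hx : x ∈ PP V Q) (hu : u ∈ U) (hu1 : u ≠ 1) (hxu : x * u = u * x) (hw : w ∈ U) :
    x * w = w * x := by
  obtain ⟨k, hk⟩ := hU.ex
  have hUd : TIData U (cj k Q) := hk ▸ h.cjD k
  have hxN : x ∈ normalizer (U : Set G) := by
    refine hUd.ti x u hu hu1 ?_
    have : x * u * x⁻¹ = u := by rw [hxu]; group
    rw [this]
    exact hu
  have h1 : x * w * x⁻¹ * w⁻¹ ∈ U := mul_mem (hUd.conj_V hxN hw) (inv_mem hw)
  have h2 := h.comm_mem hx (hU.le hw)
  have h3 := hU.inter h h1 h2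
  calc x * w = (x * w * x⁻¹ * w⁻¹) * w * x := by group
    _ = w * x := by rw [h3, one_mul]

/-- existence of a conjugate in `P` not commuting with `U` -/
theorem Other.exists_noncomm {U : Subgroup G} (h : TIData V Q) (hU : Other V Q U) :
    ∃ m ∈ normalizer (V : Set G), ∃ x ∈ U, ∃ y ∈ cj m U, x * y ≠ y * x := by
  by_contra hcon
  push Not at hcon
  have hcomm : ∀ m ∈ normalizer (V : Set G), ∀ n ∈ normalizer (V : Set G), ∀ x ∈ U, ∀ y ∈ U,
      (m * x * m⁻¹) * (n * y * n⁻¹) = (n * y * n⁻¹) * (m * x * m⁻¹) := by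
    intro m hm n hn x hx y hy
    have h1 := hcon (m⁻¹ * n) (mul_mem (inv_mem hm) hn) x hx ((m⁻¹ * n) * y * (m⁻¹ * n)⁻¹) (by
      rw [mem_cj]
      simpa [mul_assoc] using hy)
    calc (m * x * m⁻¹) * (n * y * n⁻¹) = m * (x * ((m⁻¹ * n) * y * (m⁻¹ * n)⁻¹)) * m⁻¹ := by group
      _ = (n * y * n⁻¹) * (m * x * m⁻¹) := by rw [h1]; group
  set S : Set G := {y | y ∈ V ∨ ∃ m ∈ normalizer (V : Set G), ∃ u ∈ U, y = m * u * m⁻¹} with hS
  have hSP : S ⊆ PP V Q := by
    rintro y (hy | ⟨m, hm, u, hu, rfl⟩)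
    · exact h.le_PP hy
    · exact h.PP_conj hm (hU.le hu)
  have hSc : ∀ x ∈ S, ∀ y ∈ S, x * y = y * x := by
    rintro x (hx | ⟨m, hm, u, hu, rfl⟩) y (hy | ⟨n, hn, w, hw, rfl⟩)
    · exact h.comm x hx y hy
    · exact h.comm_VP hx (h.PP_conj hn (hU.le hw))
    · exact (h.comm_VP hy (h.PP_conj hm (hU.le hu))).symm
    · exact hcomm m hm n hn u hu w hw
  have hA : closure S = V := by
    apply h.max
    · exact fun v hv => subset_closure (Or.inl hv)
    · rw [closure_le]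
      exact fun y hy => h.PP_le (hSP hy)
    · have h1 : closure S ≤ centralizer S := by
        rw [closure_le]
        intro x hx
        rw [SetLike.mem_coe, mem_centralizer_iff]
        intro y hy
        exact hSc y hy x hx
      have h2 : closure S ≤ centralizer ((closure S : Subgroup G) : Set G) := by
        rw [closure_le]
        intro x hx
        rw [SetLike.mem_coe, mem_centralizer_iff]
        intro y hy
        exact (mem_centralizer_iff.mp (h1 hy) x hx).symm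
      intro a ha b hb
      exact mem_centralizer_iff.mp (h2 hb) a ha
    · intro m hm a ha
      have h1 : closure S ≤ (closure S).comap (MulAut.conj m).toMonoidHom := by
        rw [closure_le]
        rintro y (hy | ⟨n, hn, u, hu, rfl⟩)
        · exact subset_closure (Or.inl (h.conj_V hm hy))
        · change m * (n * u * n⁻¹) * m⁻¹ ∈ closure S
          exact subset_closure (Or.inr ⟨m * n, mul_mem hm hn, u, hu, by group⟩)
      exact h1 ha
  have h1 : U ≤ V := by
    intro u hu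
    rw [← hA]
    exact subset_closure (Or.inr ⟨1, one_mem _, u, hu, by simp⟩)
  apply hU.ne
  apply Subgroup.eq_of_le_of_card_ge h1
  rw [hU.card]

/-- a pair of non commuting conjugates in `P` -/
structure NPair (V Q U U₂ : Subgroup G) : Prop where
  o : Other V Q U
  o₂ : Other V Q U₂
  nc : ∃ x ∈ U, ∃ y ∈ U₂, x * y ≠ y * x

theorem NPair.symm {U U₂ : Subgroup G} (hn : NPair V Q U U₂) : NPair V Q U₂ U where
  o := hn.o₂
  o₂ := hn.o
  nc := by
    obtain ⟨x, hx, y, hy, hxy⟩ := hn.nc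
    exact ⟨y, hy, x, hx, hxy.symm⟩

theorem NPair.eq_one {U U₂ : Subgroup G} (h : TIData V Q) (hn : NPair V Q U U₂) {x y : G}
    (hx : x ∈ U) (hx1 : x ≠ 1) (hy : y ∈ U₂) (hxy : x * y = y * x) : y = 1 := by
  by_contra hy1
  obtain ⟨a, ha, b, hb, hab⟩ := hn.nc
  apply hab
  -- `y` centralizes `U`
  have h1 : ∀ w ∈ U, y * w = w * y := fun w hw =>
    hn.o.comm_of_comm h (hn.o₂.le hy) hx hx1 hxy.symm hw
  exact hn.o₂.comm_of_comm h (hn.o.le ha) hy hy1 (h1 a ha).symm hb

theorem NPair.surj {U U₂ : Subgroup G} (h : TIData V Q) (hn : NPair V Q U U₂) {x : G}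
    (hx : x ∈ U) (hx1 : x ≠ 1) {v : G} (hv : v ∈ V) : ∃ y ∈ U₂, y * x * y⁻¹ = v * x := by
  let f : U₂ → V := fun y => ⟨y.1 * x * y.1⁻¹ * x⁻¹, h.comm_mem (hn.o₂.le y.2) (hn.o.le hx)⟩
  have hinj : Function.Injective f := by
    intro y z hyz
    have h1 : y.1 * x * y.1⁻¹ * x⁻¹ = z.1 * x * z.1⁻¹ * x⁻¹ := congrArg Subtype.val hyz
    have h2 : y.1 * x * y.1⁻¹ = z.1 * x * z.1⁻¹ := mul_right_cancel h1
    have h3 : x * (z.1⁻¹ * y.1) = (z.1⁻¹ * y.1) * x := by
      calc x * (z.1⁻¹ * y.1) = z.1⁻¹ * (z.1 * x * z.1⁻¹) * y.1 := by group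
        _ = (z.1⁻¹ * y.1) * x := by rw [← h2]; group
    have h4 := hn.eq_one h hx hx1 (mul_mem (inv_mem z.2) y.2) h3
    exact Subtype.ext (inv_mul_eq_one.mp h4).symm
  have hbij : Function.Bijective f := by
    have := Fintype.ofFinite U₂
    have := Fintype.ofFinite V
    rw [Fintype.bijective_iff_injective_and_card]
    refine ⟨hinj, ?_⟩
    rw [← Nat.card_eq_fintype_card, ← Nat.card_eq_fintype_card, hn.o₂.card]
  obtain ⟨y, hy⟩ := hbij.2 ⟨v, hv⟩
  refine ⟨y.1, y.2, ?_⟩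
  have h1 : y.1 * x * y.1⁻¹ * x⁻¹ = v := congrArg Subtype.val hy
  rw [← h1]
  group

end Cfsg.Agent.ClassificationK.TIPair
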