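import Cfsg.Agent.ClassificationK.TIPairSwap

/-!
# TI-subgroups: the case `|P| = |V| ^ 3` and the swap (for S1786)
-/

set_option autoImplicit false

namespace Cfsg.Agent.ClassificationK.TIPair

open Subgroup
open Cfsg.Agent.ClassificationK.TIFamily (mem_cj cj_mul cj_one cj_inj cj_inv_of_eq cj_mul_of_eq cj_of_mem)

variable {G : Type*} [Group G] {V Q U U₂ Q' : Subgroup G}

theorem cj_cj (a b : G) (A : Subgroup G) : cj a (cj b A) = cj (a * b) A := (cj_mul a b A).symm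

theorem cj_sup (a : G) (A B : Subgroup G) : cj a (A ⊔ B) = cj a A ⊔ cj a B :=
  Subgroup.map_sup A B _

theorem mem_PP_cj {g x : G} : x ∈ PP (cj g V) (cj g Q) ↔ g⁻¹ * x * g ∈ PP V Q := by
  rw [mem_PP, mem_PP, mem_cj]
  constructor
  · rintro ⟨h1, h2⟩
    refine ⟨h1, fun v hv => ?_⟩
    have h3 := h2 (g * v * g⁻¹) ⟨v, hv, rfl⟩
    calc v * (g⁻¹ * x * g) = g⁻¹ * ((g * v * g⁻¹) * x) * g := by group
      _ = g⁻¹ * x * g * v := by rw [h3]; group
  · rintro ⟨h1, h2⟩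
    refine ⟨h1, fun v hv => ?_⟩
    rw [mem_cj] at hv
    have h3 := h2 _ hv
    calc v * x = g * ((g⁻¹ * v * g) * (g⁻¹ * x * g)) * g⁻¹ := by group
      _ = x * v := by rw [h3]; group

variable [Finite G]

theorem isPGroup_zpowers_of_sq {v : G} (hv : v * v = 1) : IsPGroup 2 (zpowers v) := by
  rw [← pow_two] at hv
  have h1 : orderOf v ∣ 2 := orderOf_dvd_of_pow_eq_one hv
  rcases (Nat.dvd_prime Nat.prime_two).mp h1 with h2 | h2
  · apply IsPGroup.of_card (n := 0)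
    rw [Nat.card_zpowers, h2, pow_zero]
  · apply IsPGroup.of_card (n := 1)
    rw [Nat.card_zpowers, h2, pow_one]

/-- The core contradiction when `C_P(U) = W`. -/
theorem Bad.false_of_D (b : Bad V Q U U₂ Q') {D₁ D₂ : Subgroup G} {v : G} (hv : v ∈ V) (hv1 : v ≠ 1)
    (hU₁ : U ≤ D₁) (hU₂ : U ≤ D₂) (hD₁ : D₁ ≤ PP U Q') (hD₂ : D₂ ≤ PP U Q')
    (hn₁ : ¬ D₁ ≤ U) (hn₂ : ¬ D₂ ≤ U) (hv₁ : cj v D₁ = D₁) (hv₂ : cj v D₂ = D₂)
    (hc₁ : ∀ x ∈ PP U Q', ∀ a ∈ D₁, a ∉ U → x * a = a * x → x ∈ D₁)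
    (hc₂ : ∀ x ∈ PP U Q', ∀ a ∈ D₂, a ∉ U → x * a = a * x → x ∈ D₂)
    (hi : ∀ x ∈ D₁, x ∈ D₂ → x ∈ U) : False := by
  have key : ∀ D : Subgroup G, D ≤ PP U Q' → ¬ D ≤ U → cj v D = D →
      ∃ a ∈ D, a ∉ U ∧ a ∈ CC U Q' V := by
    intro D hD hnD hvD
    have hvN := normalizer_of_cj_eq hvD
    obtain ⟨z, hz, hzU, hz2⟩ := exists_fixed_mod (p := 2) (P := zpowers v) (V := U) (N := D)
      (isPGroup_zpowers_of_sq (b.h.sq v hv)) (b.h'.PP2.to_le hD) hnD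
      (fun x hx w hw => b.h'.conj_V ((zpowers_le.mpr (b.V_le_NU hv)) hx) hw)
      (fun x hx w hw => (mem_normalizer_iff.mp ((zpowers_le.mpr hvN) hx) w).mp hw)
    refine ⟨z, hz, hzU, b.mem_CC' hv hv1 (hD hz) ?_⟩
    have h1 := hz2 v (mem_zpowers v)
    have h2 := b.h'.conj_V (b.h'.PP_le (hD hz)) (inv_mem h1)
    convert h2 using 1
    group
  obtain ⟨a₁, ha₁, ha₁U, ha₁C⟩ := key D₁ hD₁ hn₁ hv₁
  obtain ⟨a₂, ha₂, ha₂U, ha₂C⟩ := key D₂ hD₂ hn₂ hv₂
  -- elements of `C'` commute with `[x, w]`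
  have hcomm : ∀ c ∈ CC U Q' V, ∀ x ∈ PP U Q', ∀ w ∈ V,
      (x * w * x⁻¹ * w⁻¹) * c = c * (x * w * x⁻¹ * w⁻¹) := by
    intro c hc x hx w hw
    have hz := b.h'.comm_mem (mem_CC.mp hc).1 hx
    set z := c * x * c⁻¹ * x⁻¹ with hzdef
    have hzx : z * x = x * z := b.h'.comm_VP hz hx
    have hzw : w * z = z * w := b.hn.o.comm b.h hw hz
    have hcw : w * c = c * w := (mem_CC.mp hc).2 w hw
    have h1 : c * x * c⁻¹ = z * x := by rw [hzdef]; group
    have h2 : c * w * c⁻¹ = w := by rw [← hcw]; group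
    have h3 : c * (x * w * x⁻¹ * w⁻¹) * c⁻¹ = x * w * x⁻¹ * w⁻¹ := by
      have hzxw : z * (x * w * x⁻¹) = (x * w * x⁻¹) * z := by
        have e1 : Commute z x := hzx
        have e2 : Commute z w := hzw.symm
        exact (e1.mul_right e2).mul_right e1.inv_right
      calc c * (x * w * x⁻¹ * w⁻¹) * c⁻¹
          = (c * x * c⁻¹) * (c * w * c⁻¹) * (c * x * c⁻¹)⁻¹ * (c * w * c⁻¹)⁻¹ := by group
        _ = (z * x) * w * (z * x)⁻¹ * w⁻¹ := by rw [h1, h2]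
        _ = (z * (x * w * x⁻¹)) * z⁻¹ * w⁻¹ := by group
        _ = x * w * x⁻¹ * w⁻¹ := by rw [hzxw]; group
    calc (x * w * x⁻¹ * w⁻¹) * c = (c * (x * w * x⁻¹ * w⁻¹) * c⁻¹) * c := by rw [h3]
      _ = c * (x * w * x⁻¹ * w⁻¹) := by group
  refine b.a9 fun x hx w hw => ?_
  by_cases hw1 : w = 1
  · rw [hw1]; simp
  have hyC := b.a6 hw hx
  have hyP := (mem_CC.mp hyC).1
  have h1 := hc₁ _ hyP a₁ ha₁ ha₁U (hcomm a₁ ha₁C x hx w hw)
  have h2 := hc₂ _ hyP a₂ ha₂ ha₂U (hcomm a₂ ha₂C x hx w hw)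
  exact b.a1 hw hw1 hx (hi _ h1 h2)

/-- The case `|V| = 2`. -/
theorem NPair.false_of_card_two (h : TIData V Q) {m₀ : G} (hm₀ : m₀ ∈ normalizer (V : Set G))
    (hn : NPair V Q U (cj m₀ U)) (hC : ∀ c ∈ CC V Q U, c ∈ V ⊔ U)
    (hV : ∀ v ∈ V, ∀ w ∈ V, v ≠ 1 → w ≠ 1 → v = w) : False := by
  have hW2 : cj m₀ (V ⊔ U) = V ⊔ cj m₀ U := by
    rw [cj_sup, cj_eq_of_mem_normalizer hm₀]
  have hcard : Nat.card (V ⊔ cj m₀ U : Subgroup G) = Nat.card (V ⊔ U : Subgroup G) := by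
    rw [← hW2, card_cj]
  have hne : V ⊔ cj m₀ U ≠ V ⊔ U := by
    intro h1
    apply hn.o.ne
    apply Subgroup.eq_of_le_of_card_ge
    · intro u hu
      exact hn.W_inf h (mem_sup_right hu) (h1 ▸ mem_sup_right hu)
    · rw [hn.o.card]
  have hVc : ∀ m ∈ normalizer (V : Set G), ∀ v ∈ V, m * v = v * m := by
    intro m hm v hv
    by_cases hv1 : v = 1
    · rw [hv1]; simp
    have h1 := hV (m * v * m⁻¹) (h.conj_V hm hv) v hv (by
      intro h2
      apply hv1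
      calc v = m⁻¹ * (m * v * m⁻¹) * m := by group
        _ = 1 := by rw [h2]; group) hv1
    calc m * v = (m * v * m⁻¹) * m := by group
      _ = v * m := by rw [h1]
  have hQP : ∀ x ∈ Q, x ∈ PP V Q := fun x hx =>
    mem_PP.mpr ⟨hx, fun v hv => (hVc x (h.Qle hx) v hv).symm⟩
  -- squares fix `W` and `W₂`
  have hcases : ∀ m ∈ normalizer (V : Set G), cj m (V ⊔ U) = V ⊔ U ∨ cj m (V ⊔ U) = V ⊔ cj m₀ U :=
    fun m hm => hn.cj_cases h hC hcard hm
  have hcases2 : ∀ m ∈ normalizer (V : Set G),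
      cj m (V ⊔ cj m₀ U) = V ⊔ U ∨ cj m (V ⊔ cj m₀ U) = V ⊔ cj m₀ U := by
    intro m hm
    rw [← hW2, cj_cj]
    rcases hcases _ (mul_mem hm hm₀) with h1 | h1
    · exact Or.inl h1
    · right; rw [h1, hW2]
  have hsq : ∀ m ∈ normalizer (V : Set G), cj (m * m) (V ⊔ U) = V ⊔ U ∧
      cj (m * m) (V ⊔ cj m₀ U) = V ⊔ cj m₀ U := by
    intro m hm
    rw [← cj_cj, ← cj_cj]
    rcases hcases m hm with h1 | h1 <;> rcases hcases2 m hm with h2 | h2
    · exfalso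
      apply hne
      apply cj_inj (g := m)
      change cj m _ = cj m _
      rw [h2, h1]
    · rw [h1, h1, h2, h2]
      exact ⟨rfl, rfl⟩
    · rw [h1, h2, h1]
      exact ⟨rfl, rfl⟩
    · exfalso
      apply hne
      apply cj_inj (g := m)
      change cj m _ = cj m _
      rw [h2, h1]
  -- an element fixing `V ⊔ T` has square centralizing `T`, for `T` another conjugate
  have hfix : ∀ T : Subgroup G, Other V Q T → ∀ m ∈ normalizer (V : Set G), cj m (V ⊔ T) = V ⊔ T →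
      ∀ t ∈ T, (m * m) * t = t * (m * m) := by
    intro T hT m hm hmT t ht
    by_cases ht1 : t = 1
    · rw [ht1]; simp
    have hcard2 : ∀ s ∈ T, ∀ r ∈ T, s ≠ 1 → r ≠ 1 → s = r := by
      obtain ⟨k, rfl⟩ := hT.ex
      intro s hs r hr hs1 hr1
      rw [mem_cj] at hs hr
      have := hV _ hs _ hr (by
        intro h2
        apply hs1
        calc s = k * (k⁻¹ * s * k) * k⁻¹ := by group
          _ = 1 := by rw [h2]; group) (by
        intro h2
        apply hr1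
        calc r = k * (k⁻¹ * r * k) * k⁻¹ := by group
          _ = 1 := by rw [h2]; group)
      calc s = k * (k⁻¹ * s * k) * k⁻¹ := by group
        _ = r := by rw [this]; group
    have h1 : m * t * m⁻¹ ∈ V ⊔ T := by
      rw [← hmT]
      exact ⟨t, mem_sup_right ht, rfl⟩
    obtain ⟨v, hv, s, hs, hvs⟩ := (hT.mem_W h).mp h1
    have hs1 : s ≠ 1 := by
      rintro rfl
      rw [mul_one] at hvs
      have h2 : t ∈ V := by
        have := h.conj_V' hm (hvs ▸ hv : m * t * m⁻¹ ∈ V)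
        convert this using 1; group
      exact ht1 (hT.inter h ht h2)
    have hst : s = t := hcard2 s hs t ht hs1 ht1
    rw [hst] at hvs
    have h3 : m * t = v * t * m := by
      calc m * t = (m * t * m⁻¹) * m := by group
        _ = v * t * m := by rw [hvs]
    calc m * m * t = m * (m * t) := by group
      _ = m * v * t * m := by rw [h3]; group
      _ = v * (m * t) * m := by rw [hVc m hm v hv]; group
      _ = (v * v) * t * (m * m) := by rw [h3]; group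
      _ = t * (m * m) := by rw [h.sq v hv, one_mul]
  have h4 : ∀ m ∈ normalizer (V : Set G), (m * m) * (m * m) ∈ Q := by
    intro m hm
    have hmm := mul_mem hm hm
    obtain ⟨f1, f2⟩ := hsq m hm
    have g1 := hfix U hn.o (m * m) hmm f1
    have g2 := hfix (cj m₀ U) hn.o₂ (m * m) hmm f2
    refine h.Qc _ (mul_mem hmm hmm) fun x hx => ?_
    have hxP := hQP x hx
    obtain ⟨y, hy, hyU⟩ := hn.decomp h hxP
    have hyx : y⁻¹ * x ∈ CC V Q U :=
      mem_CC.mpr ⟨mul_mem (inv_mem (hn.o₂.le hy)) hxP, fun u hu => (hyU u hu).symm⟩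
    obtain ⟨v, hv, u, hu, hvu⟩ := (hn.o.mem_W h).mp (hC _ hyx)
    have hxe : x = y * (v * u) := by rw [← hvu]; group
    have e1 : Commute (m * m * (m * m)) y := g2 y hy
    have e2 : Commute (m * m * (m * m)) u := g1 u hu
    have e3 : Commute (m * m * (m * m)) v := hVc _ (mul_mem hmm hmm) v hv
    rw [hxe]
    exact e1.mul_right (e3.mul_right e2)
  have h5 : normalizer (V : Set G) ≤ Q := by
    refine h.Qmax _ le_rfl ?_ (fun m hm x hx => mul_mem (mul_mem hm hx) (inv_mem hm))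
    rintro ⟨m, hm⟩
    obtain ⟨k, hk⟩ := h.Q2 ⟨_, h4 m hm⟩
    have hk' : (m * m * (m * m)) ^ 2 ^ k = 1 := congrArg Subtype.val hk
    refine ⟨k + 2, Subtype.ext ?_⟩
    change m ^ 2 ^ (k + 2) = 1
    rw [← hk']
    have : m * m * (m * m) = m ^ 4 := by simp only [pow_succ, pow_zero, one_mul, mul_assoc]
    rw [this, ← pow_mul]
    congr 1
    ring
  apply hne
  rw [← hW2]
  exact hn.o.cj_W h (hQP m₀ (h5 hm₀))

/-- `N(W)` is not contained in `N(V)`. -/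
theorem not_bad (h : TIData V Q) {g m₀ : G} (hm₀ : m₀ ∈ normalizer (V : Set G))
    (hn : NPair V Q (cj g V) (cj m₀ (cj g V))) :
    ∃ x ∈ normalizer ((V ⊔ cj g V : Subgroup G) : Set G), x ∉ normalizer (V : Set G) := by
  by_contra hcon
  push Not at hcon
  have b : Bad V Q (cj g V) (cj m₀ (cj g V)) (cj g Q) := ⟨h, h.cjD g, hn, hcon⟩
  set U := cj g V with hU
  have hC : ∀ c ∈ CC V Q U, c ∈ V ⊔ U := fun c hc => b.CC_le hc
  have hW2 : cj m₀ (V ⊔ U) = V ⊔ cj m₀ U := by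
    rw [cj_sup, cj_eq_of_mem_normalizer hm₀]
  have hcard : Nat.card (V ⊔ cj m₀ U : Subgroup G) = Nat.card (V ⊔ U : Subgroup G) := by
    rw [← hW2, card_cj]
  have hne : V ⊔ cj m₀ U ≠ V ⊔ U := by
    intro h1
    apply hn.o.ne
    apply Subgroup.eq_of_le_of_card_ge
    · intro u hu
      exact hn.W_inf h (mem_sup_right hu) (h1 ▸ mem_sup_right hu)
    · rw [hn.o.card]
  -- centralizers in `P`
  have hcent₁ : ∀ x ∈ PP V Q, ∀ a ∈ V ⊔ U, a ∉ V → x * a = a * x → x ∈ V ⊔ U :=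
    fun x hx a ha haV hxa => hn.centralizer_W h hC hx ha haV hxa
  have hcent₂ : ∀ x ∈ PP V Q, ∀ a ∈ V ⊔ cj m₀ U, a ∉ V → x * a = a * x → x ∈ V ⊔ cj m₀ U := by
    intro x hx a ha haV hxa
    rw [← hW2, mem_cj] at ha ⊢
    refine hcent₁ _ ?_ _ ha ?_ ?_
    · have := h.PP_conj (inv_mem hm₀) hx
      simpa using this
    · intro h1
      apply haV
      have := h.conj_V hm₀ h1
      convert this using 1; group
    · calc m₀⁻¹ * x * m₀ * (m₀⁻¹ * a * m₀) = m₀⁻¹ * (x * a) * m₀ := by group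
        _ = m₀⁻¹ * a * m₀ * (m₀⁻¹ * x * m₀) := by rw [hxa]; group
  have hcases : ∀ m ∈ normalizer (V : Set G), cj m (V ⊔ U) = V ⊔ U ∨ cj m (V ⊔ U) = V ⊔ cj m₀ U :=
    fun m hm => hn.cj_cases h hC hcard hm
  -- transfer to `U`
  set D₁ := cj g (V ⊔ U) with hD₁
  set D₂ := cj g (V ⊔ cj m₀ U) with hD₂
  have hDne : D₂ ≠ D₁ := by
    intro h1
    exact hne (cj_inj (g := g) h1)
  have hDcases : ∀ m ∈ normalizer (U : Set G), cj m D₁ = D₁ ∨ cj m D₁ = D₂ := by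
    intro m hm
    have hm' : g⁻¹ * m * g ∈ normalizer (V : Set G) := mem_normalizer_cj.mp hm
    have e1 : cj m D₁ = cj g (cj (g⁻¹ * m * g) (V ⊔ U)) := by
      rw [hD₁, cj_cj, cj_cj]
      congr 1
      group
    rw [e1]
    rcases hcases _ hm' with h1 | h1
    · left; rw [h1]
    · right; rw [h1]
  have hD2 : D₂ = cj (g * m₀ * g⁻¹) D₁ := by
    rw [hD₁, hD₂, ← hW2, cj_cj, cj_cj]
    congr 1
    group
  have hgm : g * m₀ * g⁻¹ ∈ normalizer (U : Set G) := by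
    apply mem_normalizer_cj.mpr
    convert hm₀ using 1
    group
  have hUD₁ : U ≤ D₁ := cj_mono g le_sup_left
  have hUD₂ : U ≤ D₂ := cj_mono g le_sup_left
  have hD₁P : D₁ ≤ PP U (cj g Q) := by
    intro x hx
    rw [hD₁, mem_cj] at hx
    exact mem_PP_cj.mpr (hn.o.W_le h hx)
  have hD₂P : D₂ ≤ PP U (cj g Q) := by
    intro x hx
    rw [hD₂, mem_cj] at hx
    exact mem_PP_cj.mpr (hn.o₂.W_le h hx)
  have hnD : ∀ T : Subgroup G, Other V Q T → ¬ cj g (V ⊔ T) ≤ U := by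
    intro T hT h1
    have h2 : V ⊔ T ≤ V := by
      intro x hx
      have h3 := h1 ⟨x, hx, rfl⟩
      rw [hU, mem_cj] at h3
      change g⁻¹ * (g * x * g⁻¹) * g ∈ V at h3
      convert h3 using 1; group
    apply hT.ne
    exact Subgroup.eq_of_le_of_card_ge (le_sup_right.trans h2) (by rw [hT.card])
  have hDc₁ : ∀ x ∈ PP U (cj g Q), ∀ a ∈ D₁, a ∉ U → x * a = a * x → x ∈ D₁ := by
    intro x hx a ha haU hxa
    rw [hD₁, mem_cj] at ha ⊢
    refine hcent₁ _ (mem_PP_cj.mp hx) _ ha (fun h1 => haU (by rw [hU, mem_cj]; exact h1)) ?_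
    calc g⁻¹ * x * g * (g⁻¹ * a * g) = g⁻¹ * (x * a) * g := by group
      _ = g⁻¹ * a * g * (g⁻¹ * x * g) := by rw [hxa]; group
  have hDc₂ : ∀ x ∈ PP U (cj g Q), ∀ a ∈ D₂, a ∉ U → x * a = a * x → x ∈ D₂ := by
    intro x hx a ha haU hxa
    rw [hD₂, mem_cj] at ha ⊢
    refine hcent₂ _ (mem_PP_cj.mp hx) _ ha (fun h1 => haU (by rw [hU, mem_cj]; exact h1)) ?_
    calc g⁻¹ * x * g * (g⁻¹ * a * g) = g⁻¹ * (x * a) * g := by group
      _ = g⁻¹ * a * g * (g⁻¹ * x * g) := by rw [hxa]; group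
  have hDi : ∀ x ∈ D₁, x ∈ D₂ → x ∈ U := by
    intro x hx₁ hx₂
    rw [hD₁, mem_cj] at hx₁
    rw [hD₂, mem_cj] at hx₂
    rw [hU, mem_cj]
    exact hn.W_inf h hx₁ hx₂
  by_cases hex : ∃ v ∈ V, v ≠ 1 ∧ cj v D₁ = D₁
  · obtain ⟨v, hv, hv1, hvD⟩ := hex
    have hvD₂ : cj v D₂ = D₂ := by
      rw [hD2, cj_cj]
      rcases hDcases _ (mul_mem (b.V_le_NU hv) hgm) with h1 | h1
      · exfalso
        apply hDne
        apply cj_inj (g := v)
        change cj v _ = cj v _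
        rw [hvD, hD2, cj_cj, h1]
      · rw [h1, ← hD2]
    exact b.false_of_D hv hv1 hUD₁ hUD₂ hD₁P hD₂P (hnD U hn.o) (hnD _ hn.o₂) hvD hvD₂ hDc₁ hDc₂ hDi
  · push Not at hex
    refine hn.false_of_card_two h hm₀ hC fun v hv w hw hv1 hw1 => ?_
    have e1 : cj v D₁ = D₂ := (hDcases v (b.V_le_NU hv)).resolve_left (hex v hv hv1)
    have e2 : cj w D₁ = D₂ := (hDcases w (b.V_le_NU hw)).resolve_left (hex w hw hw1)
    by_contra hvw
    apply hex (v⁻¹ * w) (mul_mem (inv_mem hv) hw) (fun h1 => hvw (inv_mul_eq_one.mp h1))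
    rw [← cj_cj, e2, ← e1, cj_cj, inv_mul_cancel]
    exact cj_one D₁

/-- The swap. -/
theorem exists_swap (h : TIData V Q) {g m₀ : G} (hm₀ : m₀ ∈ normalizer (V : Set G))
    (hn : NPair V Q (cj g V) (cj m₀ (cj g V))) :
    ∃ k ∈ normalizer ((V ⊔ cj g V : Subgroup G) : Set G), cj k V = cj g V ∧ cj k (cj g V) = V := by
  obtain ⟨x, hx, hxV⟩ := not_bad h hm₀ hn
  set U := cj g V with hU
  have hW : ∀ y ∈ PP V Q, y ∈ normalizer ((V ⊔ U : Subgroup G) : Set G) := fun y hy =>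
    normalizer_of_cj_eq (hn.o.cj_W h hy)
  have hxW : cj x (V ⊔ U) = V ⊔ U := cj_eq_of_mem_normalizer hx
  -- a conjugate of `V` under `N(W)` different from `V` is a `U ^ y`
  have key : ∀ z ∈ normalizer ((V ⊔ U : Subgroup G) : Set G), cj z V ≠ V →
      ∃ y ∈ cj m₀ U, cj z V = cj y U := by
    intro z hz hzV
    obtain ⟨w, hw, hw1⟩ := exists_cj_ne_one hn.o.ne_bot z
    have hwW : w ∈ V ⊔ U := by
      rw [← cj_eq_of_mem_normalizer hz]
      exact cj_mono z le_sup_left hw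
    exact (hn.conj_in_W h hw hw1 hwW).resolve_left hzV
  obtain ⟨y, hy, hyx⟩ := key x hx (fun h1 => hxV (normalizer_of_cj_eq h1))
  have hyP := hn.o₂.le hy
  set k := y⁻¹ * x with hk
  have hkW : k ∈ normalizer ((V ⊔ U : Subgroup G) : Set G) := mul_mem (inv_mem (hW y hyP)) hx
  have hkV : cj k V = U := by
    rw [hk, ← cj_cj, hyx, cj_cj, inv_mul_cancel]
    exact cj_one U
  have hk' : cj k⁻¹ V ≠ V := by
    intro h1
    apply hn.o.ne
    have h2 : cj k (cj k⁻¹ V) = cj k V := by rw [h1]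
    rw [cj_cj, mul_inv_cancel, hkV] at h2
    rw [← h2]
    exact cj_one V
  obtain ⟨y', hy', hyk⟩ := key k⁻¹ (inv_mem hkW) hk'
  have hyP' := hn.o₂.le hy'
  refine ⟨k * y', mul_mem hkW (hW y' hyP'), ?_, ?_⟩
  · rw [← cj_cj, cj_eq_of_mem_normalizer (h.PP_le hyP'), hkV]
  · rw [← cj_cj, ← hyk, cj_cj, mul_inv_cancel]
    exact cj_one V

end Cfsg.Agent.ClassificationK.TIPair
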