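import Cfsg.Agent.ClassificationK.TIPairCube
import Cfsg.Agent.Lib.FrattiniBasic

/-!
# TI-subgroups: final consequences (for S1786)
-/

set_option autoImplicit false

namespace Cfsg.Agent.ClassificationK.TIPair

open Subgroup
open scoped commutatorElement
open Cfsg.Agent.ClassificationK.TIFamily (mem_cj cj_mul cj_one cj_inj cj_inv_of_eq cj_mul_of_eq cj_of_mem)

variable {G : Type*} [Group G] {V Q U U₂ Q' : Subgroup G} [Finite G]

theorem Other.exists_ne_one (hU : Other V Q U) : ∃ u ∈ U, u ≠ 1 := by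
  obtain ⟨k, hk⟩ := hU.ex
  rw [hk]
  exact exists_cj_ne_one hU.ne_bot k

/-- `N(V)` is transitive on `V \ 1` -/
theorem NPair.transitive (h : TIData V Q) (hn : NPair V Q U U₂) {k : G} (hkV : cj k V = U)
    (hkU : cj k U = V) {v₁ v₂ : G} (hv₁ : v₁ ∈ V) (h₁ : v₁ ≠ 1) (hv₂ : v₂ ∈ V) (h₂ : v₂ ≠ 1) :
    ∃ m ∈ normalizer (V : Set G), m * v₁ * m⁻¹ = v₂ := by
  obtain ⟨u, hu, hu1⟩ := hn.o.exists_ne_one
  have key : ∀ v ∈ V, v ≠ 1 → ∃ n : G, n * v * n⁻¹ = u := by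
    intro v hv hv1
    obtain ⟨y, -, hy⟩ := hn.surj h hu hu1 hv
    have hv' : k⁻¹ * v * k ∈ U := by
      rw [← hkU, mem_cj] at hv
      exact hv
    have hv1' : k⁻¹ * v * k ≠ 1 := by
      intro h1
      apply hv1
      calc v = k * (k⁻¹ * v * k) * k⁻¹ := by group
        _ = 1 := by rw [h1]; group
    have hu' : k⁻¹ * u * k ∈ V := by
      rw [← hkV, mem_cj] at hu
      exact hu
    obtain ⟨z, -, hz⟩ := hn.surj h hv' hv1' hu'
    have hz' : (k * z * k⁻¹) * v * (k * z * k⁻¹)⁻¹ = u * v := by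
      calc (k * z * k⁻¹) * v * (k * z * k⁻¹)⁻¹ = k * (z * (k⁻¹ * v * k) * z⁻¹) * k⁻¹ := by group
        _ = u * v := by rw [hz]; group
    refine ⟨y⁻¹ * (k * z * k⁻¹), ?_⟩
    calc y⁻¹ * (k * z * k⁻¹) * v * (y⁻¹ * (k * z * k⁻¹))⁻¹
        = y⁻¹ * ((k * z * k⁻¹) * v * (k * z * k⁻¹)⁻¹) * y := by group
      _ = y⁻¹ * (v * u) * y := by rw [hz', hn.o.comm h hv hu]
      _ = u := by rw [← hy]; group
  obtain ⟨n₁, hn₁⟩ := key v₁ hv₁ h₁
  obtain ⟨n₂, hn₂⟩ := key v₂ hv₂ h₂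
  have hm : (n₂⁻¹ * n₁) * v₁ * (n₂⁻¹ * n₁)⁻¹ = v₂ := by
    calc (n₂⁻¹ * n₁) * v₁ * (n₂⁻¹ * n₁)⁻¹ = n₂⁻¹ * (n₁ * v₁ * n₁⁻¹) * n₂ := by group
      _ = v₂ := by rw [hn₁, ← hn₂]; group
  exact ⟨_, h.ti _ _ hv₁ h₁ (hm ▸ hv₂), hm⟩

/-- `Q` centralizes `V` -/
theorem NPair.Q_le (h : TIData V Q) (hn : NPair V Q U U₂) {k : G} (hkV : cj k V = U)
    (hkU : cj k U = V) : Q ≤ PP V Q := by
  obtain ⟨z, hz, hz1, hzQ⟩ := exists_fixed (p := 2) h.Q2 (h.Q2.to_le h.le) hn.o.ne_bot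
    (fun x hx v hv => h.conj_V (h.Qle hx) hv)
  intro x hx
  refine mem_PP.mpr ⟨hx, fun v hv => ?_⟩
  by_cases hv1 : v = 1
  · rw [hv1]; simp
  obtain ⟨m, hm, hmz⟩ := hn.transitive h hkV hkU hz hz1 hv hv1
  have h1 := hzQ _ (by simpa using h.Qn _ (inv_mem hm) x hx : m⁻¹ * x * m ∈ Q)
  rw [← hmz]
  calc m * z * m⁻¹ * x = m * (z * (m⁻¹ * x * m)) * m⁻¹ := by group
    _ = x * (m * z * m⁻¹) := by rw [← h1]; group

theorem map_center_eq (h : TIData V Q) (hQ : Q ≤ PP V Q) : (center Q).map Q.subtype = V := by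
  ext x
  constructor
  · rintro ⟨y, hy, rfl⟩
    refine h.center_le (hQ y.2) fun z hz => ?_
    have := mem_center_iff.mp hy ⟨z, (mem_PP.mp hz).1⟩
    exact (congrArg Subtype.val this).symm
  · intro hx
    refine ⟨⟨x, h.le hx⟩, ?_, rfl⟩
    rw [SetLike.mem_coe, mem_center_iff]
    intro y
    exact Subtype.ext ((mem_PP.mp (hQ y.2)).2 x hx).symm

theorem commutator_le_V (h : TIData V Q) (hQ : Q ≤ PP V Q) : commutator Q ≤ V.subgroupOf Q := by
  rw [commutator_def, commutator_le]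
  intro a _ b _
  rw [mem_subgroupOf]
  exact h.comm_mem (hQ a.2) (hQ b.2)

theorem V_le_commutator (h : TIData V Q) (hn : NPair V Q U U₂) : V.subgroupOf Q ≤ commutator Q := by
  intro v hv
  rw [mem_subgroupOf] at hv
  obtain ⟨u, hu, hu1⟩ := hn.o.exists_ne_one
  obtain ⟨y, hy, hyu⟩ := hn.surj h hu hu1 hv
  have h1 : v = ⁅(⟨y, (mem_PP.mp (hn.o₂.le hy)).1⟩ : Q), ⟨u, (mem_PP.mp (hn.o.le hu)).1⟩⁆ := by
    apply Subtype.ext
    change v.1 = y * u * y⁻¹ * u⁻¹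
    rw [hyu]
    group
  rw [h1, commutator_def]
  exact commutator_mem_commutator (mem_top _) (mem_top _)

theorem map_commutator_eq (h : TIData V Q) (hn : NPair V Q U U₂) (hQ : Q ≤ PP V Q) :
    (commutator Q).map Q.subtype = V := by
  rw [le_antisymm (commutator_le_V h hQ) (V_le_commutator h hn), map_subgroupOf_eq_of_le h.le]

theorem map_frattini_eq (h : TIData V Q) (hn : NPair V Q U U₂) (hQ : Q ≤ PP V Q) :
    (frattini Q).map Q.subtype = V := by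
  have h1 : frattini Q = V.subgroupOf Q := by
    apply le_antisymm
    · apply Cfsg.Agent.Lib.FrattiniBasic.frattini_le_of_elementary (p := 2) _ (commutator_le_V h hQ)
      intro x
      rw [mem_subgroupOf, pow_two]
      exact h.sq_mem (hQ x.2)
    · exact (V_le_commutator h hn).trans (Cfsg.Agent.Lib.FrattiniBasic.commutator_le_frattini h.Q2)
  rw [h1, map_subgroupOf_eq_of_le h.le]

/-- transport of a pair under the swap -/
theorem NPair.swap {k : G} (hkV : cj k V = U) (hkU : cj k U = V) (hn : NPair V Q U U₂)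
    (hQ : cj k Q = Q') : NPair U Q' V (cj k U₂) := by
  have hPP : ∀ T : Subgroup G, T ≤ PP V Q → cj k T ≤ PP U Q' := by
    intro T hT x hx
    rw [mem_cj] at hx
    rw [← hkV, ← hQ]
    exact mem_PP_cj.mpr (hT hx)
  refine ⟨⟨?_, ?_, ?_⟩, ⟨?_, ?_, ?_⟩, ?_⟩
  · obtain ⟨a, ha⟩ := hn.o.ex
    refine ⟨a⁻¹, ?_⟩
    rw [ha, cj_cj, inv_mul_cancel]
    exact (cj_one V).symm
  · exact fun h1 => hn.o.ne h1.symm
  · rw [← hkU]
    exact hPP U hn.o.le
  · obtain ⟨a, ha⟩ := hn.o₂.ex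
    refine ⟨k * a * k⁻¹, ?_⟩
    rw [← hkV, cj_cj, ha, cj_cj]
    congr 1
    group
  · intro h1
    apply hn.o₂.ne
    apply cj_inj (g := k)
    change cj k U₂ = cj k V
    rw [h1, hkV]
  · exact hPP U₂ hn.o₂.le
  · obtain ⟨a, ha, b, hb, hab⟩ := hn.nc
    refine ⟨k * a * k⁻¹, ?_, k * b * k⁻¹, ⟨b, hb, rfl⟩, ?_⟩
    · rw [← hkU]
      exact ⟨a, ha, rfl⟩
    · intro h1
      apply hab
      calc a * b = k⁻¹ * (k * a * k⁻¹ * (k * b * k⁻¹)) * k := by group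
        _ = b * a := by rw [h1]; group

/-- `cj k Q` depends only on `cj k V` -/
theorem TIData.cj_Q_eq (h : TIData V Q) {k g : G} (hk : cj k V = cj g V) : cj k Q = cj g Q := by
  have h1 : g⁻¹ * k ∈ normalizer (V : Set G) := by
    apply normalizer_of_cj_eq
    rw [← cj_cj, hk, cj_cj, inv_mul_cancel]
    exact cj_one V
  have h2 : cj (g⁻¹ * k) Q = Q :=
    cj_eq_of_le (cj_le_of_conj fun w hw => h.Qn _ h1 w hw)
  calc cj k Q = cj (g * (g⁻¹ * k)) Q := by rw [mul_inv_cancel_left]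
    _ = cj g Q := by rw [← cj_cj, h2]

end Cfsg.Agent.ClassificationK.TIPair
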