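import Cfsg.Agent.ClassificationK.TIPairFinal
import Cfsg.Agent.ClassificationK.SpreadField
import Cfsg.Agent.ClassificationK.SLTwoAction

/-!
# TI-subgroups: the group induced on `W = V U` is `SL₂(|V|)` (for S1786)
-/

set_option autoImplicit false

namespace Cfsg.Agent.ClassificationK.TIPairSLTwo

open Subgroup
open Cfsg.Agent.ClassificationK.TIPair
open Cfsg.Agent.ClassificationK.TIFamily (mem_cj cj_mul cj_one cj_inj cj_inv_of_eq cj_mul_of_eq cj_of_mem)

variable {G : Type*} [Group G] [Finite G] {V Q U Q' U₂ V₂ : Subgroup G}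

/-- uniqueness of the decomposition in `W = V × U` -/
theorem decomp_unique (h : TIData V Q) (hU : Other V Q U) {v v' u u' : G} (hv : v ∈ V) (hv' : v' ∈ V)
    (hu : u ∈ U) (hu' : u' ∈ U) (he : v * u = v' * u') : v = v' ∧ u = u' := by
  have h1 : v'⁻¹ * v = u' * u⁻¹ := by
    calc v'⁻¹ * v = v'⁻¹ * (v * u) * u⁻¹ := by group
      _ = u' * u⁻¹ := by rw [he]; group
  have h2 : v'⁻¹ * v = 1 :=
    hU.inter h (h1 ▸ mul_mem hu' (inv_mem hu)) (mul_mem (inv_mem hv') hv)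
  have h3 : u' * u⁻¹ = 1 := h1 ▸ h2
  exact ⟨(inv_mul_eq_one.mp h2).symm, (mul_inv_eq_one.mp h3).symm⟩

/-- the inverse pair -/
theorem exists_inv (h : TIData V Q) (h' : TIData U Q') (hn : NPair V Q U U₂)
    (hn' : NPair U Q' V V₂) {p : G} (hp : p ∈ PP V Q) (hne : ∃ u ∈ U, p * u * p⁻¹ * u⁻¹ ≠ 1) :
    ∃ y ∈ PP U Q', (∀ u ∈ U, y * (p * u * p⁻¹ * u⁻¹) * y⁻¹ * (p * u * p⁻¹ * u⁻¹)⁻¹ = u) ∧
      (∀ v ∈ V, p * (y * v * y⁻¹ * v⁻¹) * p⁻¹ * (y * v * y⁻¹ * v⁻¹)⁻¹ = v) := by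
  obtain ⟨u₀, hu₀, hpu₀⟩ := hne
  obtain ⟨u₁, hu₁, hu₁1⟩ := hn.o.exists_ne_one
  have hw : p * u₁ * p⁻¹ ∈ U ⊔ V := by
    rw [sup_comm]
    exact hn.o.conj_W h hp (mem_sup_right hu₁)
  have hw1 : p * u₁ * p⁻¹ ≠ 1 := by
    intro h1
    apply hu₁1
    calc u₁ = p⁻¹ * (p * u₁ * p⁻¹) * p := by group
      _ = 1 := by rw [h1]; group
  rcases hn'.conj_in_W h' (k := p) ⟨u₁, hu₁, rfl⟩ hw1 hw with h1 | ⟨y, hy, h1⟩
  · exfalso
    apply hpu₀
    refine hn.o.inter h ?_ (h.comm_mem hp (hn.o.le hu₀))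
    exact mul_mem (h'.conj_V (normalizer_of_cj_eq h1) hu₀) (inv_mem hu₀)
  · have hyP : y ∈ PP U Q' := hn'.o₂.le hy
    refine ⟨y, hyP, ?_, ?_⟩
    · intro u hu
      set w := p * u * p⁻¹ * u⁻¹ with hwdef
      have hwV : w ∈ V := h.comm_mem hp (hn.o.le hu)
      have h2 : p * u * p⁻¹ ∈ cj y V := by
        rw [← h1]
        exact ⟨u, hu, rfl⟩
      obtain ⟨v, hv, hvy⟩ := h2
      change y * v * y⁻¹ = p * u * p⁻¹ at hvy
      have h3 : y * v * y⁻¹ * v⁻¹ ∈ U := h'.comm_mem hyP (hn'.o.le hv)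
      have h4 : w * u = v * (y * v * y⁻¹ * v⁻¹) := by
        rw [hn.o.comm h hv h3, hwdef]
        calc p * u * p⁻¹ * u⁻¹ * u = y * v * y⁻¹ := by rw [hvy]; group
          _ = y * v * y⁻¹ * v⁻¹ * v := by group
      obtain ⟨h5, h6⟩ := decomp_unique h hn.o hwV hv hu h3 h4
      rw [h5]
      exact h6.symm
    · intro v hv
      set w := y * v * y⁻¹ * v⁻¹ with hwdef
      have hwU : w ∈ U := h'.comm_mem hyP (hn'.o.le hv)
      have h2 : y * v * y⁻¹ ∈ cj p U := by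
        rw [h1]
        exact ⟨v, hv, rfl⟩
      obtain ⟨u, hu, hup⟩ := h2
      change p * u * p⁻¹ = y * v * y⁻¹ at hup
      have h3 : p * u * p⁻¹ * u⁻¹ ∈ V := h.comm_mem hp (hn.o.le hu)
      have h4 : v * w = (p * u * p⁻¹ * u⁻¹) * u := by
        rw [hn.o.comm h hv hwU, hwdef]
        calc y * v * y⁻¹ * v⁻¹ * v = p * u * p⁻¹ := by rw [hup]; group
          _ = p * u * p⁻¹ * u⁻¹ * u := by group
      obtain ⟨h5, h6⟩ := decomp_unique h hn.o hv h3 hwU hu h4
      rw [h6]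
      exact h5.symm

/-- the commutator `[p, u]` -/
def br (p u : G) : G := p * u * p⁻¹ * u⁻¹

theorem br_def (p u : G) : br p u = p * u * p⁻¹ * u⁻¹ := rfl

theorem br_mem (h : TIData V Q) (hU : Other V Q U) {p u : G} (hp : p ∈ PP V Q) (hu : u ∈ U) :
    br p u ∈ V := h.comm_mem hp (hU.le hu)

theorem br_mul_right (h : TIData V Q) (hU : Other V Q U) {p u w : G} (hp : p ∈ PP V Q) (hu : u ∈ U)
    (hw : w ∈ U) : br p (u * w) = br p u * br p w := by
  have h2 := hU.comm h (br_mem h hU hp hw) (inv_mem hu)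
  calc br p (u * w) = (p * u * p⁻¹) * (br p w * u⁻¹) := by simp only [br_def]; group
    _ = br p u * br p w := by rw [h2]; simp only [br_def]; group

theorem br_mul_left (h : TIData V Q) (hU : Other V Q U) {p q u : G} (hp : p ∈ PP V Q)
    (hq : q ∈ PP V Q) (hu : u ∈ U) : br (p * q) u = br p u * br q u := by
  have h1 := br_mem h hU hq hu
  have h2 := h.comm_VP h1 hp
  calc br (p * q) u = (p * br q u) * u * p⁻¹ * u⁻¹ := by simp only [br_def]; group
    _ = br q u * br p u := by rw [← h2]; simp only [br_def]; group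
    _ = _ := h.comm _ h1 _ (br_mem h hU hp hu)

theorem br_one_left (u : G) : br 1 u = 1 := by simp [br_def]

theorem br_one_right (p : G) : br p 1 = 1 := by simp [br_def]

theorem br_inv_left (h : TIData V Q) (hU : Other V Q U) {p u : G} (hp : p ∈ PP V Q) (hu : u ∈ U) :
    br p⁻¹ u = (br p u)⁻¹ := by
  apply eq_inv_of_mul_eq_one_left
  rw [← br_mul_left h hU (inv_mem hp) hp hu, inv_mul_cancel, br_one_left]

/-- `br p u = 1` for one nontrivial `u` forces `br p = 1` on `U` -/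
theorem br_eq_one (h : TIData V Q) (hU : Other V Q U) {p u w : G} (hp : p ∈ PP V Q) (hu : u ∈ U)
    (hu1 : u ≠ 1) (hb : br p u = 1) (hw : w ∈ U) : br p w = 1 := by
  have h1 : p * u = u * p := by
    calc p * u = br p u * u * p := by rw [br_def]; group
      _ = u * p := by rw [hb, one_mul]
  have h2 := hU.comm_of_comm h hp hu hu1 h1 hw
  rw [br_def, h2]
  group

theorem br_eq (h : TIData V Q) (hU : Other V Q U) {p q u w : G} (hp : p ∈ PP V Q) (hq : q ∈ PP V Q)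
    (hu : u ∈ U) (hu1 : u ≠ 1) (hb : br p u = br q u) (hw : w ∈ U) : br p w = br q w := by
  have h1 : br (q⁻¹ * p) u = 1 := by
    rw [br_mul_left h hU (inv_mem hq) hp hu, br_inv_left h hU hq hu, hb, inv_mul_cancel]
  have h2 := br_eq_one h hU (mul_mem (inv_mem hq) hp) hu hu1 h1 hw
  rw [br_mul_left h hU (inv_mem hq) hp hw, br_inv_left h hU hq hw] at h2
  exact (inv_mul_eq_one.mp h2).symm

theorem core {A : Type*} [AddCommGroup A] [Finite A] [Nontrivial A] (ψ : A → G)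
    (hadd : ∀ a b, ψ (a + b) = ψ a * ψ b) (hinj : Function.Injective ψ) (hmem : ∀ a, ψ a ∈ V)
    (hsurj : ∀ g ∈ V, ∃ a, ψ a = g) (h : TIData V Q) (h' : TIData U Q') (hn : NPair V Q U U₂)
    (hn' : NPair U Q' V V₂)
    (hN : ((Subgroup.centralizer ((V ⊔ U : Subgroup G) : Set G)).subgroupOf
      (PP V Q ⊔ PP U Q')).Normal) :
    ∃ (F : Type) (_ : Field F) (_ : Fintype F), Fintype.card F = Nat.card A ∧
      Nonempty (↥(PP V Q ⊔ PP U Q') ⧸
        (Subgroup.centralizer ((V ⊔ U : Subgroup G) : Set G)).subgroupOf (PP V Q ⊔ PP U Q') ≃*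
        Matrix.SpecialLinearGroup (Fin 2) F) := by
  classical
  have hψ0 : ψ 0 = 1 := by
    have := hadd 0 0
    rw [add_zero] at this
    exact mul_eq_left.mp this.symm
  have hψn : ∀ a, ψ (-a) = (ψ a)⁻¹ := by
    intro a
    apply eq_inv_of_mul_eq_one_left
    rw [← hadd, neg_add_cancel, hψ0]
  have h2 : ∀ a : A, a + a = 0 := by
    intro a
    apply hinj
    rw [hadd, hψ0, h.sq _ (hmem a)]
  -- the base element
  obtain ⟨p₀, hp₀U, hp₀1⟩ := hn.o₂.exists_ne_one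
  have hp₀ : p₀ ∈ PP V Q := hn.o₂.le hp₀U
  -- `χ`
  have hχ : ∀ a : A, ∃ u ∈ U, br p₀ u = ψ a := by
    intro a
    obtain ⟨y, hy, hyp⟩ := hn.symm.surj h hp₀U hp₀1 (hmem a)
    -- `y p₀ y⁻¹ = ψ a p₀`
    refine ⟨y, hy, ?_⟩
    have h3 : y * p₀ * y⁻¹ * p₀⁻¹ = ψ a := by rw [hyp]; group
    have h4 : br p₀ y = (ψ a)⁻¹ := by rw [br_def, ← h3]; group
    rw [h4]
    exact inv_eq_of_mul_eq_one_left (h.sq _ (hmem a))
  choose χ hχU hχψ using hχ
  have hbr_inj : ∀ u ∈ U, ∀ w ∈ U, br p₀ u = br p₀ w → u = w := by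
    intro u hu w hw huw
    have h3 : br p₀ (u * w⁻¹) = 1 := by
      have h4 : br p₀ w * br p₀ w⁻¹ = 1 := by
        rw [← br_mul_right h hn.o hp₀ hw (inv_mem hw), mul_inv_cancel, br_one_right]
      rw [br_mul_right h hn.o hp₀ hu (inv_mem hw), huw, h4]
    by_contra hne
    have h5 : u * w⁻¹ ≠ 1 := fun h6 => hne (mul_inv_eq_one.mp h6)
    apply hp₀1
    refine hn.eq_one h (mul_mem hu (inv_mem hw)) h5 hp₀U ?_
    calc (u * w⁻¹) * p₀ = (br p₀ (u * w⁻¹)) * (u * w⁻¹) * p₀ := by rw [h3, one_mul]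
      _ = p₀ * (u * w⁻¹) := by rw [br_def]; group
  have hχinj : Function.Injective χ := by
    intro a b hab
    apply hinj
    rw [← hχψ a, ← hχψ b, hab]
  have hχadd : ∀ a b, χ (a + b) = χ a * χ b := by
    intro a b
    apply hbr_inj _ (hχU _) _ (mul_mem (hχU a) (hχU b))
    rw [br_mul_right h hn.o hp₀ (hχU a) (hχU b), hχψ, hχψ, hχψ, hadd]
  have hχ0 : χ 0 = 1 := by
    have := hχadd 0 0
    rw [add_zero] at this
    exact mul_eq_left.mp this.symm
  have hχn : ∀ a, χ (-a) = (χ a)⁻¹ := by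
    intro a
    apply eq_inv_of_mul_eq_one_left
    rw [← hχadd, neg_add_cancel, hχ0]
  have hχsurj : ∀ u ∈ U, ∃ a, χ a = u := by
    intro u hu
    obtain ⟨a, ha⟩ := hsurj _ (br_mem h hn.o hp₀ hu)
    refine ⟨a, hbr_inj _ (hχU a) _ hu ?_⟩
    rw [hχψ, ha]
  -- endomorphisms from elements
  have mkK : ∀ p ∈ PP V Q, ∃ k : AddMonoid.End A, ∀ a, ψ (k a) = br p (χ a) := by
    intro p hp
    have h3 : ∀ a, ∃ b, ψ b = br p (χ a) := fun a => hsurj _ (br_mem h hn.o hp (hχU a))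
    choose k hk using h3
    refine ⟨AddMonoidHom.mk' k ?_, hk⟩
    intro a b
    apply hinj
    rw [hk, hadd, hk, hk, hχadd, br_mul_right h hn.o hp (hχU a) (hχU b)]
  have mkL : ∀ y ∈ PP U Q', ∃ l : AddMonoid.End A, ∀ a, χ (l a) = br y (ψ a) := by
    intro y hy
    have h3 : ∀ a, ∃ b, χ b = br y (ψ a) := fun a => hχsurj _ (br_mem h' hn'.o hy (hmem a))
    choose l hl using h3
    refine ⟨AddMonoidHom.mk' l ?_, hl⟩
    intro a b
    apply hχinj
    rw [hl, hχadd, hl, hl, hadd, br_mul_right h' hn'.o hy (hmem a) (hmem b)]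
  let K : AddSubgroup (AddMonoid.End A) :=
    { carrier := {k | ∃ p ∈ PP V Q, ∀ a, ψ (k a) = br p (χ a)}
      zero_mem' := ⟨1, one_mem _, fun a => by
        rw [br_one_left]
        exact hψ0⟩
      add_mem' := by
        rintro k l ⟨p, hp, hk⟩ ⟨q, hq, hl⟩
        refine ⟨p * q, mul_mem hp hq, fun a => ?_⟩
        change ψ (k a + l a) = _
        rw [hadd, hk, hl, br_mul_left h hn.o hp hq (hχU a)]
      neg_mem' := by
        rintro k ⟨p, hp, hk⟩
        refine ⟨p⁻¹, inv_mem hp, fun a => ?_⟩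
        change ψ (-(k a)) = _
        rw [hψn, hk, br_inv_left h hn.o hp (hχU a)] }
  let L : AddSubgroup (AddMonoid.End A) :=
    { carrier := {l | ∃ y ∈ PP U Q', ∀ a, χ (l a) = br y (ψ a)}
      zero_mem' := ⟨1, one_mem _, fun a => by
        rw [br_one_left]
        exact hχ0⟩
      add_mem' := by
        rintro k l ⟨p, hp, hk⟩ ⟨q, hq, hl⟩
        refine ⟨p * q, mul_mem hp hq, fun a => ?_⟩
        change χ (k a + l a) = _
        rw [hχadd, hk, hl, br_mul_left h' hn'.o hp hq (hmem a)]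
      neg_mem' := by
        rintro k ⟨p, hp, hk⟩
        refine ⟨p⁻¹, inv_mem hp, fun a => ?_⟩
        change χ (-(k a)) = _
        rw [hχn, hk, br_inv_left h' hn'.o hp (hmem a)] }
  have memK : ∀ k : AddMonoid.End A, k ∈ K ↔ ∃ p ∈ PP V Q, ∀ a, ψ (k a) = br p (χ a) :=
    fun _ => Iff.rfl
  have memL : ∀ l : AddMonoid.End A, l ∈ L ↔ ∃ y ∈ PP U Q', ∀ a, χ (l a) = br y (ψ a) :=
    fun _ => Iff.rfl
  have hone : (1 : AddMonoid.End A) ∈ K := (memK 1).mpr ⟨p₀, hp₀, fun a => (hχψ a).symm⟩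
  obtain ⟨a₁, ha₁⟩ := exists_ne (0 : A)
  have hχa₁ : χ a₁ ≠ 1 := by
    intro h3
    apply ha₁
    apply hχinj
    rw [h3, hχ0]
  have hcard : Nat.card K = Nat.card A := by
    apply Nat.card_congr
    refine Equiv.ofBijective (fun k : K => k.1 a₁) ⟨?_, ?_⟩
    · rintro ⟨k, hk⟩ ⟨l, hl⟩ hkl
      change k a₁ = l a₁ at hkl
      obtain ⟨p, hp, hpk⟩ := (memK k).mp hk
      obtain ⟨q, hq, hql⟩ := (memK l).mp hl
      apply Subtype.ext
      apply AddMonoidHom.ext
      intro a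
      apply hinj
      have h3 : br p (χ a₁) = br q (χ a₁) := by rw [← hpk, ← hql, hkl]
      have h4 := br_eq h hn.o hp hq (hχU a₁) hχa₁ h3 (hχU a)
      change ψ (k a) = ψ (l a)
      rw [hpk, hql, h4]
    · intro a
      obtain ⟨y, hy, hyx⟩ := hn.surj h (hχU a₁) hχa₁ (hmem a)
      have hyP := hn.o₂.le hy
      obtain ⟨k, hk⟩ := mkK y hyP
      refine ⟨⟨k, (memK k).mpr ⟨y, hyP, hk⟩⟩, ?_⟩
      change k a₁ = a
      apply hinj
      rw [hk, br_def, hyx]
      group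
  have hKL : ∀ k ∈ K, k ≠ 0 → ∃ l ∈ L, k * l = 1 ∧ l * k = 1 := by
    intro k hk hk0
    obtain ⟨p, hp, hpk⟩ := (memK k).mp hk
    have hne : ∃ u ∈ U, p * u * p⁻¹ * u⁻¹ ≠ 1 := by
      by_contra hcon
      push Not at hcon
      apply hk0
      apply AddMonoidHom.ext
      intro a
      apply hinj
      change ψ (k a) = ψ 0
      rw [hpk, br_def, hcon _ (hχU a), hψ0]
    obtain ⟨y, hy, hy1, hy2⟩ := exists_inv h h' hn hn' hp hne
    obtain ⟨l, hl⟩ := mkL y hy
    refine ⟨l, (memL l).mpr ⟨y, hy, hl⟩, ?_, ?_⟩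
    · apply AddMonoidHom.ext
      intro a
      apply hinj
      change ψ (k (l a)) = ψ a
      rw [hpk, hl]
      exact hy2 _ (hmem a)
    · apply AddMonoidHom.ext
      intro a
      apply hχinj
      change χ (l (k a)) = χ a
      rw [hl, hpk]
      exact hy1 _ (hχU a)
  have hLK : ∀ l ∈ L, l ≠ 0 → ∃ k ∈ K, k * l = 1 ∧ l * k = 1 := by
    intro l hl hl0
    obtain ⟨y, hy, hyl⟩ := (memL l).mp hl
    have hne : ∃ v ∈ V, y * v * y⁻¹ * v⁻¹ ≠ 1 := by
      by_contra hcon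
      push Not at hcon
      apply hl0
      apply AddMonoidHom.ext
      intro a
      apply hχinj
      change χ (l a) = χ 0
      rw [hyl, br_def, hcon _ (hmem a), hχ0]
    obtain ⟨p, hp, hp1, hp2⟩ := exists_inv h' h hn' hn hy hne
    obtain ⟨k, hk⟩ := mkK p hp
    refine ⟨k, (memK k).mpr ⟨p, hp, hk⟩, ?_, ?_⟩
    · apply AddMonoidHom.ext
      intro a
      apply hinj
      change ψ (k (l a)) = ψ a
      rw [hk, hyl]
      exact hp1 _ (hmem a)
    · apply AddMonoidHom.ext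
      intro a
      apply hχinj
      change χ (l (k a)) = χ a
      rw [hyl, hk]
      exact hp2 _ (hχU a)
  obtain ⟨F, iF, iFin, hF, e, heK, heL⟩ :=
    SpreadField.exists_field h2 K L hcard hone hKL hLK
  refine ⟨F, iF, iFin, hF, ?_⟩
  have hα : ∀ a b : F, ψ (e.symm (a + b)) = ψ (e.symm a) * ψ (e.symm b) := fun a b => by
    rw [map_add, hadd]
  have hβ : ∀ a b : F, χ (e.symm (a + b)) = χ (e.symm a) * χ (e.symm b) := fun a b => by
    rw [map_add, hχadd]
  refine SLTwoAction.quotient_equiv_SL2 (F := F) (fun a => ψ (e.symm a)) (fun b => χ (e.symm b))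
    hα hβ ?_ ?_ (V ⊔ U) (PP V Q) (PP U Q') ?_ ?_ ?_ ?_ ?_
  · intro a b
    exact hn.o.comm h (hmem _) (hχU _)
  · intro a b hab
    have h3 := decomp_unique h hn.o (hmem (e.symm a)) (one_mem V) (hχU (e.symm b)) (one_mem U)
      (by rw [hab]; simp)
    constructor
    · apply e.symm.injective
      apply hinj
      rw [h3.1, map_zero, hψ0]
    · apply e.symm.injective
      apply hχinj
      rw [h3.2, map_zero, hχ0]
  · intro w
    rw [hn.o.mem_W h]
    constructor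
    · rintro ⟨v, hv, u, hu, rfl⟩
      obtain ⟨a, rfl⟩ := hsurj v hv
      obtain ⟨b, rfl⟩ := hχsurj u hu
      exact ⟨e a, e b, by simp⟩
    · rintro ⟨a, b, rfl⟩
      exact ⟨_, hmem _, _, hχU _, rfl⟩
  · intro p hp
    obtain ⟨k, hk⟩ := mkK p hp
    obtain ⟨c, hc⟩ := (heK k).mp ((memK k).mpr ⟨p, hp, hk⟩)
    refine ⟨c, fun a b => ?_⟩
    have h3 : br p (χ (e.symm b)) = ψ (e.symm (c * b)) := by
      rw [← hk]
      congr 1
      apply e.injective
      rw [hc]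
      simp
    have h4 := h.comm_VP (hmem (e.symm a)) hp
    calc p * (ψ (e.symm a) * χ (e.symm b)) * p⁻¹
        = (p * ψ (e.symm a)) * χ (e.symm b) * p⁻¹ := by group
      _ = ψ (e.symm a) * br p (χ (e.symm b)) * χ (e.symm b) := by rw [← h4, br_def]; group
      _ = _ := by rw [h3, hα]
  · intro c
    let k : AddMonoid.End A := AddMonoidHom.mk' (fun a => e.symm (c * e a)) (by
      intro a b
      rw [map_add, mul_add, map_add])
    have hka : ∀ a, k a = e.symm (c * e a) := fun _ => rfl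
    have hkK : k ∈ K := (heK k).mpr ⟨c, fun a => by rw [hka, AddEquiv.apply_symm_apply]⟩
    obtain ⟨p, hp, hk⟩ := (memK k).mp hkK
    refine ⟨p, hp, fun a b => ?_⟩
    have h3 : br p (χ (e.symm b)) = ψ (e.symm (c * b)) := by
      rw [← hk, hka, AddEquiv.apply_symm_apply]
    have h4 := h.comm_VP (hmem (e.symm a)) hp
    calc p * (ψ (e.symm a) * χ (e.symm b)) * p⁻¹
        = (p * ψ (e.symm a)) * χ (e.symm b) * p⁻¹ := by group
      _ = ψ (e.symm a) * br p (χ (e.symm b)) * χ (e.symm b) := by rw [← h4, br_def]; group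
      _ = _ := by rw [h3, hα]
  · intro p hp
    obtain ⟨l, hl⟩ := mkL p hp
    obtain ⟨c, hc⟩ := (heL l).mp ((memL l).mpr ⟨p, hp, hl⟩)
    refine ⟨c, fun a b => ?_⟩
    have h3 : br p (ψ (e.symm a)) = χ (e.symm (c * a)) := by
      rw [← hl]
      congr 1
      apply e.injective
      rw [hc]
      simp
    have h4 := h'.comm_VP (hχU (e.symm b)) hp
    have h5 := hn.o.comm h (hmem (e.symm a)) (hχU (e.symm (c * a)))
    have h6 := hn.o.mul_comm h (hχU (e.symm b)) (hχU (e.symm (c * a)))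
    calc p * (ψ (e.symm a) * χ (e.symm b)) * p⁻¹
        = (p * ψ (e.symm a) * p⁻¹) * (p * χ (e.symm b)) * p⁻¹ := by group
      _ = br p (ψ (e.symm a)) * ψ (e.symm a) * χ (e.symm b) := by rw [← h4, br_def]; group
      _ = ψ (e.symm a) * (χ (e.symm b) * χ (e.symm (c * a))) := by
          rw [h3, ← h5, h6]; group
      _ = _ := by rw [hβ]
  · intro c
    let l : AddMonoid.End A := AddMonoidHom.mk' (fun a => e.symm (c * e a)) (by
      intro a b
      rw [map_add, mul_add, map_add])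
    have hla : ∀ a, l a = e.symm (c * e a) := fun _ => rfl
    have hlL : l ∈ L := (heL l).mpr ⟨c, fun a => by rw [hla, AddEquiv.apply_symm_apply]⟩
    obtain ⟨p, hp, hl⟩ := (memL l).mp hlL
    refine ⟨p, hp, fun a b => ?_⟩
    have h3 : br p (ψ (e.symm a)) = χ (e.symm (c * a)) := by
      rw [← hl, hla, AddEquiv.apply_symm_apply]
    have h4 := h'.comm_VP (hχU (e.symm b)) hp
    have h5 := hn.o.comm h (hmem (e.symm a)) (hχU (e.symm (c * a)))
    have h6 := hn.o.mul_comm h (hχU (e.symm b)) (hχU (e.symm (c * a)))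
    calc p * (ψ (e.symm a) * χ (e.symm b)) * p⁻¹
        = (p * ψ (e.symm a) * p⁻¹) * (p * χ (e.symm b)) * p⁻¹ := by group
      _ = br p (ψ (e.symm a)) * ψ (e.symm a) * χ (e.symm b) := by rw [← h4, br_def]; group
      _ = ψ (e.symm a) * (χ (e.symm b) * χ (e.symm (c * a))) := by
          rw [h3, ← h5, h6]; group
      _ = _ := by rw [hβ]

theorem exists_SL2 {G : Type*} [Group G] [Finite G] {V Q U Q' U₂ V₂ : Subgroup G} (h : TIData V Q) (h' : TIData U Q') (hn : NPair V Q U U₂) (hn' : NPair U Q' V V₂) (hN : ((Subgroup.centralizer ((V ⊔ U : Subgroup G) : Set G)).subgroupOf (PP V Q ⊔ PP U Q')).Normal) : ∃ (F : Type) (_ : Field F) (_ : Fintype F), Fintype.card F = Nat.card ↥V ∧ Nonempty (↥(PP V Q ⊔ PP U Q') ⧸ (Subgroup.centralizer ((V ⊔ U : Subgroup G) : Set G)).subgroupOf (PP V Q ⊔ PP U Q') ≃* Matrix.SpecialLinearGroup (Fin 2) F) := by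
  classical
  let iV : CommGroup V := { (inferInstance : Group V) with
    mul_comm := fun a b => Subtype.ext (h.comm a a.2 b b.2) }
  have hnt : Nontrivial (Additive V) := by
    have : Nontrivial V := (Subgroup.nontrivial_iff_ne_bot V).mpr hn.o.ne_bot
    infer_instance
  have hfin : Finite (Additive V) := inferInstanceAs (Finite V)
  have key := core (A := Additive V) (fun a => ((Additive.toMul a : V) : G)) (fun a b => rfl)
    (fun a b hab => Additive.toMul.injective (Subtype.ext hab)) (fun a => (Additive.toMul a : V).2)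
    (fun g hg => ⟨Additive.ofMul ⟨g, hg⟩, rfl⟩) h h' hn hn' hN
  obtain ⟨F, iF, iFin, hF, hiso⟩ := key
  exact ⟨F, iF, iFin, hF, hiso⟩

end Cfsg.Agent.ClassificationK.TIPairSLTwo
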