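import Cfsg.Agent.ClassificationK.TIPairSym

/-!
# TI-subgroups: `N(W)` moves `V` (for S1786)
-/

set_option autoImplicit false

namespace Cfsg.Agent.ClassificationK.TIPair

open Subgroup
open Cfsg.Agent.ClassificationK.TIFamily (mem_cj cj_mul cj_one cj_inj cj_inv_of_eq cj_mul_of_eq cj_of_mem)

variable {G : Type*} [Group G] {V Q U U₂ Q' : Subgroup G} [Finite G]

/-- The contradiction hypothesis: `N(W) ≤ N(V)`. -/
structure Bad (V Q U U₂ Q' : Subgroup G) : Prop where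
  h : TIData V Q
  h' : TIData U Q'
  hn : NPair V Q U U₂
  hN : ∀ x ∈ normalizer ((V ⊔ U : Subgroup G) : Set G), x ∈ normalizer (V : Set G)

omit [Finite G] in
theorem mem_normalizer_of_commute {A : Subgroup G} {x : G} (hx : ∀ a ∈ A, x * a = a * x) :
    x ∈ normalizer (A : Set G) := by
  apply centralizer_le_normalizer
  rw [mem_centralizer_iff]
  intro a ha
  exact (hx a ha).symm

theorem Bad.V_le_NU (b : Bad V Q U U₂ Q') {v : G} (hv : v ∈ V) : v ∈ normalizer (U : Set G) :=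
  mem_normalizer_of_commute fun _ hu => b.hn.o.comm b.h hv hu

theorem Bad.a1 (b : Bad V Q U U₂ Q') {v x : G} (hv : v ∈ V) (hv1 : v ≠ 1) (hx : x ∈ PP U Q')
    (hxv : x * v * x⁻¹ * v⁻¹ ∈ U) : x * v = v * x := by
  have hw : x * v * x⁻¹ ∈ V ⊔ U := by
    have : x * v * x⁻¹ = (x * v * x⁻¹ * v⁻¹) * v := by group
    rw [this]
    exact mul_mem (mem_sup_right hxv) (mem_sup_left hv)
  have hw1 : x * v * x⁻¹ ≠ 1 := by
    intro h1
    apply hv1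
    calc v = x⁻¹ * (x * v * x⁻¹) * x := by group
      _ = 1 := by rw [h1]; group
  have h1 : cj x V ≤ V ⊔ U := b.hn.conj_le_W b.h ⟨v, hv, rfl⟩ hw1 hw
  have h2 : cj x U ≤ V ⊔ U := by
    rw [cj_eq_of_mem_normalizer (b.h'.PP_le hx)]
    exact le_sup_right
  have h3 : cj x (V ⊔ U) ≤ V ⊔ U := by
    change (V ⊔ U).map _ ≤ _
    rw [Subgroup.map_sup]
    exact sup_le h1 h2
  have h4 := b.hN x (normalizer_of_cj_eq (cj_eq_of_le h3))
  have h5 : x * v * x⁻¹ * v⁻¹ ∈ V := mul_mem (b.h.conj_V h4 hv) (inv_mem hv)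
  have h6 := b.hn.o.inter b.h hxv h5
  calc x * v = (x * v * x⁻¹ * v⁻¹) * v * x := by group
    _ = v * x := by rw [h6, one_mul]

theorem Bad.a2 (b : Bad V Q U U₂ Q') {v : G} (hv : v ∈ V) (hvP : v ∈ PP U Q') : v = 1 := by
  by_contra hv1
  apply hv1
  refine b.hn.o.inter b.h (b.h'.center_le hvP fun y hy => ?_) hv
  exact (b.a1 hv hv1 hy (b.h'.comm_mem hy hvP)).symm

theorem Bad.a2' (b : Bad V Q U U₂ Q') {v : G} (hv : v ∈ V) (hvQ : v ∈ Q') : v = 1 :=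
  b.a2 hv (mem_PP.mpr ⟨hvQ, fun _ hu => (b.hn.o.comm b.h hv hu).symm⟩)

theorem Bad.a3 (b : Bad V Q U U₂ Q') {v x w : G} (hv : v ∈ V) (hv1 : v ≠ 1) (hx : x ∈ PP U Q')
    (hxv : x * v = v * x) (hw : w ∈ V) : x * w = w * x := by
  have hxN : x ∈ normalizer (V : Set G) := by
    refine b.h.ti x v hv hv1 ?_
    have : x * v * x⁻¹ = v := by rw [hxv]; group
    rwa [this]
  have h1 : x * w * x⁻¹ * w⁻¹ ∈ V := mul_mem (b.h.conj_V hxN hw) (inv_mem hw)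
  have h2 : x * w * x⁻¹ * w⁻¹ ∈ PP U Q' := by
    have : x * w * x⁻¹ * w⁻¹ = x * (w * x⁻¹ * w⁻¹) := by group
    rw [this]
    exact mul_mem hx (b.h'.PP_conj (b.V_le_NU hw) (inv_mem hx))
  have h3 := b.a2 h1 h2
  calc x * w = (x * w * x⁻¹ * w⁻¹) * w * x := by group
    _ = w * x := by rw [h3, one_mul]

/-- `P ∩ P' ≤ U` -/
theorem Bad.a4 (b : Bad V Q U U₂ Q') {y : G} (hy : y ∈ PP V Q) (hy' : y ∈ PP U Q') : y ∈ U := by
  have h1 : y ∈ V ⊔ U := by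
    apply b.hn.cpc b.h hy
    intro c hc hcU
    have hcN : c ∈ normalizer (U : Set G) := mem_normalizer_of_commute hcU
    have h1 : y * c * y⁻¹ * c⁻¹ ∈ V := b.h.comm_mem hy hc
    have h2 : y * c * y⁻¹ * c⁻¹ ∈ PP U Q' := by
      have : y * c * y⁻¹ * c⁻¹ = y * (c * y⁻¹ * c⁻¹) := by group
      rw [this]
      exact mul_mem hy' (b.h'.PP_conj hcN (inv_mem hy'))
    have h3 := b.a2 h1 h2
    calc y * c = (y * c * y⁻¹ * c⁻¹) * c * y := by group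
      _ = c * y := by rw [h3, one_mul]
  obtain ⟨v, hv, u, hu, rfl⟩ := (b.hn.o.mem_W b.h).mp h1
  have hvP : v ∈ PP U Q' := by
    have : v = (v * u) * u⁻¹ := by group
    rw [this]
    exact mul_mem hy' (inv_mem (b.h'.le_PP hu))
  rw [b.a2 hv hvP, one_mul]
  exact hu

/-- `C = C_P(U)` as a subgroup -/
abbrev CC (V Q U : Subgroup G) : Subgroup G := PP V Q ⊓ centralizer (U : Set G)

omit [Finite G] in
theorem mem_CC {x : G} : x ∈ CC V Q U ↔ x ∈ PP V Q ∧ ∀ u ∈ U, u * x = x * u := by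
  rw [mem_inf, mem_centralizer_iff]
  rfl

omit [Finite G] in
theorem CC_le_N {x : G} (hx : x ∈ CC V Q U) : x ∈ normalizer (U : Set G) :=
  mem_normalizer_of_commute fun u hu => ((mem_CC.mp hx).2 u hu).symm

/-- `[C, C'] ≤ U` -/
theorem Bad.a5 (b : Bad V Q U U₂ Q') {c d : G} (hc : c ∈ CC V Q U) (hd : d ∈ CC U Q' V) :
    c * d * c⁻¹ * d⁻¹ ∈ U := by
  apply b.a4
  · have : c * d * c⁻¹ * d⁻¹ = c * (d * c⁻¹ * d⁻¹) := by group
    rw [this]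
    exact mul_mem (mem_CC.mp hc).1 (b.h.PP_conj (CC_le_N hd) (inv_mem (mem_CC.mp hc).1))
  · exact mul_mem (b.h'.PP_conj (CC_le_N hc) (mem_CC.mp hd).1) (inv_mem (mem_CC.mp hd).1)

/-- `x ∈ P'` with `[x, v] ∈ U` for one `v ≠ 1` lies in `C' = C_{P'}(V)` -/
theorem Bad.mem_CC' (b : Bad V Q U U₂ Q') {v x : G} (hv : v ∈ V) (hv1 : v ≠ 1) (hx : x ∈ PP U Q')
    (hxv : x * v * x⁻¹ * v⁻¹ ∈ U) : x ∈ CC U Q' V :=
  mem_CC.mpr ⟨hx, fun _ hw => (b.a3 hv hv1 hx (b.a1 hv hv1 hx hxv) hw).symm⟩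

theorem Bad.a6 (b : Bad V Q U U₂ Q') {v x : G} (hv : v ∈ V) (hx : x ∈ PP U Q') :
    x * v * x⁻¹ * v⁻¹ ∈ CC U Q' V := by
  by_cases hv1 : v = 1
  · have : x * v * x⁻¹ * v⁻¹ = 1 := by rw [hv1]; group
    rw [this]
    exact one_mem _
  set y := x * v * x⁻¹ * v⁻¹ with hy
  have hyP : y ∈ PP U Q' := by
    have : y = x * (v * x⁻¹ * v⁻¹) := by rw [hy]; group
    rw [this]
    exact mul_mem hx (b.h'.PP_conj (b.V_le_NU hv) (inv_mem hx))
  refine b.mem_CC' hv hv1 hyP ?_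
  have hvv : v⁻¹ = v := inv_eq_of_mul_eq_one_left (b.h.sq v hv)
  have h1 : v * y⁻¹ * v⁻¹ = y := by
    rw [hy]
    calc v * (x * v * x⁻¹ * v⁻¹)⁻¹ * v⁻¹ = v * v * x * v⁻¹ * x⁻¹ * v⁻¹ := by group
      _ = x * v * x⁻¹ * v⁻¹ := by rw [b.h.sq v hv, hvv]; group
  have h2 : y * v * y⁻¹ * v⁻¹ = y * y := by
    calc y * v * y⁻¹ * v⁻¹ = y * (v * y⁻¹ * v⁻¹) := by group
      _ = y * y := by rw [h1]
  rw [h2]
  exact b.h'.sq_mem hyP

/-- `[P', C] ≤ C'` -/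
theorem Bad.a7 (b : Bad V Q U U₂ Q') (hV : ∃ v ∈ V, v ≠ 1) {c x : G} (hc : c ∈ CC V Q U)
    (hx : x ∈ PP U Q') : x⁻¹ * (c * x * c⁻¹) ∈ CC U Q' V := by
  obtain ⟨v, hv, hv1⟩ := hV
  set t := x⁻¹ * (c * x * c⁻¹) with ht
  have htP : t ∈ PP U Q' := mul_mem (inv_mem hx) (b.h'.PP_conj (CC_le_N hc) hx)
  refine b.mem_CC' hv hv1 htP ?_
  set y := x * v * x⁻¹ * v⁻¹ with hy
  have hyC : y ∈ CC U Q' V := b.a6 hv hx
  have h1 := b.a5 hc hyC
  have hcv : v * c = c * v := b.h.comm_VP hv (mem_CC.mp hc).1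
  have h2 : c * v * c⁻¹ = v := by rw [← hcv]; group
  have h2' : c * v⁻¹ * c⁻¹ = v⁻¹ := by
    calc c * v⁻¹ * c⁻¹ = (c * v * c⁻¹)⁻¹ := by group
      _ = v⁻¹ := by rw [h2]
  have h3 : c * y * c⁻¹ = (x * t) * v * (x * t)⁻¹ * v⁻¹ := by
    have h4 : x * t = c * x * c⁻¹ := by rw [ht]; group
    rw [h4, hy]
    calc c * (x * v * x⁻¹ * v⁻¹) * c⁻¹
        = (c * x * c⁻¹) * (c * v * c⁻¹) * (c * x * c⁻¹)⁻¹ * (c * v⁻¹ * c⁻¹) := by group
      _ = _ := by rw [h2, h2']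
  have h5 : t * v * t⁻¹ * v⁻¹ = x⁻¹ * (c * y * c⁻¹ * y⁻¹) * x := by
    rw [h3, hy]
    group
  rw [h5]
  exact b.h'.conj_V' (b.h'.PP_le hx) h1

/-- `[C, C]` centralizes `P'` modulo `U` -/
theorem Bad.a8 (b : Bad V Q U U₂ Q') (hV : ∃ v ∈ V, v ≠ 1) {c d x : G} (hc : c ∈ CC V Q U)
    (hd : d ∈ CC V Q U) (hx : x ∈ PP U Q') :
    x * (c * d * c⁻¹ * d⁻¹) * x⁻¹ * (c * d * c⁻¹ * d⁻¹)⁻¹ ∈ U := by
  -- conjugation by `c` on `P'`: `c x c⁻¹ = x t` with `t ∈ C'`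
  have key : ∀ c ∈ CC V Q U, ∀ d ∈ CC V Q U, ∀ x ∈ PP U Q',
      ∃ u ∈ U, (c * d) * x * (c * d)⁻¹ =
        x * (x⁻¹ * (c * x * c⁻¹)) * (x⁻¹ * (d * x * d⁻¹)) * u := by
    intro c hc d hd x hx
    set s := x⁻¹ * (c * x * c⁻¹) with hs
    set t := x⁻¹ * (d * x * d⁻¹) with ht
    have htC : t ∈ CC U Q' V := b.a7 hV hd hx
    have h1 := b.a5 hc htC
    have h1' : t⁻¹ * (c * t * c⁻¹) ∈ U := by
      have h2 := b.h'.conj_V' (b.h'.PP_le (mem_CC.mp htC).1) h1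
      convert h2 using 1
      group
    refine ⟨t⁻¹ * (c * t * c⁻¹), h1', ?_⟩
    rw [hs, ht]
    group
  have e1 : ∀ x ∈ PP U Q', (c * d) * x * (c * d)⁻¹ * ((d * c) * x * (d * c)⁻¹)⁻¹ ∈ U := by
    intro x hx
    obtain ⟨u, hu, h1⟩ := key c hc d hd x hx
    obtain ⟨w, hw, h2⟩ := key d hd c hc x hx
    set s := x⁻¹ * (c * x * c⁻¹) with hs
    set t := x⁻¹ * (d * x * d⁻¹) with ht
    have hsP : s ∈ PP U Q' := (mem_CC.mp (b.a7 hV hc hx)).1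
    have htP : t ∈ PP U Q' := (mem_CC.mp (b.a7 hV hd hx)).1
    rw [h1, h2]
    have h3 : x * s * t * u * (x * t * s * w)⁻¹ = x * (s * t * (u * w⁻¹) * s⁻¹ * t⁻¹) * x⁻¹ := by
      group
    rw [h3]
    apply b.h'.conj_V (b.h'.PP_le hx)
    have huw : u * w⁻¹ ∈ U := mul_mem hu (inv_mem hw)
    have h4 : (u * w⁻¹) * (s⁻¹ * t⁻¹) = (s⁻¹ * t⁻¹) * (u * w⁻¹) :=
      b.h'.comm_VP huw (mul_mem (inv_mem hsP) (inv_mem htP))
    have h5 : s * t * (u * w⁻¹) * s⁻¹ * t⁻¹ = (s * t * s⁻¹ * t⁻¹) * (u * w⁻¹) := by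
      calc s * t * (u * w⁻¹) * s⁻¹ * t⁻¹ = s * t * ((u * w⁻¹) * (s⁻¹ * t⁻¹)) := by group
        _ = _ := by rw [h4]; group
    rw [h5]
    exact mul_mem (b.h'.comm_mem hsP htP) huw
  -- apply to `x' = (dc)⁻¹ x (dc)`
  have hdc : (d * c)⁻¹ ∈ normalizer (U : Set G) :=
    inv_mem (mul_mem (CC_le_N hd) (CC_le_N hc))
  have hx' : (d * c)⁻¹ * x * (d * c)⁻¹⁻¹ ∈ PP U Q' := b.h'.PP_conj hdc hx
  have h1 := inv_mem (e1 _ hx')
  convert h1 using 1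
  group

/-- `V` does not centralize `P'` -/
theorem Bad.a9 (b : Bad V Q U U₂ Q') (hc : ∀ x ∈ PP U Q', ∀ w ∈ V, x * w = w * x) : False := by
  apply b.hn.o.ne_bot
  rw [eq_bot_iff]
  intro v hv
  rw [mem_bot]
  refine b.a2' hv (b.h'.mem_of_centralizes (b.V_le_NU hv) fun x hx => (hc x hx v hv).symm)

theorem Bad.exists_ne_one (b : Bad V Q U U₂ Q') : ∃ v ∈ V, v ≠ 1 := by
  obtain ⟨w, hw, hw1⟩ := exists_cj_ne_one b.hn.o.ne_bot 1
  refine ⟨w, ?_, hw1⟩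
  rw [mem_cj] at hw
  simpa using hw

/-- `C` is abelian -/
theorem Bad.a10 (b : Bad V Q U U₂ Q') {c d : G} (hc : c ∈ CC V Q U) (hd : d ∈ CC V Q U) :
    c * d = d * c := by
  by_contra hcd
  have he : c * d * c⁻¹ * d⁻¹ ∈ V := b.h.comm_mem (mem_CC.mp hc).1 (mem_CC.mp hd).1
  have he1 : c * d * c⁻¹ * d⁻¹ ≠ 1 := by
    intro h1
    apply hcd
    calc c * d = (c * d * c⁻¹ * d⁻¹) * d * c := by group
      _ = d * c := by rw [h1, one_mul]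
  refine b.a9 fun x hx w hw => ?_
  exact ((mem_CC.mp (b.mem_CC' he he1 hx (b.a8 b.exists_ne_one hc hd hx))).2 w hw).symm

theorem Bad.CC_le (b : Bad V Q U U₂ Q') {c : G} (hc : c ∈ CC V Q U) : c ∈ V ⊔ U :=
  b.hn.cpc b.h (mem_CC.mp hc).1 fun d hd hdU =>
    b.a10 hc (mem_CC.mpr ⟨hd, fun u hu => (hdU u hu).symm⟩)

/-- Case `C = W`: involutions of `P` -/
theorem NPair.sq_one (h : TIData V Q) (hn : NPair V Q U U₂) (hC : ∀ c ∈ CC V Q U, c ∈ V ⊔ U) {x : G}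
    (hx : x ∈ PP V Q) (hx2 : x * x = 1) : x ∈ V ⊔ U ∨ x ∈ V ⊔ U₂ := by
  obtain ⟨y, hy, hyU⟩ := hn.decomp h hx
  have hyx : y⁻¹ * x ∈ CC V Q U :=
    mem_CC.mpr ⟨mul_mem (inv_mem (hn.o₂.le hy)) hx, fun u hu => (hyU u hu).symm⟩
  obtain ⟨v, hv, u, hu, hvu⟩ := (hn.o.mem_W h).mp (hC _ hyx)
  have hxe : x = y * (v * u) := by rw [← hvu]; group
  by_cases hu1 : u = 1
  · right
    rw [hxe, hu1, mul_one]
    exact mul_mem (mem_sup_right hy) (mem_sup_left hv)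
  · left
    have h1 : y = 1 := by
      refine hn.eq_one h hu hu1 hy ?_
      have hvy := h.comm_VP hv (hn.o₂.le hy)
      have hvu' := h.comm_VP hv (hn.o.le hu)
      have h2 : x * x = (v * v) * (y * u * (y * u)) := by
        rw [hxe]
        calc y * (v * u) * (y * (v * u)) = (y * v) * u * (y * v) * u := by group
          _ = v * y * u * v * y * u := by rw [← hvy]; group
          _ = v * y * (v * u) * y * u := by rw [hvu']; group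
          _ = v * (y * v) * u * y * u := by group
          _ = (v * v) * (y * u * (y * u)) := by rw [← hvy]; group
      rw [hx2, h.sq v hv, one_mul] at h2
      have h3 : (y * u)⁻¹ = y * u := inv_eq_of_mul_eq_one_left h2.symm
      have h4 : u⁻¹ = u := inv_eq_of_mul_eq_one_left (hn.o.sq h hu)
      have h5 : y⁻¹ = y := inv_eq_of_mul_eq_one_left (hn.o₂.sq h hy)
      calc u * y = u⁻¹ * y⁻¹ := by rw [h4, h5]
        _ = (y * u)⁻¹ := by group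
        _ = y * u := h3
    rw [hxe, h1, one_mul]
    exact mul_mem (mem_sup_left hv) (mem_sup_right hu)

omit [Finite G] in
theorem le_or_le_of_union {A B C : Subgroup G} (h : ∀ x ∈ A, x ∈ B ∨ x ∈ C) : A ≤ B ∨ A ≤ C := by
  by_contra hcon
  push Not at hcon
  obtain ⟨h1, h2⟩ := hcon
  obtain ⟨x, hx, hxB⟩ := SetLike.not_le_iff_exists.mp h1
  obtain ⟨y, hy, hyC⟩ := SetLike.not_le_iff_exists.mp h2
  have hxC : x ∈ C := (h x hx).resolve_left hxB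
  have hyB : y ∈ B := (h y hy).resolve_right hyC
  rcases h _ (mul_mem hx hy) with h3 | h3
  · exact hxB ((B.mul_mem_cancel_right hyB).mp h3)
  · exact hyC ((C.mul_mem_cancel_left hxC).mp h3)

/-- Case `C = W`: `N(V)` permutes `W` and `W₂`. -/
theorem NPair.cj_cases (h : TIData V Q) (hn : NPair V Q U U₂) (hC : ∀ c ∈ CC V Q U, c ∈ V ⊔ U)
    (hcard : Nat.card (V ⊔ U₂ : Subgroup G) = Nat.card (V ⊔ U : Subgroup G)) {m : G}
    (hm : m ∈ normalizer (V : Set G)) : cj m (V ⊔ U) = V ⊔ U ∨ cj m (V ⊔ U) = V ⊔ U₂ := by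
  have h1 : cj m (V ⊔ U) ≤ V ⊔ U ∨ cj m (V ⊔ U) ≤ V ⊔ U₂ := by
    apply le_or_le_of_union
    rintro _ ⟨w, hw, rfl⟩
    change m * w * m⁻¹ ∈ _ ∨ m * w * m⁻¹ ∈ _
    apply hn.sq_one h hC (h.PP_conj hm (hn.o.W_le h hw))
    obtain ⟨v, hv, u, hu, rfl⟩ := (hn.o.mem_W h).mp hw
    have h2 : (v * u) * (v * u) = 1 := by
      have hvu' := h.comm_VP hv (hn.o.le hu)
      calc (v * u) * (v * u) = v * (u * v) * u := by group
        _ = (v * v) * (u * u) := by rw [← hvu']; group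
        _ = 1 := by rw [h.sq v hv, hn.o.sq h hu, one_mul]
    calc m * (v * u) * m⁻¹ * (m * (v * u) * m⁻¹) = m * ((v * u) * (v * u)) * m⁻¹ := by group
      _ = 1 := by rw [h2]; group
  rcases h1 with h1 | h1
  · exact Or.inl (Subgroup.eq_of_le_of_card_ge h1 (card_cj m _).ge)
  · exact Or.inr (Subgroup.eq_of_le_of_card_ge h1 (by rw [card_cj, hcard]))

theorem NPair.W_inf (h : TIData V Q) (hn : NPair V Q U U₂) {w : G} (h1 : w ∈ V ⊔ U)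
    (h2 : w ∈ V ⊔ U₂) : w ∈ V := by
  obtain ⟨v, hv, u, hu, rfl⟩ := (hn.o.mem_W h).mp h1
  obtain ⟨v', hv', u', hu', he⟩ := (hn.o₂.mem_W h).mp h2
  obtain ⟨a, ha, ha1⟩ := exists_cj_ne_one hn.o.ne_bot 1
  obtain ⟨a, ha, b, hb, hab⟩ := hn.nc
  have ha1 : a ≠ 1 := by
    rintro rfl
    exact hab (by simp)
  have h3 : u' = 1 := by
    refine hn.eq_one h ha ha1 hu' ?_
    have h4 : u' = (v'⁻¹ * v) * u := by
      calc u' = v'⁻¹ * (v' * u') := by group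
        _ = (v'⁻¹ * v) * u := by rw [← he]; group
    have h5 := h.comm_VP (mul_mem (inv_mem hv') hv) (hn.o.le ha)
    rw [h4]
    calc a * (v'⁻¹ * v * u) = (a * (v'⁻¹ * v)) * u := by group
      _ = (v'⁻¹ * v) * (a * u) := by rw [← h5]; group
      _ = v'⁻¹ * v * u * a := by rw [hn.o.mul_comm h ha hu]; group
  rw [he, h3, mul_one]
  exact hv'

theorem NPair.centralizer_W (h : TIData V Q) (hn : NPair V Q U U₂) (hC : ∀ c ∈ CC V Q U, c ∈ V ⊔ U)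
    {x a : G} (hx : x ∈ PP V Q) (ha : a ∈ V ⊔ U) (haV : a ∉ V) (hxa : x * a = a * x) :
    x ∈ V ⊔ U := by
  obtain ⟨v, hv, u, hu, rfl⟩ := (hn.o.mem_W h).mp ha
  have hu1 : u ≠ 1 := by
    rintro rfl
    exact haV (by simpa using hv)
  apply hC
  refine mem_CC.mpr ⟨hx, fun w hw => ?_⟩
  refine (hn.o.comm_of_comm h hx hu hu1 ?_ hw).symm
  have h1 := h.comm_VP hv hx
  have h2 : v * (x * u) = v * (u * x) := by
    calc v * (x * u) = (v * x) * u := by group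
      _ = x * (v * u) := by rw [h1]; group
      _ = v * (u * x) := by rw [hxa]; group
  exact mul_left_cancel h2

end Cfsg.Agent.ClassificationK.TIPair
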