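import Cfsg.Agent.ClassificationK.TIPairClass

/-!
# TI-subgroups: partition of `W = V U` and the symmetry `V ≤ O_2(N(U))` (for S1786)
-/

set_option autoImplicit false

namespace Cfsg.Agent.ClassificationK.TIPair

open Subgroup
open Cfsg.Agent.ClassificationK.TIFamily (mem_cj cj_mul cj_one cj_inj cj_inv_of_eq cj_mul_of_eq cj_of_mem)

variable {G : Type*} [Group G] {V Q U U₂ Q' : Subgroup G}

theorem mem_sup_of_comm {A B : Subgroup G} (hc : ∀ a ∈ A, ∀ b ∈ B, a * b = b * a) {x : G} :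
    x ∈ A ⊔ B ↔ ∃ a ∈ A, ∃ b ∈ B, x = a * b := by
  constructor
  · let T : Subgroup G :=
      { carrier := {x | ∃ a ∈ A, ∃ b ∈ B, x = a * b}
        one_mem' := ⟨1, one_mem _, 1, one_mem _, by simp⟩
        mul_mem' := by
          rintro _ _ ⟨a, ha, b, hb, rfl⟩ ⟨c, hc', d, hd, rfl⟩
          refine ⟨a * c, mul_mem ha hc', b * d, mul_mem hb hd, ?_⟩
          have := hc c hc' b hb
          calc a * b * (c * d) = a * (b * c) * d := by group
            _ = a * c * (b * d) := by rw [← this]; group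
        inv_mem' := by
          rintro _ ⟨a, ha, b, hb, rfl⟩
          refine ⟨a⁻¹, inv_mem ha, b⁻¹, inv_mem hb, ?_⟩
          rw [hc a ha b hb]
          group }
    have hT : A ⊔ B ≤ T :=
      sup_le (fun a ha => ⟨a, ha, 1, one_mem _, by simp⟩) (fun b hb => ⟨1, one_mem _, b, hb, by simp⟩)
    exact fun hx => hT hx
  · rintro ⟨a, ha, b, hb, rfl⟩
    exact mul_mem (mem_sup_left ha) (mem_sup_right hb)

variable [Finite G]

theorem Other.comm (h : TIData V Q) (hU : Other V Q U) {v u : G} (hv : v ∈ V) (hu : u ∈ U) :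
    v * u = u * v := h.comm_VP hv (hU.le hu)

theorem Other.sq (h : TIData V Q) (hU : Other V Q U) {u : G} (hu : u ∈ U) : u * u = 1 := by
  obtain ⟨k, hk⟩ := hU.ex
  have hUd : TIData U (cj k Q) := hk ▸ h.cjD k
  exact hUd.sq u hu

theorem Other.mul_comm (h : TIData V Q) (hU : Other V Q U) {u w : G} (hu : u ∈ U) (hw : w ∈ U) :
    u * w = w * u := by
  obtain ⟨k, hk⟩ := hU.ex
  have hUd : TIData U (cj k Q) := hk ▸ h.cjD k
  exact hUd.comm u hu w hw

theorem Other.mem_W (h : TIData V Q) (hU : Other V Q U) {x : G} :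
    x ∈ V ⊔ U ↔ ∃ v ∈ V, ∃ u ∈ U, x = v * u :=
  mem_sup_of_comm (fun _ hv _ hu => hU.comm h hv hu)

theorem Other.ne_bot (hU : Other V Q U) : V ≠ ⊥ := by
  rintro rfl
  apply hU.ne
  have := hU.card
  rw [Subgroup.card_bot] at this
  exact Subgroup.card_eq_one.mp this

theorem Other.W_le (h : TIData V Q) (hU : Other V Q U) : V ⊔ U ≤ PP V Q := sup_le h.le_PP hU.le

/-- `P` normalizes `W` -/
theorem Other.conj_W (h : TIData V Q) (hU : Other V Q U) {x w : G} (hx : x ∈ PP V Q)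
    (hw : w ∈ V ⊔ U) : x * w * x⁻¹ ∈ V ⊔ U := by
  have h1 := h.comm_mem hx (hU.W_le h hw)
  have : x * w * x⁻¹ = (x * w * x⁻¹ * w⁻¹) * w := by group
  rw [this]
  exact mul_mem (mem_sup_left h1) hw

theorem cj_le_of_conj {A : Subgroup G} {x : G} (hx : ∀ w ∈ A, x * w * x⁻¹ ∈ A) : cj x A ≤ A := by
  rintro _ ⟨w, hw, rfl⟩
  exact hx w hw

theorem cj_eq_of_le {A : Subgroup G} {x : G} (hx : cj x A ≤ A) : cj x A = A :=
  Subgroup.eq_of_le_of_card_ge hx (card_cj x A).ge

theorem Other.cj_W (h : TIData V Q) (hU : Other V Q U) {x : G} (hx : x ∈ PP V Q) :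
    cj x (V ⊔ U) = V ⊔ U := cj_eq_of_le (cj_le_of_conj fun _ hw => hU.conj_W h hx hw)

theorem NPair.cover (h : TIData V Q) (hn : NPair V Q U U₂) {x : G} (hx : x ∈ V ⊔ U) (hxV : x ∉ V) :
    ∃ y ∈ U₂, x ∈ cj y U := by
  obtain ⟨v, hv, u, hu, rfl⟩ := (hn.o.mem_W h).mp hx
  have hu1 : u ≠ 1 := by
    rintro rfl
    exact hxV (by simpa using hv)
  obtain ⟨y, hy, hyu⟩ := hn.surj h hu hu1 hv
  exact ⟨y, hy, by rw [← hyu]; exact ⟨u, hu, rfl⟩⟩

theorem cj_mono {A B : Subgroup G} (x : G) (hAB : A ≤ B) : cj x A ≤ cj x B := Subgroup.map_mono hAB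

theorem exists_cj_ne_one (hV : V ≠ ⊥) (k : G) : ∃ w ∈ cj k V, w ≠ 1 := by
  by_contra hcon
  push Not at hcon
  apply hV
  rw [eq_bot_iff]
  intro v hv
  have := hcon (k * v * k⁻¹) ⟨v, hv, rfl⟩
  rw [mem_bot]
  calc v = k⁻¹ * (k * v * k⁻¹) * k := by group
    _ = 1 := by rw [this]; group

/-- every conjugate of `V` meeting `W` nontrivially is `V` or `U ^ y`, and is contained in `W` -/
theorem NPair.conj_in_W (h : TIData V Q) (hn : NPair V Q U U₂) {k w : G} (hk : w ∈ cj k V)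
    (hw1 : w ≠ 1) (hwW : w ∈ V ⊔ U) : cj k V = V ∨ ∃ y ∈ U₂, cj k V = cj y U := by
  by_cases hwV : w ∈ V
  · left
    have := h.cj_eq hw1 hk (b := 1) (by rw [mem_cj]; simpa using hwV)
    rw [this]
    exact cj_one V
  · right
    obtain ⟨y, hy, hyw⟩ := hn.cover h hwW hwV
    refine ⟨y, hy, ?_⟩
    obtain ⟨g, hg⟩ := hn.o.ex
    have h1 : cj y U = cj (y * g) V := by rw [hg]; exact (cj_mul y g V).symm
    rw [h1] at hyw ⊢
    exact h.cj_eq hw1 hk hyw

theorem NPair.conj_le_W (h : TIData V Q) (hn : NPair V Q U U₂) {k w : G} (hk : w ∈ cj k V)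
    (hw1 : w ≠ 1) (hwW : w ∈ V ⊔ U) : cj k V ≤ V ⊔ U := by
  rcases hn.conj_in_W h hk hw1 hwW with h1 | ⟨y, hy, h1⟩
  · rw [h1]
    exact le_sup_left
  · rw [h1, ← hn.o.cj_W h (hn.o₂.le hy)]
    exact cj_mono y le_sup_right

/-- `D1`: `P = U₂ C_P(U)` -/
theorem NPair.decomp (h : TIData V Q) (hn : NPair V Q U U₂) {x : G} (hx : x ∈ PP V Q) :
    ∃ y ∈ U₂, ∀ u ∈ U, (y⁻¹ * x) * u = u * (y⁻¹ * x) := by
  obtain ⟨a, ha, b, hb, hab⟩ := hn.nc
  have ha1 : a ≠ 1 := by
    rintro rfl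
    exact hab (by simp)
  obtain ⟨y, hy, hya⟩ := hn.surj h ha ha1 (h.comm_mem hx (hn.o.le ha))
  refine ⟨y, hy, fun u hu => ?_⟩
  have hyx : y⁻¹ * x ∈ PP V Q := mul_mem (inv_mem (hn.o₂.le hy)) hx
  refine hn.o.comm_of_comm h hyx ha ha1 ?_ hu
  have h1 : y * a * y⁻¹ = x * a * x⁻¹ := by rw [hya]; group
  calc y⁻¹ * x * a = y⁻¹ * (x * a * x⁻¹) * x := by group
    _ = a * (y⁻¹ * x) := by rw [← h1]; group

/-- `C_P(C_P(U)) ≤ W` -/
theorem NPair.cpc (h : TIData V Q) (hn : NPair V Q U U₂) {y : G} (hy : y ∈ PP V Q)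
    (hc : ∀ c ∈ PP V Q, (∀ u ∈ U, c * u = u * c) → y * c = c * y) : y ∈ V ⊔ U := by
  obtain ⟨u, hu, hu2⟩ := hn.symm.decomp h hy
  have hd : u⁻¹ * y ∈ V := by
    apply h.center_le (mul_mem (inv_mem (hn.o.le hu)) hy)
    intro x hx
    obtain ⟨y₂, hy₂, hc₂⟩ := hn.decomp h hx
    have h1 : (u⁻¹ * y) * y₂ = y₂ * (u⁻¹ * y) := hu2 y₂ hy₂
    have h2 : y * (y₂⁻¹ * x) = (y₂⁻¹ * x) * y :=
      hc _ (mul_mem (inv_mem (hn.o₂.le hy₂)) hx) hc₂
    have h3 : (y₂⁻¹ * x) * u⁻¹ = u⁻¹ * (y₂⁻¹ * x) := hc₂ _ (inv_mem hu)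
    calc u⁻¹ * y * x = (u⁻¹ * y * y₂) * (y₂⁻¹ * x) := by group
      _ = y₂ * u⁻¹ * (y * (y₂⁻¹ * x)) := by rw [h1]; group
      _ = y₂ * (u⁻¹ * (y₂⁻¹ * x)) * y := by rw [h2]; group
      _ = x * (u⁻¹ * y) := by rw [← h3]; group
  have : y = (u⁻¹ * y) * u := by
    rw [hn.o.comm h hd hu]
    group
  rw [this]
  exact mul_mem (mem_sup_left hd) (mem_sup_right hu)

/-- An element of `N(V)` centralizing `P` lies in `Q`. -/
theorem TIData.mem_of_centralizes (h : TIData V Q) {y : G} (hy : y ∈ normalizer (V : Set G))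
    (hc : ∀ x ∈ PP V Q, y * x = x * y) : y ∈ Q := by
  have hK : normalizer (V : Set G) ⊓ centralizer ((PP V Q : Subgroup G) : Set G) ≤ Q := by
    apply h.Qmax
    · exact inf_le_left
    · rintro ⟨z, hz⟩
      have hzN : z ∈ normalizer (V : Set G) := hz.1
      have hzc : ∀ x ∈ PP V Q, z * x = x * z := fun x hx =>
        (mem_centralizer_iff.mp hz.2 x hx).symm
      obtain ⟨n, m, hm, hnm⟩ := Nat.exists_eq_pow_mul_and_not_dvd (orderOf_pos z).ne' 2 (by norm_num)
      refine ⟨n, Subtype.ext ?_⟩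
      change z ^ 2 ^ n = 1
      set t := z ^ 2 ^ n with ht
      have htm : t ^ m = 1 := by
        rw [ht, ← pow_mul, ← hnm, pow_orderOf_eq_one]
      have htN : t ∈ normalizer (V : Set G) := pow_mem hzN _
      have htc : ∀ x ∈ PP V Q, t * x = x * t := by
        intro x hx
        exact ((show Commute z x from hzc x hx).pow_left _)
      have htQ : t ∈ Q := by
        apply h.Qc t htN
        intro x hx
        set c := x⁻¹ * (t * x * t⁻¹) with hcdef
        have hcQ : c ∈ Q := mul_mem (inv_mem hx) (h.Qn t htN x hx)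
        have hcP : c ∈ PP V Q := by
          rw [mem_PP]
          refine ⟨hcQ, fun v hv => ?_⟩
          have h1 : x * v * x⁻¹ ∈ V := h.conj_V (h.Qle hx) hv
          have h2 := htc _ (h.le_PP h1)
          have h3 := htc _ (h.le_PP hv)
          have h4 : t⁻¹ * v = v * t⁻¹ := by
            calc t⁻¹ * v = t⁻¹ * (v * t) * t⁻¹ := by group
              _ = v * t⁻¹ := by rw [← h3]; group
          calc v * c = x⁻¹ * ((x * v * x⁻¹) * t) * x * t⁻¹ := by rw [hcdef]; group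
            _ = x⁻¹ * t * x * (v * t⁻¹) := by rw [← h2]; group
            _ = c * v := by rw [← h4, hcdef]; group
        have h1 : Commute t c := htc c hcP
        have h2 : t * x * t⁻¹ = x * c := by rw [hcdef]; group
        have h3 : ∀ k : ℕ, t ^ k * x * (t ^ k)⁻¹ = x * c ^ k := by
          intro k
          induction k with
          | zero => simp
          | succ k ih =>
            have h4 : t * c ^ k * t⁻¹ = c ^ k := by
              rw [(h1.pow_right k).eq]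
              group
            calc t ^ (k + 1) * x * (t ^ (k + 1))⁻¹ = t * (t ^ k * x * (t ^ k)⁻¹) * t⁻¹ := by
                  rw [pow_succ']; group
              _ = (t * x * t⁻¹) * (t * c ^ k * t⁻¹) := by rw [ih]; group
              _ = x * c ^ (k + 1) := by rw [h4, h2, pow_succ']; group
        have h4 := h3 m
        rw [htm] at h4
        have h5 : c ^ m = 1 := by
          have : x * c ^ m = x := by rw [← h4]; group
          exact mul_eq_left.mp this
        obtain ⟨j, hj⟩ := h.Q2 ⟨c, hcQ⟩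
        have h6 : c ^ 2 ^ j = 1 := congrArg Subtype.val hj
        have h7 : Nat.Coprime (2 ^ j) m := by
          apply Nat.Coprime.pow_left
          exact (Nat.Prime.coprime_iff_not_dvd Nat.prime_two).mpr hm
        have h8 : c = 1 := by
          have h9 : orderOf c ∣ Nat.gcd (2 ^ j) m :=
            Nat.dvd_gcd (orderOf_dvd_of_pow_eq_one h6) (orderOf_dvd_of_pow_eq_one h5)
          rw [h7] at h9
          exact orderOf_eq_one_iff.mp (Nat.dvd_one.mp h9)
        rw [h8, mul_one] at h2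
        calc t * x = (t * x * t⁻¹) * t := by group
          _ = x * t := by rw [h2]
      obtain ⟨j, hj⟩ := h.Q2 ⟨t, htQ⟩
      have h6 : t ^ 2 ^ j = 1 := congrArg Subtype.val hj
      have h7 : Nat.Coprime (2 ^ j) m := by
        apply Nat.Coprime.pow_left
        exact (Nat.Prime.coprime_iff_not_dvd Nat.prime_two).mpr hm
      have h9 : orderOf t ∣ Nat.gcd (2 ^ j) m :=
        Nat.dvd_gcd (orderOf_dvd_of_pow_eq_one h6) (orderOf_dvd_of_pow_eq_one htm)
      rw [h7] at h9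
      exact orderOf_eq_one_iff.mp (Nat.dvd_one.mp h9)
    · intro m hm x hx
      refine mem_inf.mpr ⟨mul_mem (mul_mem hm hx.1) (inv_mem hm), ?_⟩
      rw [mem_centralizer_iff]
      intro y hy
      have h1 : m⁻¹ * y * m ∈ PP V Q := by
        have := h.PP_conj (inv_mem hm) hy
        simpa using this
      have h2 := mem_centralizer_iff.mp hx.2 _ h1
      calc y * (m * x * m⁻¹) = m * ((m⁻¹ * y * m) * x) * m⁻¹ := by group
        _ = m * x * m⁻¹ * y := by rw [h2]; group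
  apply hK
  refine mem_inf.mpr ⟨hy, ?_⟩
  rw [mem_centralizer_iff]
  intro x hx
  exact (hc x hx).symm

end Cfsg.Agent.ClassificationK.TIPair
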